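import Cfsg.Statements.S3857
import Mathlib
import Cfsg.Agent.H3.FrobAct
import Cfsg.Agent.H3.FH
import Cfsg.Agent.L0.GenFit
import Cfsg.Agent.H1.Hall

set_option autoImplicit false
open Cfsg

namespace Cfsg.Agent.S3857

open Subgroup H3
universe u

theorem exists_factor (A : Set ℕ) (n : ℕ) (hn : n ≠ 0) : ∃ m k : ℕ, n = m * k ∧ (∀ p : ℕ, p.Prime → p ∣ m → p ∉ A) ∧
    (∀ p : ℕ, p.Prime → p ∣ k → p ∈ A) := by
  induction n using Nat.recOnMul with
  | zero => exact absurd rfl hn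
  | one => exact ⟨1, 1, rfl, fun p hp h => absurd (Nat.dvd_one.mp h) hp.ne_one, fun p hp h => absurd (Nat.dvd_one.mp h) hp.ne_one⟩
  | prime p hp =>
    by_cases hpA : p ∈ A
    · exact ⟨1, p, (one_mul p).symm, fun q hq h => absurd (Nat.dvd_one.mp h) hq.ne_one,
        fun q hq h => ((Nat.prime_dvd_prime_iff_eq hq hp).mp h) ▸ hpA⟩
    · exact ⟨p, 1, (mul_one p).symm, fun q hq h => ((Nat.prime_dvd_prime_iff_eq hq hp).mp h) ▸ hpA,
        fun q hq h => absurd (Nat.dvd_one.mp h) hq.ne_one⟩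
  | mul a b iha ihb =>
    have ha : a ≠ 0 := left_ne_zero_of_mul hn
    have hb : b ≠ 0 := right_ne_zero_of_mul hn
    obtain ⟨m1, k1, h1, h2, h3⟩ := iha ha
    obtain ⟨m2, k2, h4, h5, h6⟩ := ihb hb
    refine ⟨m1 * m2, k1 * k2, by rw [h1, h4]; ring, ?_, ?_⟩
    · intro p hp hd
      rcases (Nat.Prime.dvd_mul hp).mp hd with h | h
      · exact h2 p hp h
      · exact h5 p hp h
    · intro p hp hd
      rcases (Nat.Prime.dvd_mul hp).mp hd with h | h
      · exact h3 p hp h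
      · exact h6 p hp h

theorem coprime_of_sep (A : Set ℕ) {m k : ℕ} (hm : ∀ p : ℕ, p.Prime → p ∣ m → p ∉ A) (hk : ∀ p : ℕ, p.Prime → p ∣ k → p ∈ A) :
    m.Coprime k := by
  rw [Nat.coprime_iff_gcd_eq_one]
  by_contra hne
  obtain ⟨p, hp, hd⟩ := Nat.exists_prime_and_dvd hne
  exact hm p hp (hd.trans (Nat.gcd_dvd_left _ _)) (hk p hp (hd.trans (Nat.gcd_dvd_right _ _)))

theorem order_mul {G : Type*} [Group G] {x y : G} {p q : ℕ} (hp : p.Prime) (hq : q.Prime) (hpq : p ≠ q)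
    (hx : orderOf x = p) (hy : orderOf y = q) (h : x * y = y * x) : orderOf (x * y) = p * q := by
  rw [(show Commute x y from h).orderOf_mul_eq_mul_orderOf_of_coprime (by
    rw [hx, hy]; exact (Nat.coprime_primes hp hq).mpr hpq), hx, hy]

theorem exists_pow_order {G G' : Type*} [Group G] [Finite G] [Group G'] (f : G →* G') (g : G) (m : ℕ) (hm : orderOf (f g) = m) (hm0 : m ≠ 0) :
    ∃ j : ℕ, orderOf (g ^ j) = m := by
  have h1 : m ∣ orderOf g := by rw [← hm]; exact orderOf_map_dvd f g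
  obtain ⟨k, hk⟩ := h1
  have hk0 : k ≠ 0 := by
    rintro rfl
    rw [mul_zero] at hk
    exact (orderOf_pos g).ne' hk
  refine ⟨k, ?_⟩
  rw [orderOf_pow, hk, Nat.gcd_eq_right (Dvd.intro_left m rfl), Nat.mul_div_cancel _ (Nat.pos_of_ne_zero hk0)]

theorem exists_prime_pow {G : Type*} [Group G] [Finite G] (x : G) (hx : x ≠ 1) : ∃ (p : ℕ) (j : ℕ), p.Prime ∧ p ∣ orderOf x ∧ orderOf (x ^ j) = p := by
  have h1 : orderOf x ≠ 1 := fun h => hx (orderOf_eq_one_iff.mp h)
  obtain ⟨p, hp, hd⟩ := Nat.exists_prime_and_dvd h1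
  obtain ⟨k, hk⟩ := hd
  have hk0 : k ≠ 0 := by
    rintro rfl
    rw [mul_zero] at hk
    exact (orderOf_pos x).ne' hk
  refine ⟨p, k, hp, ⟨k, hk⟩, ?_⟩
  rw [orderOf_pow, hk, Nat.gcd_eq_right (Dvd.intro_left p rfl), Nat.mul_div_cancel _ (Nat.pos_of_ne_zero hk0)]

/-- no commuting elements -/
theorem nocomm {G G' : Type*} [Group G] [Finite G] [Group G'] [Finite G'] (f : G →* G') (hf : Function.Surjective f) (A : Set ℕ)
    (hdisc : ∀ a ∈ A, ∀ b ∉ A, a.Prime → b.Prime → a ∣ Nat.card G → b ∣ Nat.card G → ¬ ∃ g : G, orderOf g = a * b)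
    (x y : G') (hx : ∀ p : ℕ, p.Prime → p ∣ orderOf x → p ∉ A) (hy : ∀ p : ℕ, p.Prime → p ∣ orderOf y → p ∈ A)
    (hx1 : x ≠ 1) (h : x * y = y * x) : y = 1 := by
  by_contra hy1
  obtain ⟨b, i, hb, hbd, hbo⟩ := exists_prime_pow x hx1
  obtain ⟨a, j, ha, had, hao⟩ := exists_prime_pow y hy1
  have haA := hy a ha had
  have hbA := hx b hb hbd
  have hne : a ≠ b := by rintro rfl; exact hbA haA
  have hc : y ^ j * x ^ i = x ^ i * y ^ j := ((show Commute x y from h).pow_pow i j).eq.symm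
  have h1 := order_mul ha hb hne hao hbo hc
  obtain ⟨g, hg⟩ := hf (y ^ j * x ^ i)
  obtain ⟨l, hl⟩ := exists_pow_order f g (a * b) (by rw [hg, h1]) (Nat.mul_ne_zero ha.ne_zero hb.ne_zero)
  have hab : a * b ∣ Nat.card G := by rw [← hl]; exact orderOf_dvd_natCard _
  exact hdisc a haA b hbA ha hb ((dvd_mul_right a b).trans hab) ((dvd_mul_left b a).trans hab) ⟨_, hl⟩

theorem zgroup_of_fpf {G : Type*} [Group G] [Finite G] (E K : Subgroup G) (hEK : E ≤ Subgroup.normalizer (K : Set G)) (hK : K ≠ ⊥)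
    (hfpf : ∀ x ∈ E, x ≠ 1 → ∀ k ∈ K, x * k = k * x → k = 1) (hodd : ¬ 2 ∣ Nat.card E) : IsZGroup E := by
  constructor
  intro p hp P
  haveI : Fact p.Prime := ⟨hp⟩
  have e : (P : Subgroup E) ≃* (P : Subgroup E).map E.subtype := (P : Subgroup E).equivMapOfInjective _ E.subtype_injective
  have h1 := sylow_of_fpf ((P : Subgroup E).map E.subtype) K (P.isPGroup'.map _) ((Subgroup.map_subtype_le _).trans hEK) hK (by
    rintro _ ⟨x, hx, rfl⟩ hx1 k hk hc
    exact hfpf x x.2 hx1 k hk hc)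
  rcases h1 with h | ⟨h2, m, hm, ⟨φ⟩⟩
  · exact isCyclic_of_surjective e.symm.toMonoidHom e.symm.surjective
  · exfalso
    have h3 : Nat.card P = Nat.card (QuaternionGroup (2 ^ m)) := Nat.card_congr (e.trans φ).toEquiv
    haveI : NeZero (2 ^ m) := ⟨by positivity⟩
    rw [Nat.card_eq_fintype_card (α := QuaternionGroup (2 ^ m)), QuaternionGroup.card] at h3
    have h4 : Nat.card P ∣ Nat.card E := Subgroup.card_subgroup_dvd_card _
    rw [h3] at h4
    exact hodd ((by norm_num : (2 : ℕ) ∣ 4).trans ((dvd_mul_right 4 _).trans h4))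

theorem core {G : Type u} [Group G] [Finite G] (hsol : Group.IsSolvable G) (A : Set ℕ)
    (hb : ∃ b ∉ A, b.Prime ∧ b ∣ Nat.card G)
    (hdisc : ∀ a ∈ A, ∀ b ∉ A, a.Prime → b.Prime → a ∣ Nat.card G → b ∣ Nat.card G → ¬ ∃ g : G, orderOf g = a * b)
    (hM : ∃ M : Subgroup G, M.Normal ∧ M ≠ ⊥ ∧ ∀ p : ℕ, p.Prime → p ∣ Nat.card M → p ∈ A) :
    (∃ C : Subgroup G, Cfsg.IsFrobeniusComplement C) ∨
    (∃ (H K : Subgroup G) (_ : H.Normal), K.Normal ∧ H < K ∧
      (∃ C : Subgroup ↥K, Cfsg.IsFrobeniusComplement C ∧ Cfsg.frobeniusKernel C = (H.subgroupOf K : Set ↥K)) ∧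
      (∃ C : Subgroup (G ⧸ H), Cfsg.IsFrobeniusComplement C ∧ Cfsg.frobeniusKernel C = (K.map (QuotientGroup.mk' H) : Set (G ⧸ H)))) := by
  classical
  obtain ⟨M, hMn, hMb, hMA⟩ := hM
  obtain ⟨H, ⟨hHn, hHA⟩, hHmax⟩ : ∃ H : Subgroup G, (H.Normal ∧ ∀ p : ℕ, p.Prime → p ∣ Nat.card H → p ∈ A) ∧
      ∀ T : Subgroup G, (T.Normal ∧ ∀ p : ℕ, p.Prime → p ∣ Nat.card T → p ∈ A) → H ≤ T → T = H := by
    have hfin : {T : Subgroup G | T.Normal ∧ ∀ p : ℕ, p.Prime → p ∣ Nat.card T → p ∈ A}.Finite := Set.toFinite _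
    obtain ⟨H, hMH, hH⟩ := hfin.exists_le_maximal (a := M) ⟨hMn, hMA⟩
    exact ⟨H, hH.prop, fun T hT hle => le_antisymm (hH.le_of_ge hT hle) hle⟩
  have hHb : H ≠ ⊥ := by
    rintro rfl
    exact hMb (hHmax M ⟨hMn, hMA⟩ bot_le)
  obtain ⟨m, k, hmk, hm, hk⟩ := exists_factor A (Nat.card G) Nat.card_pos.ne'
  have hcop := coprime_of_sep A hm hk
  obtain ⟨Q, hQ⟩ := H1.hall_exists hsol hmk hcop
  have hQo : ∀ x ∈ Q, ∀ p : ℕ, p.Prime → p ∣ orderOf x → p ∉ A := by
    intro x hx p hp hd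
    apply hm p hp
    rw [← hQ, ← Subgroup.orderOf_mk x hx] at *
    exact hd.trans (orderOf_dvd_natCard _)
  have hHo : ∀ x ∈ H, ∀ p : ℕ, p.Prime → p ∣ orderOf x → p ∈ A := by
    intro x hx p hp hd
    apply hHA p hp
    rw [← Subgroup.orderOf_mk x hx] at hd
    exact hd.trans (orderOf_dvd_natCard _)
  have hfpf : ∀ x ∈ Q, x ≠ 1 → ∀ h ∈ H, x * h = h * x → h = 1 := fun x hx hx1 h hh hc =>
    nocomm (MonoidHom.id G) Function.surjective_id A hdisc x h (hQo x hx) (hHo h hh) hx1 hc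
  obtain ⟨b, hbA, hb, hbG⟩ := hb
  have hbm : b ∣ m := by
    rw [hmk] at hbG
    rcases (Nat.Prime.dvd_mul hb).mp hbG with h | h
    · exact h
    · exact absurd (hk b hb h) hbA
  have hQb : Q ≠ ⊥ := by
    rintro rfl
    rw [Subgroup.card_bot] at hQ
    rw [← hQ] at hbm
    exact hb.ne_one (Nat.dvd_one.mp hbm)
  have hcHQ : (Nat.card Q).Coprime (Nat.card H) := by rw [hQ]; exact coprime_of_sep A hm hHA
  have hdisj : H ⊓ Q = ⊥ := L0.inf_eq_bot_of_coprime' hcHQ.symm
  set K := H ⊔ Q with hK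
  have hHK : H ≤ K := le_sup_left
  have hQK : Q ≤ K := le_sup_right
  by_cases hKt : K = ⊤
  · left
    exact ⟨Q, (frobenius_of_fpf H Q hKt hHb hQb hfpf hdisj).1⟩
  right
  have hCK : IsFrobeniusComplement (Q.subgroupOf K) ∧ frobeniusKernel (Q.subgroupOf K) = (H.subgroupOf K : Set ↥K) := by
    apply frobenius_of_fpf (H.subgroupOf K) (Q.subgroupOf K)
    · rw [← Subgroup.subgroupOf_sup hHK hQK, ← hK, Subgroup.subgroupOf_self]
    · intro h
      rw [Subgroup.subgroupOf_eq_bot, disjoint_iff, inf_eq_left.mpr hHK] at h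
      exact hHb h
    · intro h
      rw [Subgroup.subgroupOf_eq_bot, disjoint_iff, inf_eq_left.mpr hQK] at h
      exact hQb h
    · intro x hx hx1 n hn hc
      exact Subtype.ext (hfpf x hx (fun h => hx1 (Subtype.ext h)) n hn (congrArg Subtype.val hc))
    · rw [Subgroup.eq_bot_iff_forall]
      intro x hx
      obtain ⟨h1, h2⟩ := Subgroup.mem_inf.mp hx
      have h3 : (x : G) ∈ H ⊓ Q := Subgroup.mem_inf.mpr ⟨h1, h2⟩
      rw [hdisj, Subgroup.mem_bot] at h3
      exact Subtype.ext h3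
  have hsurj := QuotientGroup.mk'_surjective H
  have hcardq : Nat.card (G ⧸ H) ∣ Nat.card G := Subgroup.index_dvd_card H
  have hmb : ∀ x y : G ⧸ H, (∀ p : ℕ, p.Prime → p ∣ orderOf x → p ∉ A) → (∀ p : ℕ, p.Prime → p ∣ orderOf y → p ∈ A) →
      x ≠ 1 → x * y = y * x → y = 1 := fun x y hx hy hx1 h => nocomm (QuotientGroup.mk' H) hsurj A hdisc x y hx hy hx1 h
  haveI hsq : Group.IsSolvable (G ⧸ H) := inferInstance
  set Kb := fittingSubgroup (G ⧸ H) with hKb
  have hKbnil : Group.IsNilpotent Kb := L0.fittingSubgroup_isNilpotent _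
  have hKbA : ∀ p : ℕ, p.Prime → p ∣ Nat.card Kb → p ∉ A := by
    intro p hp hpd hpA
    haveI : Fact p.Prime := ⟨hp⟩
    obtain ⟨S⟩ : Nonempty (Sylow p Kb) := inferInstance
    have hSn : (S : Subgroup Kb).Normal := L0.isNilpotent_iff_sylow_normal.mp hKbnil p S
    haveI hSc : (S : Subgroup Kb).Characteristic := S.characteristic_of_normal hSn
    set S' := (S : Subgroup Kb).map Kb.subtype with hS'
    haveI hS'n : S'.Normal := L0.normal_map_subtype_of_characteristic _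
    have hT : S'.comap (QuotientGroup.mk' H) = H := by
      apply hHmax
      · refine ⟨hS'n.comap _, ?_⟩
        intro q hq hqd
        rw [L0.card_comap_mk'] at hqd
        have hS'c : Nat.card S' = Nat.card S := L0.card_map_subtype _ _
        obtain ⟨n, hn⟩ := IsPGroup.iff_card.mp S.isPGroup'
        rw [hS'c, hn] at hqd
        rcases (Nat.Prime.dvd_mul hq).mp hqd with h | h
        · first
            | exact hHA q hq h
            | exact ((Nat.prime_dvd_prime_iff_eq hq hp).mp (hq.dvd_of_dvd_pow h)) ▸ hpA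
        · first
            | exact hHA q hq h
            | exact ((Nat.prime_dvd_prime_iff_eq hq hp).mp (hq.dvd_of_dvd_pow h)) ▸ hpA
      · intro h hh
        rw [Subgroup.mem_comap]
        have : QuotientGroup.mk' H h = 1 := (QuotientGroup.eq_one_iff h).mpr hh
        rw [this]; exact one_mem _
    have hS'b : S' = ⊥ := by
      rw [Subgroup.eq_bot_iff_forall]
      intro x hx
      obtain ⟨g, rfl⟩ := hsurj x
      have : g ∈ S'.comap (QuotientGroup.mk' H) := hx
      rw [hT] at this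
      exact (QuotientGroup.eq_one_iff g).mpr this
    rw [hS', Subgroup.map_eq_bot_iff_of_injective _ Kb.subtype_injective] at hS'b
    exact S.ne_bot_of_dvd_card hpd hS'b
  set Qb := Q.map (QuotientGroup.mk' H) with hQbd
  let e0 : Q →* G ⧸ H := (QuotientGroup.mk' H).comp Q.subtype
  have he0 : Function.Injective e0 := by
    rw [injective_iff_map_eq_one]
    intro x hx
    have h1 : (x : G) ∈ H := (QuotientGroup.eq_one_iff _).mp hx
    have h2 : (x : G) ∈ H ⊓ Q := Subgroup.mem_inf.mpr ⟨h1, x.2⟩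
    rw [hdisj, Subgroup.mem_bot] at h2
    exact Subtype.ext h2
  have he0r : e0.range = Qb := by
    rw [MonoidHom.range_comp, Subgroup.range_subtype]
  have e : Q ≃* Qb := (MonoidHom.ofInjective he0).trans (MulEquiv.subgroupCongr he0r)
  have hQbc : Nat.card Qb = m := by rw [← hQ]; exact (Nat.card_congr e.toEquiv).symm
  have hKQ : Kb ≤ Qb := by
    have h1 : Nat.card ↥(Kb ⊔ Qb) ∣ m := by
      have h2 : Nat.card ↥(Kb ⊔ Qb) ∣ Nat.card Kb * Nat.card Qb := L0.card_sup_dvd_of_normal_left Kb Qb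
      have h3 : Nat.card ↥(Kb ⊔ Qb) ∣ m * k := by
        rw [← hmk]; exact (Subgroup.card_subgroup_dvd_card _).trans hcardq
      have h4 : (Nat.card ↥(Kb ⊔ Qb)).Coprime k := by
        apply coprime_of_sep A _ hk
        intro p hp hd
        rcases (Nat.Prime.dvd_mul hp).mp (hd.trans h2) with h | h
        · exact hKbA p hp h
        · rw [hQbc] at h; exact hm p hp h
      exact h4.dvd_of_dvd_mul_right h3
    have h2 : Kb ⊔ Qb = Qb := by
      symm
      apply Subgroup.eq_of_le_of_card_ge le_sup_right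
      rw [hQbc]
      exact Nat.le_of_dvd (by rw [← hQbc]; exact Nat.card_pos) h1
    exact h2 ▸ le_sup_left
  have hKcomap : Qb.comap (QuotientGroup.mk' H) = K := by
    rw [hQbd, Subgroup.comap_map_eq, QuotientGroup.ker_mk', sup_comm]
  -- a prime in A dividing the order of the quotient
  obtain ⟨a, ha, haA, haq⟩ : ∃ a : ℕ, a.Prime ∧ a ∈ A ∧ a ∣ Nat.card (G ⧸ H) := by
    by_contra hcon
    push Not at hcon
    apply hKt
    have h1 : Nat.card (G ⧸ H) ∣ m := by
      have h2 : (Nat.card (G ⧸ H)).Coprime k := coprime_of_sep A (fun p hp hd hpA => hcon p hp hpA hd) hk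
      apply h2.dvd_of_dvd_mul_right
      rw [← hmk]; exact hcardq
    have h2 : Qb = ⊤ := by
      apply Subgroup.eq_of_le_of_card_ge le_top
      rw [hQbc, Subgroup.card_top]
      exact Nat.le_of_dvd (by rw [← hQbc]; exact Nat.card_pos) h1
    rw [← hKcomap, h2, Subgroup.comap_top]
  haveI : Fact a.Prime := ⟨ha⟩
  obtain ⟨x, hx⟩ := exists_prime_orderOf_dvd_card' (G := G ⧸ H) a haq
  have hxo : ∀ p : ℕ, p.Prime → p ∣ orderOf x → p ∈ A := by
    intro p hp hd
    rw [hx] at hd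
    exact ((Nat.prime_dvd_prime_iff_eq hp ha).mp hd) ▸ haA
  have hx1 : x ≠ 1 := by
    rintro rfl
    rw [orderOf_one] at hx
    exact ha.one_lt.ne hx
  have hQbo : ∀ y ∈ Qb, ∀ p : ℕ, p.Prime → p ∣ orderOf y → p ∉ A := by
    intro y hy p hp hd
    apply hm p hp
    rw [← Subgroup.orderOf_mk y hy] at hd
    rw [← hQbc]
    exact hd.trans (orderOf_dvd_natCard _)
  have hxfix : ∀ y ∈ Qb, y * x = x * y → y = 1 := by
    intro y hy hc
    by_contra hy1
    exact hx1 (hmb y x (hQbo y hy) hxo hy1 hc)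
  -- Kb odd
  have hKbodd : ¬ 2 ∣ Nat.card Kb := by
    intro h2
    obtain ⟨t, ht⟩ := exists_prime_orderOf_dvd_card' (G := Kb) 2 h2
    have ht' : orderOf (t : G ⧸ H) = 2 := by rw [Subgroup.orderOf_coe, ht]
    have huniq : ∀ s : G ⧸ H, s ∈ Qb → orderOf s = 2 → s = t := by
      intro s hs hso
      have hpull : ∀ u : G ⧸ H, u ∈ Qb → orderOf u = 2 → ∃ q : G, q ∈ Q ∧ QuotientGroup.mk' H q = u ∧ q ≠ 1 ∧ q * q = 1 := by
        rintro _ ⟨q, hq, rfl⟩ huo
        have h3 : orderOf (⟨q, hq⟩ : Q) = 2 := by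
          rw [← orderOf_injective e0 he0]; exact huo
        rw [Subgroup.orderOf_mk] at h3
        refine ⟨q, hq, rfl, ?_, ?_⟩
        · rintro rfl
          rw [orderOf_one] at h3; omega
        · rw [← sq, ← h3]; exact pow_orderOf_eq_one q
      obtain ⟨q1, h11, h12, h13, h14⟩ := hpull s hs hso
      obtain ⟨q2, h21, h22, h23, h24⟩ := hpull t (hKQ t.2) ht'
      have h3 := compl_unique_invol (Q.subgroupOf K) hCK.1 (s := ⟨q1, hQK h11⟩) (t := ⟨q2, hQK h21⟩) h11
        (fun h => h13 (congrArg Subtype.val h)) (Subtype.ext h14) h21 (fun h => h23 (congrArg Subtype.val h)) (Subtype.ext h24)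
      have h4 : q1 = q2 := congrArg Subtype.val h3
      rw [← h12, ← h22, h4]
    have h3 : x * (t : G ⧸ H) * x⁻¹ ∈ Kb := (inferInstance : Kb.Normal).conj_mem _ t.2 x
    have h4 : x * (t : G ⧸ H) * x⁻¹ = t := by
      apply huniq _ (hKQ h3)
      have := MulEquiv.orderOf_eq (MulAut.conj x) (t : G ⧸ H)
      simpa using this.trans ht'
    have h5 := hxfix t (hKQ t.2) (mul_inv_eq_iff_eq_mul.mp h4).symm
    rw [h5, orderOf_one] at ht'
    omega
  -- Kb is a Z-group
  haveI hZ : IsZGroup Kb := by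
    set Q1 : Subgroup G := Q ⊓ Kb.comap (QuotientGroup.mk' H) with hQ1
    let f1 : Q1 →* Kb := ((QuotientGroup.mk' H).comp Q1.subtype).codRestrict Kb (fun z => (Subgroup.mem_inf.mp z.2).2)
    have hf1 : Function.Injective f1 := by
      intro z w hzw
      have h1 : QuotientGroup.mk' H (z : G) = QuotientGroup.mk' H (w : G) := congrArg Subtype.val hzw
      have h2 := he0 (a₁ := ⟨z, (Subgroup.mem_inf.mp z.2).1⟩) (a₂ := ⟨w, (Subgroup.mem_inf.mp w.2).1⟩) h1
      have h3 : (z : G) = (w : G) := congrArg (fun u : Q => (u : G)) h2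
      exact Subtype.ext h3
    have hf1s : Function.Surjective f1 := by
      rintro ⟨y, hy⟩
      obtain ⟨q, hq, hqy⟩ := hKQ hy
      exact ⟨⟨q, Subgroup.mem_inf.mpr ⟨hq, by rw [Subgroup.mem_comap, hqy]; exact hy⟩⟩, Subtype.ext hqy⟩
    let e1 : Q1 ≃* Kb := MulEquiv.ofBijective f1 ⟨hf1, hf1s⟩
    haveI : IsZGroup Q1 := zgroup_of_fpf Q1 H (by rw [Subgroup.normalizer_eq_top]; exact le_top) hHb
      (fun z hz hz1 h hh hc => hfpf z (Subgroup.mem_inf.mp hz).1 hz1 h hh hc) (by rw [Nat.card_congr e1.toEquiv]; exact hKbodd)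
    exact IsZGroup.of_injective (f := e1.symm.toMonoidHom) e1.symm.injective
  haveI := hKbnil
  haveI hKcyc : IsCyclic Kb := inferInstance
  have hCent : ∀ g : G ⧸ H, (∀ y ∈ Kb, g * y = y * g) → g ∈ Kb := by
    intro g hg
    apply L0.centralizer_fitting_le_of_isSolvable hsq
    rw [Subgroup.mem_centralizer_iff]
    intro y hy
    exact (hg y hy).symm
  have hcomm : ∀ g h : G ⧸ H, g * h * g⁻¹ * h⁻¹ ∈ Kb := by
    intro g h
    apply hCent
    intro y hy
    let c : G ⧸ H →* MulAut Kb := MulAut.conjNormal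
    have h1 : c (g * h * g⁻¹ * h⁻¹) = 1 := by
      apply (IsCyclic.mulAutMulEquiv Kb).injective
      rw [map_mul, map_mul, map_mul, map_inv, map_inv, map_mul, map_mul, map_mul, map_inv, map_inv, map_one]
      rw [mul_comm ((IsCyclic.mulAutMulEquiv Kb) (c g)) _, mul_inv_cancel_right, mul_inv_cancel]
    have h2 := congrArg Subtype.val (DFunLike.congr_fun h1 ⟨y, hy⟩)
    have h3 : (g * h * g⁻¹ * h⁻¹) * y * (g * h * g⁻¹ * h⁻¹)⁻¹ = y := h2
    exact mul_inv_eq_iff_eq_mul.mp h3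
  haveI hQbn : Qb.Normal := by
    constructor
    intro q hq g
    have : g * q * g⁻¹ = (g * q * g⁻¹ * q⁻¹) * q := by group
    rw [this]
    exact Qb.mul_mem (hKQ (hcomm g q)) hq
  have hQbnil : Group.IsNilpotent Qb := by
    apply nilpotent_of_fpf (MulAut.conjNormal x : MulAut Qb) a
    · have hxa : x ^ a = 1 := by rw [← hx]; exact pow_orderOf_eq_one x
      rw [← map_pow, hxa, map_one]
    · intro y hy
      have h1 := congrArg Subtype.val hy
      rw [MulAut.conjNormal_apply] at h1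
      exact Subtype.ext (hxfix y y.2 (mul_inv_eq_iff_eq_mul.mp h1).symm)
  have hKbQb : Kb = Qb := le_antisymm hKQ (L0.le_fittingSubgroup hQbnil)
  haveI hKn : K.Normal := by rw [← hKcomap]; exact hQbn.comap _
  have hKmap : K.map (QuotientGroup.mk' H) = Qb := by
    rw [← hKcomap, Subgroup.map_comap_eq_self_of_surjective hsurj]
  refine ⟨H, K, hHn, hKn, ?_, ⟨_, hCK⟩, ?_⟩
  · refine lt_of_le_of_ne hHK (fun h => ?_)
    have h1 : Q ≤ H := h ▸ hQK
    exact hQb (by rw [← hdisj, inf_eq_right.mpr h1])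
  · rw [hKmap]
    have hidx : (Nat.card Qb).Coprime Qb.index := by
      rw [hQbc]
      have h1 := Qb.card_mul_index
      rw [hQbc] at h1
      have h2 : m * Qb.index ∣ m * k := by rw [h1, ← hmk]; exact hcardq
      have h3 : Qb.index ∣ k := Nat.dvd_of_mul_dvd_mul_left (by rw [← hQbc]; exact Nat.card_pos) h2
      exact hcop.coprime_dvd_right h3
    have hidxA : ∀ p : ℕ, p.Prime → p ∣ Qb.index → p ∈ A := by
      intro p hp hd
      have h1 := Qb.card_mul_index
      rw [hQbc] at h1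
      have h2 : m * Qb.index ∣ m * k := by rw [h1, ← hmk]; exact hcardq
      exact hk p hp (hd.trans (Nat.dvd_of_mul_dvd_mul_left (by rw [← hQbc]; exact Nat.card_pos) h2))
    obtain ⟨X, hX⟩ := Subgroup.exists_right_complement'_of_coprime hidx
    have hXc : Nat.card X = Qb.index := hX.symm.index_eq_card.symm
    refine ⟨X, frobenius_of_fpf Qb X hX.sup_eq_top ?_ ?_ ?_ (disjoint_iff.mp hX.disjoint)⟩
    · intro h
      rw [h, Subgroup.card_bot] at hQbc
      rw [← hQbc] at hbm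
      exact hb.ne_one (Nat.dvd_one.mp hbm)
    · intro h
      rw [h, Subgroup.card_bot] at hXc
      have h1 := Qb.card_mul_index
      rw [← hXc, mul_one, hQbc] at h1
      rw [← h1] at haq
      exact hm a ha haq haA
    · intro z hz hz1 n hn hc
      by_contra hn1
      apply hz1
      apply hmb n z (hQbo n hn) _ hn1 hc.symm
      intro p hp hd
      apply hidxA p hp
      rw [← hXc]
      rw [← Subgroup.orderOf_mk z hz] at hd
      exact hd.trans (orderOf_dvd_natCard _)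

/-- A finite solvable group whose prime graph (prime divisors of the order, two distinct primes joined when there is an element of order their product) is disconnected is a Frobenius group or a 2-Frobenius group (it has normal subgroups H < K with K a Frobenius group with kernel H and G/H a Frobenius group with kernel K/H). -/
theorem result {G : Type*} [Group G] [Finite G] (hsol : Group.IsSolvable G)
    (hdisc : (∃ A : Set ℕ, (∃ a ∈ A, a.Prime ∧ a ∣ Nat.card G) ∧ (∃ b ∉ A, b.Prime ∧ b ∣ Nat.card G) ∧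
      ∀ a ∈ A, ∀ b ∉ A, a.Prime → b.Prime → a ∣ Nat.card G → b ∣ Nat.card G → ¬ ∃ g : G, orderOf g = a * b)) :
    (∃ C : Subgroup G, Cfsg.IsFrobeniusComplement C) ∨
    (∃ (H K : Subgroup G) (_ : H.Normal), K.Normal ∧ H < K ∧
      (∃ C : Subgroup ↥K, Cfsg.IsFrobeniusComplement C ∧ Cfsg.frobeniusKernel C = (H.subgroupOf K : Set ↥K)) ∧
      (∃ C : Subgroup (G ⧸ H), Cfsg.IsFrobeniusComplement C ∧ Cfsg.frobeniusKernel C = (K.map (QuotientGroup.mk' H) : Set (G ⧸ H)))) := by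
  classical
  obtain ⟨A, ⟨a, haA, ha, haG⟩, ⟨b, hbA, hb, hbG⟩, hdisc⟩ := hdisc
  haveI : Nontrivial G := by
    rw [← Finite.one_lt_card_iff_nontrivial]
    exact ha.one_lt.trans_le (Nat.le_of_dvd Nat.card_pos haG)
  obtain ⟨M, hMn, hMb, hMmin⟩ := H1.exists_minimal_normal (G := G)
  haveI hMs : Group.IsSolvable M := inferInstance
  haveI hMc : IsMulCommutative M := H1.isMulCommutative_of_minimal_of_solvable M hMb hMmin
  obtain ⟨r, hr, hMr⟩ := H1.exists_prime_pow_eq_one_of_minimal M hMb hMmin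
  haveI : Fact r.Prime := ⟨hr⟩
  have hMp : IsPGroup r M := H1.isPGroup_of_pow_eq_one M hMr
  have hMr' : ∀ p : ℕ, p.Prime → p ∣ Nat.card M → p = r := by
    intro p hp hd
    obtain ⟨n, hn⟩ := IsPGroup.iff_card.mp hMp
    rw [hn] at hd
    exact (Nat.prime_dvd_prime_iff_eq hp hr).mp (hp.dvd_of_dvd_pow hd)
  by_cases hrA : r ∈ A
  · exact core hsol A ⟨b, hbA, hb, hbG⟩ hdisc ⟨M, hMn, hMb, fun p hp hd => (hMr' p hp hd) ▸ hrA⟩
  · apply core hsol Aᶜ ⟨a, fun h => h haA, ha, haG⟩ _ ⟨M, hMn, hMb, fun p hp hd => by rw [hMr' p hp hd]; exact hrA⟩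
    intro a' ha' b' hb' hap hbp had hbd hex
    rw [Set.mem_compl_iff, not_not] at hb'
    obtain ⟨g, hg⟩ := hex
    exact hdisc b' hb' a' ha' hbp hap hbd had ⟨g, by rw [hg, mul_comm]⟩

end Cfsg.Agent.S3857
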