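import Cfsg.Statements.S0867
import Cfsg.Agent.H4.ExtLin

set_option autoImplicit false
open Cfsg

namespace Cfsg.Agent.S0867

/-- Let N be a normal subgroup of the finite group G and ϑ an irreducible character of N of degree d, invariant under conjugation by G, such that the index of N is coprime to the product of d and the determinantal order of ϑ. Then there is an irreducible character χ of G restricting to ϑ whose determinantal order equals that of ϑ, and χ is the only irreducible character of G restricting to ϑ whose determinantal order is coprime to the index of N. -/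
theorem result {G : Type*} [Group G] [Finite G] (N : Subgroup G) [hN : N.Normal] (ϑ : N → ℂ) (hϑ : Cfsg.IsIrrCharacter N ϑ) (hinv : ∀ (g : G) (n : N), ϑ ⟨g * n * g⁻¹, hN.conj_mem (n : G) n.2 g⟩ = ϑ n) (d : ℕ) (hd : ϑ 1 = d) (hcop : Nat.Coprime N.index (Cfsg.detOrder ϑ * d)) : ∃ χ : G → ℂ, (Cfsg.IsIrrCharacter G χ ∧ (∀ n : N, χ n = ϑ n) ∧ Cfsg.detOrder χ = Cfsg.detOrder ϑ) ∧ ∀ χ' : G → ℂ, Cfsg.IsIrrCharacter G χ' → (∀ n : N, χ' n = ϑ n) → Nat.Coprime N.index (Cfsg.detOrder χ') → χ' = χ := by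
  obtain ⟨l, hl⟩ := H4.detChar_hom (H4.IsIrr.isCharacter hϑ)
  have hdo : detOrder ϑ = orderOf l := by unfold detOrder; rw [hl, H4.orderOf_homFun]
  rw [hdo] at hcop
  have hcop1 : Nat.Coprime N.index (orderOf l) := Nat.Coprime.coprime_mul_right_right hcop
  have hcop2 : Nat.Coprime N.index d := Nat.Coprime.coprime_mul_left_right hcop
  have hlinv : ∀ (g : G) (n : N), l (H4.conjAut hN g n) = l n := by
    intro g n
    obtain ⟨e, τ, hτ, hτϑ⟩ := hϑ
    have h1 : (fun n => ϑ (H4.conjAut hN g n)) = Representation.character (τ.comp (H4.conjAut hN g).toMonoidHom : Representation ℂ N (Fin e → ℂ)) := by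
      rw [← hτϑ]; rfl
    have h2 : (fun n => ϑ (H4.conjAut hN g n)) = ϑ := by funext n; exact hinv g n
    have h3 := H4.detChar_eq (τ.comp (H4.conjAut hN g).toMonoidHom : Representation ℂ N (Fin e → ℂ))
    rw [← h1, h2, hl] at h3
    have h4 := H4.detChar_eq τ
    rw [hτϑ, hl] at h4
    apply Units.ext
    have h5 := congrFun h3 n
    have h6 := congrFun h4 (H4.conjAut hN g n)
    rw [H4.homFun_apply] at h5 h6
    rw [h5, h6]; rfl
  obtain ⟨μ, hμ, hμo⟩ := H4.linear_coprime_extension hN l hlinv hcop1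
  have hμN : ∀ n : N, (μ n : ℂ) = detChar ϑ n := by
    intro n; rw [hl, H4.homFun_apply, hμ]
  obtain ⟨η, hη, hηN⟩ := H4.extends_of_local hN ϑ hϑ hinv (by
    intro p hp
    by_cases h : p ∣ N.index
    · right; left
      refine ⟨H4.homFun G μ, d, hd, ?_, H4.homFun_isCharacter μ, by rw [H4.homFun_apply, map_one]; rfl, hμN⟩
      intro h2
      exact hp.ne_one (Nat.Coprime.eq_one_of_dvd (hcop2.coprime_dvd_left h) h2)
    · left
      exact ⟨N, le_refl _, ϑ, (Nat.coprime_comm.1 ((hp.coprime_iff_not_dvd).2 h)), H4.IsIrr.isCharacter hϑ, fun n => rfl⟩)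
  obtain ⟨χ, ⟨hχ, hχN, hχd⟩, huniq⟩ := H4.unique_extension_det hN ϑ hϑ d hd hcop2 η hη hηN μ hμN
  refine ⟨χ, ⟨hχ, hχN, ?_⟩, ?_⟩
  · rw [hdo]; unfold detOrder; rw [hχd, H4.orderOf_homFun, hμo]
  · intro χ' hχ' hχ'N hco
    apply huniq
    refine ⟨hχ', hχ'N, ?_⟩
    obtain ⟨l', hl'⟩ := H4.detChar_hom (H4.IsIrr.isCharacter hχ')
    have hdo' : detOrder χ' = orderOf l' := by unfold detOrder; rw [hl', H4.orderOf_homFun]
    rw [hdo'] at hco
    rw [hl', H4.linear_extension_unique hN μ l' (fun n => by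
      apply Units.ext
      rw [hμN]
      have h2 : (fun n : N => χ' n) = ϑ := by funext n; exact hχ'N n
      rw [← h2, H4.detChar_restrict (H4.IsIrr.isCharacter hχ'), hl']; rfl) (by rw [hμo]; exact hcop1) hco]

end Cfsg.Agent.S0867
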