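import Cfsg.Statements.S1526
import Cfsg.Agent.H4.CN4

set_option autoImplicit false
open Cfsg

namespace Cfsg.Agent.S1526

/-- Let G be a finite group of odd order and (L i, H i), i in a finite index type with at least two elements, pairs of subgroups with H i a nontrivial proper normal subgroup of L i such that every non-identity element of H i has its centraliser within L i contained in H i (L i is a Frobenius group with kernel H i), the orders of the H i pairwise coprime, and the underlying set of each H i a TI-subset of G with normaliser L i. If every non-identity element of G is conjugate to an element of some H i, we reach a contradiction. -/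
theorem result {G : Type*} [Group G] [Finite G] (hodd : Odd (Nat.card G)) {ι : Type*} [Fintype ι] (hι : 2 ≤ Fintype.card ι) (L H : ι → Subgroup G) (hHL : ∀ i, H i < L i) (hH1 : ∀ i, H i ≠ ⊥) (hHn : ∀ i, ∀ x ∈ L i, ∀ h ∈ H i, x * h * x⁻¹ ∈ H i) (hfrob : ∀ i, ∀ h ∈ H i, h ≠ 1 → L i ⊓ Subgroup.centralizer ({h} : Set G) ≤ H i) (hcop : ∀ i j, i ≠ j → Nat.Coprime (Nat.card (H i)) (Nat.card (H j))) (hTI : ∀ i, Cfsg.IsTISubset (H i : Set G) ∧ Subgroup.normalizer (H i : Set G) = L i) (hcover : ∀ g : G, g ≠ 1 → ∃ i, ∃ x : G, x * g * x⁻¹ ∈ H i) : False := by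
  classical
  haveI : Fintype G := Fintype.ofFinite G
  haveI : ∀ i, Fintype (L i) := fun i => Fintype.ofFinite _
  haveI : Nonempty ι := Fintype.card_pos_iff.mp (by omega)
  have hC : ∀ i, ∀ k ∈ (H i).subgroupOf (L i), k ≠ 1 → Subgroup.centralizer ({k} : Set (L i)) ≤ (H i).subgroupOf (L i) := by
    intro i k hk hk1 x hx
    rw [Subgroup.mem_centralizer_singleton_iff] at hx
    rw [Subgroup.mem_subgroupOf] at hk ⊢
    apply hfrob i k hk (fun h => hk1 (Subtype.ext h))
    refine Subgroup.mem_inf.mpr ⟨x.2, ?_⟩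
    rw [Subgroup.mem_centralizer_singleton_iff]
    exact congrArg Subtype.val hx
  have hcard : ∀ i, Nat.card ((H i).subgroupOf (L i)) = Nat.card (H i) := fun i => H4.card_subgroupOf_of_le (hHL i).le
  have hK1 : ∀ i, (H i).subgroupOf (L i) ≠ ⊥ := by
    intro i h
    apply hH1 i
    have h1 := Subgroup.card_eq_one.mpr h
    rw [hcard] at h1
    exact Subgroup.card_eq_one.mp h1
  have hKt : ∀ i, (H i).subgroupOf (L i) ≠ ⊤ := by
    intro i h
    rw [Subgroup.subgroupOf_eq_top] at h
    exact absurd h (not_le_of_gt (hHL i))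
  have hD : ∀ i, Nonempty (H4.FD G (H i) ((H i).subgroupOf (L i)).index) := fun i =>
    H4.frob_data hodd (H i) (L i) (hTI i).2 (hTI i).1 _ rfl (hC i) (hK1 i) (hKt i)
  have heo : ∀ i, Odd ((H i).subgroupOf (L i)).index := fun i => by
    have h1 : Odd (Nat.card (L i)) := hodd.of_dvd_nat (Subgroup.card_subgroup_dvd_card _)
    exact h1.of_dvd_nat (Subgroup.index_dvd_card _)
  have he1 : ∀ i, ((H i).subgroupOf (L i)).index ≠ 1 := fun i h => hKt i (Subgroup.index_eq_one.mp h)
  refine H4.no_partition hodd H (fun i => ((H i).subgroupOf (L i)).index) hcop (fun i => (hTI i).1) hcover (fun i => (hD i).some) ?_ ?_ heo hH1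
  · intro i
    rw [(hTI i).2, ← hcard i, Subgroup.index_mul_card, Subgroup.index_mul_card]
  · intro i
    obtain ⟨m, hm⟩ := heo i
    have := he1 i
    omega

end Cfsg.Agent.S1526
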