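import Cfsg.Statements.S0081
import Cfsg.Agent.H3.HSub
import Cfsg.Agent.H6.PNil

set_option autoImplicit false
open Cfsg

namespace Cfsg.Agent.S0081

theorem frattini_sub {G : Type*} [Group G] [Finite G] {p : ℕ} [hp : Fact p.Prime] {H P : Subgroup G} (hPH : P ≤ H)
    (hP : IsPGroup p P) {z : H} (hz : (z : G) ∈ (frattini P).map P.subtype) :
    z ∈ (frattini (P.subgroupOf H)).map (P.subgroupOf H).subtype := by
  obtain ⟨w, hw, hwz⟩ := hz
  have hzP : (z : G) ∈ P := by rw [← hwz]; exact w.2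
  have hS : IsPGroup p (P.subgroupOf H) := IsPGroup.comap_subtype hP
  apply Cfsg.Agent.H3.mem_frattini_map hS (show z ∈ P.subgroupOf H from hzP)
  intro M hM hidx _
  have hMP : M.map H.subtype ≤ P := by
    rintro _ ⟨m, hm, rfl⟩
    exact hM hm
  have hidx2 : ((M.map H.subtype).subgroupOf P).index = p := by
    show (M.map H.subtype).relIndex P = p
    have h1 := Subgroup.relIndex_subgroupOf (H := M.map H.subtype) hPH
    rw [← h1]
    have h2 : (M.map H.subtype).subgroupOf H = M := Subgroup.comap_map_eq_self_of_injective H.subtype_injective M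
    rw [h2, hidx]
  have hco : IsCoatom ((M.map H.subtype).subgroupOf P) := by
    constructor
    · intro h
      rw [h, Subgroup.index_top] at hidx2
      exact hp.out.one_lt.ne hidx2
    · intro K hK
      have h3 := Subgroup.relIndex_mul_index hK.le
      rw [hidx2] at h3
      have h4 : ((M.map H.subtype).subgroupOf P).relIndex K ≠ 1 := fun h5 => hK.not_ge (Subgroup.relIndex_eq_one.mp h5)
      rcases (Nat.dvd_prime hp.out).mp ⟨_, h3.symm⟩ with h5 | h5
      · exact absurd h5 h4
      · rw [h5] at h3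
        exact Subgroup.index_eq_one.mp (Nat.eq_of_mul_eq_mul_left hp.out.pos (h3.trans (mul_one p).symm))
  have h6 : w ∈ (M.map H.subtype).subgroupOf P := frattini_le_coatom hco hw
  rw [Subgroup.mem_subgroupOf] at h6
  have h7 : (w : G) = (z : G) := hwz
  rw [h7] at h6
  obtain ⟨m, hm, hmz⟩ := h6
  have : m = z := Subtype.ext hmz
  rw [← this]; exact hm


/-- If a normal subgroup meets a Sylow p-subgroup P inside the Frattini subgroup of P, then it has a normal p-complement. -/
theorem result {G : Type*} [Group G] [Finite G] {p : ℕ} [Fact p.Prime] (P : Sylow p G) (N : Subgroup G) [N.Normal] (h : N ⊓ (P : Subgroup G) ≤ (frattini P).map (P : Subgroup G).subtype) : Cfsg.HasNormalPComplement p N := by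
  have hNH : N ≤ N ⊔ (P : Subgroup G) := le_sup_left
  have hPH : (P : Subgroup G) ≤ N ⊔ (P : Subgroup G) := le_sup_right
  rw [Cfsg.Agent.H6.npc_iff']
  refine Cfsg.Agent.H6.PN.mono ?_ hNH
  rw [← Cfsg.Agent.H6.npc_iff']
  obtain ⟨H, hH⟩ : ∃ H : Subgroup G, H = N ⊔ (P : Subgroup G) := ⟨_, rfl⟩
  rw [← hH] at hNH hPH ⊢
  have hNn : (N.subgroupOf H).Normal := inferInstance
  -- the quotient is a `p`-group
  have hq : ∀ x : H, (orderOf x).Coprime p → (x : G) ∈ N := by
    intro x hx
    have hx2 : (x : G) ∈ ((N ⊔ (P : Subgroup G) : Subgroup G) : Set G) := by rw [← hH]; exact x.2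
    rw [Subgroup.normal_mul] at hx2
    obtain ⟨n, hn, y, hy, hxy⟩ := Set.mem_mul.mp hx2
    obtain ⟨k, hk⟩ := P.2 ⟨y, hy⟩
    have hk' : y ^ p ^ k = 1 := congrArg Subtype.val hk
    have h1 : (QuotientGroup.mk (x : G) : G ⧸ N) = QuotientGroup.mk y := by
      rw [← hxy, QuotientGroup.mk_mul, (QuotientGroup.eq_one_iff n).mpr hn, one_mul]
    have h2 : (QuotientGroup.mk (x : G) : G ⧸ N) ^ p ^ k = 1 := by
      rw [h1, ← QuotientGroup.mk_pow, hk', QuotientGroup.mk_one]
    have h3 : orderOf (QuotientGroup.mk (x : G) : G ⧸ N) ∣ orderOf x := by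
      rw [← Subgroup.orderOf_coe]
      exact orderOf_map_dvd (QuotientGroup.mk' N) (x : G)
    have h4 := Nat.eq_one_of_dvd_coprimes (Nat.Coprime.pow_right k hx) h3 (orderOf_dvd_of_pow_eq_one h2)
    rw [orderOf_eq_one_iff, QuotientGroup.eq_one_iff] at h4
    exact h4
  have hP' : ((P.subtype hPH : Sylow p H) : Subgroup H) = (P : Subgroup G).subgroupOf H := rfl
  apply Cfsg.Agent.H3.npc_of_local_frattini (P.subtype hPH)
  intro Q hQ x hx hxo a ha
  rw [hP'] at hQ ⊢
  have hmem : a⁻¹ * (x⁻¹ * a * x) ∈ Q := by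
    apply Q.mul_mem (Q.inv_mem ha)
    have := (Subgroup.mem_normalizer_iff.1 (Subgroup.inv_mem _ hx) a).1 ha
    simpa using this
  apply frattini_sub hPH P.2
  apply h
  refine ⟨?_, hQ hmem⟩
  have hxN := hq x hxo
  have h1 : ((a⁻¹ * (x⁻¹ * a * x) : H) : G) = ((a : G)⁻¹ * (x : G)⁻¹ * (a : G)) * (x : G) := by push_cast; group
  rw [h1]
  apply N.mul_mem _ hxN
  have := (inferInstance : N.Normal).conj_mem _ (N.inv_mem hxN) (a : G)⁻¹
  simpa using this

end Cfsg.Agent.S0081
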