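import Cfsg.Statements.S0012
import Mathlib
import Cfsg.Agent.H1.Basic

set_option autoImplicit false
open Cfsg

namespace Cfsg.Agent.S0012

open scoped commutatorElement

/-- In a finite p-group every commutator and every p-th power lies in the Frattini subgroup, so the Frattini quotient is elementary abelian. -/
theorem result {G : Type*} [Group G] [Finite G] (p : ℕ) [Fact p.Prime]
    (hG : IsPGroup p G) : commutator G ≤ frattini G ∧ ∀ x : G, x ^ p ∈ frattini G := by
  have := hG.isNilpotent
  have key : ∀ M : Subgroup G, IsCoatom M → commutator G ≤ M ∧ ∀ x : G, x ^ p ∈ M := by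
    intro M hM
    have hMn : M.Normal := Cfsg.Agent.H1.normal_of_isCoatom_of_nilpotent hM
    have hi : M.index = p := Cfsg.Agent.H1.index_of_isCoatom_pgroup hG hM
    rw [Subgroup.index_eq_card] at hi
    have hc : IsCyclic (G ⧸ M) := isCyclic_of_prime_card hi
    have hc' : IsMulCommutative (G ⧸ M) := hc.isMulCommutative
    constructor
    · rw [commutator_def, Subgroup.commutator_le]
      intro a _ b _
      rw [← QuotientGroup.eq_one_iff, commutatorElement_def]
      simp only [QuotientGroup.mk_mul, QuotientGroup.mk_inv]
      rw [mul_comm' (a : G ⧸ M) (b : G ⧸ M)]; group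
    · intro x
      rw [← QuotientGroup.eq_one_iff]
      rw [QuotientGroup.mk_pow, ← hi]; exact pow_card_eq_one'
  constructor
  · exact le_iInf₂ fun M hM => (key M hM).1
  · intro x
    have : ∀ M : Subgroup G, IsCoatom M → x ^ p ∈ M := fun M hM => (key M hM).2 x
    simpa [frattini, Order.radical, Subgroup.mem_iInf] using this

end Cfsg.Agent.S0012
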