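import Cfsg.Statements.S0326

set_option autoImplicit false
open Cfsg

namespace Cfsg.Agent.S0326

/-- The Suzuki–Tits ovoid over a finite field with `q` elements has `q² + 1` points. -/
theorem result {F : Type*} [Field F] [Fintype F] (m : ℕ) :
    Nat.card (Cfsg.suzukiOvoid F m) = Fintype.card F ^ 2 + 1 := by
  have hv1 : (![1, 0, 0, 0] : Fin 4 → F) ≠ 0 := fun h => one_ne_zero (congrFun h 0)
  have hv2 : ∀ a y x : F, (![a, y, x, 1] : Fin 4 → F) ≠ 0 := fun a y x h => one_ne_zero (congrFun h 3)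
  have h1 : Nat.card (Option (F × F)) = Fintype.card F ^ 2 + 1 := by
    rw [Nat.card_eq_fintype_card, Fintype.card_option, Fintype.card_prod, sq]
  rw [← h1]
  symm
  let f : Option (F × F) → Cfsg.suzukiOvoid F m := fun o =>
    match o with
    | none => ⟨Projectivization.mk F ![1, 0, 0, 0] hv1, _, hv1, rfl, Or.inl rfl⟩
    | some (x, y) => ⟨Projectivization.mk F ![x * y + x ^ (2 ^ (m + 1) + 2) + y ^ (2 ^ (m + 1)), y, x, 1] (hv2 _ _ _),
        _, hv2 _ _ _, rfl, Or.inr ⟨x, y, rfl⟩⟩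
  refine Nat.card_congr (Equiv.ofBijective f ⟨?_, ?_⟩)
  · intro a b hab
    have hab' := congrArg Subtype.val hab
    rcases a with _ | ⟨x, y⟩ <;> rcases b with _ | ⟨x', y'⟩
    · rfl
    · exfalso
      obtain ⟨c, hc⟩ := (Projectivization.mk_eq_mk_iff' F _ _ hv1 (hv2 _ _ _)).1 hab'
      have h0 := congrFun hc 0
      have h3 := congrFun hc 3
      simp at h0 h3
      rw [h3, zero_mul] at h0
      exact zero_ne_one h0
    · exfalso
      obtain ⟨c, hc⟩ := (Projectivization.mk_eq_mk_iff' F _ _ (hv2 _ _ _) hv1).1 hab'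
      have h3 := congrFun hc 3
      simp at h3
    · obtain ⟨c, hc⟩ := (Projectivization.mk_eq_mk_iff' F _ _ (hv2 _ _ _) (hv2 _ _ _)).1 hab'
      have h1 := congrFun hc 1
      have h2 := congrFun hc 2
      have h3 := congrFun hc 3
      simp at h1 h2 h3
      rw [h3, one_mul] at h1 h2
      rw [h1, h2]
  · rintro ⟨p, v, hv, rfl, h | ⟨x, y, h⟩⟩
    · subst h
      exact ⟨none, rfl⟩
    · subst h
      exact ⟨some (x, y), rfl⟩

end Cfsg.Agent.S0326
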