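import Cfsg.Statements.S0039
import Mathlib
import Cfsg.Agent.H1.Frob1

set_option autoImplicit false
open Cfsg

namespace Cfsg.Agent.S0039

open scoped commutatorElement Pointwise


/-- In a finite group that is a semidirect product of a normal subgroup K by a nontrivial subgroup H, H is a Frobenius complement exactly when each nonidentity element of H acts without nonidentity fixed points on K by conjugation. -/
theorem result {G : Type*} [Group G] [Finite G] (K H : Subgroup G) [K.Normal]
    (hc : Subgroup.IsComplement' K H) (hK : K ≠ ⊥) (hH : H ≠ ⊥) :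
    Cfsg.IsFrobeniusComplement H ↔ ∀ h ∈ H, h ≠ 1 → K ⊓ Subgroup.centralizer {h} = ⊥ := by
  have hdis : K ⊓ H = ⊥ := hc.disjoint.eq_bot
  have hsup : K ⊔ H = ⊤ := hc.sup_eq_top
  constructor
  · intro hF h hh h1
    rw [Cfsg.Agent.H3.isFrobeniusComplement_iff] at hF
    rw [eq_bot_iff]
    intro k hk
    rw [Subgroup.mem_bot]
    have hk1 : k ∈ K := hk.1
    have hk2 := Subgroup.mem_centralizer_singleton_iff.mp hk.2
    by_contra hne
    have hkH : k ∉ H := by
      intro h2
      have : k ∈ K ⊓ H := ⟨hk1, h2⟩
      rw [hdis, Subgroup.mem_bot] at this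
      exact hne this
    apply h1
    apply hF.2.2 k hkH h hh
    have : k⁻¹ * h * k = h := by rw [mul_assoc, ← hk2]; group
    rw [this]; exact hh
  · intro hf
    refine (Cfsg.Agent.H3.frobenius_of_fpf K H hsup hK hH ?_ hdis).1
    intro h hh h1 n hn hcomm
    have : n ∈ K ⊓ Subgroup.centralizer {h} := ⟨hn, Subgroup.mem_centralizer_singleton_iff.mpr hcomm.symm⟩
    rw [hf h hh h1, Subgroup.mem_bot] at this
    exact this

end Cfsg.Agent.S0039
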