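import Cfsg.Statements.S0038
import Mathlib
import Cfsg.Agent.H3.FrobStr
import Cfsg.Agent.S0037

set_option autoImplicit false
open Pointwise
open Cfsg

namespace Cfsg.Agent.S0038

/-- All Frobenius complements of a finite group are conjugate to one another. -/
theorem result {G : Type*} [Group G] [Finite G] (H H₀ : Subgroup G)
    (hH : Cfsg.IsFrobeniusComplement H) (hH₀ : Cfsg.IsFrobeniusComplement H₀) :
    ∃ g : G, MulAut.conj g • H₀ = H := by
  have hcard : Nat.card H = Nat.card H₀ := by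
    obtain ⟨K, hK, _, hc⟩ := H3.frobenius_kernel H hH
    obtain ⟨K₀, hK₀, _, hc₀⟩ := H3.frobenius_kernel H₀ hH₀
    have h1 := H3.kernel_unique H H₀ hH hH₀ K K₀ hK hK₀
    subst h1
    rw [← hc.symm.index_eq_card, hc₀.symm.index_eq_card]
  obtain ⟨g, hg⟩ := S0037.result H H₀ hH hH₀ hcard.ge
  refine ⟨g, Subgroup.eq_of_le_of_card_ge hg ?_⟩
  rw [L0.card_conj_smul, hcard]

end Cfsg.Agent.S0038
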