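import Cfsg.Statements.S0040
import Mathlib
import Cfsg.Agent.H3.UniqP

set_option autoImplicit false
open Cfsg

namespace Cfsg.Agent.S0040

/-- Sylow subgroups of Frobenius complements: if H complements a nontrivial normal subgroup K and every nonidentity element of H has trivial centraliser in K, then each Sylow subgroup of H is cyclic or isomorphic to a generalized quaternion group. -/
theorem result {G : Type*} [Group G] [Finite G] (K H : Subgroup G) [K.Normal]
    (hc : Subgroup.IsComplement' K H) (hK : K ≠ ⊥) (hfpf : ∀ h ∈ H, h ≠ 1 → K ⊓ Subgroup.centralizer {h} = ⊥)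
    (p : ℕ) [Fact p.Prime] (P : Sylow p H) :
    IsCyclic P ∨ ∃ n : ℕ, Nonempty (P ≃* QuaternionGroup (2 ^ n)) := by
  classical
  set P' : Subgroup G := (P : Subgroup H).map H.subtype with hP'
  have hP'p : IsPGroup p P' := P.isPGroup'.map _
  have e : (P : Subgroup H) ≃* P' := (P : Subgroup H).equivMapOfInjective _ H.subtype_injective
  have h1 := H3.sylow_of_fpf P' K hP'p (by rw [Subgroup.normalizer_eq_top]; exact le_top) hK (by
    rintro _ ⟨x, hx, rfl⟩ hx1 k hk hc
    rw [← Subgroup.mem_bot, ← hfpf x x.2 hx1]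
    refine Subgroup.mem_inf.mpr ⟨hk, Subgroup.mem_centralizer_iff.mpr ?_⟩
    intro y hy
    rw [Set.mem_singleton_iff] at hy
    rw [hy]; exact hc)
  rcases h1 with h | ⟨_, m, _, ⟨f⟩⟩
  · left
    exact isCyclic_of_surjective e.symm.toMonoidHom e.symm.surjective
  · right
    exact ⟨m, ⟨e.trans f⟩⟩

end Cfsg.Agent.S0040
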