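import Cfsg.Statements.S0041
import Mathlib
import Cfsg.Agent.H3.Part
import Cfsg.Agent.L0.Coprime2

set_option autoImplicit false
open Cfsg

namespace Cfsg.Agent.S0041

open Subgroup H3

/-- A group acting on a nontrivial abelian group so that no nonidentity element has a nonidentity fixed point is cyclic, provided it is abelian or its order is a product of two (possibly equal) primes. -/
theorem result {G : Type*} [Group G] [Finite G] (A V : Subgroup G) [IsMulCommutative V]
    (hV : V ≠ ⊥) (hAV : A ≤ Subgroup.normalizer (V : Set G)) (hfpf : ∀ a ∈ A, a ≠ 1 → V ⊓ Subgroup.centralizer {a} = ⊥)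
    (hA : IsMulCommutative A ∨ ∃ p q : ℕ, p.Prime ∧ q.Prime ∧ Nat.card A = p * q) : IsCyclic A := by
  classical
  have hVc : ∀ a ∈ V, ∀ b ∈ V, a * b = b * a := fun a ha b hb =>
    congrArg Subtype.val ((inferInstance : IsMulCommutative V).is_comm.comm (⟨a, ha⟩ : V) ⟨b, hb⟩)
  letI : CommGroup V := commGroupOf V hVc
  let c : A →* MulAut V := actOn A V hAV
  have hc : ∀ (f : A) (v : V), ((c f v : V) : G) = f * v * (f : G)⁻¹ := fun f v => actOn_apply A V hAV f v
  have hfix : ∀ a : A, a ≠ 1 → ∀ v : V, c a v = v → v = 1 := by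
    intro a ha v hv
    have h1 := congrArg Subtype.val hv
    rw [hc] at h1
    have h2 : (a : G) * v = v * a := mul_inv_eq_iff_eq_mul.mp h1
    apply Subtype.ext
    show (v : G) = 1
    rw [← Subgroup.mem_bot, ← hfpf a a.2 (fun h => ha (Subtype.ext h))]
    refine Subgroup.mem_inf.mpr ⟨v.2, Subgroup.mem_centralizer_iff.mpr ?_⟩
    intro x hx
    rw [Set.mem_singleton_iff] at hx
    rw [hx]; exact h2
  have hcop := coprime_of_fpf c hfix
  obtain ⟨v0, hv0⟩ : ∃ v : V, v ≠ 1 := by
    by_contra hcon
    push Not at hcon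
    apply hV
    rw [Subgroup.eq_bot_iff_forall]
    intro v hv
    exact congrArg Subtype.val (hcon ⟨v, hv⟩)
  have habel : IsMulCommutative A → IsCyclic A := by
    intro hA
    by_contra hnc
    have h1 := L0.closure_centralizers_eq (N := V) hA hnc hAV hcop.symm
    apply hV
    rw [← h1, Subgroup.closure_eq_bot_iff]
    rintro x ⟨hxV, w, hw, hw1, hwx⟩
    rw [Set.mem_singleton_iff, ← Subgroup.mem_bot, ← hfpf w hw hw1]
    refine Subgroup.mem_inf.mpr ⟨hxV, Subgroup.mem_centralizer_iff.mpr ?_⟩
    intro y hy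
    rw [Set.mem_singleton_iff] at hy
    rw [hy]; exact hwx
  rcases hA with hA | ⟨p, q, hp, hq, hpq⟩
  · exact habel hA
  haveI : Fact p.Prime := ⟨hp⟩
  haveI : Fact q.Prime := ⟨hq⟩
  by_cases hpq1 : p = q
  · subst hpq1
    apply habel
    have h1 : Nat.card A = p ^ 2 := by rw [hpq, sq]
    exact ⟨⟨(IsPGroup.commutative_of_card_eq_prime_sq h1)⟩⟩
  by_cases hel : ∃ a : A, orderOf a = p * q
  · obtain ⟨a, ha⟩ := hel
    exact isCyclic_of_orderOf_eq_card a (by rw [ha, hpq])
  exfalso
  have hord : ∀ a : A, a ≠ 1 → orderOf a = p ∨ orderOf a = q := by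
    intro a ha
    have h1 : orderOf a ∣ p * q := hpq ▸ orderOf_dvd_natCard a
    obtain ⟨d1, d2, h2, h3, h4⟩ : ∃ d1 d2, d1 ∣ p ∧ d2 ∣ q ∧ orderOf a = d1 * d2 := by
      obtain ⟨d1, d2, h2, h3, h4⟩ := exists_dvd_and_dvd_of_dvd_mul h1
      exact ⟨d1, d2, h2, h3, h4⟩
    rcases (Nat.dvd_prime hp).mp h2 with rfl | rfl <;> rcases (Nat.dvd_prime hq).mp h3 with rfl | rfl
    · exact absurd (orderOf_eq_one_iff.mp (by rw [h4])) ha
    · right; rw [h4, one_mul]
    · left; rw [h4, mul_one]
    · exact absurd ⟨a, h4⟩ hel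
  -- cardinalities of Sylow subgroups
  have hsyl : ∀ (r s : ℕ) (hr : Fact r.Prime) (hs : s.Prime) (hrs : r ≠ s) (hc : Nat.card A = r * s) (P : Sylow r A),
      Nat.card (P : Subgroup A) = r := by
    intro r s hr hs hrs hc P
    rw [P.card_eq_multiplicity, hc]
    have : (r * s).factorization r = 1 := by
      rw [Nat.factorization_mul hr.out.ne_zero hs.ne_zero, Finsupp.add_apply, hr.out.factorization_self,
        Nat.factorization_eq_zero_of_not_dvd (fun h => hrs ((Nat.prime_dvd_prime_iff_eq hr.out hs).mp h))]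
    rw [this, pow_one]
  have hP := hsyl p q inferInstance hq hpq1 hpq
  have hQ := hsyl q p inferInstance hp (fun h => hpq1 h.symm) (by rw [hpq, mul_comm])
  have huniq : ∀ (r : ℕ) (hr : Fact r.Prime) (hcard : ∀ P : Sylow r A, Nat.card (P : Subgroup A) = r) (a : A),
      orderOf a = r → ∃! P : Sylow r A, a ∈ (P : Subgroup A) := by
    intro r hr hcard a ha
    have h1 : IsPGroup r (zpowers a) := IsPGroup.of_card (n := 1) (by rw [Nat.card_zpowers, ha, pow_one])
    obtain ⟨P, hP⟩ := h1.exists_le_sylow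
    refine ⟨P, hP (mem_zpowers a), ?_⟩
    intro Q hQ
    have h2 : ∀ R : Sylow r A, a ∈ (R : Subgroup A) → zpowers a = R := by
      intro R hR
      apply Subgroup.eq_of_le_of_card_ge
      · rw [zpowers_le]; exact hR
      · rw [Nat.card_zpowers, ha, hcard R]
    apply Sylow.ext
    rw [← h2 Q hQ, ← h2 P (hP (mem_zpowers a))]
  have hnot : ∀ (r s : ℕ) (hr : Fact r.Prime) (hs : s.Prime) (hrs : r ≠ s) (hcard : ∀ P : Sylow r A, Nat.card (P : Subgroup A) = r)
      (a : A) (P : Sylow r A), orderOf a = s → a ∉ (P : Subgroup A) := by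
    intro r s hr hs hrs hcard a P ha hmem
    have h1 : orderOf (⟨a, hmem⟩ : (P : Subgroup A)) ∣ r := by
      have := orderOf_dvd_natCard (⟨a, hmem⟩ : (P : Subgroup A))
      rwa [hcard P] at this
    rw [Subgroup.orderOf_mk, ha] at h1
    exact hrs ((Nat.prime_dvd_prime_iff_eq hs hr.out).mp h1).symm
  let B : Sylow p A ⊕ Sylow q A → Subgroup A := fun x => match x with
    | Sum.inl P => P
    | Sum.inr Q => Q
  obtain ⟨P0⟩ : Nonempty (Sylow p A) := inferInstance
  have := Fintype.ofFinite (Sylow p A)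
  have := Fintype.ofFinite (Sylow q A)
  have key : ∀ v : V, v ^ Fintype.card (Sylow p A ⊕ Sylow q A) = v := by
    intro v
    apply partition_trick c ⊤ B (fun _ => le_top) ?_ ?_ (Sum.inl P0)
    · intro a _ ha1
      rcases hord a ha1 with h | h
      · obtain ⟨P, h1, h2⟩ := huniq p inferInstance hP a h
        refine ⟨Sum.inl P, h1, ?_⟩
        rintro (R | R) hR
        · rw [h2 R hR]
        · exact absurd hR (hnot q p inferInstance hp (fun h => hpq1 h.symm) hQ a R h)
      · obtain ⟨P, h1, h2⟩ := huniq q inferInstance hQ a h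
        refine ⟨Sum.inr P, h1, ?_⟩
        rintro (R | R) hR
        · exact absurd hR (hnot p q inferInstance hq hpq1 hP a R h)
        · rw [h2 R hR]
    · intro i v hv
      have hne : ∃ b ∈ B i, b ≠ 1 := by
        have h1 : B i ≠ ⊥ := by
          rcases i with P | Q
          · intro h
            have h2 := hP P
            have h3 : (P : Subgroup A) = ⊥ := h
            rw [h3, Subgroup.card_bot] at h2
            exact hp.one_lt.ne h2
          · intro h
            have h2 := hQ Q
            have h3 : (Q : Subgroup A) = ⊥ := h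
            rw [h3, Subgroup.card_bot] at h2
            exact hq.one_lt.ne h2
        by_contra hcon
        push Not at hcon
        exact h1 ((Subgroup.eq_bot_iff_forall _).mpr hcon)
      obtain ⟨b, hb, hb1⟩ := hne
      exact hfix b hb1 v (hv b hb)
  -- number of Sylows
  have hn : ∀ (r s : ℕ) (hr : Fact r.Prime) (hs : s.Prime) (hc : Nat.card A = r * s)
      (hcard : ∀ P : Sylow r A, Nat.card (P : Subgroup A) = r), Nat.card (Sylow r A) = 1 ∨ Nat.card (Sylow r A) = s := by
    intro r s hr hs hc hcard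
    obtain ⟨P⟩ : Nonempty (Sylow r A) := inferInstance
    have h1 := Sylow.card_dvd_index P
    have h2 : (P : Subgroup A).index = s := by
      have h3 := (P : Subgroup A).card_mul_index
      rw [hcard P, hc] at h3
      exact Nat.eq_of_mul_eq_mul_left hr.out.pos h3
    rw [h2] at h1
    exact (Nat.dvd_prime hs).mp h1
  have hsmall : ∀ (r s : ℕ) (hr : Fact r.Prime) (hs : s.Prime) (hc : Nat.card A = r * s)
      (hcard : ∀ P : Sylow r A, Nat.card (P : Subgroup A) = r), s < r → Nat.card (Sylow r A) = 1 := by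
    intro r s hr hs hc hcard hlt
    rcases hn r s hr hs hc hcard with h | h
    · exact h
    · exfalso
      have h1 := card_sylow_modEq_one r A
      rw [h] at h1
      have h2 : s % r = 1 % r := h1
      rw [Nat.mod_eq_of_lt hlt, Nat.mod_eq_of_lt hr.out.one_lt] at h2
      exact hs.one_lt.ne' h2
  have hv := key v0
  rw [Fintype.card_sum, ← Nat.card_eq_fintype_card, ← Nat.card_eq_fintype_card] at hv
  have hfin : ∀ m : ℕ, m ∣ Nat.card A → v0 ^ (m + 1) = v0 → False := by
    intro m hm h
    rw [pow_succ, mul_eq_right] at h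
    exact hv0 (eq_one_of_pow_coprime (hcop.coprime_dvd_right hm) _ h)
  rcases lt_or_gt_of_ne hpq1 with hlt | hlt
  · rw [hsmall q p inferInstance hp (by rw [hpq, mul_comm]) hQ hlt] at hv
    rcases hn p q inferInstance hq hpq hP with h | h
    · rw [h] at hv; exact hfin 1 (one_dvd _) hv
    · rw [h] at hv; exact hfin q (hpq ▸ dvd_mul_left _ _) hv
  · rw [hsmall p q inferInstance hq hpq hP hlt, add_comm] at hv
    rcases hn q p inferInstance hp (by rw [hpq, mul_comm]) hQ with h | h
    · rw [h] at hv; exact hfin 1 (one_dvd _) hv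
    · rw [h] at hv; exact hfin p (hpq ▸ dvd_mul_right _ _) hv

end Cfsg.Agent.S0041
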