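import Cfsg.Statements.S0046
import Mathlib
import Cfsg.Agent.H3.MaxNil
import Cfsg.Agent.H3.LStar

set_option autoImplicit false
open Cfsg

namespace Cfsg.Agent.S0046

open Subgroup H3
universe u

theorem schmidt_aux (n : ℕ) : ∀ (G : Type u) [Group G] [Finite G], Nat.card G = n →
    (∀ M : Subgroup G, IsCoatom M → Group.IsNilpotent M) → Group.IsSolvable G := by
  induction n using Nat.strong_induction_on with
  | _ n ih =>
  intro G _ _ hn h
  classical
  have hprop : ∀ T : Subgroup G, T ≠ ⊤ → Group.IsNilpotent T := by
    intro T hT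
    obtain ⟨M, hM, hTM⟩ := (IsCoatomic.eq_top_or_exists_le_coatom T).resolve_left hT
    exact L0.isNilpotent_of_le (h M hM) hTM
  by_cases hN : ∃ N : Subgroup G, N.Normal ∧ N ≠ ⊥ ∧ Group.IsSolvable N
  · obtain ⟨N, hNn, hNb, hNs⟩ := hN
    have hq : Group.IsSolvable (G ⧸ N) := by
      apply ih (Nat.card (G ⧸ N)) _ (G ⧸ N) rfl
      · intro M hM
        have h1 : M.comap (QuotientGroup.mk' N) ≠ ⊤ := by
          intro h2
          apply hM.1
          have := congrArg (Subgroup.map (QuotientGroup.mk' N)) h2
          rw [Subgroup.map_comap_eq_self_of_surjective (QuotientGroup.mk'_surjective N),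
            Subgroup.map_top_of_surjective _ (QuotientGroup.mk'_surjective N)] at this
          exact this
        haveI := hprop _ h1
        have h3 : (M.comap (QuotientGroup.mk' N)).map (QuotientGroup.mk' N) = M :=
          Subgroup.map_comap_eq_self_of_surjective (QuotientGroup.mk'_surjective N) M
        have h4 : Group.IsNilpotent ↥((M.comap (QuotientGroup.mk' N)).map (QuotientGroup.mk' N)) :=
          Group.nilpotent_of_surjective ((QuotientGroup.mk' N).subgroupMap _) ((QuotientGroup.mk' N).subgroupMap_surjective _)
        rwa [h3] at h4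
      · rw [← hn]
        have h1 := N.card_mul_index
        have h2 : 1 < Nat.card N := (Subgroup.one_lt_card_iff_ne_bot N).mpr hNb
        have h3 : 0 < N.index := Nat.pos_of_ne_zero Subgroup.index_ne_zero_of_finite
        have h4 : Nat.card (G ⧸ N) = N.index := rfl
        rw [h4]; nlinarith
    exact Group.isSolvable_of_ker_le_range N.subtype (QuotientGroup.mk' N) (by
      rw [QuotientGroup.ker_mk', Subgroup.range_subtype])
  by_cases hodd : ∃ p : ℕ, p.Prime ∧ p ≠ 2 ∧ p ∣ Nat.card G
  · obtain ⟨p, hp, hp2, hpG⟩ := hodd
    haveI : Fact p.Prime := ⟨hp⟩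
    obtain ⟨S⟩ : Nonempty (Sylow p G) := inferInstance
    have hnpc : HasNormalPComplement p G := by
      apply npc_of_local hp2 S (S.ne_bot_of_dvd_card hpG)
      intro K hKb hKS _
      apply npc_of_nilpotent
      apply hprop
      intro htop
      apply hN
      refine ⟨K, Subgroup.normalizer_eq_top_iff.mp htop, hKb, ?_⟩
      haveI := (S.isPGroup'.to_le hKS).isNilpotent
      infer_instance
    rw [H1.hasNormalPComplement_iff] at hnpc
    obtain ⟨N, hNn, hNc, k, hk⟩ := hnpc
    by_cases hNb : N = ⊥
    · rw [hNb, Subgroup.index_bot] at hk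
      haveI := (IsPGroup.of_card hk).isNilpotent
      infer_instance
    · exfalso
      apply hN
      refine ⟨N, hNn, hNb, ?_⟩
      haveI := hprop N (by
        rintro rfl
        rw [Subgroup.card_top] at hNc
        exact hp.one_lt.ne' (Nat.Coprime.eq_one_of_dvd hNc.symm hpG))
      infer_instance
  · push Not at hodd
    have h1 : Nat.card G = 2 ^ (Nat.card G).primeFactorsList.length :=
      Nat.eq_prime_pow_of_unique_prime_dvd (Nat.card_pos.ne') (fun {d} hd hdi => by
        by_contra hne
        exact hodd d hd hne hdi)
    haveI := (IsPGroup.of_card h1).isNilpotent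
    infer_instance

/-- Schmidt's Theorem on minimal non-nilpotent groups: a finite group in which every maximal subgroup is nilpotent is solvable. -/
theorem result {G : Type*} [Group G] [Finite G]
    (h : ∀ M : Subgroup G, IsCoatom M → Group.IsNilpotent M) : Group.IsSolvable G := by
  exact schmidt_aux _ G rfl h

end Cfsg.Agent.S0046
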