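import Cfsg.Statements.S0095
import Cfsg.Agent.H4.NzCount
import Cfsg.Agent.H4.Glau15
import Cfsg.Agent.H4.OrthConj
import Cfsg.Agent.H4.Misc2

set_option autoImplicit false
open Cfsg

namespace Cfsg.Agent.S0095
open scoped commutatorElement

/-- The order of an extraspecial p-group is an odd power p^(2n+1) of p with n ≥ 1. -/
theorem result {P : Type*} [Group P] [Finite P] {p : ℕ} [Fact p.Prime] (h : Cfsg.IsExtraspecial p P) : ∃ n : ℕ, 1 ≤ n ∧ Nat.card P = p ^ (2 * n + 1) := by
  classical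
  obtain ⟨⟨hP, _, hC⟩, hcard⟩ := h
  have hp : p.Prime := Fact.out
  haveI := Fintype.ofFinite P
  have hZp : 1 < Nat.card (Subgroup.center P) := by rw [hcard]; exact hp.one_lt
  haveI : Nontrivial (Subgroup.center P) := Finite.one_lt_card_iff_nontrivial.mp hZp
  obtain ⟨z, hz⟩ := exists_ne (1 : Subgroup.center P)
  have hz' : (z : P) ≠ 1 := fun h => hz (Subtype.ext h)
  obtain ⟨χ, hχ⟩ : ∃ χ : IrrCharacter P, (χ : P → ℂ) z ≠ (χ : P → ℂ) 1 := by
    by_contra hcon
    push Not at hcon
    exact hz' (isConj_one_right.mp (H4.isConj_of_irr_eq hcon).symm)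
  obtain ⟨lam, hlam⟩ := H4.central_lin (Z := Subgroup.center P) le_rfl χ.2
  have hd := H4.IsChar.one_eq (H4.IsIrr.isCharacter χ.2)
  set d := charDegree (χ : P → ℂ) with hddef
  have hlz : lam z ≠ 1 := by
    intro h1
    apply hχ
    have := hlam z 1
    rw [mul_one, h1, Units.val_one, one_mul] at this
    exact this
  have hker : lam.ker = ⊥ := by
    haveI : Fact (Nat.card (Subgroup.center P)).Prime := ⟨by rw [hcard]; exact hp⟩
    rcases lam.ker.eq_bot_or_eq_top_of_prime_card with h1 | h1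
    · exact h1
    · exact absurd (MonoidHom.mem_ker.mp (h1 ▸ Subgroup.mem_top z)) hlz
  have hvan : ∀ g : P, g ∉ Subgroup.center P → (χ : P → ℂ) g = 0 := by
    intro g hg
    rw [Subgroup.mem_center_iff] at hg
    push Not at hg
    obtain ⟨y, hy⟩ := hg
    have hc : ⁅y, g⁆ ∈ Subgroup.center P := by
      rw [← hC]
      exact Subgroup.commutator_mem_commutator (Subgroup.mem_top _) (Subgroup.mem_top _)
    have h1 := hlam ⟨_, hc⟩ g
    have h2 : (⁅y, g⁆ : P) * g = y * g * y⁻¹ := by rw [commutatorElement_def]; group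
    have h3 : (χ : P → ℂ) (y * g * y⁻¹) = (χ : P → ℂ) g :=
      H5.IsClassFunction.eq_of_isConj (H4.IsIrr.isClassFunction χ.2) (isConj_iff.mpr ⟨y⁻¹, by group⟩)
    simp only at h1
    rw [h2, h3] at h1
    by_contra hne
    have h4 : ((lam ⟨_, hc⟩ : ℂˣ) : ℂ) = 1 := by
      have : (((lam ⟨_, hc⟩ : ℂˣ) : ℂ) - 1) * (χ : P → ℂ) g = 0 := by linear_combination - h1
      rcases mul_eq_zero.mp this with h | h
      · linear_combination h
      · exact absurd h hne
    have h5 : (⟨_, hc⟩ : Subgroup.center P) ∈ lam.ker := MonoidHom.mem_ker.mpr (Units.ext h4)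
    rw [hker, Subgroup.mem_bot] at h5
    have h6 : ⁅y, g⁆ = 1 := congrArg Subtype.val h5
    rw [commutatorElement_eq_one_iff_mul_comm] at h6
    exact hy h6
  have hnorm : ∀ g : P, ‖(χ : P → ℂ) g‖ ^ 2 = if g ∈ Subgroup.center P then (d : ℝ) ^ 2 else 0 := by
    intro g
    split_ifs with hg
    · have h1 := hlam ⟨g, hg⟩ 1
      rw [mul_one] at h1
      simp only at h1
      have h2 : ‖((lam ⟨g, hg⟩ : ℂˣ) : ℂ)‖ = 1 := by
        have h3 : ((lam ⟨g, hg⟩ : ℂˣ) : ℂ) ^ (Nat.card (Subgroup.center P)) = 1 := by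
          rw [← Units.val_pow_eq_pow_val, ← map_pow, pow_card_eq_one', map_one, Units.val_one]
        exact Complex.norm_eq_one_of_pow_eq_one h3 (by rw [hcard]; exact hp.ne_zero)
      rw [h1, norm_mul, h2, one_mul, hd]
      simp
    · rw [hvan g hg]; simp
  have hsum := H4.norm_sum_sq' χ.2
  simp only [hnorm] at hsum
  rw [← Finset.sum_filter, Finset.sum_const, nsmul_eq_mul] at hsum
  have hcz : (Finset.univ.filter (fun g : P => g ∈ Subgroup.center P)).card = p := by
    rw [← hcard, Nat.card_eq_fintype_card, Fintype.card_subtype]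
  rw [hcz] at hsum
  have hsum' : p * d ^ 2 = Nat.card P := by exact_mod_cast hsum
  obtain ⟨m, hm⟩ := hP.exists_card_eq
  have hdd : d ∣ p ^ m := by rw [← hm, ← hsum']; exact Dvd.intro_left (p * d) (by ring)
  obtain ⟨k, _, hk⟩ := (Nat.dvd_prime_pow hp).mp hdd
  refine ⟨k, ?_, ?_⟩
  · rcases Nat.eq_zero_or_pos k with h0 | h0
    · exfalso
      rw [h0, pow_zero] at hk
      rw [hk] at hsum'
      have h1 : Subgroup.center P = ⊤ := by
        apply Subgroup.eq_top_of_card_eq
        rw [hcard, ← hsum']; ring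
      haveI : Nontrivial P := ⟨⟨_, _, hz'⟩⟩
      have h2 : commutator P = ⊤ := by rw [hC, h1]
      have h3 : commutator P = ⊥ := by
        rw [_root_.commutator_def, Subgroup.commutator_eq_bot_iff_le_centralizer]
        intro a _
        rw [Subgroup.mem_centralizer_iff]
        intro b _
        have := (Subgroup.mem_center_iff.mp (show a ∈ Subgroup.center P from h1 ▸ Subgroup.mem_top a)) b
        exact this
      exact bot_ne_top (h3.symm.trans h2)
    · exact h0
  · rw [← hsum', hk]; ring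

end Cfsg.Agent.S0095
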