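import Cfsg.Statements.S0116
import Cfsg.Agent.H6.Alperin
import Cfsg.Agent.H6.Control
import Cfsg.Agent.H6.SCh
import Mathlib

set_option autoImplicit false
open Cfsg

namespace Cfsg.Agent.S0116

open Cfsg.Agent.L0 Cfsg.Agent.H6

variable {G : Type*} [Group G] [Finite G] {p : ℕ} [Fact p.Prime]

def Fam (p : ℕ) [Fact p.Prime] (P : Sylow p G) : Set (Subgroup G) :=
  {D | ∃ Q : Sylow p G, D = (P : Subgroup G) ⊓ (Q : Subgroup G) ∧
    SylIn p ((P : Subgroup G) ⊓ Subgroup.normalizer (D : Set G)) (Subgroup.normalizer (D : Set G)) ∧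
    SylIn p ((Q : Subgroup G) ⊓ Subgroup.normalizer (D : Set G)) (Subgroup.normalizer (D : Set G))}

def Arr (P Q : Sylow p G) : Prop :=
  ∃ x : G, Ch (FStep (Fam p P)) (((P : Subgroup G) ⊓ (Q : Subgroup G) : Subgroup G) : Set G) x ∧
    cj x⁻¹ (Q : Subgroup G) = P

theorem arr_self (P : Sylow p G) : Arr P P := ⟨1, Ch.nil _, by simp⟩

theorem arr_step {P Q S : Sylow p G} {x : G} (hx : Ch (FStep (Fam p P)) (((P : Subgroup G) ⊓ (S : Subgroup G) : Subgroup G) : Set G) x)
    (hS : cj x⁻¹ (S : Subgroup G) = P) (hD : (P : Subgroup G) ⊓ (Q : Subgroup G) ≤ (P : Subgroup G) ⊓ (S : Subgroup G))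
    (hQ : Arr P (x⁻¹ • Q)) : Arr P Q := by
  obtain ⟨y, hy, hyQ⟩ := hQ
  refine ⟨x * y, Ch.trans (hx.mono FStep.mono hD) (hy.mono FStep.mono ?_), ?_⟩
  · rw [rc_subgroup]
    show (cj x⁻¹ ((P : Subgroup G) ⊓ (Q : Subgroup G)) : Subgroup G) ≤ (P : Subgroup G) ⊓ ((x⁻¹ • Q : Sylow p G) : Subgroup G)
    rw [smul_sylow_coe]
    exact le_inf (le_trans (cj_mono (hD.trans inf_le_right)) hS.le) (cj_mono inf_le_right)
  · rw [mul_inv_rev, cj_mul]
    rw [smul_sylow_coe] at hyQ
    exact hyQ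

theorem card_lt {A B : Subgroup G} (h : A < B) : Nat.card A < Nat.card B := H6.card_lt_of_lt h

theorem arr_all (P : Sylow p G) : ∀ (n : ℕ) (Q : Sylow p G), Nat.card G - Nat.card ((P : Subgroup G) ⊓ (Q : Subgroup G) : Subgroup G) = n → Arr P Q := by
  intro n
  induction n using Nat.strong_induction_on with
  | _ n ih =>
    intro Q hn
    have hle : ∀ A : Subgroup G, Nat.card A ≤ Nat.card G := fun A => Nat.le_of_dvd Nat.card_pos (Subgroup.card_subgroup_dvd_card A)
    have IH : ∀ R : Sylow p G, Nat.card ((P : Subgroup G) ⊓ (Q : Subgroup G) : Subgroup G) < Nat.card ((P : Subgroup G) ⊓ (R : Subgroup G) : Subgroup G) → Arr P R := by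
      intro R hR
      refine ih _ ?_ R rfl
      have h1 := hle ((P : Subgroup G) ⊓ (R : Subgroup G))
      omega
    clear ih
    by_cases hPQ : P = Q
    · rw [← hPQ]; exact arr_self P
    have hcPQ : Nat.card (P : Subgroup G) = Nat.card (Q : Subgroup G) := Nat.card_congr (Sylow.equiv P Q).toEquiv
    -- claim A
    have claimA : ∀ Q : Sylow p G, P ≠ Q →
        (∀ R : Sylow p G, Nat.card ((P : Subgroup G) ⊓ (Q : Subgroup G) : Subgroup G) < Nat.card ((P : Subgroup G) ⊓ (R : Subgroup G) : Subgroup G) → Arr P R) →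
        SylIn p ((P : Subgroup G) ⊓ Subgroup.normalizer (((P : Subgroup G) ⊓ (Q : Subgroup G) : Subgroup G) : Set G))
          (Subgroup.normalizer (((P : Subgroup G) ⊓ (Q : Subgroup G) : Subgroup G) : Set G)) → Arr P Q := by
      intro Q hPQ IH hsyl
      set D : Subgroup G := (P : Subgroup G) ⊓ (Q : Subgroup G) with hD
      have hcPQ : Nat.card (P : Subgroup G) = Nat.card (Q : Subgroup G) := Nat.card_congr (Sylow.equiv P Q).toEquiv
      have hDQ : D < (Q : Subgroup G) := by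
        refine lt_of_le_of_ne inf_le_right ?_
        intro h
        have h1 : (Q : Subgroup G) ≤ P := by rw [← h]; exact inf_le_left
        exact hPQ (Sylow.ext (Subgroup.eq_of_le_of_card_ge h1 hcPQ.le).symm)
      have hDQ' := lt_inf_normalizer Q.2 hDQ
      obtain ⟨T, hT, hQT⟩ := exists_sylIn_ge (p := p) (Q := (Q : Subgroup G) ⊓ Subgroup.normalizer (D : Set G)) (Q.2.to_le inf_le_left) inf_le_right
      obtain ⟨y, hy, hyT⟩ := hsyl.conj hT
      set S : Sylow p G := y • P with hSdef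
      have hScoe : (S : Subgroup G) = cj y (P : Subgroup G) := smul_sylow_coe y P
      have hTS : T ≤ (S : Subgroup G) := by rw [← hyT, hScoe]; exact cj_mono inf_le_left
      have hDS : D ≤ (S : Subgroup G) := by
        rw [hScoe, ← cj_of_mem_norm hy]; exact cj_mono inf_le_left
      have hQS : D < (Q : Subgroup G) ⊓ (S : Subgroup G) :=
        lt_of_lt_of_le hDQ' (le_inf inf_le_left (hQT.trans hTS))
      -- S arrows P
      have hS : Arr P S := by
        by_cases hc : Nat.card D < Nat.card ((P : Subgroup G) ⊓ (S : Subgroup G) : Subgroup G)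
        · exact IH S hc
        · have hDe : D = (P : Subgroup G) ⊓ (S : Subgroup G) :=
            Subgroup.eq_of_le_of_card_ge (le_inf inf_le_left hDS) (not_lt.1 hc)
          refine ⟨y, ?_, ?_⟩
          · rw [← hDe]
            refine Ch.single ⟨D, ⟨S, hDe, hsyl, ?_⟩, le_rfl, hy⟩
            refine sylIn_of_le_sylow (S.2.to_le inf_le_left) hT (le_inf hTS hT.1) inf_le_right
          · rw [hScoe]; simp
      obtain ⟨z, hz, hzS⟩ := hS
      refine arr_step hz hzS (le_inf inf_le_left hDS) (IH _ ?_)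
      rw [smul_sylow_coe]
      have h1 : (P : Subgroup G) ⊓ cj z⁻¹ (Q : Subgroup G) = cj z⁻¹ ((Q : Subgroup G) ⊓ (S : Subgroup G)) := by
        rw [cj_inf, hzS, inf_comm]
      rw [h1, card_cj]
      exact card_lt hQS
    -- general
    set D : Subgroup G := (P : Subgroup G) ⊓ (Q : Subgroup G) with hD
    have hDP : D < (P : Subgroup G) := by
      refine lt_of_le_of_ne inf_le_left ?_
      intro h
      have h1 : (P : Subgroup G) ≤ Q := by rw [← h]; exact inf_le_right
      exact hPQ (Sylow.ext (Subgroup.eq_of_le_of_card_ge h1 hcPQ.ge))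
    have hDP' := lt_inf_normalizer P.2 hDP
    obtain ⟨T, hT, hPT⟩ := exists_sylIn_ge (p := p) (Q := (P : Subgroup G) ⊓ Subgroup.normalizer (D : Set G)) (P.2.to_le inf_le_left) inf_le_right
    obtain ⟨S, hTS⟩ := hT.2.1.exists_le_sylow
    have hDT : D ≤ T := hDP'.le.trans hPT
    have hPS : D < (P : Subgroup G) ⊓ (S : Subgroup G) :=
      lt_of_lt_of_le hDP' (le_inf inf_le_left (hPT.trans hTS))
    obtain ⟨x, hx, hxS⟩ := IH S (card_lt hPS)
    refine arr_step hx hxS hPS.le ?_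
    set Q' : Sylow p G := x⁻¹ • Q with hQ'
    have hQ'c : (Q' : Subgroup G) = cj x⁻¹ (Q : Subgroup G) := smul_sylow_coe x⁻¹ Q
    have hDle : cj x⁻¹ D ≤ (P : Subgroup G) ⊓ (Q' : Subgroup G) := by
      rw [hQ'c]
      refine le_inf ?_ (cj_mono inf_le_right)
      rw [← hxS]; exact cj_mono (hPS.le.trans inf_le_right)
    by_cases hc : Nat.card D < Nat.card ((P : Subgroup G) ⊓ (Q' : Subgroup G) : Subgroup G)
    · exact IH Q' hc
    · have hDe : cj x⁻¹ D = (P : Subgroup G) ⊓ (Q' : Subgroup G) :=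
        Subgroup.eq_of_le_of_card_ge hDle (by rw [card_cj]; exact not_lt.1 hc)
      by_cases hPQ' : P = Q'
      · rw [← hPQ']; exact arr_self P
      refine claimA Q' hPQ' ?_ ?_
      · intro R hR
        refine IH R ?_
        rw [← hDe, card_cj] at hR
        exact hR
      · rw [← hDe, ← cj_normalizer]
        refine sylIn_of_le_sylow (P.2.to_le inf_le_left) (hT.cj x⁻¹) ?_ inf_le_right
        refine le_inf ?_ (cj_mono hT.1)
        rw [← hxS]; exact cj_mono hTS

/-- The Alperin fusion Theorem states that conjugation between subsets of a Sylow p-subgroup P factors through normalizers of tame intersections P ∩ Q_i with other Sylow p-subgroups, carrying the subset along step by step. -/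
theorem result {G : Type*} [Group G] [Finite G] {p : ℕ} [Fact p.Prime] (P : Sylow p G) (A : Set G) (g : G) (hA : A ⊆ (P : Set G)) (hAg : (fun a => g⁻¹ * a * g) '' A ⊆ (P : Set G)) : ∃ (n : ℕ) (Q : Fin n → Sylow p G) (x : Fin n → G), (List.ofFn x).prod = g ∧ (∀ i : Fin n, x i ∈ Subgroup.normalizer ((((P : Subgroup G) ⊓ (Q i : Subgroup G)) : Subgroup G) : Set G) ∧ ¬ p ∣ ((P : Subgroup G) ⊓ Subgroup.normalizer ((((P : Subgroup G) ⊓ (Q i : Subgroup G)) : Subgroup G) : Set G)).relIndex (Subgroup.normalizer ((((P : Subgroup G) ⊓ (Q i : Subgroup G)) : Subgroup G) : Set G)) ∧ ¬ p ∣ ((Q i : Subgroup G) ⊓ Subgroup.normalizer ((((P : Subgroup G) ⊓ (Q i : Subgroup G)) : Subgroup G) : Set G)).relIndex (Subgroup.normalizer ((((P : Subgroup G) ⊓ (Q i : Subgroup G)) : Subgroup G) : Set G))) ∧ (∀ h : 0 < n, A ⊆ (((P : Subgroup G) ⊓ (Q ⟨0, h⟩ : Subgroup G) : Subgroup G) : Set G)) ∧ ∀ i : Fin n, ∀ h : i.val + 1 < n, (fun a => (((List.ofFn x).take (i.val + 1)).prod)⁻¹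 * a * ((List.ofFn x).take (i.val + 1)).prod) '' A ⊆ (((P : Subgroup G) ⊓ (Q ⟨i.val + 1, h⟩ : Subgroup G) : Subgroup G) : Set G) := by
  have hPsyl : SylIn p ((P : Subgroup G) ⊓ Subgroup.normalizer (((P : Subgroup G)) : Set G)) (Subgroup.normalizer (((P : Subgroup G)) : Set G)) := by
    obtain ⟨T, hT, hPT⟩ := exists_sylIn_ge (p := p) (Q := (P : Subgroup G)) P.2 (Subgroup.le_normalizer (H := (P : Subgroup G)))
    have h1 : T = (P : Subgroup G) := P.3 hT.2.1 hPT
    rw [inf_eq_left.2 (Subgroup.le_normalizer (H := (P : Subgroup G)))]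
    rw [h1] at hT; exact hT
  have hch : Ch (FStep (Fam p P)) A g := by
    obtain ⟨x, hx, hxQ⟩ := arr_all P _ (g • P) rfl
    have hA' : A ⊆ (((P : Subgroup G) ⊓ ((g • P : Sylow p G) : Subgroup G) : Subgroup G) : Set G) := by
      intro a ha
      refine ⟨hA ha, ?_⟩
      show a ∈ ((g • P : Sylow p G) : Subgroup G)
      rw [smul_sylow_coe, mem_cj]
      exact hAg ⟨a, ha, rfl⟩
    have e : g = x * (x⁻¹ * g) := by group
    rw [e]
    refine Ch.trans (hx.mono FStep.mono hA') (Ch.single ⟨P, ⟨P, by rw [inf_idem], hPsyl, hPsyl⟩, ?_, ?_⟩)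
    · have h1 : rc x A ⊆ rc x (((g • P : Sylow p G) : Subgroup G) : Set G) := rc_mono fun a ha => (hA' ha).2
      rw [rc_subgroup, hxQ] at h1
      exact h1
    · rw [smul_sylow_coe, ← cj_mul] at hxQ
      exact mem_norm.2 hxQ
  obtain ⟨n, T, x, hprod, hT, hx, h0, hi⟩ := hch.toFin
  choose Q hQ hQ1 hQ2 using hT
  have hTQ : ∀ i, T i = (P : Subgroup G) ⊓ (Q i : Subgroup G) := hQ
  refine ⟨n, Q, x, hprod, ?_, ?_, ?_⟩
  · intro i
    rw [← hTQ i]
    exact ⟨hx i, (hQ1 i).2.2, (hQ2 i).2.2⟩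
  · intro h
    rw [← hTQ]; exact h0 h
  · intro i h
    rw [← hTQ]; exact hi i h

end Cfsg.Agent.S0116
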