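import Cfsg.Statements.S0214
import Mathlib
import Cfsg.Agent.H1.Invol
import Cfsg.Agent.H1.Hall

set_option autoImplicit false
open Cfsg

namespace Cfsg.Agent.S0214

open scoped commutatorElement Pointwise


/-- Let H be a proper subgroup of the finite group G and P a nontrivial Sylow 2-subgroup of H. Then H is strongly embedded in G if and only if N_G(X) ≤ H for every nontrivial subgroup X of P. -/
theorem result {G : Type*} [Group G] [Finite G] (H : Subgroup G) (hH : H ≠ ⊤) (P : Sylow 2 ↥H) (hP : (P : Subgroup ↥H) ≠ ⊥) : Cfsg.IsStronglyEmbedded H ↔ (∀ X : Subgroup ↥H, X ≤ (P : Subgroup ↥H) → X ≠ ⊥ → Subgroup.normalizer ((X.map H.subtype : Subgroup G) : Set G) ≤ H) := by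
  have hmem : ∀ (g t : G), t ∈ H.map (MulAut.conj g).toMonoidHom ↔ g⁻¹ * t * g ∈ H := by
    intro g t
    rw [← Cfsg.Agent.H1.conj_smul_eq_map, Cfsg.Agent.H1.mem_conj_smul]
  constructor
  · rintro ⟨-, -, h3⟩ X hXP hXb g hg
    by_contra hgH
    have hodd := h3 g hgH
    have hXp : IsPGroup 2 X := P.isPGroup'.to_le hXP
    have h2 : 2 ∣ Nat.card X := by
      obtain ⟨k, hk⟩ := IsPGroup.iff_card.mp hXp
      rcases k with _ | k
      · exact absurd (Subgroup.card_eq_one.mp (by rw [hk, pow_zero])) hXb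
      · rw [hk]; exact dvd_pow_self 2 (Nat.succ_ne_zero k)
    obtain ⟨x, hx⟩ := exists_prime_orderOf_dvd_card' 2 h2
    have hx2 : orderOf ((x : H) : G) = 2 := by rw [Subgroup.orderOf_coe, Subgroup.orderOf_coe]; exact hx
    have h4 : g⁻¹ * ((x : H) : G) * g ∈ X.map H.subtype := by
      have := (Subgroup.mem_normalizer_iff.mp (Subgroup.inv_mem _ hg) ((x : H) : G)).mp ⟨x, x.2, rfl⟩
      simpa using this
    have h5 : ((x : H) : G) ∈ H ⊓ H.map (MulAut.conj g).toMonoidHom :=
      ⟨(x : H).2, (hmem g _).mpr (Subgroup.map_subtype_le X h4)⟩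
    have := Subgroup.orderOf_dvd_natCard _ h5
    rw [hx2] at this
    exact (Nat.not_even_iff_odd.mpr hodd) (even_iff_two_dvd.mpr this)
  · intro hN
    have heven : Even (Nat.card H) := by
      obtain ⟨k, hk⟩ := IsPGroup.iff_card.mp P.isPGroup'
      rcases k with _ | k
      · exact absurd (Subgroup.card_eq_one.mp (by rw [hk, pow_zero])) hP
      · rw [even_iff_two_dvd]
        exact (hk ▸ dvd_pow_self 2 (Nat.succ_ne_zero k)).trans (Subgroup.card_subgroup_dvd_card _)
    -- Claim A
    have claimA : ∀ X0 : Subgroup G, X0 ≤ H → IsPGroup 2 X0 → X0 ≠ ⊥ → Subgroup.normalizer (X0 : Set G) ≤ H := by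
      intro X0 hX0 hX0p hX0b n hn
      have hp' : IsPGroup 2 (X0.subgroupOf H) := hX0p.comap_of_injective _ H.subtype_injective
      obtain ⟨Q, hQ⟩ := hp'.exists_le_sylow
      obtain ⟨h, rfl⟩ := MulAction.exists_smul_eq H P Q
      set X := MulAut.conj h⁻¹ • (X0.subgroupOf H) with hX
      have hXP : X ≤ P := by
        intro x hx
        rw [hX, Cfsg.Agent.H1.mem_conj_smul, inv_inv] at hx
        have h1 := hQ hx
        have h2 : h * x * h⁻¹ ∈ h • P := h1
        rw [Cfsg.Agent.H1.mem_smul_sylow] at h2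
        have h3 : h⁻¹ * (h * x * h⁻¹) * h = x := by group
        rw [h3] at h2; exact h2
      have hXb : X ≠ ⊥ := by
        intro h1
        apply hX0b
        have h2 : Nat.card X = 1 := by rw [h1]; exact Subgroup.card_bot
        rw [hX, Cfsg.Agent.L0.card_conj_smul, Cfsg.Agent.L0.card_subgroupOf_of_le hX0] at h2
        exact Subgroup.card_eq_one.mp h2
      have h4 := hN X hXP hXb
      have hXm : ∀ y : G, y ∈ X.map H.subtype ↔ (h : G) * y * (h : G)⁻¹ ∈ X0 := by
        intro y
        constructor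
        · rintro ⟨z, hz, rfl⟩
          rw [hX, SetLike.mem_coe, Cfsg.Agent.H1.mem_conj_smul, inv_inv] at hz
          exact hz
        · intro hy
          have hyH : y ∈ H := by
            have : y = (h : G)⁻¹ * (h * y * (h : G)⁻¹) * h := by group
            rw [this]; exact H.mul_mem (H.mul_mem (H.inv_mem h.2) (hX0 hy)) h.2
          refine ⟨⟨y, hyH⟩, ?_, rfl⟩
          rw [hX, SetLike.mem_coe, Cfsg.Agent.H1.mem_conj_smul, inv_inv]
          exact hy
      have h5 : (h : G)⁻¹ * n * h ∈ Subgroup.normalizer ((X.map H.subtype : Subgroup G) : Set G) := by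
        apply Cfsg.Agent.H1.mem_normalizer_of_conj_mem
        intro y hy
        rw [hXm] at hy ⊢
        have h6 : (h : G) * ((h : G)⁻¹ * n * h * y * ((h : G)⁻¹ * n * h)⁻¹) * (h : G)⁻¹ = n * (h * y * (h : G)⁻¹) * n⁻¹ := by group
        rw [h6]
        exact (Subgroup.mem_normalizer_iff.mp hn _).mp hy
      have h7 := h4 h5
      have h8 : n = h * ((h : G)⁻¹ * n * h) * (h : G)⁻¹ := by group
      rw [h8]; exact H.mul_mem (H.mul_mem h.2 h7) (H.inv_mem h.2)
    refine ⟨hH, heven, fun g hg => ?_⟩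
    rw [← Nat.not_even_iff_odd]
    intro he
    set K := H ⊓ H.map (MulAut.conj g).toMonoidHom with hK
    obtain ⟨T⟩ : Nonempty (Sylow 2 K) := inferInstance
    have hTb : (T : Subgroup K) ≠ ⊥ := T.ne_bot_of_dvd_card he.two_dvd
    set T0 := (T : Subgroup K).map K.subtype with hT0
    have hT0p : IsPGroup 2 T0 := T.isPGroup'.map _
    have hT0b : T0 ≠ ⊥ := by
      intro h; apply hTb
      rwa [hT0, Subgroup.map_eq_bot_iff_of_injective _ K.subtype_injective] at h
    have hT0K : T0 ≤ K := Subgroup.map_subtype_le _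
    have h1 := claimA T0 (hT0K.trans inf_le_left) hT0p hT0b
    -- conjugate
    set T1 := MulAut.conj g⁻¹ • T0 with hT1
    have hT1H : T1 ≤ H := by
      intro x hx
      rw [hT1, Cfsg.Agent.H1.mem_conj_smul, inv_inv] at hx
      have := (hmem g _).mp (hT0K hx).2
      have h2 : g⁻¹ * (g * x * g⁻¹) * g = x := by group
      rwa [h2] at this
    have hcard : Nat.card T1 = Nat.card T0 := Cfsg.Agent.L0.card_conj_smul _ _
    have hT1p : IsPGroup 2 T1 := by
      obtain ⟨k, hk⟩ := IsPGroup.iff_card.mp hT0p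
      exact IsPGroup.of_card (n := k) (by rw [hcard, hk])
    have hT1b : T1 ≠ ⊥ := by
      intro h
      rw [h, Subgroup.card_bot] at hcard
      exact hT0b (Subgroup.card_eq_one.mp hcard.symm)
    have h2 := claimA T1 hT1H hT1p hT1b
    have h3 : Subgroup.normalizer (T0 : Set G) ≤ K := by
      intro n hn
      refine ⟨h1 hn, (hmem g n).mpr ?_⟩
      apply h2
      apply Cfsg.Agent.H1.mem_normalizer_of_conj_mem
      intro y hy
      rw [hT1, Cfsg.Agent.H1.mem_conj_smul, inv_inv] at hy ⊢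
      have h6 : g * (g⁻¹ * n * g * y * (g⁻¹ * n * g)⁻¹) * g⁻¹ = n * (g * y * g⁻¹) * n⁻¹ := by group
      rw [h6]
      exact (Subgroup.mem_normalizer_iff.mp hn _).mp hy
    obtain ⟨S, hS⟩ := hT0p.exists_le_sylow
    have hTS : T0 = (S : Subgroup G) := by
      by_contra hne
      have h4 := Cfsg.Agent.H1.lt_normalizer_inf_of_lt S.isPGroup'.isNilpotent (lt_of_le_of_ne hS hne)
      set L := Subgroup.normalizer (T0 : Set G) ⊓ (S : Subgroup G) with hL
      have hLK : L ≤ K := inf_le_left.trans h3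
      have hLp : IsPGroup 2 (L.subgroupOf K) := (S.isPGroup'.to_le inf_le_right).comap_of_injective _ K.subtype_injective
      have h8 : (T : Subgroup K) ≤ L.subgroupOf K := by
        intro s hs
        exact h4.le ⟨s, hs, rfl⟩
      have h9 := T.is_maximal' hLp h8
      have h10 : L ≤ T0 := by
        intro k hk
        have : (⟨k, hLK hk⟩ : K) ∈ (T : Subgroup K) := by
          rw [← h9]; exact hk
        exact ⟨_, this, rfl⟩
      exact not_le_of_gt h4 h10
    -- T0, T1 Sylow in H
    have hT0H : T0 ≤ H := hT0K.trans inf_le_left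
    have hidx0 : ¬ 2 ∣ (T0.subgroupOf H).index := by
      intro h
      have h5 : T0.relIndex H ∣ T0.index := Subgroup.relIndex_dvd_index_of_le hT0H
      rw [hTS] at h5
      exact S.not_dvd_index (h.trans (by rw [← hTS]; rw [← hTS] at h5; exact h5))
    have hidx1 : ¬ 2 ∣ (T1.subgroupOf H).index := by
      have e0 := Subgroup.card_mul_index (T0.subgroupOf H)
      have e1 := Subgroup.card_mul_index (T1.subgroupOf H)
      rw [Cfsg.Agent.L0.card_subgroupOf_of_le hT0H] at e0
      rw [Cfsg.Agent.L0.card_subgroupOf_of_le hT1H, hcard, ← e0] at e1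
      rw [Nat.eq_of_mul_eq_mul_left Nat.card_pos e1]; exact hidx0
    let S0' : Sylow 2 H := (hT0p.comap_of_injective H.subtype H.subtype_injective).toSylow hidx0
    let S1' : Sylow 2 H := (hT1p.comap_of_injective H.subtype H.subtype_injective).toSylow hidx1
    obtain ⟨h, hh⟩ := MulAction.exists_smul_eq H S0' S1'
    have h5 : g * h ∈ Subgroup.normalizer (T0 : Set G) := by
      apply Cfsg.Agent.H1.mem_normalizer_of_conj_mem
      intro y hy
      have h6 : (⟨y, hT0H hy⟩ : H) ∈ S0' := hy
      have h7 : h * ⟨y, hT0H hy⟩ * h⁻¹ ∈ h • S0' := by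
        rw [Cfsg.Agent.H1.mem_smul_sylow]
        have : h⁻¹ * (h * ⟨y, hT0H hy⟩ * h⁻¹) * h = ⟨y, hT0H hy⟩ := by group
        rw [this]; exact h6
      rw [hh] at h7
      have h8 : (h : G) * y * (h : G)⁻¹ ∈ T1 := h7
      rw [hT1, Cfsg.Agent.H1.mem_conj_smul, inv_inv] at h8
      have h9 : g * h * y * (g * h)⁻¹ = g * (h * y * (h : G)⁻¹) * g⁻¹ := by group
      rw [h9]; exact h8
    have h6 := h1 h5
    apply hg
    have h7 : g = (g * h) * (h : G)⁻¹ := by group
    rw [h7]; exact H.mul_mem h6 (H.inv_mem h.2)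

end Cfsg.Agent.S0214
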