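import Cfsg.Statements.S0262
import Cfsg.Agent.H3.UniqP

set_option autoImplicit false
open Cfsg

namespace Cfsg.Agent.S0262

open Matrix in
theorem unip {F : Type*} [Field F] (p : ℕ) [Fact p.Prime] [CharP F p] (y : Matrix.SpecialLinearGroup (Fin 2) F)
    (h : ((y : Matrix (Fin 2) (Fin 2) F) - 1).det = 0) : y ^ p = 1 := by
  have hd : (y : Matrix (Fin 2) (Fin 2) F).det = 1 := y.2
  rw [Matrix.det_fin_two] at h hd
  simp only [Matrix.sub_apply, Matrix.one_apply_eq, Matrix.one_apply_ne (show (0 : Fin 2) ≠ 1 by decide),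
    Matrix.one_apply_ne (show (1 : Fin 2) ≠ 0 by decide), sub_zero] at h
  have ht : (y : Matrix (Fin 2) (Fin 2) F) 0 0 + (y : Matrix (Fin 2) (Fin 2) F) 1 1 = 2 := by
    linear_combination hd - h
  set N : Matrix (Fin 2) (Fin 2) F := (y : Matrix (Fin 2) (Fin 2) F) - 1 with hN
  have hNN : N * N = 0 := by
    ext i j
    fin_cases i <;> fin_cases j <;>
      simp [hN, Matrix.mul_apply, Fin.sum_univ_two, Matrix.one_apply_ne (show (0 : Fin 2) ≠ 1 by decide),
        Matrix.one_apply_ne (show (1 : Fin 2) ≠ 0 by decide)]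
    · linear_combination ((y : Matrix (Fin 2) (Fin 2) F) 0 0) * ht - hd
    · linear_combination ((y : Matrix (Fin 2) (Fin 2) F) 0 1) * ht
    · linear_combination ((y : Matrix (Fin 2) (Fin 2) F) 1 0) * ht
    · linear_combination ((y : Matrix (Fin 2) (Fin 2) F) 1 1) * ht - hd
  have h1 : ∀ k : ℕ, (1 + N) ^ k = 1 + (k : F) • N := by
    intro k
    induction k with
    | zero => simp
    | succ k ih =>
      rw [pow_succ, ih, mul_add, mul_one, add_mul, one_mul, smul_mul_assoc, hNN, smul_zero, add_zero]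
      push_cast
      rw [add_smul, one_smul, add_assoc]
  apply Subtype.ext
  rw [Matrix.SpecialLinearGroup.coe_pow]
  have h2 : (y : Matrix (Fin 2) (Fin 2) F) = 1 + N := by rw [hN]; abel
  rw [h2, h1, CharP.cast_eq_zero, zero_smul, add_zero]; rfl

open Matrix in
theorem mem_pow {F : Type*} [Field F] (p r : ℕ) [Fact p.Prime] [Fact r.Prime] [CharP F p] (hr : r ≠ 2) (hrp : r ≠ p)
    (z x : Matrix.SpecialLinearGroup (Fin 2) F) (hz : orderOf z = r) (hx : x ^ r = 1) (hc : z * x = x * z) :
    ∃ i : ℕ, x = z ^ i := by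
  have hrP : r.Prime := Fact.out
  have hpP : p.Prime := Fact.out
  have hodd : Odd r := hrP.odd_of_ne_two hr
  let K := AlgebraicClosure F
  let φ : F →+* K := algebraMap F K
  have hφ : Function.Injective φ := φ.injective
  let m : Matrix.SpecialLinearGroup (Fin 2) F → Matrix (Fin 2) (Fin 2) K := fun g => (g : Matrix (Fin 2) (Fin 2) F).map φ
  have mm : ∀ g h, m (g * h) = m g * m h := fun g h => by
    change (((g * h : Matrix.SpecialLinearGroup (Fin 2) F)) : Matrix (Fin 2) (Fin 2) F).map φ = _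
    rw [Matrix.SpecialLinearGroup.coe_mul, Matrix.map_mul]
  have m1 : m 1 = 1 := by
    change ((1 : Matrix.SpecialLinearGroup (Fin 2) F) : Matrix (Fin 2) (Fin 2) F).map φ = 1
    rw [Matrix.SpecialLinearGroup.coe_one, Matrix.map_one _ (map_zero φ) (map_one φ)]
  have minj : ∀ g, m g = 1 → g = 1 := by
    intro g hg
    apply Subtype.ext
    have h1 : (g : Matrix (Fin 2) (Fin 2) F).map φ = (1 : Matrix (Fin 2) (Fin 2) F).map φ := by
      rw [Matrix.map_one _ (map_zero φ) (map_one φ)]; exact hg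
    exact Matrix.map_injective hφ h1
  have mdet : ∀ g, (m g).det = 1 := by
    intro g
    have := RingHom.map_det φ (g : Matrix (Fin 2) (Fin 2) F)
    rw [g.2, map_one] at this
    exact this.symm
  -- unipotent elements
  have hun : ∀ (g : Matrix.SpecialLinearGroup (Fin 2) F) (v : Fin 2 → K), v ≠ 0 → m g *ᵥ v = v → g ^ r = 1 → g = 1 := by
    intro g v hv hgv hgr
    have h1 : (m g - 1).det = 0 := by
      rw [← Matrix.exists_mulVec_eq_zero_iff]
      exact ⟨v, hv, by rw [Matrix.sub_mulVec, hgv, Matrix.one_mulVec, sub_self]⟩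
    have h2 : ((g : Matrix (Fin 2) (Fin 2) F) - 1).det = 0 := by
      apply hφ
      rw [map_zero, RingHom.map_det, ← h1]
      congr 1
      change ((g : Matrix (Fin 2) (Fin 2) F) - 1).map φ = (g : Matrix (Fin 2) (Fin 2) F).map φ - 1
      rw [Matrix.map_sub _ (map_sub φ), Matrix.map_one _ (map_zero φ) (map_one φ)]
    have h3 := unip p g h2
    have h4 : orderOf g ∣ Nat.gcd r p := Nat.dvd_gcd (orderOf_dvd_of_pow_eq_one hgr) (orderOf_dvd_of_pow_eq_one h3)
    rw [(Nat.coprime_primes hrP hpP).2 hrp, Nat.dvd_one, orderOf_eq_one_iff] at h4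
    exact h4
  obtain ⟨μ, hμ⟩ := Module.End.exists_eigenvalue (Matrix.toLin' (m z))
  obtain ⟨v, hv⟩ := hμ.exists_hasEigenvector
  have hv0 : v ≠ 0 := hv.2
  have hzv : m z *ᵥ v = μ • v := by
    have := hv.apply_eq_smul
    rwa [Matrix.toLin'_apply] at this
  have hpw : ∀ (g : Matrix.SpecialLinearGroup (Fin 2) F) (c : K), m g *ᵥ v = c • v → ∀ k : ℕ, m (g ^ k) *ᵥ v = c ^ k • v := by
    intro g c hg k
    induction k with
    | zero => rw [pow_zero, m1, Matrix.one_mulVec, pow_zero, one_smul]
    | succ k ih => rw [pow_succ, mm, ← Matrix.mulVec_mulVec, hg, Matrix.mulVec_smul, ih, smul_smul, pow_succ, mul_comm]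
  have hone : ∀ c : K, c • v = v → c = 1 := by
    intro c hc
    have : (c - 1) • v = 0 := by rw [sub_smul, hc, one_smul, sub_self]
    rcases smul_eq_zero.1 this with h | h
    · exact sub_eq_zero.1 h
    · exact absurd h hv0
  have hz1 : z ≠ 1 := by
    rintro rfl
    rw [orderOf_one] at hz
    exact hrP.one_lt.ne hz
  have hμr : μ ^ r = 1 := by
    apply hone
    rw [← hpw z μ hzv r, ← hz, pow_orderOf_eq_one, m1, Matrix.one_mulVec]
  have hμ1 : μ ≠ 1 := by
    rintro rfl
    rw [one_smul] at hzv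
    exact hz1 (hun z v hv0 hzv (by rw [← hz]; exact pow_orderOf_eq_one z))
  -- `x` preserves the eigenspace
  set w := m x *ᵥ v with hw
  have hzw : m z *ᵥ w = μ • w := by
    rw [hw, Matrix.mulVec_mulVec, ← mm, hc, mm, ← Matrix.mulVec_mulVec, hzv, Matrix.mulVec_smul]
  have hD : v 0 * w 1 - v 1 * w 0 = 0 := by
    by_contra hD
    have hsc : m z = μ • (1 : Matrix (Fin 2) (Fin 2) K) := by
      have hv1 := congrFun hzv 0
      have hv2 := congrFun hzv 1
      have hw1 := congrFun hzw 0
      have hw2 := congrFun hzw 1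
      simp only [Matrix.mulVec, dotProduct, Fin.sum_univ_two, Pi.smul_apply, smul_eq_mul] at hv1 hv2 hw1 hw2
      ext i j
      fin_cases i <;> fin_cases j <;> simp [Matrix.one_apply_ne (show (0 : Fin 2) ≠ 1 by decide),
        Matrix.one_apply_ne (show (1 : Fin 2) ≠ 0 by decide)]
      · apply mul_right_cancel₀ hD
        linear_combination (w 1) * hv1 - (v 1) * hw1
      · apply (mul_eq_zero.1 _).resolve_right hD
        linear_combination (v 0) * hw1 - (w 0) * hv1
      · apply (mul_eq_zero.1 _).resolve_right hD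
        linear_combination (w 1) * hv2 - (v 1) * hw2
      · apply mul_right_cancel₀ hD
        linear_combination (v 0) * hw2 - (w 0) * hv2
    have h1 := mdet z
    rw [hsc, Matrix.det_smul, Matrix.det_one, mul_one, Fintype.card_fin] at h1
    apply hμ1
    obtain ⟨k, hk⟩ := hodd
    rw [hk, pow_succ, pow_mul, h1, one_pow, one_mul] at hμr
    exact hμr
  obtain ⟨ξ, hξ⟩ : ∃ ξ : K, w = ξ • v := by
    by_cases h0 : v 0 = 0
    · have h1 : v 1 ≠ 0 := by
        intro h1
        apply hv0
        ext i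
        fin_cases i
        · exact h0
        · exact h1
      rw [h0, zero_mul, zero_sub, neg_eq_zero] at hD
      have hw0 : w 0 = 0 := (mul_eq_zero.1 hD).resolve_left h1
      refine ⟨w 1 / v 1, ?_⟩
      ext i
      fin_cases i
      · change w 0 = w 1 / v 1 * v 0
        rw [h0, hw0, mul_zero]
      · change w 1 = w 1 / v 1 * v 1
        rw [div_mul_cancel₀ _ h1]
    · refine ⟨w 0 / v 0, ?_⟩
      ext i
      fin_cases i
      · change w 0 = w 0 / v 0 * v 0
        rw [div_mul_cancel₀ _ h0]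
      · change w 1 = w 0 / v 0 * v 1
        rw [div_mul_eq_mul_div, eq_div_iff h0]
        linear_combination hD
  have hξr : ξ ^ r = 1 := by
    apply hone
    rw [← hpw x ξ (by rw [← hξ]) r, hx, m1, Matrix.one_mulVec]
  have hprim : IsPrimitiveRoot μ r := by
    rw [IsPrimitiveRoot.iff_def]
    refine ⟨hμr, fun l hl => ?_⟩
    have h1 : orderOf μ ∣ r := orderOf_dvd_of_pow_eq_one hμr
    rcases (Nat.dvd_prime hrP).1 h1 with h | h
    · exact absurd (orderOf_eq_one_iff.1 h) hμ1
    · rw [← h]; exact orderOf_dvd_of_pow_eq_one hl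
  obtain ⟨i, -, hi⟩ := hprim.eq_pow_of_pow_eq_one hξr
  refine ⟨i, ?_⟩
  -- the quotient is unipotent
  obtain ⟨j, hj⟩ : ∃ j : ℕ, z ^ i * z ^ j = 1 := by
    refine ⟨i * (r - 1), ?_⟩
    rw [← pow_add]
    have : i + i * (r - 1) = r * i := by
      obtain ⟨s, hs⟩ : ∃ s, r = s + 1 := ⟨r - 1, by have := hrP.pos; omega⟩
      rw [hs]; simp; ring
    rw [this, pow_mul, ← hz, pow_orderOf_eq_one, one_pow]
  have hcomm : ∀ k, z ^ k * x = x * z ^ k := fun k => (Commute.pow_left (show Commute z x from hc) k).eq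
  have hy : x * z ^ j = 1 := by
    apply hun (x * z ^ j) v hv0
    · rw [mm, ← Matrix.mulVec_mulVec, hpw z μ hzv j, Matrix.mulVec_smul, ← hw, hξ, smul_smul, ← hi]
      have h1 := hpw z μ hzv (i + j)
      rw [pow_add, hj, m1, Matrix.one_mulVec, pow_add] at h1
      rw [mul_comm]
      exact h1.symm
    · have : Commute x (z ^ j) := (hcomm j).symm
      rw [this.mul_pow, hx, one_mul, ← pow_mul, mul_comm, pow_mul, ← hz, pow_orderOf_eq_one, one_pow]
  have h1 : z ^ j * z ^ i = 1 := by rw [← pow_add, add_comm, pow_add]; exact hj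
  calc x = x * (z ^ j * z ^ i) := by rw [h1, mul_one]
    _ = x * z ^ j * z ^ i := by rw [mul_assoc]
    _ = z ^ i := by rw [hy, one_mul]

/-- For an odd prime r different from the characteristic, the Sylow r-subgroups of SL_2(q) are cyclic. -/
theorem result {F : Type*} [Field F] [Fintype F] (p : ℕ) [Fact p.Prime] [CharP F p] (r : ℕ) [Fact r.Prime] (hr : r ≠ 2) (hrp : r ≠ p) (R : Sylow r (Matrix.SpecialLinearGroup (Fin 2) F)) : IsCyclic (R : Subgroup (Matrix.SpecialLinearGroup (Fin 2) F)) := by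
  classical
  suffices hU : ∀ x y : R, orderOf x = r → orderOf y = r → y ∈ Subgroup.zpowers x by
    rcases H3.cyclic_or_quaternion R.isPGroup' hU with h | ⟨h, -⟩
    · exact h
    · exact absurd h hr
  intro x y hx hy
  -- a central element of order `r`
  haveI : Nontrivial R := ⟨⟨x, 1, fun h => (Fact.out : r.Prime).one_lt.ne (by rw [← hx, h, orderOf_one])⟩⟩
  have hnt : Nontrivial (Subgroup.center R) := R.isPGroup'.center_nontrivial
  have hdvd : r ∣ Nat.card (Subgroup.center R) := by
    obtain ⟨k, hk⟩ := (R.isPGroup'.to_subgroup (Subgroup.center R)).exists_card_eq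
    rw [hk]
    apply dvd_pow_self
    rintro rfl
    rw [pow_zero] at hk
    have := Finite.one_lt_card (α := Subgroup.center R)
    omega
  obtain ⟨z, hz⟩ := exists_prime_orderOf_dvd_card' r hdvd
  have hzr : orderOf (z : R) = r := by rw [Subgroup.orderOf_coe, hz]
  have key : ∀ x : R, orderOf x = r → x ∈ Subgroup.zpowers (z : R) := by
    intro x hx
    obtain ⟨i, hi⟩ := mem_pow p r hr hrp ((z : R) : Matrix.SpecialLinearGroup (Fin 2) F) (x : Matrix.SpecialLinearGroup (Fin 2) F)
      (by rw [Subgroup.orderOf_coe, hzr])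
      (by
        have := pow_orderOf_eq_one x
        rw [hx] at this
        exact congrArg Subtype.val this)
      (by
        have := (Subgroup.mem_center_iff.1 z.2) x
        exact (congrArg Subtype.val this).symm)
    rw [Subgroup.mem_zpowers_iff]
    exact ⟨i, Subtype.ext (by rw [zpow_natCast]; exact hi.symm)⟩
  have h1 : Subgroup.zpowers x = Subgroup.zpowers (z : R) := by
    apply Subgroup.eq_of_le_of_card_ge
    · rw [Subgroup.zpowers_le]; exact key x hx
    · rw [Nat.card_zpowers, Nat.card_zpowers, hx, hzr]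
  rw [h1]
  exact key y hy

end Cfsg.Agent.S0262
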