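import Cfsg.Statements.S0529
import Mathlib
import Cfsg.Agent.H3.SSol3

set_option autoImplicit false
open Cfsg

namespace Cfsg.Agent.S0529

open Cfsg.Agent.H3 Cfsg.Agent.H1 Subgroup

theorem key (n : ℕ) : ∀ (G : Type*) [Group G] [Finite G], Nat.card G = n → IsSupersolvable G →
    ∃ (n : ℕ) (H : Fin (n + 1) → Subgroup G), H 0 = ⊥ ∧ H (Fin.last n) = ⊤ ∧ (∀ i, (H i).Normal) ∧ (∀ i : Fin n, H i.castSucc ≤ H i.succ ∧ ((H i.castSucc).relIndex (H i.succ)).Prime) ∧ ∀ i j : Fin n, i ≤ j → (H j.castSucc).relIndex (H j.succ) ≤ (H i.castSucc).relIndex (H i.succ) := by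
  induction n using Nat.strong_induction_on with
  | _ n ih =>
  intro G _ _ hn hG
  rcases subsingleton_or_nontrivial G with hs | hnt
  · refine ⟨0, fun _ => ⊥, rfl, Subsingleton.elim _ _, fun _ => inferInstance, fun i => i.elim0, fun i => i.elim0⟩
  obtain ⟨p, N, hpp, hNn, hNc, hmax⟩ := exists_normal_largest hG
  haveI := hNn
  have hcard := Subgroup.card_eq_card_quotient_mul_card_subgroup N
  rw [hNc] at hcard
  have hlt : Nat.card (G ⧸ N) < n := by
    rw [← hn, hcard]
    exact lt_mul_of_one_lt_right Nat.card_pos hpp.one_lt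
  have hq := (S0524.result hG ⊤ N).2
  obtain ⟨m, H', h0, hl, hnorm, hstep, hmono⟩ := ih _ hlt (G ⧸ N) rfl hq
  let f := QuotientGroup.mk' N
  have hf : Function.Surjective f := QuotientGroup.mk'_surjective N
  have hrel : ∀ A B : Subgroup (G ⧸ N), (A.comap f).relIndex (B.comap f) = A.relIndex B := by
    intro A B
    rw [Subgroup.relIndex_comap, Subgroup.map_comap_eq_self_of_surjective hf]
  refine ⟨m + 1, Fin.cons ⊥ (fun i => (H' i).comap f), rfl, ?_, ?_, ?_, ?_⟩
  · have : Fin.last (m + 1) = (Fin.last m).succ := rfl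
    rw [this, Fin.cons_succ, hl, Subgroup.comap_top]
  · intro i
    refine Fin.cases ?_ ?_ i
    · rw [Fin.cons_zero]; infer_instance
    · intro i; rw [Fin.cons_succ]; exact (hnorm i).comap f
  · intro i
    refine Fin.cases ?_ ?_ i
    · refine ⟨bot_le, ?_⟩
      have h1 : (Fin.cons ⊥ (fun i => (H' i).comap f) : Fin (m + 2) → Subgroup G) (Fin.castSucc (0 : Fin (m + 1))) = ⊥ := rfl
      rw [h1, Fin.cons_succ, h0, Subgroup.relIndex_bot_left]
      have h2 : (⊥ : Subgroup (G ⧸ N)).comap f = N := by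
        rw [MonoidHom.comap_bot, QuotientGroup.ker_mk']
      rw [h2, hNc]; exact hpp
    · intro i
      have h1 : (Fin.cons ⊥ (fun i => (H' i).comap f) : Fin (m + 2) → Subgroup G) (Fin.castSucc (Fin.succ i)) = (H' i.castSucc).comap f := rfl
      rw [h1, Fin.cons_succ]
      exact ⟨Subgroup.comap_mono (hstep i).1, by rw [hrel]; exact (hstep i).2⟩
  · intro i j
    refine Fin.cases ?_ ?_ i
    · intro _
      have h1 : (Fin.cons ⊥ (fun i => (H' i).comap f) : Fin (m + 2) → Subgroup G) (Fin.castSucc (0 : Fin (m + 1))) = ⊥ := rfl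
      have h2 : (⊥ : Subgroup (G ⧸ N)).comap f = N := by
        rw [MonoidHom.comap_bot, QuotientGroup.ker_mk']
      have h3 : (Fin.cons ⊥ (fun i => (H' i).comap f) : Fin (m + 2) → Subgroup G) (Fin.succ (0 : Fin (m + 1))) = N := by
        rw [Fin.cons_succ, h0, h2]
      rw [h1, h3, Subgroup.relIndex_bot_left, hNc]
      refine Fin.cases ?_ ?_ j
      · rw [h1, h3, Subgroup.relIndex_bot_left, hNc]
      · intro j
        have h4 : (Fin.cons ⊥ (fun i => (H' i).comap f) : Fin (m + 2) → Subgroup G) (Fin.castSucc (Fin.succ j)) = (H' j.castSucc).comap f := rfl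
        rw [h4, Fin.cons_succ, hrel]
        refine hmax _ (hstep j).2 ?_
        refine (Subgroup.relIndex_dvd_card _ _).trans ?_
        refine (Subgroup.card_subgroup_dvd_card _).trans ?_
        exact Subgroup.card_quotient_dvd_card N
    · intro i
      refine Fin.cases ?_ ?_ j
      · intro h
        exact absurd h (by simp)
      · intro j h
        have h4 : ∀ j : Fin m, (Fin.cons ⊥ (fun i => (H' i).comap f) : Fin (m + 2) → Subgroup G) (Fin.castSucc (Fin.succ j)) = (H' j.castSucc).comap f := fun _ => rfl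
        rw [h4, h4, Fin.cons_succ, Fin.cons_succ, hrel, hrel]
        exact hmono i j (Fin.succ_le_succ_iff.mp h)

/-- A finite supersolvable group has a chain of normal subgroups, from the trivial subgroup to the whole group, in which every step has prime index and the primes occurring are non-increasing as one goes up the chain. -/
theorem result {G : Type*} [Group G] [Finite G] (hG : Cfsg.IsSupersolvable G) : ∃ (n : ℕ) (H : Fin (n + 1) → Subgroup G), H 0 = ⊥ ∧ H (Fin.last n) = ⊤ ∧ (∀ i, (H i).Normal) ∧ (∀ i : Fin n, H i.castSucc ≤ H i.succ ∧ ((H i.castSucc).relIndex (H i.succ)).Prime) ∧ ∀ i j : Fin n, i ≤ j → (H j.castSucc).relIndex (H j.succ) ≤ (H i.castSucc).relIndex (H i.succ) := by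
  exact key _ G rfl hG

end Cfsg.Agent.S0529
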