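import Cfsg.Statements.S0530
import Mathlib
import Cfsg.Agent.H3.SSol3

set_option autoImplicit false
open Cfsg

namespace Cfsg.Agent.S0530

open Cfsg.Agent.H3 Cfsg.Agent.H1 Subgroup

/-- A finite group whose order is twice a prime power is supersolvable. -/
theorem result {G : Type*} [Group G] [Finite G] (p n : ℕ) (hp : p.Prime) (hG : Nat.card G = 2 * p ^ n) : Cfsg.IsSupersolvable G := by
  haveI hpf : Fact p.Prime := ⟨hp⟩
  rcases eq_or_ne p 2 with rfl | hp2
  · exact ss_of_pgroup (p := 2) (IsPGroup.of_card (n := n + 1) (by rw [hG, pow_succ, mul_comm]))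
  · have hodd : p % 2 = 1 := Nat.odd_iff.mp (hp.odd_of_ne_two hp2)
    obtain ⟨P⟩ : Nonempty (Sylow p G) := inferInstance
    have hPc : Nat.card (P : Subgroup G) = p ^ n := by
      rw [P.card_eq_multiplicity, hG]
      congr 1
      rw [Nat.factorization_mul (by norm_num) (pow_ne_zero n hp.ne_zero), Finsupp.add_apply, hp.factorization_pow]
      simp [Nat.factorization_eq_zero_of_not_dvd (show ¬ p ∣ 2 from fun h => hp2 ((Nat.prime_dvd_prime_iff_eq hp Nat.prime_two).mp h))]
    have hPi : (P : Subgroup G).index = 2 := by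
      have h1 := Subgroup.card_mul_index (P : Subgroup G)
      rw [hPc, hG, mul_comm] at h1
      exact Nat.eq_of_mul_eq_mul_right (pow_pos hp.pos n) h1
    haveI hPn : (P : Subgroup G).Normal := Subgroup.normal_of_index_eq_two hPi
    have hquo : Nat.card (G ⧸ (P : Subgroup G)) = 2 := by rw [← Subgroup.index_eq_card]; exact hPi
    haveI hcyc : IsCyclic (G ⧸ (P : Subgroup G)) := isCyclic_of_prime_card (p := 2) hquo
    have hC0 : C0 p G ≤ (P : Subgroup G) := by
      refine sup_le ?_ ?_
      · rw [commutator_def, Subgroup.commutator_le]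
        intro a _ b _
        rw [← QuotientGroup.eq_one_iff]
        letI := hcyc.commGroup
        have h1 : QuotientGroup.mk' (P : Subgroup G) (a * b * a⁻¹ * b⁻¹) = 1 := by
          rw [map_mul, map_mul, map_mul, map_inv, map_inv]
          have h2 : QuotientGroup.mk' (P : Subgroup G) a * QuotientGroup.mk' (P : Subgroup G) b = QuotientGroup.mk' (P : Subgroup G) b * QuotientGroup.mk' (P : Subgroup G) a := mul_comm _ _
          rw [h2]; group
        exact h1
      · rw [closure_le]
        rintro _ ⟨x, rfl⟩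
        obtain ⟨k, hk⟩ : 2 ∣ p - 1 := by omega
        rw [hk, pow_mul]
        have h1 := Subgroup.pow_index_mem (P : Subgroup G) x
        rw [hPi] at h1
        exact Subgroup.pow_mem _ h1 k
    refine ss_of_schain (P := (P : Subgroup G)) (SChain.of_star (p := p) _ G rfl _ hPn P.2 ?_) ?_
    · intro x hx hxo
      have h1 : x = 1 := by
        obtain ⟨k, hk⟩ := P.2 ⟨x, hC0 hx⟩
        have hk' : x ^ p ^ k = 1 := congrArg Subtype.val hk
        rw [← orderOf_eq_one_iff]
        exact Nat.eq_one_of_dvd_coprimes (hxo.pow_right k) dvd_rfl (orderOf_dvd_of_pow_eq_one hk')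
      rw [h1]; exact Subgroup.one_mem _
    · exact ss_of_pgroup (p := 2) (IsPGroup.of_card (n := 1) (by rw [hquo, pow_one]))

end Cfsg.Agent.S0530
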