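import Cfsg.Statements.S0537
import Mathlib
import Cfsg.Agent.H3.Schmidt
import Cfsg.Agent.H3.Kegel

set_option autoImplicit false
open Cfsg

namespace Cfsg.Agent.S0537

open scoped commutatorElement
open Subgroup in
theorem main {G : Type*} [Group G] [Finite G] (hna : ¬ ∀ a b : G, a * b = b * a) (h : ∀ H : Subgroup G, H ≠ ⊤ → ∀ a ∈ H, ∀ b ∈ H, a * b = b * a) :
    (∃ p : ℕ, p.Prime ∧ IsPGroup p G) ∨ ∃ p q : ℕ, p.Prime ∧ q.Prime ∧ p ≠ q ∧ ∃ (P : Sylow p G) (Q : Sylow q G), IsCyclic P ∧ (Q : Subgroup G).Normal ∧ 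
    ((∀ a ∈ (Q : Subgroup G), ∀ b ∈ (Q : Subgroup G), a * b = b * a) ∧ ∀ a ∈ (Q : Subgroup G), a ^ q = 1) ∧ (P : Subgroup G) ⊔ Q = ⊤ := by
  by_cases hn : Group.IsNilpotent G
  · left
    by_contra hne
    apply hna
    apply H3.comm_of_nilpotent hn
    intro r hr R a ha b hb
    refine h R ?_ a ha b hb
    intro htop
    apply hne
    refine ⟨r, hr.out, ?_⟩
    have := R.2
    rw [htop] at this
    exact this.of_surjective (Subgroup.subtype ⊤) (fun x => ⟨⟨x, mem_top x⟩, rfl⟩)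
  · right
    have hG : Cfsg.IsMinimalNonNilpotent G := by
      refine ⟨hn, fun H hH => ?_⟩
      letI : CommGroup H := H3.commGroupOf H (h H hH)
      exact CommGroup.isNilpotent
    obtain ⟨p, q, hp, hq, hpq, P, Q, hPc, hQn, hPQ, hnc, hcard⟩ := H3.schmidt_sylow hG
    refine ⟨p, q, hp.out, hq.out, hpq, P, Q, hPc, hQn, ?_, hPQ⟩
    have hcomm := H3.schmidt_comm hpq hG P Q hQn hnc hcard
    have hQtop : (Q : Subgroup G) ≠ ⊤ := by
      intro ht
      apply hn
      have := Q.2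
      rw [ht] at this
      have h2 : IsPGroup q G := this.of_surjective (Subgroup.subtype ⊤) (fun x => ⟨⟨x, mem_top x⟩, rfl⟩)
      exact h2.isNilpotent
    have hab := h Q hQtop
    refine ⟨hab, ?_⟩
    -- the subgroup of q-th powers
    let F : Subgroup G := 
      { carrier := {x | ∃ y ∈ (Q : Subgroup G), y ^ q = x}
        one_mem' := ⟨1, one_mem _, one_pow _⟩
        mul_mem' := by
          rintro _ _ ⟨y, hy, rfl⟩ ⟨z, hz, rfl⟩
          exact ⟨y * z, mul_mem hy hz, (Commute.mul_pow (hab y hy z hz) q)⟩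
        inv_mem' := by
          rintro _ ⟨y, hy, rfl⟩
          exact ⟨y⁻¹, inv_mem hy, inv_pow _ _⟩ }
    have hFQ : F ≤ Q := by
      rintro _ ⟨y, hy, rfl⟩
      exact pow_mem hy q
    have hFne : F ≠ Q := by
      intro hFQe
      have hbot : (Q : Subgroup G) = ⊥ := by
        obtain ⟨n, hn⟩ := IsPGroup.iff_card.mp Q.2
        have key : ∀ k : ℕ, ∀ x ∈ (Q : Subgroup G), ∃ y ∈ (Q : Subgroup G), y ^ q ^ k = x := by
          intro k
          induction k with
          | zero => intro x hx; exact ⟨x, hx, by simp⟩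
          | succ k ih =>
            intro x hx
            obtain ⟨y, hy, rfl⟩ := ih x hx
            rw [← hFQe] at hy
            obtain ⟨z, hz, rfl⟩ := hy
            exact ⟨z, hz, by rw [pow_succ', pow_mul]⟩
        rw [eq_bot_iff]
        intro x hx
        obtain ⟨y, hy, rfl⟩ := key n x hx
        rw [← hn, Subgroup.mem_bot]
        exact congrArg Subtype.val (pow_card_eq_one' (x := (⟨y, hy⟩ : (Q : Subgroup G))))
      apply hnc
      rw [hbot]
      intro g _
      rw [Subgroup.mem_centralizer_iff]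
      rintro h hh
      rw [SetLike.mem_coe, Subgroup.mem_bot] at hh
      rw [hh]; group
    have hPF : (P : Subgroup G) ≤ normalizer (F : Set G) := by
      intro g _
      apply Subgroup.mem_normalizer_fintype
      rintro _ ⟨y, hy, rfl⟩
      exact ⟨g * y * g⁻¹, hQn.conj_mem y hy g, by rw [conj_pow]⟩
    have h1 := H3.schmidt_sup_ne_top hpq P Q hcard hFQ hFne hPF
    have hcent : ∀ x ∈ (Q : Subgroup G), ∀ g ∈ (P : Subgroup G), (x ^ q) * g = g * x ^ q := by
      intro x hx g hg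
      exact h _ h1 _ (Subgroup.mem_sup_left ⟨x, hx, rfl⟩) _ (Subgroup.mem_sup_right hg)
    intro a ha
    rw [← hcomm] at ha
    have hcl : ⁅(Q : Subgroup G), (P : Subgroup G)⁆ ≤ Q := by rw [hcomm]
    refine Subgroup.closure_induction (p := fun x _ => x ^ q = 1) ?_ (one_pow q) ?_ ?_ ha
    · rintro _ ⟨x, hx, g, hg, rfl⟩
      have hgx : g * x⁻¹ * g⁻¹ ∈ (Q : Subgroup G) := hQn.conj_mem _ (inv_mem hx) g
      have e : ⁅x, g⁆ = x * (g * x⁻¹ * g⁻¹) := by rw [commutatorElement_def]; group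
      rw [e, Commute.mul_pow (hab x hx _ hgx), conj_pow, inv_pow]
      have := hcent x⁻¹ (inv_mem hx) g hg
      rw [inv_pow] at this
      rw [← this]; group
    · intro x y hx hy hxq hyq
      rw [Commute.mul_pow (hab x (hcl hx) y (hcl hy)), hxq, hyq, one_mul]
    · intro x hx hxq
      rw [inv_pow, hxq, inv_one]

/-- A finite non-abelian group in which every proper subgroup is abelian is either of prime-power order, or is generated by a cyclic Sylow p-subgroup and a normal Sylow q-subgroup that is elementary abelian, for distinct primes p and q. -/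
theorem result {G : Type*} [Group G] [Finite G] (hna : ¬ IsMulCommutative G) (h : ∀ H : Subgroup G, H ≠ ⊤ → IsMulCommutative H) : (∃ p : ℕ, p.Prime ∧ IsPGroup p G) ∨ ∃ p q : ℕ, p.Prime ∧ q.Prime ∧ p ≠ q ∧ ∃ (P : Sylow p G) (Q : Sylow q G), IsCyclic P ∧ (Q : Subgroup G).Normal ∧ Cfsg.IsElementaryAbelian q (Q : Subgroup G) ∧ (P : Subgroup G) ⊔ Q = ⊤ := by
  have hna' : ¬ ∀ a b : G, a * b = b * a := fun h => hna ⟨⟨h⟩⟩
  have h' : ∀ H : Subgroup G, H ≠ ⊤ → ∀ a ∈ H, ∀ b ∈ H, a * b = b * a := by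
    intro H hH a ha b hb
    exact congrArg Subtype.val ((h H hH).is_comm.comm ⟨a, ha⟩ ⟨b, hb⟩)
  rcases main hna' h' with h1 | ⟨p, q, hp, hq, hpq, P, Q, hc, hn, ⟨h2, h3⟩, h4⟩
  · exact Or.inl h1
  · refine Or.inr ⟨p, q, hp, hq, hpq, P, Q, hc, hn, ?_, h4⟩
    exact ⟨⟨⟨fun a b => Subtype.ext (h2 a a.2 b b.2)⟩⟩, h3⟩

end Cfsg.Agent.S0537
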