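import Cfsg.Statements.S0556
import Mathlib
import Cfsg.Agent.H3.FrobStr
import Cfsg.Agent.L0.Coprime

set_option autoImplicit false
open Cfsg

namespace Cfsg.Agent.S0556

open Subgroup Pointwise

theorem comm_le_of_cyclic {G : Type*} [Group G] (A : Subgroup G) [hA : A.Normal] (x : G) (h : zpowers x ⊔ A = ⊤) (a b : G) : a * b * a⁻¹ * b⁻¹ ∈ A := by
  have hgen : ∀ g : G, ∃ k : ℤ, (g : G ⧸ A) = ((x : G) : G ⧸ A) ^ k := by
    intro g
    have hg : g ∈ zpowers x ⊔ A := by rw [h]; trivial
    rw [Subgroup.mem_sup_of_normal_right] at hg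
    obtain ⟨_, ⟨k, rfl⟩, c, hc, rfl⟩ := hg
    refine ⟨k, ?_⟩
    have hc' : ((c : G) : G ⧸ A) = 1 := (QuotientGroup.eq_one_iff c).mpr hc
    rw [QuotientGroup.mk_mul, hc', mul_one, QuotientGroup.mk_zpow]
  rw [← QuotientGroup.eq_one_iff]
  obtain ⟨k, hk⟩ := hgen a
  obtain ⟨l, hl⟩ := hgen b
  simp only [QuotientGroup.mk_mul, QuotientGroup.mk_inv, hk, hl]
  rw [← zpow_add, add_comm, zpow_add]; group

theorem d3 {G : Type*} [Group G] (h : (derivedSeries G 2) ≤ center G) : derivedSeries G 3 = ⊥ := by
  rw [derivedSeries_succ, Subgroup.commutator_eq_bot_iff_le_centralizer]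
  refine h.trans ?_
  exact Subgroup.center_le_centralizer _

/-- If a finite group has a maximal subgroup that is abelian, then the third term of its derived series is trivial (so the group is solvable of derived length at most three). -/
theorem result {G : Type*} [Group G] [Finite G] (A : Subgroup G) (hA : IsCoatom A) [IsMulCommutative A] : derivedSeries G 3 = ⊥ := by
  have hab : ∀ a ∈ A, ∀ b ∈ A, a * b = b * a := fun a ha b hb => congrArg Subtype.val ((inferInstance : IsMulCommutative A).is_comm.comm ⟨a, ha⟩ ⟨b, hb⟩)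
  have hcent : ∀ x ∈ A, A ≤ Subgroup.centralizer ({x} : Set G) := by
    intro x hx a ha
    rw [Subgroup.mem_centralizer_singleton_iff]
    exact hab a ha x hx
  by_cases hAn : A.Normal
  · obtain ⟨x, -, hx⟩ := SetLike.exists_of_lt (lt_top_iff_ne_top.mpr hA.1)
    have htop : Subgroup.zpowers x ⊔ A = ⊤ := by
      apply hA.2
      rw [right_lt_sup]
      intro h
      exact hx (h (Subgroup.mem_zpowers x))
    have h1 : derivedSeries G 1 ≤ A := by
      rw [derivedSeries_one, _root_.commutator_def, Subgroup.commutator_le]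
      intro a _ b _
      exact comm_le_of_cyclic A x htop a b
    apply d3
    have h2 : derivedSeries G 2 = ⊥ := by
      rw [derivedSeries_succ, Subgroup.commutator_eq_bot_iff_le_centralizer]
      intro a ha
      rw [Subgroup.mem_centralizer_iff]
      intro b hb
      exact hab b (h1 hb) a (h1 ha)
    rw [h2]; exact bot_le
  · have hNA : Subgroup.normalizer (A : Set G) = A := by
      by_contra hne
      apply hAn
      rw [← Subgroup.normalizer_eq_top_iff]
      exact hA.2 _ (lt_of_le_of_ne Subgroup.le_normalizer (Ne.symm hne))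
    have hZA : Subgroup.center G ≤ A := by
      rw [← hNA]; exact Subgroup.center_le_normalizer (s := (A : Set G))
    set Z := Subgroup.center G with hZ
    have hTI : ∀ g : G, g ∉ A → ∀ x ∈ A, g⁻¹ * x * g ∈ A → x ∈ Z := by
      intro g hg x hx hxg
      have h1 : MulAut.conj g • A ≤ Subgroup.centralizer ({x} : Set G) := by
        intro y hy
        rw [L0.mem_conj_smul] at hy
        rw [Subgroup.mem_centralizer_singleton_iff]
        have h2 := hab _ hy _ hxg
        have e : y * x = g * (g⁻¹ * y * g * (g⁻¹ * x * g)) * g⁻¹ := by group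
        rw [e, h2]; group
      have h3 : Subgroup.centralizer ({x} : Set G) = ⊤ := by
        apply hA.2
        apply lt_of_le_of_ne (hcent x hx)
        intro he
        rw [← he] at h1
        apply hg
        rw [← hNA, L0.mem_normalizer_conj]
        exact Subgroup.eq_of_le_of_card_ge h1 (by rw [L0.card_conj_smul])
      rw [hZ, Subgroup.mem_center_iff]
      intro y
      have : y ∈ Subgroup.centralizer ({x} : Set G) := by rw [h3]; trivial
      exact Subgroup.mem_centralizer_singleton_iff.mp this
    set f := QuotientGroup.mk' Z with hf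
    have hfs : Function.Surjective f := QuotientGroup.mk'_surjective Z
    set A' := A.map f with hA'
    have hmem : ∀ x : G, f x ∈ A' ↔ x ∈ A := by
      intro x
      constructor
      · rintro ⟨y, hy, hyx⟩
        rw [hf, QuotientGroup.mk'_apply, QuotientGroup.mk'_apply, QuotientGroup.eq] at hyx
        have := A.mul_mem hy (hZA hyx)
        rwa [mul_inv_cancel_left] at this
      · exact fun h => ⟨x, h, rfl⟩
    have hcoat : IsCoatom A' := by
      refine ⟨?_, ?_⟩
      · intro h
        apply hA.1
        rw [eq_top_iff]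
        intro x _
        rw [← hmem, h]; trivial
      · intro K hK
        have h1 : K.comap f = ⊤ := by
          apply hA.2
          apply lt_of_le_of_ne
          · intro x hx
            exact hK.le ((hmem x).mpr hx)
          · intro he
            apply hK.ne
            rw [hA', he, Subgroup.map_comap_eq_self_of_surjective hfs]
        rw [← Subgroup.map_comap_eq_self_of_surjective hfs K, h1, ← MonoidHom.range_eq_map, MonoidHom.range_eq_top.mpr hfs]
    have hFC : Cfsg.IsFrobeniusComplement A' := by
      rw [Cfsg.Agent.H3.isFrobeniusComplement_iff]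
      refine ⟨?_, hcoat.1, ?_⟩
      · intro h
        apply hAn
        have : A = Z := by
          apply le_antisymm _ hZA
          intro x hx
          have h1 : f x ∈ A' := (hmem x).mpr hx
          rw [h, Subgroup.mem_bot, hf, QuotientGroup.mk'_apply, QuotientGroup.eq_one_iff] at h1
          exact h1
        rw [this]; infer_instance
      · intro x hx t ht hxt
        obtain ⟨x, rfl⟩ := hfs x
        obtain ⟨t, rfl⟩ := hfs t
        rw [hmem] at hx ht
        rw [← map_inv, ← map_mul, ← map_mul, hmem] at hxt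
        have := hTI x hx t ht hxt
        rw [hf, QuotientGroup.mk'_apply, QuotientGroup.eq_one_iff]
        exact this
    obtain ⟨N, hN1, hN2, hN3, hN4⟩ := H3.frobenius_kernel_nilpotent A' hFC
    have hsup : N ⊔ A' = ⊤ := hN3.sup_eq_top
    have hinf : N ⊓ A' = ⊥ := disjoint_iff.mp hN3.disjoint
    have hab' : ∀ a ∈ A', ∀ b ∈ A', a * b = b * a := by
      rintro _ ⟨a, ha, rfl⟩ _ ⟨b, hb, rfl⟩
      rw [← map_mul, hab a ha b hb, map_mul]
    have hD1 : derivedSeries (G ⧸ Z) 1 ≤ N := by
      rw [derivedSeries_one, _root_.commutator_def, Subgroup.commutator_le]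
      intro x _ y _
      have hx : x ∈ N ⊔ A' := by rw [hsup]; trivial
      have hy : y ∈ N ⊔ A' := by rw [hsup]; trivial
      rw [Subgroup.mem_sup_of_normal_left] at hx hy
      obtain ⟨n, hn, a, ha, rfl⟩ := hx
      obtain ⟨m, hm, b, hb, rfl⟩ := hy
      rw [← QuotientGroup.eq_one_iff]
      have hn' : (n : (G ⧸ Z) ⧸ N) = 1 := (QuotientGroup.eq_one_iff n).mpr hn
      have hm' : (m : (G ⧸ Z) ⧸ N) = 1 := (QuotientGroup.eq_one_iff m).mpr hm
      have hab2 : ((a : G ⧸ Z) : (G ⧸ Z) ⧸ N) * (b : G ⧸ Z) = b * a := by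
        rw [← QuotientGroup.mk_mul, ← QuotientGroup.mk_mul, hab' a ha b hb]
      rw [commutatorElement_def]
      simp only [QuotientGroup.mk_mul, QuotientGroup.mk_inv, hn', hm', one_mul]
      rw [hab2]; group
    have hNab : ⁅N, N⁆ = ⊥ := by
      by_contra hne
      have h1 : ⁅N, N⁆ ≤ N := Subgroup.commutator_le_self N
      have h2 : ⁅N, N⁆ ⊓ A' = ⊥ := by rw [eq_bot_iff, ← hinf]; exact inf_le_inf_right _ h1
      have h3 : ⁅N, N⁆ ⊔ A' = ⊤ := by
        apply hcoat.2
        rw [right_lt_sup]
        intro hle
        apply hne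
        rw [eq_bot_iff, ← h2]
        exact le_inf le_rfl hle
      have h4 : N ≤ ⁅N, N⁆ := by
        intro n hn
        have hn' : n ∈ ⁅N, N⁆ ⊔ A' := by rw [h3]; trivial
        rw [Subgroup.mem_sup_of_normal_left] at hn'
        obtain ⟨c, hc, a, ha, rfl⟩ := hn'
        have ha' : a ∈ N ⊓ A' := by
          refine ⟨?_, ha⟩
          have := N.mul_mem (N.inv_mem (h1 hc)) hn
          rwa [inv_mul_cancel_left] at this
        rw [hinf, Subgroup.mem_bot] at ha'
        rw [ha', mul_one]; exact hc
      have h5 : ⁅N, N⁆ = N := le_antisymm h1 h4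
      haveI := hN4
      have h6 : Nontrivial N := by
        rw [Subgroup.nontrivial_iff_ne_bot]
        intro hb
        apply hne
        rw [h5, hb]
      have h7 := (Group.IsSolvable.commutator_lt_top_of_nontrivial N).ne
      apply h7
      rw [eq_top_iff]
      intro x _
      have h8 : (x : G ⧸ Z) ∈ ⁅N, N⁆ := h4 x.2
      rw [← Subgroup.map_subtype_commutator] at h8
      obtain ⟨y, hy, hyx⟩ := h8
      have : y = x := Subtype.ext hyx
      rw [← this]; exact hy
    apply d3
    have hD2 : derivedSeries (G ⧸ Z) 2 = ⊥ := by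
      rw [derivedSeries_succ, eq_bot_iff, ← hNab]
      exact Subgroup.commutator_mono hD1 hD1
    have h9 : (derivedSeries G 2).map f ≤ derivedSeries (G ⧸ Z) 2 := map_derivedSeries_le_derivedSeries f 2
    rw [hD2] at h9
    intro x hx
    have := h9 ⟨x, hx, rfl⟩
    rw [Subgroup.mem_bot, hf, QuotientGroup.mk'_apply, QuotientGroup.eq_one_iff] at this
    exact this

end Cfsg.Agent.S0556
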