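import Cfsg.Statements.S0568
import Mathlib
import Cfsg.Agent.H3.SysN
import Cfsg.Agent.H3.SSol

set_option autoImplicit false
open Cfsg

namespace Cfsg.Agent.S0568

open Subgroup
open scoped commutatorElement

theorem avoid {G : Type*} [Group G] [Finite G] (hs : Group.IsSolvable G) {K : Nat.Primes → Subgroup G} (hK : Cfsg.IsComplementSystem K) (B : Subgroup G) [hBn : B.Normal]
    (hBb : B ≠ ⊥) (hmin : ∀ N : Subgroup G, N.Normal → N ≤ B → N = ⊥ ∨ N = B) (hnc : ¬ B ≤ center G) : B ⊓ Cfsg.systemNormalizer K = ⊥ := by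
  haveI : Group.IsSolvable B := inferInstance
  haveI hBc : IsMulCommutative B := H1.isMulCommutative_of_minimal_of_solvable B hBb hmin
  obtain ⟨p, hp, hBp⟩ := H1.exists_prime_pow_eq_one_of_minimal B hBb hmin
  haveI : Fact p.Prime := ⟨hp⟩
  have hBpg : IsPGroup p B := H1.isPGroup_of_pow_eq_one B hBp
  have hpB : p ∣ Nat.card B := by
    obtain ⟨k, hk⟩ := IsPGroup.iff_card.mp hBpg
    have : k ≠ 0 := by
      rintro rfl
      rw [pow_zero, Subgroup.card_eq_one] at hk
      exact hBb hk
    rw [hk]; exact dvd_pow_self p this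
  set C := centralizer (B : Set G) with hC
  have hCt : C ≠ ⊤ := by
    intro h
    apply hnc
    intro b hb
    rw [Subgroup.mem_center_iff]
    intro g
    have hg : g ∈ C := by rw [h]; trivial
    exact (Subgroup.mem_centralizer_iff.mp hg b hb).symm
  haveI : Nontrivial (G ⧸ C) := by rwa [QuotientGroup.nontrivial_iff]
  obtain ⟨L', hL'n, hL'b, hL'min⟩ := H1.exists_minimal_normal (G := G ⧸ C)
  haveI : Group.IsSolvable L' := inferInstance
  haveI hL'c : IsMulCommutative L' := H1.isMulCommutative_of_minimal_of_solvable L' hL'b hL'min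
  obtain ⟨q, hq, hL'q⟩ := H1.exists_prime_pow_eq_one_of_minimal L' hL'b hL'min
  haveI : Fact q.Prime := ⟨hq⟩
  have hL'pg : IsPGroup q L' := H1.isPGroup_of_pow_eq_one L' hL'q
  set L := L'.comap (QuotientGroup.mk' C) with hL
  have hLn : L.Normal := inferInstance
  have hCL : C ≤ L := by
    intro x hx
    rw [hL, Subgroup.mem_comap, QuotientGroup.mk'_apply, (QuotientGroup.eq_one_iff x).mpr hx]
    exact one_mem _
  have hLC : ¬ L ≤ C := by
    intro h
    apply hL'b
    rw [← Subgroup.map_comap_eq_self_of_surjective (QuotientGroup.mk'_surjective C) L', eq_bot_iff]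
    rintro _ ⟨x, hx, rfl⟩
    rw [Subgroup.mem_bot, QuotientGroup.mk'_apply, QuotientGroup.eq_one_iff]
    exact h hx
  -- anything in B centralized by L is trivial
  have hfix : B ⊓ centralizer (L : Set G) = ⊥ := by
    rcases hmin (B ⊓ centralizer (L : Set G)) inferInstance inf_le_left with h | h
    · exact h
    · exfalso
      apply hLC
      have : B ≤ centralizer (L : Set G) := by rw [← h]; exact inf_le_right
      exact Subgroup.le_centralizer_iff.mp this
  have hpow : ∀ s ∈ L, s ^ q ∈ C := by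
    intro s hs
    have h1 := hL'q _ hs
    rw [← map_pow, QuotientGroup.mk'_apply, QuotientGroup.eq_one_iff] at h1
    exact h1
  have hqp : q ≠ p := by
    rintro rfl
    obtain ⟨y, hy, hy1, hyL⟩ := H3.exists_fixed_of_pow B q L (fun s hs => ⟨1, by rw [pow_one]; exact hpow s hs⟩) hpB
    apply hy1
    have : y ∈ B ⊓ centralizer (L : Set G) := by
      refine ⟨hy, Subgroup.mem_centralizer_iff.mpr ?_⟩
      intro l hl
      exact Subgroup.mem_centralizer_singleton_iff.mp (hyL hl)
    rw [hfix, Subgroup.mem_bot] at this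
    exact this
  set Kp := K ⟨p, hp⟩ with hKp
  have hE : L ≤ C ⊔ (L ⊓ Kp) := by
    rw [← Subgroup.relIndex_eq_one]
    have h1 : (C ⊔ (L ⊓ Kp)).relIndex L ∣ Kp.relIndex L := by
      rw [← Subgroup.inf_relIndex_left L Kp]
      exact Subgroup.relIndex_dvd_of_le_left L le_sup_right
    have h2 : Kp.relIndex L ∣ p ^ (Nat.card G).factorization p := by
      have := hK ⟨p, hp⟩
      change Kp.index = p ^ (Nat.card G).factorization p at this
      rw [← this]
      exact H3.relIndex_dvd_index Kp L
    have h3 : (C ⊔ (L ⊓ Kp)).relIndex L ∣ C.relIndex L := Subgroup.relIndex_dvd_of_le_left L le_sup_left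
    have h4 : C.relIndex L = Nat.card L' := by
      rw [← H3.card_map_mk', hL, Subgroup.map_comap_eq_self_of_surjective (QuotientGroup.mk'_surjective C)]
    obtain ⟨j, hj⟩ := IsPGroup.iff_card.mp hL'pg
    rw [h4, hj] at h3
    exact Nat.eq_one_of_dvd_coprimes (Nat.Coprime.pow _ _ ((Nat.coprime_primes hp hq).mpr hqp.symm)) (h1.trans h2) h3
  rw [eq_bot_iff, ← hfix]
  rintro x ⟨hxB, hxD⟩
  refine ⟨hxB, Subgroup.mem_centralizer_iff.mpr ?_⟩
  have hxN : x ∈ normalizer (Kp : Set G) := (iInf_le _ _ : Cfsg.systemNormalizer K ≤ normalizer ((K ⟨p, hp⟩ : Subgroup G) : Set G)) hxD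
  have hxK : ∀ k ∈ Kp, k * x = x * k := by
    intro k hk
    have h1 : x * k * x⁻¹ * k⁻¹ ∈ Kp ⊓ B := by
      constructor
      · exact Kp.mul_mem ((Subgroup.mem_normalizer_iff.mp hxN k).mp hk) (Kp.inv_mem hk)
      · have e : x * k * x⁻¹ * k⁻¹ = x * (k * x⁻¹ * k⁻¹) := by group
        rw [e]; exact B.mul_mem hxB (hBn.conj_mem _ (B.inv_mem hxB) k)
    have h2 : Kp ⊓ B = ⊥ := by
      apply L0.inf_eq_bot_of_coprime'
      obtain ⟨j, hj⟩ := IsPGroup.iff_card.mp hBpg
      rw [hj]
      exact (H3.IsComplementSystem.coprime hK ⟨p, hp⟩).pow_right j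
    rw [h2, Subgroup.mem_bot] at h1
    have h3 : x * k = (x * k * x⁻¹ * k⁻¹) * (k * x) := by group
    rw [h3, h1, one_mul]
  intro l hl
  have hl' := hE hl
  rw [Subgroup.mem_sup_of_normal_left] at hl'
  obtain ⟨c, hc, k, hk, rfl⟩ := hl'
  have h1 := Subgroup.mem_centralizer_iff.mp hc x hxB
  have h2 := hxK k hk.2
  rw [mul_assoc, h2, ← mul_assoc, ← h1, mul_assoc]

/-- Let D be the system normalizer of a Hall complement system of a finite solvable group G, and let A < B be normal subgroups with no normal subgroup of G strictly between them (a chief factor). If G centralizes B modulo A then B ≤ A ⊔ D (D covers the factor); otherwise B ∩ D ≤ A (D avoids it). -/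
theorem result {G : Type*} [Group G] [Finite G] [Group.IsSolvable G] (K : Nat.Primes → Subgroup G) (hK : Cfsg.IsComplementSystem K) (A B : Subgroup G) [A.Normal] [B.Normal] (hAB : A < B) (hchief : ∀ N : Subgroup G, N.Normal → A ≤ N → N ≤ B → N = A ∨ N = B) : (⁅B, (⊤ : Subgroup G)⁆ ≤ A → B ≤ A ⊔ Cfsg.systemNormalizer K) ∧ (¬ ⁅B, (⊤ : Subgroup G)⁆ ≤ A → B ⊓ Cfsg.systemNormalizer K ≤ A) := by
  haveI hB' : (B.map (QuotientGroup.mk' A)).Normal := (inferInstance : B.Normal).map _ (QuotientGroup.mk'_surjective A)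
  have hq := H3.sys_quotient (inferInstance : Group.IsSolvable G) hK A
  have hK' := H3.sys_map hK A
  have hker : ∀ T : Subgroup G, ∀ x : G, QuotientGroup.mk' A x ∈ T.map (QuotientGroup.mk' A) ↔ x ∈ A ⊔ T := by
    intro T x
    rw [Subgroup.mem_sup_of_normal_left]
    constructor
    · rintro ⟨t, ht, htx⟩
      rw [QuotientGroup.mk'_apply, QuotientGroup.mk'_apply, QuotientGroup.eq] at htx
      refine ⟨t * (t⁻¹ * x) * t⁻¹, (inferInstance : A.Normal).conj_mem _ htx t, t, ht, by group⟩
    · rintro ⟨a, ha, t, ht, rfl⟩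
      refine ⟨t, ht, ?_⟩
      rw [map_mul]
      have : QuotientGroup.mk' A a = 1 := (QuotientGroup.eq_one_iff a).mpr ha
      rw [this, one_mul]
  constructor
  · intro hc b hb
    rw [← hker, ← hq]
    -- the image of b is central
    have hcen : QuotientGroup.mk' A b ∈ Subgroup.center (G ⧸ A) := by
      rw [Subgroup.mem_center_iff]
      intro g
      obtain ⟨g, rfl⟩ := QuotientGroup.mk'_surjective A g
      rw [← map_mul, ← map_mul, QuotientGroup.mk'_apply, QuotientGroup.mk'_apply, QuotientGroup.eq]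
      have h1 : ⁅b⁻¹, g⁻¹⁆ ∈ A := hc (Subgroup.commutator_mem_commutator (B.inv_mem hb) (Subgroup.mem_top _))
      have e : (g * b)⁻¹ * (b * g) = ⁅b⁻¹, g⁻¹⁆ := by rw [commutatorElement_def]; group
      rw [e]; exact h1
    rw [Cfsg.systemNormalizer, Subgroup.mem_iInf]
    intro p
    exact Subgroup.center_le_normalizer _ hcen
  · intro hnc
    have h1 := avoid (inferInstance : Group.IsSolvable (G ⧸ A)) hK' (B.map (QuotientGroup.mk' A)) (by
      intro h
      apply hAB.not_ge
      intro b hb
      have : QuotientGroup.mk' A b ∈ B.map (QuotientGroup.mk' A) := ⟨b, hb, rfl⟩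
      rw [h, Subgroup.mem_bot, QuotientGroup.mk'_apply, QuotientGroup.eq_one_iff] at this
      exact this) (by
      intro N hN hNB
      have h2 : A ≤ N.comap (QuotientGroup.mk' A) := by
        intro x hx
        rw [Subgroup.mem_comap, QuotientGroup.mk'_apply, (QuotientGroup.eq_one_iff x).mpr hx]
        exact one_mem _
      have h3 : N.comap (QuotientGroup.mk' A) ≤ B := by
        intro x hx
        have h4 := (hker B x).mp (hNB hx)
        rwa [sup_eq_right.mpr hAB.le] at h4
      have h5 : (N.comap (QuotientGroup.mk' A)).map (QuotientGroup.mk' A) = N := Subgroup.map_comap_eq_self_of_surjective (QuotientGroup.mk'_surjective A) N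
      rcases hchief _ inferInstance h2 h3 with h | h
      · left
        rw [← h5, h, eq_bot_iff]
        rintro _ ⟨x, hx, rfl⟩
        rw [Subgroup.mem_bot, QuotientGroup.mk'_apply, QuotientGroup.eq_one_iff]
        exact hx
      · right; rw [← h5, h]) (by
      intro hle
      apply hnc
      rw [Subgroup.commutator_le]
      intro b hb g _
      have h2 := Subgroup.mem_center_iff.mp (hle ⟨b, hb, rfl⟩) (QuotientGroup.mk' A g)
      rw [← QuotientGroup.eq_one_iff]
      change QuotientGroup.mk' A ⁅b, g⁆ = 1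
      rw [map_commutatorElement, commutatorElement_eq_one_iff_mul_comm]
      exact h2.symm)
    rintro x ⟨hxB, hxD⟩
    have h2 : QuotientGroup.mk' A x ∈ B.map (QuotientGroup.mk' A) ⊓ Cfsg.systemNormalizer (fun p => (K p).map (QuotientGroup.mk' A)) := by
      refine ⟨⟨x, hxB, rfl⟩, ?_⟩
      rw [hq]
      exact ⟨x, hxD, rfl⟩
    rw [h1, Subgroup.mem_bot, QuotientGroup.mk'_apply, QuotientGroup.eq_one_iff] at h2
    exact h2

end Cfsg.Agent.S0568
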