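import Cfsg.Statements.S0571
import Mathlib
import Cfsg.Agent.H3.SSol
import Cfsg.Agent.S0528

set_option autoImplicit false
open Cfsg

namespace Cfsg.Agent.S0571

open Cfsg.Agent.H3 Cfsg.Agent.H1 Subgroup

open scoped Pointwise in
theorem key (n : ℕ) : ∀ (G : Type*) [Group G] [Finite G], Nat.card G = n → ∀ (A B : Subgroup G), IsCyclic A → IsCyclic B →
    (∀ g : G, ∃ a ∈ A, ∃ b ∈ B, g = a * b) → IsSupersolvable G := by
  induction n using Nat.strong_induction_on with
  | _ n ih =>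
  intro G _ _ hn A B hA hB hAB
  -- wlog |B| ≤ |A|
  wlog hle : Nat.card B ≤ Nat.card A generalizing A B
  · refine this B A hB hA ?_ (le_of_not_ge hle)
    intro g
    obtain ⟨a, ha, b, hb, he⟩ := hAB g⁻¹
    refine ⟨b⁻¹, B.inv_mem hb, a⁻¹, A.inv_mem ha, ?_⟩
    rw [← mul_inv_rev, ← he, inv_inv]
  by_cases htop : A = ⊤
  · subst htop
    haveI : IsCyclic (⊤ : Subgroup G) := hA
    haveI hs : Subsingleton (G ⧸ (⊤ : Subgroup G)) := QuotientGroup.subsingleton_quotient_top
    refine Cfsg.Agent.S0528.result ⊤ ?_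
    rw [isSupersolvable_iff]
    have : (⊤ : Subgroup (G ⧸ (⊤ : Subgroup G))) = ⊥ := Subsingleton.elim _ _
    rw [this]; exact SChain.bot
  -- a generator b of B
  obtain ⟨⟨b, hb⟩, hbg⟩ := hB.exists_generator
  set A' := A.map (MulAut.conj b).toMonoidHom with hA'
  have hA'c : Nat.card A' = Nat.card A := Subgroup.card_map_of_injective (MulAut.conj b).injective
  have hne : A ⊓ A' ≠ ⊥ := by
    intro h0
    -- |A||A'| ≤ |G|, |G| |A ∩ B| = |A||B|
    have h1 : ∀ x : G, x ∈ (A : Set G) * (A' : Set G) ↔ ∃ a ∈ A, ∃ a' ∈ A', a * a' = x := by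
      intro x; exact Set.mem_mul
    have hinj : Function.Injective (fun x : A × A' => (x.1 : G) * (x.2 : G)) := by
      rintro ⟨a, a'⟩ ⟨c, c'⟩ h
      have h2 : (a : G) * a' = c * c' := h
      have h3 : (c : G)⁻¹ * a = c' * (a' : G)⁻¹ := by
        calc (c : G)⁻¹ * a = (c : G)⁻¹ * (a * a') * (a' : G)⁻¹ := by group
          _ = c' * (a' : G)⁻¹ := by rw [h2]; group
      have h4 : (c : G)⁻¹ * a ∈ A ⊓ A' := ⟨A.mul_mem (A.inv_mem c.2) a.2, by rw [h3]; exact A'.mul_mem c'.2 (A'.inv_mem a'.2)⟩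
      have h5 := h4
      rw [h0, mem_bot] at h5
      have h6 : (a : G) = c := by
        have := inv_mul_eq_one.mp h5
        exact this.symm
      rw [h5] at h3
      have h7 : (c' : G) = a' := mul_inv_eq_one.mp h3.symm
      exact Prod.ext (Subtype.ext h6) (Subtype.ext h7.symm)
    have hsurj : Function.Surjective (fun x : A × B => (x.1 : G) * (x.2 : G)) := by
      intro g
      obtain ⟨a, ha, c, hc, he⟩ := hAB g
      exact ⟨(⟨a, ha⟩, ⟨c, hc⟩), he.symm⟩
    have hc1 : Nat.card G ≤ Nat.card A * Nat.card B := by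
      rw [← Nat.card_prod]; exact Nat.card_le_card_of_surjective _ hsurj
    have hc2 : Nat.card A * Nat.card A ≤ Nat.card G := by
      nth_rewrite 2 [← hA'c]
      rw [← Nat.card_prod]; exact Nat.card_le_card_of_injective _ hinj
    have hsurj2 : Function.Surjective (fun x : A × A' => (x.1 : G) * (x.2 : G)) := by
      have h8 : Nat.card (A × A') = Nat.card G := by
        apply le_antisymm (Nat.card_le_card_of_injective _ hinj)
        rw [Nat.card_prod, hA'c]
        exact hc1.trans (Nat.mul_le_mul_left _ hle)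
      exact ((Nat.bijective_iff_injective_and_card _).mpr ⟨hinj, h8⟩).2
    apply htop
    obtain ⟨⟨⟨a, ha⟩, ⟨_, c, hc, rfl⟩⟩, he⟩ := hsurj2 b⁻¹
    have he' : a * (b * c * b⁻¹) = b⁻¹ := he
    have h9 : b = a⁻¹ * c⁻¹ := by
      calc b = a⁻¹ * (a * (b * c * b⁻¹)) * b * c⁻¹ := by group
        _ = a⁻¹ * c⁻¹ := by rw [he']; group
    have hbA : b ∈ A := by rw [h9]; exact A.mul_mem (A.inv_mem ha) (A.inv_mem hc)
    rw [eq_top_iff]
    intro g _
    obtain ⟨a1, ha1, c1, hc1, rfl⟩ := hAB g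
    refine A.mul_mem ha1 ?_
    obtain ⟨k, hk⟩ := hbg ⟨c1, hc1⟩
    have : c1 = b ^ k := (congrArg Subtype.val hk).symm
    rw [this]
    exact Subgroup.zpow_mem _ hbA k
  obtain ⟨p, hp, hpd⟩ := Nat.exists_prime_and_dvd (n := Nat.card (A ⊓ A' : Subgroup G)) (fun h => hne (Subgroup.card_eq_one.mp h))
  haveI := Fact.mk hp
  obtain ⟨⟨z, hz⟩, hzo⟩ := exists_prime_orderOf_dvd_card' (G := (A ⊓ A' : Subgroup G)) p hpd
  rw [Subgroup.orderOf_mk] at hzo
  have huniq : ∀ (C : Subgroup G), IsCyclic C → ∀ y ∈ C, ∀ w ∈ C, orderOf y = p → orderOf w = p → y ∈ zpowers w := by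
    intro C hC y hy w hw hyo hwo
    have h1 := mem_zpowers_of_orderOf_dvd (⟨w, hw⟩ : C) ⟨y, hy⟩ (by rw [Subgroup.orderOf_mk, Subgroup.orderOf_mk, hyo, hwo])
    obtain ⟨k, hk⟩ := h1
    exact ⟨k, congrArg Subtype.val hk⟩
  have hbz : ∀ k : ℕ, b ^ k * z * (b ^ k)⁻¹ ∈ zpowers z := by
    intro k
    induction k with
    | zero => simp
    | succ k ihk =>
      have hA'cyc : IsCyclic A' := isCyclic_of_surjective (A.equivMapOfInjective _ (MulAut.conj b).injective).toMonoidHom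
        (A.equivMapOfInjective _ (MulAut.conj b).injective).surjective
      have h1 : b * z * b⁻¹ ∈ zpowers z := by
        refine huniq A' hA'cyc _ ⟨z, hz.1, rfl⟩ z hz.2 ?_ hzo
        show orderOf (MulAut.conj b z) = p
        rw [MulEquiv.orderOf_eq, hzo]
      obtain ⟨i, hi⟩ := ihk
      have h2 : b ^ (k + 1) * z * (b ^ (k + 1))⁻¹ = (b * z * b⁻¹) ^ i := by
        have : b ^ (k + 1) * z * (b ^ (k + 1))⁻¹ = b * (b ^ k * z * (b ^ k)⁻¹) * b⁻¹ := by rw [pow_succ']; group
        rw [this, ← hi, conj_zpow]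
      rw [h2]; exact Subgroup.zpow_mem _ h1 i
  have hN : (zpowers z).Normal := by
    refine ⟨?_⟩
    rintro _ ⟨j, rfl⟩ g
    obtain ⟨a, ha, c, hc, rfl⟩ := hAB g
    obtain ⟨k, hk⟩ : ∃ k : ℕ, c = b ^ k := by
      obtain ⟨k, hk⟩ := (mem_powers_iff_mem_zpowers.mpr (hbg ⟨c, hc⟩))
      exact ⟨k, (congrArg Subtype.val hk).symm⟩
    obtain ⟨i, hi⟩ := hbz k
    have hcomm : a * z = z * a := by
      letI := hA.commGroup
      have := mul_comm (⟨a, ha⟩ : A) ⟨z, hz.1⟩
      exact congrArg Subtype.val this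
    have h1 : a * c * z ^ j * (a * c)⁻¹ = (z ^ i) ^ j := by
      have h2 : a * c * z * (a * c)⁻¹ = z ^ i := by
        have : a * c * z * (a * c)⁻¹ = a * (b ^ k * z * (b ^ k)⁻¹) * a⁻¹ := by rw [hk]; group
        rw [this, ← hi]
        have h3 : Commute a (z ^ i) := (show Commute a z from hcomm).zpow_right i
        show a * z ^ i * a⁻¹ = z ^ i
        rw [h3.eq]; group
      rw [← h2, conj_zpow]
    show a * c * z ^ j * (a * c)⁻¹ ∈ _
    rw [h1]
    exact Subgroup.zpow_mem _ (Subgroup.zpow_mem _ (mem_zpowers z) _) _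
  have hlt : Nat.card (G ⧸ zpowers z) < n := by
    rw [← hn, Subgroup.card_eq_card_quotient_mul_card_subgroup (zpowers z), Nat.card_zpowers, hzo]
    exact lt_mul_of_one_lt_right Nat.card_pos hp.one_lt
  refine Cfsg.Agent.S0528.result (zpowers z) (ih _ hlt _ rfl (A.map (QuotientGroup.mk' _)) (B.map (QuotientGroup.mk' _)) ?_ ?_ ?_)
  · haveI := hA
    exact isCyclic_of_surjective ((QuotientGroup.mk' (zpowers z)).subgroupMap A) ((QuotientGroup.mk' (zpowers z)).subgroupMap_surjective A)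
  · haveI := hB
    exact isCyclic_of_surjective ((QuotientGroup.mk' (zpowers z)).subgroupMap B) ((QuotientGroup.mk' (zpowers z)).subgroupMap_surjective B)
  · intro y
    obtain ⟨g, rfl⟩ := QuotientGroup.mk'_surjective _ y
    obtain ⟨a, ha, c, hc, rfl⟩ := hAB g
    exact ⟨_, ⟨a, ha, rfl⟩, _, ⟨c, hc, rfl⟩, map_mul _ _ _⟩

/-- If a finite group G is the product AB of two cyclic subgroups (every element is a product ab), then G is supersolvable. -/
theorem result {G : Type*} [Group G] [Finite G] (A B : Subgroup G) [IsCyclic A] [IsCyclic B] (hAB : ∀ g : G, ∃ a ∈ A, ∃ b ∈ B, g = a * b) : Cfsg.IsSupersolvable G := by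
  exact key _ G rfl A B inferInstance inferInstance hAB

end Cfsg.Agent.S0571
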