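import Cfsg.Statements.S0573
import Mathlib
import Cfsg.Agent.H3.Ito

set_option autoImplicit false
open Cfsg

namespace Cfsg.Agent.S0573

open Subgroup Pointwise
open scoped commutatorElement

theorem pcent {G : Type*} [Group G] [Finite G] {p : ℕ} [hp : Fact p.Prime] (M M0 : Subgroup G) [hM : M.Normal] [hM0 : M0.Normal]
    (hMab : ∀ a ∈ M, ∀ b ∈ M, a * b = b * a) (hMc : commutator G ≤ M) (hle : M0 ≤ M) (hM0b : M0 ≠ ⊥) (hM0p : IsPGroup p M0)
    (hmin : ∀ L : Subgroup G, L.Normal → L ≤ M0 → L = ⊥ ∨ L = M0) (x : G) (hx : ∃ k : ℕ, x ^ p ^ k = 1) :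
    ∀ m ∈ M0, x * m = m * x := by
  have hd : p ∣ Nat.card M0 := by
    obtain ⟨k, hk⟩ := IsPGroup.iff_card.mp hM0p
    have : k ≠ 0 := by
      rintro rfl
      rw [pow_zero, Subgroup.card_eq_one] at hk
      exact hM0b hk
    rw [hk]; exact dvd_pow_self p this
  have hxk : ∀ s ∈ zpowers x, ∃ k : ℕ, s ^ p ^ k ∈ centralizer (M0 : Set G) := by
    rintro _ ⟨j, rfl⟩
    obtain ⟨k, hk⟩ := hx
    refine ⟨k, ?_⟩
    have : (x ^ j) ^ p ^ k = 1 := by
      rw [← zpow_natCast, ← zpow_mul, mul_comm, zpow_mul, zpow_natCast, hk, one_zpow]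
    rw [show (fun x_1 => x ^ x_1) j = x ^ j from rfl, this]
    exact one_mem _
  obtain ⟨y, hy, hy1, hyx⟩ := H3.exists_fixed_of_pow M0 p (zpowers x) hxk hd
  let C : Subgroup G := M0 ⊓ centralizer ({x} : Set G)
  have hCn : C.Normal := by
    refine ⟨?_⟩
    rintro c ⟨hc1, hc2⟩ g
    refine ⟨hM0.conj_mem c hc1 g, ?_⟩
    refine Subgroup.mem_centralizer_singleton_iff.mpr ?_
    have h1 : c * x = x * c := Subgroup.mem_centralizer_singleton_iff.mp hc2
    -- g⁻¹ x g = x * k, k ∈ M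
    have h2 : x⁻¹ * (g⁻¹ * x * g) ∈ M := by
      have h3 : ⁅x⁻¹, g⁻¹⁆ ∈ commutator G := Subgroup.commutator_mem_commutator (mem_top _) (mem_top _)
      have e : x⁻¹ * (g⁻¹ * x * g) = ⁅x⁻¹, g⁻¹⁆ := by rw [commutatorElement_def]; group
      rw [e]; exact hMc h3
    have h4 := hMab _ h2 c (hle hc1)
    have e2 : c * (g⁻¹ * x * g) = g⁻¹ * x * g * c := by
      calc c * (g⁻¹ * x * g) = (c * x) * (x⁻¹ * (g⁻¹ * x * g)) := by group
        _ = x * (c * (x⁻¹ * (g⁻¹ * x * g))) := by rw [h1]; group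
        _ = g⁻¹ * x * g * c := by rw [← h4]; group
    calc g * c * g⁻¹ * x = g * (c * (g⁻¹ * x * g)) * g⁻¹ := by group
      _ = x * (g * c * g⁻¹) := by rw [e2]; group
  have hCne : C ≠ ⊥ := by
    intro h
    apply hy1
    have : y ∈ C := ⟨hy, Subgroup.mem_centralizer_singleton_iff.mpr (Subgroup.mem_centralizer_singleton_iff.mp (hyx (mem_zpowers x))).symm⟩
    rw [h, Subgroup.mem_bot] at this
    exact this
  rcases hmin C hCn inf_le_left with h | h
  · exact absurd h hCne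
  · intro m hm
    rw [← h] at hm
    exact (Subgroup.mem_centralizer_singleton_iff.mp hm.2).symm

theorem main {G : Type*} [Group G] [Finite G] [Nontrivial G] (A B : Subgroup G) [IsMulCommutative A] [IsMulCommutative B] (hAB : ∀ g : G, ∃ a ∈ A, ∃ b ∈ B, g = a * b)
    (hno : ∀ N : Subgroup G, N.Normal → (N ≤ A ∨ N ≤ B) → N = ⊥) : False := by
  have hA : ∀ a ∈ A, ∀ b ∈ A, a * b = b * a := fun a ha b hb => congrArg Subtype.val ((inferInstance : IsMulCommutative A).is_comm.comm ⟨a, ha⟩ ⟨b, hb⟩)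
  have hB : ∀ a ∈ B, ∀ b ∈ B, a * b = b * a := fun a ha b hb => congrArg Subtype.val ((inferInstance : IsMulCommutative B).is_comm.comm ⟨a, ha⟩ ⟨b, hb⟩)
  have hd2 := S0572.result A B hAB
  have hs : Group.IsSolvable G := ⟨⟨2, hd2⟩⟩
  -- centralizing both
  have hcen : ∀ x : G, (∀ a ∈ A, x * a = a * x) → (∀ b ∈ B, x * b = b * x) → x ∈ center G := by
    intro x h1 h2
    rw [Subgroup.mem_center_iff]
    intro g
    obtain ⟨a, ha, b, hb, rfl⟩ := hAB g
    rw [mul_assoc, ← h2 b hb, ← mul_assoc, ← h1 a ha, mul_assoc]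
  have hcn : ∀ N : Subgroup G, N ≤ center G → N.Normal := by
    intro N hN
    refine ⟨fun n hn g => ?_⟩
    have := Subgroup.mem_center_iff.mp (hN hn) g
    rw [this, mul_inv_cancel_right]; exact hn
  have hZA : center G ⊓ A = ⊥ := hno _ (hcn _ inf_le_left) (Or.inl inf_le_right)
  have hZB : center G ⊓ B = ⊥ := hno _ (hcn _ inf_le_left) (Or.inr inf_le_right)
  have hi : A ⊓ B = ⊥ := by
    rw [eq_bot_iff, ← hZA]
    rintro x ⟨hx1, hx2⟩
    exact ⟨hcen x (fun a ha => hA x hx1 a ha) (fun b hb => hB x hx2 b hb), hx1⟩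
  set M := commutator G with hM
  have hMab : ∀ a ∈ M, ∀ b ∈ M, a * b = b * a := by
    intro a ha b hb
    have h1 : ⁅M, M⁆ = ⊥ := by rw [← hd2, derivedSeries_succ, derivedSeries_one]
    have h2 : ⁅a, b⁆ ∈ ⁅M, M⁆ := Subgroup.commutator_mem_commutator ha hb
    rw [h1, Subgroup.mem_bot, commutatorElement_def] at h2
    have h3 : a * b = (a * b * a⁻¹ * b⁻¹) * (b * a) := by group
    rw [h3, h2, one_mul]
  -- F4
  have hF4 : ∀ m ∈ M, (∀ a ∈ A, m * a = a * m) → m = 1 := by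
    have hN : centralizer ((A ⊔ M : Subgroup G) : Set G) = ⊥ := by
      have hnorm : (A ⊔ M).Normal := Subgroup.Normal.of_commutator_le G (by rw [← hM]; exact le_sup_right)
      apply hno _ inferInstance
      left
      intro x hx
      rw [Subgroup.mem_centralizer_iff] at hx
      obtain ⟨a, ha, b, hb, rfl⟩ := hAB x
      have hb1 : b ∈ center G ⊓ B := by
        refine ⟨hcen b ?_ (fun c hc => hB b hb c hc), hb⟩
        intro c hc
        have h1 := hx c (Subgroup.mem_sup_left hc)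
        have h2 := hA a ha c hc
        have h3 : a * (c * b) = a * (b * c) := by
          rw [← mul_assoc, h2, mul_assoc, h1, mul_assoc]
        exact (mul_left_cancel h3).symm
      rw [hZB, Subgroup.mem_bot] at hb1
      rw [hb1, mul_one]; exact ha
    intro m hm hmA
    have : m ∈ centralizer ((A ⊔ M : Subgroup G) : Set G) := by
      rw [Subgroup.mem_centralizer_iff]
      intro g hg
      have hg' : g ∈ A ⊔ M := hg
      rw [Subgroup.mem_sup_of_normal_right] at hg'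
      obtain ⟨a, ha, c, hc, rfl⟩ := hg'
      rw [mul_assoc, hMab c hc m hm, ← mul_assoc, ← hmA a ha, mul_assoc]
    rw [hN, Subgroup.mem_bot] at this
    exact this
  have hF4' : ∀ m ∈ M, (∀ b ∈ B, m * b = b * m) → m = 1 := by
    have hN : centralizer ((B ⊔ M : Subgroup G) : Set G) = ⊥ := by
      have hnorm : (B ⊔ M).Normal := Subgroup.Normal.of_commutator_le G (by rw [← hM]; exact le_sup_right)
      apply hno _ inferInstance
      right
      intro x hx
      rw [Subgroup.mem_centralizer_iff] at hx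
      obtain ⟨a, ha, b, hb, rfl⟩ := hAB x
      have ha1 : a ∈ center G ⊓ A := by
        refine ⟨hcen a (fun c hc => hA a ha c hc) ?_, ha⟩
        intro c hc
        have h1 := hx c (Subgroup.mem_sup_left hc)
        have h2 := hB b hb c hc
        have h3 : (c * a) * b = (a * c) * b := by
          rw [mul_assoc, h1, mul_assoc, h2, mul_assoc]
        exact (mul_right_cancel h3).symm
      rw [hZA, Subgroup.mem_bot] at ha1
      rw [ha1, one_mul]; exact hb
    intro m hm hmB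
    have : m ∈ centralizer ((B ⊔ M : Subgroup G) : Set G) := by
      rw [Subgroup.mem_centralizer_iff]
      intro g hg
      have hg' : g ∈ B ⊔ M := hg
      rw [Subgroup.mem_sup_of_normal_right] at hg'
      obtain ⟨a, ha, c, hc, rfl⟩ := hg'
      rw [mul_assoc, hMab c hc m hm, ← mul_assoc, ← hmB a ha, mul_assoc]
    rw [hN, Subgroup.mem_bot] at this
    exact this
  -- M ≠ ⊥
  have hMb : M ≠ ⊥ := by
    intro hb
    have hcomm : ∀ x y : G, x * y = y * x := by
      intro x y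
      have h2 : ⁅x, y⁆ ∈ M := Subgroup.commutator_mem_commutator (mem_top _) (mem_top _)
      rw [hb, Subgroup.mem_bot, commutatorElement_def] at h2
      have h3 : x * y = (x * y * x⁻¹ * y⁻¹) * (y * x) := by group
      rw [h3, h2, one_mul]
    have hall : ∀ N : Subgroup G, N.Normal := fun N => ⟨fun n hn g => by rw [hcomm g n, mul_inv_cancel_right]; exact hn⟩
    have h1 := hno A (hall A) (Or.inl le_rfl)
    have h2 := hno B (hall B) (Or.inr le_rfl)
    obtain ⟨x, hx⟩ := exists_ne (1 : G)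
    obtain ⟨a, ha, b, hb, e⟩ := hAB x
    rw [h1, Subgroup.mem_bot] at ha
    rw [h2, Subgroup.mem_bot] at hb
    exact hx (by rw [e, ha, hb, one_mul])
  obtain ⟨M0, hM0n, hM0M, hM0b, hmin⟩ := H1.exists_minimal_normal_le M hMb
  haveI : IsMulCommutative M0 := ⟨⟨fun a b => Subtype.ext (hMab a (hM0M a.2) b (hM0M b.2))⟩⟩
  obtain ⟨p, hp, hexp⟩ := H1.exists_prime_pow_eq_one_of_minimal M0 hM0b hmin
  haveI := Fact.mk hp
  have hM0p : IsPGroup p M0 := H1.isPGroup_of_pow_eq_one M0 hexp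
  have hpc := fun x hx => pcent (p := p) M M0 hMab le_rfl hM0M hM0b hM0p hmin x hx
  -- p part and p' part
  set n := (Nat.card G).factorization p with hn
  set P := p ^ n with hP
  set Q := Nat.card G / p ^ n with hQ
  have hGPQ : Nat.card G = P * Q := (Nat.ordProj_mul_ordCompl_eq_self (Nat.card G) p).symm
  have hcop : P.Coprime Q := by
    rw [hP]
    exact Nat.Coprime.pow_left n ((Nat.Prime.coprime_iff_not_dvd hp).mpr (Nat.not_dvd_ordCompl hp Nat.card_pos.ne'))
  obtain ⟨T, hT, hTf⟩ := H3.prod_hall hs A B hA hB hAB hi hGPQ hcop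
  obtain ⟨H, hH, hHf⟩ := H3.prod_hall hs A B hA hB hAB hi (by rw [hGPQ, mul_comm]) hcop.symm
  -- splitting of A and B
  have hsplit : ∀ k : ℕ, k ∣ P * Q → k = k.gcd P * k.gcd Q := by
    intro k hk
    rw [← Nat.Coprime.gcd_mul k hcop]
    exact (Nat.gcd_eq_left hk).symm
  have hA1 := hsplit (Nat.card A) (by rw [← hGPQ]; exact Subgroup.card_subgroup_dvd_card A)
  have hB1 := hsplit (Nat.card B) (by rw [← hGPQ]; exact Subgroup.card_subgroup_dvd_card B)
  have hcopg : ∀ k : ℕ, (k.gcd P).Coprime (k.gcd Q) := fun k => Nat.Coprime.coprime_dvd_left (Nat.gcd_dvd_right _ _) (Nat.Coprime.coprime_dvd_right (Nat.gcd_dvd_right _ _) hcop)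
  -- p-elements
  have hpel : ∀ k : ℕ, ∀ x : G, x ^ (k.gcd P) = 1 → ∃ j : ℕ, x ^ p ^ j = 1 := by
    intro k x hx
    obtain ⟨j, -, hj⟩ := (Nat.dvd_prime_pow hp).mp (Nat.gcd_dvd_right k P : k.gcd P ∣ p ^ n)
    exact ⟨j, by rw [← hj]; exact hx⟩
  obtain ⟨m, hm, hm1⟩ := (Subgroup.ne_bot_iff_exists_ne_one).mp hM0b |> fun ⟨m, hm⟩ => (⟨(m : G), m.2, fun h => hm (Subtype.ext h)⟩ : ∃ m : G, m ∈ M0 ∧ m ≠ 1)
  -- M0 ≤ T
  have hM0T : M0 ≤ T := by
    have h1 : (Nat.card M0).Coprime Q := by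
      obtain ⟨j, hj⟩ := IsPGroup.iff_card.mp hM0p
      rw [hj]
      exact Nat.Coprime.pow_left j ((Nat.Prime.coprime_iff_not_dvd hp).mpr (Nat.not_dvd_ordCompl hp Nat.card_pos.ne'))
    obtain ⟨g, hg⟩ := H1.hall_dominate hs hGPQ hcop hT h1
    intro x hx
    have h2 : g * x * g⁻¹ ∈ M0 := hM0n.conj_mem x hx g
    have h3 := hg h2
    rw [L0.mem_conj_smul] at h3
    have e : g⁻¹ * (g * x * g⁻¹) * g = x := by group
    rwa [e] at h3
  obtain ⟨a1, ha1, b, hb, hmab⟩ := hTf m⁻¹ (T.inv_mem (hM0T hm))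
  obtain ⟨a, ha⟩ : ∃ a, a = a1⁻¹ := ⟨_, rfl⟩
  have haA : a ∈ A := by rw [ha]; exact A.inv_mem ha1.1
  have hbB : b ∈ B := hb.1
  have hap : ∃ j : ℕ, a ^ p ^ j = 1 := by
    obtain ⟨j, hj⟩ := hpel _ a1 ha1.2
    exact ⟨j, by rw [ha, inv_pow, hj, inv_one]⟩
  have hbp : ∃ j : ℕ, b ^ p ^ j = 1 := hpel _ b hb.2
  have hmeq : m = b⁻¹ * a := by
    have : m = (m⁻¹)⁻¹ := by group
    rw [this, hmab, ha]; group
  have habm : a = b * m := by rw [hmeq]; group
  have hacent := hpc a hap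
  have hbcent := hpc b hbp
  -- commutators with H
  have hcommH : ∀ h ∈ H, a * h * a⁻¹ * h⁻¹ ∈ M0 := by
    intro h hh
    obtain ⟨q, hq, r, hr, rfl⟩ := hHf h hh
    have h1 : a * r * a⁻¹ * r⁻¹ = m * (r * m⁻¹ * r⁻¹) := by
      have hm' : r * m⁻¹ * r⁻¹ ∈ M0 := hM0n.conj_mem _ (M0.inv_mem hm) r
      have h2 := hbcent _ (M0.mul_mem hm hm')
      have h3 := hB b hbB r hr.1
      rw [habm]
      calc b * m * r * (b * m)⁻¹ * r⁻¹ = (b * (m * (r * m⁻¹ * r⁻¹))) * (r * b⁻¹ * r⁻¹) := by group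
        _ = (m * (r * m⁻¹ * r⁻¹)) * (b * r * b⁻¹ * r⁻¹) := by rw [h2]; group
        _ = m * (r * m⁻¹ * r⁻¹) := by rw [h3]; group
    have h4 : a * (q * r) * a⁻¹ * (q * r)⁻¹ = q * (a * r * a⁻¹ * r⁻¹) * q⁻¹ := by
      have h5 := hA a haA q hq.1
      calc a * (q * r) * a⁻¹ * (q * r)⁻¹ = (a * q) * r * a⁻¹ * r⁻¹ * q⁻¹ := by group
        _ = _ := by rw [h5]; group
    rw [h4, h1]
    exact hM0n.conj_mem _ (M0.mul_mem hm (hM0n.conj_mem _ (M0.inv_mem hm) r)) q
  have hHM0 : (Nat.card H).Coprime (Nat.card M0) := by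
    obtain ⟨j, hj⟩ := IsPGroup.iff_card.mp hM0p
    rw [hH, hj]
    exact (Nat.Coprime.pow_left j ((Nat.Prime.coprime_iff_not_dvd hp).mpr (Nat.not_dvd_ordCompl hp Nat.card_pos.ne'))).symm
  obtain ⟨k, hk, hkH⟩ := L0.exists_conj_eq_of_le_sup (M := M0) (A := H) (B := MulAut.conj a • H)
    (by rw [Subgroup.normalizer_eq_top]; exact le_top) hHM0 (Or.inl inferInstance) (by
      intro x hx
      rw [L0.mem_conj_smul] at hx
      have h1 := Subgroup.mul_mem_sup (hcommH _ hx) hx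
      have e : a * (a⁻¹ * x * a) * a⁻¹ * (a⁻¹ * x * a)⁻¹ * (a⁻¹ * x * a) = x := by group
      rwa [e] at h1) (L0.card_conj_smul _ _)
  have hgcomm : ∀ h ∈ H, (k⁻¹ * a) * h = h * (k⁻¹ * a) := by
    intro h hh
    have h1 : k⁻¹ * a * h * (k⁻¹ * a)⁻¹ * h⁻¹ ∈ H ⊓ M0 := by
      constructor
      · have h2 : a * h * a⁻¹ ∈ MulAut.conj k • H := by rw [hkH]; exact H3.conj_mem_smul hh
        rw [L0.mem_conj_smul] at h2
        have e : k⁻¹ * a * h * (k⁻¹ * a)⁻¹ * h⁻¹ = (k⁻¹ * (a * h * a⁻¹) * k) * h⁻¹ := by group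
        rw [e]; exact H.mul_mem h2 (H.inv_mem hh)
      · have e : k⁻¹ * a * h * (k⁻¹ * a)⁻¹ * h⁻¹ = k⁻¹ * ((a * h * a⁻¹ * h⁻¹) * (h * k * h⁻¹)) := by group
        rw [e]
        exact M0.mul_mem (M0.inv_mem hk) (M0.mul_mem (hcommH h hh) (hM0n.conj_mem k hk h))
    rw [L0.inf_eq_bot_of_coprime' hHM0, Subgroup.mem_bot] at h1
    have h3 : k⁻¹ * a * h = (k⁻¹ * a * h * (k⁻¹ * a)⁻¹ * h⁻¹) * (h * (k⁻¹ * a)) := by group
    rw [h3, h1, one_mul]
  -- tor A ⊆ H and tor B ⊆ H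
  have hcardAB : Nat.card A * Nat.card B = Nat.card G := by
    have h1 := H1.card_set_mul A B
    rw [hi, Subgroup.card_bot, mul_one] at h1
    rw [← h1]
    have : ((A : Set G) * (B : Set G) : Set G) = Set.univ := by
      rw [Set.eq_univ_iff_forall]
      intro g
      obtain ⟨a, ha, b, hb, e⟩ := hAB g
      exact ⟨a, ha, b, hb, e.symm⟩
    rw [this]
    exact Nat.card_congr (Equiv.Set.univ G)
  have hHset : ∀ q ∈ H3.tor A hA ((Nat.card A).gcd Q), ∀ r ∈ H3.tor B hB ((Nat.card B).gcd Q), q * r ∈ H := by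
    have h1 := H1.card_set_mul (H3.tor A hA ((Nat.card A).gcd Q)) (H3.tor B hB ((Nat.card B).gcd Q))
    have h2 : H3.tor A hA ((Nat.card A).gcd Q) ⊓ H3.tor B hB ((Nat.card B).gcd Q) = ⊥ := by
      rw [eq_bot_iff, ← hi]; exact inf_le_inf (H3.tor_le _ _ _) (H3.tor_le _ _ _)
    have h3 := H3.card_tor A hA (by rw [mul_comm]; exact hA1) (hcopg _).symm
    have h4 := H3.card_tor B hB (by rw [mul_comm]; exact hB1) (hcopg _).symm
    rw [h2, Subgroup.card_bot, mul_one, h3, h4] at h1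
    have h5 : (Nat.card A).gcd Q * (Nat.card B).gcd Q ≤ Q := by
      have h6 : (Nat.card A).gcd Q * (Nat.card B).gcd Q ∣ P * Q := by
        rw [← hGPQ, ← hcardAB]
        exact mul_dvd_mul (Nat.gcd_dvd_left _ _) (Nat.gcd_dvd_left _ _)
      have h7 : ((Nat.card A).gcd Q * (Nat.card B).gcd Q).Coprime P :=
        Nat.Coprime.mul_left (Nat.Coprime.coprime_dvd_left (Nat.gcd_dvd_right _ _) hcop.symm) (Nat.Coprime.coprime_dvd_left (Nat.gcd_dvd_right _ _) hcop.symm)
      have hQ0 : 0 < Q := by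
        rw [← hH]; exact Nat.card_pos
      exact Nat.le_of_dvd hQ0 (h7.dvd_of_dvd_mul_left h6)
    have h8 : (H : Set G) = ((H3.tor A hA ((Nat.card A).gcd Q) : Set G) * (H3.tor B hB ((Nat.card B).gcd Q) : Set G) : Set G) := by
      apply Set.eq_of_subset_of_ncard_le _ _ (Set.toFinite _)
      · intro h hh
        obtain ⟨q, hq, r, hr, e⟩ := hHf h hh
        exact ⟨q, hq, r, hr, e.symm⟩
      · have h9 : (H : Set G).ncard = Q := hH
        rw [h9]
        exact h1.le.trans h5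
    intro q hq r hr
    have : q * r ∈ (H : Set G) := by rw [h8]; exact ⟨q, hq, r, hr, rfl⟩
    exact this
  have hqH : ∀ q ∈ H3.tor A hA ((Nat.card A).gcd Q), q ∈ H := fun q hq => by
    have := hHset q hq 1 (one_mem _); rwa [mul_one] at this
  have hrH : ∀ r ∈ H3.tor B hB ((Nat.card B).gcd Q), r ∈ H := fun r hr => by
    have := hHset 1 (one_mem _) r hr; rwa [one_mul] at this
  have hk1 : k = 1 := by
    apply hF4 k (hM0M hk)
    intro x hx
    obtain ⟨y, hy, z, hz, rfl⟩ := H3.tor_split A hA hA1 (hcopg _) hx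
    have h1 : y * k = k * y := hpc y (hpel _ y hy.2) k hk
    have h2 : k * z = z * k := by
      have h3 := hgcomm z (hqH z hz)
      have h4 := hA a haA z hz.1
      have h5 : k⁻¹ * z = z * k⁻¹ := by
        have : k⁻¹ * z * a = z * k⁻¹ * a := by
          rw [mul_assoc, ← h4, ← mul_assoc, h3, mul_assoc]
        exact mul_right_cancel this
      calc k * z = k * (z * k⁻¹) * k := by group
        _ = z * k := by rw [← h5]; group
    rw [← mul_assoc, ← h1, mul_assoc, h2, mul_assoc]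
  have hfin : m = 1 := by
    apply hF4' m (hM0M hm)
    intro x hx
    obtain ⟨y, hy, z, hz, rfl⟩ := H3.tor_split B hB hB1 (hcopg _) hx
    have h1 : y * m = m * y := hpc y (hpel _ y hy.2) m hm
    have h2 : m * z = z * m := by
      have h3 := hgcomm z (hrH z hz)
      rw [hk1, inv_one, one_mul] at h3
      have h4 := hB b hbB z hz.1
      rw [hmeq]
      have h5 : b⁻¹ * z = z * b⁻¹ := by
        calc b⁻¹ * z = b⁻¹ * (z * b) * b⁻¹ := by group
          _ = z * b⁻¹ := by rw [← h4]; group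
      rw [mul_assoc, h3, ← mul_assoc, h5, mul_assoc]
    rw [← mul_assoc, ← h1, mul_assoc, h2, mul_assoc]
  exact hm1 hfin

/-- If a nontrivial finite group G is the product AB of abelian subgroups A and B, then some nontrivial normal subgroup of G is contained in A or in B. -/
theorem result {G : Type*} [Group G] [Finite G] [Nontrivial G] (A B : Subgroup G) [IsMulCommutative A] [IsMulCommutative B] (hAB : ∀ g : G, ∃ a ∈ A, ∃ b ∈ B, g = a * b) : ∃ N : Subgroup G, N.Normal ∧ N ≠ ⊥ ∧ (N ≤ A ∨ N ≤ B) := by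
  by_contra hne
  apply main A B hAB
  intro N hN hNAB
  by_contra hb
  exact hne ⟨N, hN, hb, hNAB⟩

end Cfsg.Agent.S0573
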