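import Cfsg.Statements.S0582
import Mathlib
import Cfsg.Agent.H3.SSol3

set_option autoImplicit false
open Pointwise
open Cfsg

namespace Cfsg.Agent.S0582

open Cfsg.Agent.H3 Cfsg.Agent.H1 Subgroup

theorem key (n : ℕ) : ∀ (G : Type*) [Group G] [Finite G], Nat.card G = n → ∀ (H K : Subgroup G),
    IsSupersolvable H → IsSupersolvable K → Nat.card H = Nat.card K → (Nat.card H).Coprime H.index → ∃ x : G, MulAut.conj x • H = K := by
  induction n using Nat.strong_induction_on with
  | _ n ih =>
  intro G _ _ hn H K hH hK hcard hHall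
  by_cases h1 : Nat.card H = 1
  · refine ⟨1, ?_⟩
    have h2 := Subgroup.card_eq_one.mp h1
    have h3 := Subgroup.card_eq_one.mp (hcard ▸ h1)
    rw [h2, h3, map_one, one_smul]
  obtain ⟨q, hq, hqd, hmax⟩ := exists_largest_prime h1 Nat.card_pos.ne'
  haveI := Fact.mk hq
  have hqi : ¬ q ∣ H.index := fun h => by
    have := Nat.dvd_gcd hqd h
    rw [hHall] at this
    exact hq.one_lt.ne' (Nat.dvd_one.mp this)
  have hKi : K.index = H.index := by
    have h2 := Subgroup.card_mul_index H
    have h3 := Subgroup.card_mul_index K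
    rw [← hcard, ← h2] at h3
    exact Nat.eq_of_mul_eq_mul_left Nat.card_pos h3
  -- the Sylow subgroups
  have hsyl : ∀ L : Subgroup G, IsSupersolvable L → Nat.card L = Nat.card H → L.index = H.index →
      ∃ P : Sylow q G, (P : Subgroup G) ≤ L ∧ L ≤ normalizer ((P : Subgroup G) : Set G) := by
    intro L hL hLc hLi
    obtain ⟨P0⟩ : Nonempty (Sylow q L) := inferInstance
    haveI hP0n := sylow_normal_of_ss hL (fun r hr hrd => hmax r hr (hLc ▸ hrd)) P0
    have hP : IsPGroup q ((P0 : Subgroup L).map L.subtype) := P0.2.map _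
    obtain ⟨P, hPle⟩ := hP.exists_le_sylow
    have hPeq : (P : Subgroup G) = (P0 : Subgroup L).map L.subtype := by
      symm
      apply Subgroup.eq_of_le_of_card_ge hPle
      rw [Subgroup.card_map_of_injective L.subtype_injective]
      apply Nat.le_of_dvd Nat.card_pos
      obtain ⟨k, hk⟩ := IsPGroup.iff_card.mp P.2
      obtain ⟨j, hj⟩ := IsPGroup.iff_card.mp P0.2
      have h4 : q ^ k ∣ Nat.card (P0 : Subgroup L) * ((P0 : Subgroup L).index * L.index) := by
        rw [← mul_assoc, Subgroup.card_mul_index, Subgroup.card_mul_index, ← hk]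
        exact Subgroup.card_subgroup_dvd_card _
      have h5 : (q ^ k).Coprime ((P0 : Subgroup L).index * L.index) := by
        apply Nat.Coprime.pow_left
        apply Nat.Coprime.mul_right
        · exact (Nat.Prime.coprime_iff_not_dvd hq).mpr P0.not_dvd_index
        · exact (Nat.Prime.coprime_iff_not_dvd hq).mpr (hLi ▸ hqi)
      rw [hk]
      exact h5.dvd_of_dvd_mul_right h4
    refine ⟨P, by rw [hPeq]; exact Subgroup.map_subtype_le _, ?_⟩
    rw [hPeq]
    rw [← Subgroup.normal_subgroupOf_iff_le_normalizer (Subgroup.map_subtype_le _)]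
    rw [Subgroup.subgroupOf, Subgroup.comap_map_eq_self_of_injective L.subtype_injective]
    exact hP0n
  obtain ⟨P1, hP1H, hHP1⟩ := hsyl H hH rfl rfl
  obtain ⟨P2, hP2K, hKP2⟩ := hsyl K hK hcard.symm hKi
  obtain ⟨x, hx⟩ := MulAction.exists_smul_eq G P1 P2
  set H' := MulAut.conj x • H with hH'
  have hx' : MulAut.conj x • (P1 : Subgroup G) = (P2 : Subgroup G) := congrArg Sylow.toSubgroup hx
  have hP2H' : (P2 : Subgroup G) ≤ H' := by
    rw [← hx', hH']
    exact (Subgroup.pointwise_smul_le_pointwise_smul_iff).mpr hP1H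
  have hH'c : Nat.card H' = Nat.card H := L0.card_conj_smul _ _
  let e : H ≃* H' := Subgroup.equivSMul (MulAut.conj x) H
  have hH's : IsSupersolvable H' := ss_of_surjective e.toMonoidHom e.surjective hH
  set N := normalizer ((P2 : Subgroup G) : Set G) with hN
  have hH'N : H' ≤ N := by
    rintro _ ⟨h, hh, rfl⟩
    rw [hN, ← hx']
    have h6 := Subgroup.mem_normalizer_iff.mp (hHP1 hh)
    rw [Subgroup.mem_normalizer_iff]
    intro y
    rw [L0.mem_conj_smul, L0.mem_conj_smul, h6]
    have : h * (x⁻¹ * y * x) * h⁻¹ = x⁻¹ * ((MulDistribMulAction.toMonoidEnd (MulAut G) G) (MulAut.conj x) h * y * ((MulDistribMulAction.toMonoidEnd (MulAut G) G) (MulAut.conj x) h)⁻¹) * x := by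
      show h * (x⁻¹ * y * x) * h⁻¹ = x⁻¹ * ((x * h * x⁻¹) * y * (x * h * x⁻¹)⁻¹) * x
      group
    rw [this]
    exact Iff.rfl
  have hP2N : (P2 : Subgroup G) ≤ N := Subgroup.le_normalizer
  haveI hnn : ((P2 : Subgroup G).subgroupOf N).Normal := Subgroup.normal_in_normalizer
  set R := (P2 : Subgroup G).subgroupOf N with hR
  let f := QuotientGroup.mk' R
  have hf : Function.Surjective f := QuotientGroup.mk'_surjective R
  have hRH : ∀ L : Subgroup G, (P2 : Subgroup G) ≤ L → R ≤ L.subgroupOf N := fun L hL => Subgroup.comap_mono hL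
  have hcm : ∀ L : Subgroup G, (P2 : Subgroup G) ≤ L → ((L.subgroupOf N).map f).comap f = L.subgroupOf N := by
    intro L hL
    exact Subgroup.comap_map_eq_self (by rw [QuotientGroup.ker_mk']; exact hRH L hL)
  have hidx : ∀ L : Subgroup G, (P2 : Subgroup G) ≤ L → ((L.subgroupOf N).map f).index = (L.subgroupOf N).index := by
    intro L hL
    rw [← Subgroup.index_comap_of_surjective _ hf, hcm L hL]
  have hRc : 1 < Nat.card R := by
    rw [Nat.card_congr (Subgroup.subgroupOfEquivOfLe hP2N).toEquiv]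
    obtain ⟨k, hk⟩ := IsPGroup.iff_card.mp P2.2
    rcases Nat.eq_zero_or_pos k with h0 | h0
    · exfalso
      rw [h0, pow_zero] at hk
      exact P2.ne_bot_of_dvd_card (hqd.trans (Subgroup.card_subgroup_dvd_card H)) (Subgroup.card_eq_one.mp hk)
    · rw [hk]; exact Nat.one_lt_pow h0.ne' hq.one_lt
  have hlt : Nat.card (N ⧸ R) < n := by
    rw [← hn]
    refine lt_of_lt_of_le ?_ (Nat.le_of_dvd Nat.card_pos (Subgroup.card_subgroup_dvd_card N))
    rw [Subgroup.card_eq_card_quotient_mul_card_subgroup R]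
    exact lt_mul_of_one_lt_right Nat.card_pos hRc
  have hcLN : ∀ L : Subgroup G, L ≤ N → Nat.card (L.subgroupOf N) = Nat.card L := fun L hL =>
    Nat.card_congr (Subgroup.subgroupOfEquivOfLe hL).toEquiv
  have hcq : ∀ L : Subgroup G, L ≤ N → (P2 : Subgroup G) ≤ L → Nat.card ((L.subgroupOf N).map f) * (L.subgroupOf N).index = Nat.card (N ⧸ R) := by
    intro L hL hL2
    rw [← hidx L hL2, Subgroup.card_mul_index]
  have hii : (H'.subgroupOf N).index = (K.subgroupOf N).index := by
    have h7 := Subgroup.card_mul_index (H'.subgroupOf N)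
    have h8 := Subgroup.card_mul_index (K.subgroupOf N)
    rw [hcLN _ hH'N, hH'c] at h7
    rw [hcLN _ hKP2, ← hcard, ← h7] at h8
    exact (Nat.eq_of_mul_eq_mul_left Nat.card_pos h8).symm
  have hss : ∀ L : Subgroup G, L ≤ N → IsSupersolvable L → IsSupersolvable ((L.subgroupOf N).map f) := by
    intro L hL hLs
    let e1 : L ≃* L.subgroupOf N := (Subgroup.subgroupOfEquivOfLe hL).symm
    have h9 : IsSupersolvable (L.subgroupOf N) := ss_of_surjective e1.toMonoidHom e1.surjective hLs
    exact ss_of_surjective (f.subgroupMap (L.subgroupOf N)) (f.subgroupMap_surjective _) h9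
  have hpos : 0 < (K.subgroupOf N).index := Nat.pos_of_ne_zero Subgroup.index_ne_zero_of_finite
  have hc1 : Nat.card ((H'.subgroupOf N).map f) = Nat.card ((K.subgroupOf N).map f) := by
    have h7 := hcq H' hH'N hP2H'
    have h8 := hcq K hKP2 hP2K
    rw [hii, ← h8] at h7
    exact Nat.eq_of_mul_eq_mul_right hpos h7
  obtain ⟨y', hy'⟩ := ih _ hlt (N ⧸ R) rfl ((H'.subgroupOf N).map f) ((K.subgroupOf N).map f) (hss H' hH'N hH's) (hss K hKP2 hK) hc1 (by
    rw [hidx H' hP2H']
    have hd1 : Nat.card ((H'.subgroupOf N).map f) ∣ Nat.card H := by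
      rw [← hH'c, ← hcLN H' hH'N]
      exact Subgroup.card_map_dvd _ _
    have hd2 : (H'.subgroupOf N).index ∣ H.index := by
      have h10 : H'.index = H.index := by
        have h11 := Subgroup.card_mul_index H
        have h12 := Subgroup.card_mul_index H'
        rw [hH'c, ← h11] at h12
        exact Nat.eq_of_mul_eq_mul_left Nat.card_pos h12
      rw [← h10]
      exact Dvd.intro _ (Subgroup.relIndex_mul_index hH'N)
    exact Nat.Coprime.coprime_dvd_left hd1 (Nat.Coprime.coprime_dvd_right hd2 hHall))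
  obtain ⟨y, rfl⟩ := hf y'
  refine ⟨y * x, ?_⟩
  rw [map_mul, mul_smul, ← hH']
  symm
  apply Subgroup.eq_of_le_of_card_ge
  · intro k hk
    rw [L0.mem_conj_smul]
    have hkN : k ∈ N := hKP2 hk
    have h13 : f ⟨k, hkN⟩ ∈ MulAut.conj (f y) • (H'.subgroupOf N).map f := by
      rw [hy']; exact ⟨⟨k, hkN⟩, hk, rfl⟩
    rw [L0.mem_conj_smul, ← map_inv, ← map_mul, ← map_mul] at h13
    have h14 : y⁻¹ * ⟨k, hkN⟩ * y ∈ ((H'.subgroupOf N).map f).comap f := h13
    rw [hcm H' hP2H'] at h14
    exact h14
  · rw [L0.card_conj_smul, hH'c, hcard]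

/-- Let H and K be supersolvable subgroups of a finite group G of the same order, that order being coprime to their index. Then H and K are conjugate in G. -/
theorem result {G : Type*} [Group G] [Finite G] (H K : Subgroup G) (hH : Cfsg.IsSupersolvable H) (hK : Cfsg.IsSupersolvable K) (hcard : Nat.card H = Nat.card K) (hHall : (Nat.card H).Coprime H.index) : ∃ x : G, MulAut.conj x • H = K := by
  exact key _ G rfl H K hH hK hcard hHall

end Cfsg.Agent.S0582
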