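import Cfsg.Statements.S0631
import Cfsg.Agent.H6.CharP
import Cfsg.Agent.H1.PCon
import Mathlib

set_option autoImplicit false
open Cfsg

namespace Cfsg.Agent.S0631

open Cfsg.Agent.L0 Cfsg.Agent.H6

theorem pcon_of_surj {N Y : Type*} [Group N] [Group Y] [Finite N] [Finite Y] {p : ℕ} [Fact p.Prime] (f : N →* Y)
    (hf : Function.Surjective f) (hk : (Nat.card f.ker).Coprime p)
    (hc : Subgroup.centralizer (pCore p Y : Set Y) ≤ pCore p Y) : IsPConstrained p N := by
  have hYb : pPrimeCore p Y = ⊥ := by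
    have h1 : pPrimeCore p Y ≤ Subgroup.centralizer (pCore p Y : Set Y) := by
      rw [← Subgroup.commutator_eq_bot_iff_le_centralizer, eq_bot_iff]
      have h2 : ⁅pPrimeCore p Y, pCore p Y⁆ ≤ pPrimeCore p Y ⊓ pCore p Y :=
        le_inf (Subgroup.commutator_le_left _ _) (Subgroup.commutator_le_right _ _)
      refine h2.trans ?_
      have h3 := Cfsg.Agent.H1.coprime_of_isPGroup (pCore_isPGroup p Y) (pPrimeCore_coprime p Y)
      rw [(Subgroup.inf_eq_bot_of_coprime h3.symm)]
    have h2 : pPrimeCore p Y ≤ pCore p Y := h1.trans hc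
    have h3 := Cfsg.Agent.H1.coprime_of_isPGroup (pCore_isPGroup p Y) (pPrimeCore_coprime p Y)
    have h4 := Subgroup.inf_eq_bot_of_coprime h3.symm
    rwa [inf_eq_left.2 h2] at h4
  have hker : pPrimeCore p N = f.ker := by
    refine le_antisymm ?_ (le_pPrimeCore hk)
    have := pPrimeCore_map_le_of_surjective p f hf
    rw [hYb, le_bot_iff, Subgroup.map_eq_bot_iff] at this
    exact this
  rw [Cfsg.Agent.H1.pConstrained_iff]
  let e : (N ⧸ pPrimeCore p N) ≃* Y := (QuotientGroup.quotientMulEquivOfEq hker).trans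
    (QuotientGroup.quotientKerEquivOfSurjective f hf)
  exact Cfsg.Agent.H1.cent_equiv e.symm (pCore_map_equiv p e.symm) hc

theorem card_ker_cop {G : Type*} [Group G] [Finite G] {p : ℕ} (K : Subgroup G) [K.Normal] (hK : (Nat.card K).Coprime p)
    (L : Subgroup G) {Y : Subgroup (G ⧸ K)} (h : ∀ x : ↥L, (QuotientGroup.mk' K) x ∈ Y) :
    (Nat.card (((QuotientGroup.mk' K).comp L.subtype).codRestrict Y h).ker).Coprime p := by
  set f := ((QuotientGroup.mk' K).comp L.subtype).codRestrict Y h with hf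
  have h1 : f.ker.map L.subtype ≤ K := by
    rintro _ ⟨x, hx, rfl⟩
    have h2 : f x = 1 := hx
    have h3 := congrArg Subtype.val h2
    exact (QuotientGroup.eq_one_iff (x : G)).1 h3
  have h2 : Nat.card f.ker = Nat.card (f.ker.map L.subtype) :=
    Nat.card_congr (f.ker.equivMapOfInjective _ L.subtype_injective).toEquiv
  rw [h2]
  exact Nat.Coprime.coprime_dvd_left (Subgroup.card_dvd_of_le h1) hK

/-- In a p-constrained group the normalizer and the centralizer of any p-subgroup are again p-constrained. -/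
theorem result {G : Type*} [Group G] [Finite G] {p : ℕ} [Fact p.Prime] (hG : Cfsg.IsPConstrained p G) (P : Subgroup G) (hP : IsPGroup p P) : Cfsg.IsPConstrained p ↥(Subgroup.normalizer (P : Set G)) ∧ Cfsg.IsPConstrained p ↥(Subgroup.centralizer (P : Set G)) := by
  have hK := pPrimeCore_coprime p G
  set K := pPrimeCore p G with hKdef
  have hcop : (Nat.card P).Coprime (Nat.card K) := Cfsg.Agent.H1.coprime_of_isPGroup hP hK
  have hsol : Group.IsSolvable P ∨ Group.IsSolvable K := Or.inl (Cfsg.Agent.H1.isSolvable_of_isPGroup hP)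
  rw [Cfsg.Agent.H1.pConstrained_iff, ← cp_top_iff] at hG
  set Pb := P.map (QuotientGroup.mk' K) with hPb
  have hPbp : IsPGroup p Pb := hP.map _
  have hN : CP p (Subgroup.normalizer (Pb : Set (G ⧸ K))) := by
    refine hG.loc (B := Pb) le_top hPbp (le_pCoreOf Subgroup.le_normalizer le_rfl hPbp) le_top ?_
    exact inf_le_right.trans (H6.centralizer_le_norm Pb)
  have hC : CP p (Subgroup.centralizer (Pb : Set (G ⧸ K))) :=
    hN.normal (H6.centralizer_le_norm Pb) (le_norm_centralizer le_rfl)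
  rw [cp_iff_cent] at hN hC
  constructor
  · refine pcon_of_surj (((QuotientGroup.mk' K).comp (Subgroup.normalizer (P : Set G)).subtype).codRestrict
      (Subgroup.normalizer (Pb : Set (G ⧸ K))) ?_) ?_ (card_ker_cop K hK _ _) hN
    · rintro ⟨x, hx⟩
      exact Subgroup.le_normalizer_map _ ⟨x, hx, rfl⟩
    · rintro ⟨y, hy⟩
      obtain ⟨g, rfl⟩ := QuotientGroup.mk'_surjective K y
      obtain ⟨a, ha, m, hm, rfl⟩ := Cfsg.Agent.H1.normalizer_lift hcop hsol hy
      refine ⟨⟨m, hm⟩, Subtype.ext ?_⟩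
      have h3 : QuotientGroup.mk' K a = 1 := (QuotientGroup.eq_one_iff a).mpr ha
      show QuotientGroup.mk' K m = QuotientGroup.mk' K (a * m)
      rw [map_mul, h3, one_mul]
  · refine pcon_of_surj (((QuotientGroup.mk' K).comp (Subgroup.centralizer (P : Set G)).subtype).codRestrict
      (Subgroup.centralizer (Pb : Set (G ⧸ K))) ?_) ?_ (card_ker_cop K hK _ _) hC
    · rintro ⟨x, hx⟩
      rw [Subgroup.mem_centralizer_iff]
      rintro _ ⟨y, hy, rfl⟩
      have := Subgroup.mem_centralizer_iff.1 hx y hy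
      exact (map_mul (QuotientGroup.mk' K) y x).symm.trans ((congrArg _ this).trans (map_mul (QuotientGroup.mk' K) x y))
    · rintro ⟨y, hy⟩
      obtain ⟨g, rfl⟩ := QuotientGroup.mk'_surjective K y
      obtain ⟨a, ha, m, hm, rfl⟩ := Cfsg.Agent.H1.centralizer_lift hcop hsol hy
      refine ⟨⟨m, hm⟩, Subtype.ext ?_⟩
      have h3 : QuotientGroup.mk' K a = 1 := (QuotientGroup.eq_one_iff a).mpr ha
      show QuotientGroup.mk' K m = QuotientGroup.mk' K (a * m)
      rw [map_mul, h3, one_mul]

end Cfsg.Agent.S0631
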