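import Cfsg.Statements.S0648
import Cfsg.Agent.H4.QuadComm

set_option autoImplicit false
open Cfsg

namespace Cfsg.Agent.S0648

/-- If A acts on B centralizing [B, B], then [B, A] has derived subgroup central in B, and for abelian A and b ∈ B with [[b, A], A, A] = 1 the derived subgroup of the subgroup [b, A] generated by the commutators of b with A has exponent dividing 2. -/
theorem result {G : Type*} [Group G] [Finite G] (A B : Subgroup G) (hAB : A ≤ Subgroup.normalizer (B : Set G)) (hc : ⁅⁅B, B⁆, A⁆ = ⊥) : ⁅⁅B, A⁆, ⁅B, A⁆⁆ ≤ B ⊓ Subgroup.centralizer (B : Set G) ∧ (IsMulCommutative A → ∀ b ∈ B, ⁅⁅(Subgroup.closure {g : G | ∃ a ∈ A, g = b⁻¹ * a * b * a⁻¹}), A⁆, A⁆ = ⊥ → ∀ w ∈ ⁅(Subgroup.closure {g : G | ∃ a ∈ A, g = b⁻¹ * a * b * a⁻¹}), (Subgroup.closure {g : G | ∃ a ∈ A, g = b⁻¹ * a * b * a⁻¹})⁆, w ^ 2 = 1) := by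
  obtain ⟨hDB, _, h2⟩ := H4.comm_A hAB hc
  refine ⟨le_inf ?_ ?_, ?_⟩
  · rw [Subgroup.commutator_le]
    intro x hx y hy
    exact B.mul_mem (B.mul_mem (B.mul_mem (hDB hx) (hDB hy)) (B.inv_mem (hDB hx))) (B.inv_mem (hDB hy))
  · rwa [Subgroup.commutator_eq_bot_iff_le_centralizer] at h2
  · intro hA b hb hq
    exact H4.quad_sq hAB hc (fun a ha c hc' => Subgroup.mul_comm_of_mem_isMulCommutative A ha hc') hb hq

end Cfsg.Agent.S0648
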