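import Cfsg.Statements.S0650
import Cfsg.Agent.H2.Replace
import Mathlib

set_option autoImplicit false
open Cfsg

namespace Cfsg.Agent.S0650

open Cfsg.Agent.H2
open scoped commutatorElement

/-- The Glauberman replacement Theorem: from an abelian A ⊇ [B, B] not normalized by the normal subgroup B and a suitable b ∈ B one gets the abelian subgroup A* = (A ∩ b⁻¹Ab)[A, b] of the same order, containing [B, B], meeting B strictly more than A does but not containing B, mutually normalizing with A, with strictly larger normalizer containing b, and (p odd) of no larger exponent. -/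
theorem result {S : Type*} [Group S] [Finite S] {p : ℕ} [Fact p.Prime] (hS : IsPGroup p S) (B : Subgroup S) [B.Normal] (hB2 : p = 2 → IsMulCommutative B) (A : Subgroup S) (hA : IsMulCommutative A) (hBA : ⁅B, B⁆ ≤ A) (hnot : ¬ B ≤ Subgroup.normalizer (A : Set S)) (b : S) (hb : b ∈ B) (hbN : b ∈ Subgroup.normalizer ((Subgroup.normalizer (A : Set S)) : Set S)) (hbA : b ∉ Subgroup.normalizer (A : Set S)) : Nat.card ↥((A ⊓ A.map (MulAut.conj (b⁻¹)).toMonoidHom) ⊔ Subgroup.closure {g : S | ∃ a ∈ A, g = a * b⁻¹ * a⁻¹ * b}) = Nat.card A ∧ IsMulCommutative ↥((A ⊓ A.map (MulAut.conj (b⁻¹)).toMonoidHom) ⊔ Subgroup.closure {g : S | ∃ a ∈ A, g = a * b⁻¹ * a⁻¹ * b}) ∧ ⁅B, B⁆ ≤ ((A ⊓ A.map (MulAut.conj (b⁻¹)).toMonoidHom) ⊔ Subgroup.closure {g : S | ∃ a ∈ A, g = a * b⁻¹ * a⁻¹ * b}) ∧ A ⊓ B < ((A ⊓ A.map (MulAut.conj (b⁻¹)).toMonoidHom) ⊔ Subgroup.closure {g : S | ∃ a ∈ A, g = a * b⁻¹ * a⁻¹ * b}) ⊓ B ∧ ((A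 ⊓ A.map (MulAut.conj (b⁻¹)).toMonoidHom) ⊔ Subgroup.closure {g : S | ∃ a ∈ A, g = a * b⁻¹ * a⁻¹ * b}) ⊓ B < B ∧ A ≤ Subgroup.normalizer (((A ⊓ A.map (MulAut.conj (b⁻¹)).toMonoidHom) ⊔ Subgroup.closure {g : S | ∃ a ∈ A, g = a * b⁻¹ * a⁻¹ * b} : Subgroup S) : Set S) ∧ ((A ⊓ A.map (MulAut.conj (b⁻¹)).toMonoidHom) ⊔ Subgroup.closure {g : S | ∃ a ∈ A, g = a * b⁻¹ * a⁻¹ * b}) ≤ Subgroup.normalizer (A : Set S) ∧ b ∈ Subgroup.normalizer (((A ⊓ A.map (MulAut.conj (b⁻¹)).toMonoidHom) ⊔ Subgroup.closure {g : S | ∃ a ∈ A, g = a * b⁻¹ * a⁻¹ * b} : Subgroup S) : Set S) ∧ Subgroup.normalizer (A : Set S) < Subgroup.normalizer (((A ⊓ A.map (MulAut.conj (b⁻¹)).toMonoidHom) ⊔ Subgroup.closure {g : S | ∃ a ∈ A, g = a * b⁻¹ * a⁻¹ * b} : Subgroup S) : Set S) ∧ (p ≠ 2 → Monoid.exponent ↥((A ⊓ A.map (MulAut.conj (b⁻¹)).toMonoidHom) ⊔ Subgroup.closure {g : S | ∃ a ∈ A, g = a * b⁻¹ * a⁻¹ * b}) ∣ Monoid.exponent A) :=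 by
  classical
  have hpr := (Fact.out : p.Prime)
  have hcomm : ∀ x ∈ A, ∀ y ∈ A, x * y = y * x := fun x hx y hy =>
    congrArg Subtype.val (mul_comm' (⟨x, hx⟩ : A) ⟨y, hy⟩)
  have hw : ∀ w ∈ ⁅B, B⁆, b⁻¹ * w * b = w⁻¹ → w = 1 := by
    intro w hwB hwb
    by_cases hp2 : p = 2
    · haveI := hB2 hp2
      have h1 : ⁅B, B⁆ = ⊥ := by
        rw [eq_bot_iff, Subgroup.commutator_le]
        intro x hx y hy
        have : x * y = y * x := congrArg Subtype.val (mul_comm' (⟨x, hx⟩ : B) ⟨y, hy⟩)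
        rw [Subgroup.mem_bot, commutatorElement_eq_one_iff_mul_comm]
        exact this
      rw [h1, Subgroup.mem_bot] at hwB
      exact hwB
    · obtain ⟨k, hk⟩ := hS b
      obtain ⟨m, hm⟩ := hS w
      exact eq_one_of_conj_inv ((hpr.odd_of_ne_two hp2).pow) hk ((hpr.odd_of_ne_two hp2).pow) hm hwb
  have hbN' : ∀ n, n ∈ Subgroup.normalizer (A : Set S) ↔ b * n * b⁻¹ ∈ Subgroup.normalizer (A : Set S) :=
    Subgroup.mem_normalizer_iff.mp hbN
  have h : Rep A B ⁅B, B⁆ (Subgroup.normalizer (A : Set S)) (MulAut.conj b⁻¹) :=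
    rep_of_conj hb hcomm (fun n hn a ha => (Subgroup.mem_normalizer_iff.mp hn a).1 ha) Subgroup.le_normalizer hbN' hBA hw
  have hβ : ∀ x, (MulAut.conj b⁻¹) x = b⁻¹ * x * b := by intro x; rw [MulAut.conj_apply, inv_inv]
  have hT : ((A ⊓ A.map (MulAut.conj (b⁻¹)).toMonoidHom) ⊔ Subgroup.closure {g : S | ∃ a ∈ A, g = a * b⁻¹ * a⁻¹ * b}) = h.T := by
    have hZ : A ⊓ A.map (MulAut.conj (b⁻¹)).toMonoidHom = Rep.Z A (MulAut.conj b⁻¹) := by
      unfold Rep.Z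
      congr 1
      exact Subgroup.map_equiv_eq_comap_symm (MulAut.conj b⁻¹) A
    rw [hZ]
    apply le_antisymm
    · refine sup_le h.ZT ?_
      rw [Subgroup.closure_le]
      rintro _ ⟨a, ha, rfl⟩
      have := h.xT ha
      have e : a * ((MulAut.conj b⁻¹) a)⁻¹ = a * b⁻¹ * a⁻¹ * b := by rw [hβ]; group
      rwa [e] at this
    · rintro _ ⟨z, a, hz, ha, rfl⟩
      refine Subgroup.mul_mem _ (le_sup_left (a := Rep.Z A (MulAut.conj b⁻¹)) hz)
        (le_sup_right (a := Rep.Z A (MulAut.conj b⁻¹)) (Subgroup.subset_closure ⟨a, ha, ?_⟩))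
      rw [hβ]; group
  rw [hT]
  obtain ⟨a, ha, hab⟩ : ∃ a ∈ A, (MulAut.conj b⁻¹) a ∉ A := by
    by_contra hcon
    push Not at hcon
    apply hbA
    have h1 : b⁻¹ ∈ Subgroup.normalizer (A : Set S) := mem_norm_of_conj (fun x hx => hcon x hx)
    have := Subgroup.inv_mem _ h1
    rwa [inv_inv] at this
  have hA_T : A ≤ Subgroup.normalizer (h.T : Set S) := fun c hc => mem_norm_of_conj (fun g hg => h.A_norm_T hc hg)
  have hb_T : b ∈ Subgroup.normalizer (h.T : Set S) := by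
    have h1 : b⁻¹ ∈ Subgroup.normalizer (h.T : Set S) := mem_norm_of_conj (fun x hx => h.beta_T hx)
    have := Subgroup.inv_mem _ h1
    rwa [inv_inv] at this
  refine ⟨h.card_T, ⟨⟨fun x y => Subtype.ext (h.T_comm x x.2 y y.2)⟩⟩, fun k hk => h.ZT (h.KZ hk), ?_, ?_, hA_T,
    h.T_le_N, hb_T, ?_, ?_⟩
  · refine lt_of_le_of_ne (le_inf (fun x hx => h.ZT (h.ABZ hx.1 hx.2)) inf_le_right) ?_
    intro he
    have h1 : a * ((MulAut.conj b⁻¹) a)⁻¹ ∈ h.T ⊓ B := ⟨h.xT ha, h.aB a⟩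
    rw [← he] at h1
    apply hab
    have := A.mul_mem (A.inv_mem h1.1) ha
    have e : (a * ((MulAut.conj b⁻¹) a)⁻¹)⁻¹ * a = (MulAut.conj b⁻¹) a := by group
    rwa [e] at this
  · refine lt_of_le_of_ne inf_le_right ?_
    intro he
    have h1 : b ∈ h.T ⊓ B := by rw [he]; exact hb
    exact hbA (h.T_le_N h1.1)
  · refine lt_of_le_of_ne (fun n hn => mem_norm_of_conj (fun g hg => h.N_norm_T hn hg)) ?_
    intro he
    apply hbA
    rw [he]; exact hb_T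
  · intro hp2
    apply Monoid.exponent_dvd_of_forall_pow_eq_one
    intro g
    apply Subtype.ext
    have hm : Odd (Monoid.exponent A) := by
      obtain ⟨k, hk⟩ := IsPGroup.iff_card.mp (hS.to_subgroup A)
      have h1 : Monoid.exponent A ∣ p ^ k := by rw [← hk]; exact Group.exponent_dvd_nat_card
      exact Odd.of_dvd_nat ((hpr.odd_of_ne_two hp2).pow) h1
    exact h.T_pow hm (fun a ha => congrArg Subtype.val (Monoid.pow_exponent_eq_one (⟨a, ha⟩ : A))) g g.2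

end Cfsg.Agent.S0650
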