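import Cfsg.Statements.S0655
import Mathlib
import Cfsg.Agent.H1.ThomJ

set_option autoImplicit false
open Cfsg

namespace Cfsg.Agent.S0655

open scoped commutatorElement Pointwise


/-- In a p-group the intersection of all elementary abelian subgroups of largest order is the subgroup generated by the elements of order dividing p in the centre (equivalently the centralizer) of the elementary-version Thompson subgroup. -/
theorem result {S : Type*} [Group S] [Finite S] {p : ℕ} [Fact p.Prime] (hS : IsPGroup p S) : sInf (Cfsg.maxElementaryAbelianSubgroups p S) = Cfsg.omegaCenterThompson p S ∧ Cfsg.omegaCenterThompson p S = Cfsg.omegaOne p (Subgroup.centralizer (Cfsg.thompsonSubgroup p S : Set S)) := by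
  have key : ∀ K : Subgroup S, sInf (Cfsg.maxElementaryAbelianSubgroups p S) ≤ K → K ≤ Subgroup.centralizer (Cfsg.thompsonSubgroup p S : Set S) →
      Cfsg.omegaOne p K = sInf (Cfsg.maxElementaryAbelianSubgroups p S) := by
    intro K h1 h2
    rw [Cfsg.omegaOne]
    apply le_antisymm
    · rw [Subgroup.closure_le]
      rintro x ⟨hx, hxp⟩
      exact Cfsg.Agent.H1.mem_sInf_maxEA_iff.mpr ⟨h2 hx, hxp⟩
    · intro x hx
      exact Subgroup.subset_closure ⟨h1 hx, (Cfsg.Agent.H1.mem_sInf_maxEA_iff.mp hx).2⟩
  have h3 : sInf (Cfsg.maxElementaryAbelianSubgroups p S) ≤ Subgroup.centralizer (Cfsg.thompsonSubgroup p S : Set S) := fun x hx =>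
    (Cfsg.Agent.H1.mem_sInf_maxEA_iff.mp hx).1
  have h4 : sInf (Cfsg.maxElementaryAbelianSubgroups p S) ≤ Cfsg.thompsonSubgroup p S := by
    obtain ⟨A, hA⟩ := Cfsg.Agent.H1.exists_maxEA p S
    exact (sInf_le hA).trans (le_sSup hA)
  rw [Cfsg.omegaCenterThompson, key _ (le_inf h4 h3) inf_le_right, key _ h3 le_rfl]
  exact ⟨rfl, rfl⟩

end Cfsg.Agent.S0655
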