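import Cfsg.Statements.S0666
import Mathlib
import Cfsg.Agent.H3.Part
import Cfsg.Agent.H3.FrobThm

set_option autoImplicit false
open Cfsg

namespace Cfsg.Agent.S0666

open Subgroup H3

/-- A Frobenius group acting on a nontrivial abelian group of order prime to that of its kernel, with the kernel acting without nontrivial fixed points, has a complement with a nontrivial fixed point. -/
theorem result {G : Type*} [Group G] [Finite G] (V F : Subgroup G) (hVab : IsMulCommutative V) (hV1 : V ≠ ⊥) (hFV : F ≤ Subgroup.normalizer (V : Set G)) (H : Subgroup ↥F) (hH : Cfsg.IsFrobeniusComplement H) (hcop : (Nat.card V).Coprime (Nat.card (Cfsg.frobeniusKernel H))) (hCK : V ⊓ Subgroup.centralizer (Subtype.val '' Cfsg.frobeniusKernel H : Set G) = ⊥) : V ⊓ Subgroup.centralizer ((H.map F.subtype : Subgroup G) : Set G) ≠ ⊥ := by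
  classical
  intro hbot
  apply hV1
  have hV : ∀ a ∈ V, ∀ b ∈ V, a * b = b * a := fun a ha b hb => congrArg Subtype.val (hVab.is_comm.comm (⟨a, ha⟩ : V) ⟨b, hb⟩)
  letI : CommGroup V := commGroupOf V hV
  let c : F →* MulAut V := actOn F V hFV
  have hc : ∀ (f : F) (v : V), ((c f v : V) : G) = f * v * (f : G)⁻¹ := fun f v => actOn_apply F V hFV f v
  obtain ⟨K, hK1, hK2, hK3⟩ := frobenius_kernel H hH
  have hKm : ∀ x : F, x ∈ K ↔ x ∈ frobeniusKernel H := fun x => by rw [← hK1]; rfl
  have hH' := (isFrobeniusComplement_iff H).mp hH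
  have := Fintype.ofFinite K
  let B : Option K → Subgroup F := fun o => match o with
    | none => K
    | some k => H.map (MulAut.conj (k : F)).toMonoidHom
  have hBs : ∀ (k : K) (a : F), a ∈ B (some k) ↔ (k : F)⁻¹ * a * k ∈ H := by
    intro k a
    constructor
    · rintro ⟨h, hh, rfl⟩
      have : (k : F)⁻¹ * (MulAut.conj (k : F)).toMonoidHom h * k = h := by
        show (k : F)⁻¹ * (k * h * (k : F)⁻¹) * k = h
        group
      rw [this]; exact hh
    · intro h
      refine ⟨_, h, ?_⟩
      show (k : F) * ((k : F)⁻¹ * a * k) * (k : F)⁻¹ = a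
      group
  have hKH : ∀ x : F, x ∈ K → x ∈ H → x = 1 := by
    intro x h1 h2
    have := hK3.disjoint
    rw [disjoint_iff] at this
    rw [← Subgroup.mem_bot, ← this]
    exact Subgroup.mem_inf.mpr ⟨h1, h2⟩
  have key : ∀ v : V, v ^ Fintype.card (Option K) = v := by
    intro v
    apply partition_trick c ⊤ B (fun _ => le_top) ?_ ?_ none
    · intro a _ ha1
      by_cases haK : a ∈ K
      · refine ⟨none, haK, ?_⟩
        rintro (_ | k) hk
        · rfl
        · exfalso
          have h1 : (k : F)⁻¹ * a * k ∈ H := (hBs k a).mp hk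
          have h2 : (k : F)⁻¹ * a * k ∈ K := by
            have := hK2.conj_mem a haK (k : F)⁻¹
            rwa [inv_inv] at this
          have h3 := hKH _ h2 h1
          apply ha1
          have : a = k * ((k : F)⁻¹ * a * k) * (k : F)⁻¹ := by group
          rw [this, h3]; group
      · obtain ⟨g, hg⟩ : ∃ g : F, g⁻¹ * a * g ∈ H := by
          by_contra hcon
          push Not at hcon
          apply haK
          rw [hKm, mem_frobeniusKernel_iff]
          exact Or.inr hcon
        obtain ⟨⟨k, h⟩, hkh⟩ := hK3.2 g
        have hkh' : (k : F) * h = g := hkh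
        have h1 : (k : F)⁻¹ * a * k ∈ H := by
          have : (k : F)⁻¹ * a * k = h * (g⁻¹ * a * g) * (h : F)⁻¹ := by rw [← hkh']; group
          rw [this]
          exact H.mul_mem (H.mul_mem h.2 hg) (H.inv_mem h.2)
        refine ⟨some k, (hBs k a).mpr h1, ?_⟩
        rintro (_ | k') hk'
        · exact absurd hk' haK
        · have h2 := (hBs k' a).mp hk'
          congr 1
          by_contra hne
          have h3 : (k' : F)⁻¹ * k ∉ H := by
            intro h4
            have h5 := hKH _ (K.mul_mem (K.inv_mem k'.2) k.2) h4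
            exact hne (Subtype.ext (inv_mul_eq_one.mp h5))
          have h4 := hH'.2.2 _ h3 _ h2 (by
            have : ((k' : F)⁻¹ * k)⁻¹ * ((k' : F)⁻¹ * a * k') * ((k' : F)⁻¹ * k) = (k : F)⁻¹ * a * k := by group
            rw [this]; exact h1)
          apply ha1
          have : a = k' * ((k' : F)⁻¹ * a * k') * (k' : F)⁻¹ := by group
          rw [this, h4]; group
    · rintro (_ | k) v hv
      · apply Subtype.ext
        show (v : G) = 1
        rw [← Subgroup.mem_bot, ← hCK]
        refine Subgroup.mem_inf.mpr ⟨v.2, Subgroup.mem_centralizer_iff.mpr ?_⟩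
        rintro _ ⟨x, hx, rfl⟩
        have h1 := congrArg Subtype.val (hv x ((hKm x).mpr hx))
        rw [hc] at h1
        exact mul_inv_eq_iff_eq_mul.mp h1
      · have h1 : c (k : F)⁻¹ v = 1 := by
          apply Subtype.ext
          show ((c (k : F)⁻¹ v : V) : G) = 1
          rw [← Subgroup.mem_bot, ← hbot]
          refine Subgroup.mem_inf.mpr ⟨(c (k : F)⁻¹ v).2, Subgroup.mem_centralizer_iff.mpr ?_⟩
          rintro _ ⟨h, hh, rfl⟩
          have h2 := hv (k * h * (k : F)⁻¹) ((hBs k _).mpr (by
            have : (k : F)⁻¹ * (k * h * (k : F)⁻¹) * k = h := by group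
            rw [this]; exact hh))
          have h3 : c h (c (k : F)⁻¹ v) = c (k : F)⁻¹ v := by
            rw [← MulAut.mul_apply, ← map_mul]
            conv_rhs => rw [← h2]
            rw [← MulAut.mul_apply, ← map_mul]
            congr 2
            group
          have h4 := congrArg Subtype.val h3
          rw [hc h] at h4
          exact mul_inv_eq_iff_eq_mul.mp h4
        exact (MulEquiv.map_eq_one_iff _).mp h1
  rw [Subgroup.eq_bot_iff_forall]
  intro v hv
  have h1 := key ⟨v, hv⟩
  rw [Fintype.card_option, pow_succ, mul_eq_right, ← Nat.card_eq_fintype_card] at h1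
  have h2 : Nat.card K = Nat.card (frobeniusKernel H) := congrArg (fun S : Set F => Nat.card S) hK1
  rw [h2] at h1
  exact congrArg Subtype.val (eq_one_of_pow_coprime hcop _ h1)

end Cfsg.Agent.S0666
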