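import Cfsg.Statements.S0680
import Mathlib
import Cfsg.Agent.H3.FrobStr
import Cfsg.Agent.H3.Basic

set_option autoImplicit false
open Cfsg

namespace Cfsg.Agent.S0680

open H3 MulAction

/-- A finite sharply doubly transitive permutation group has degree a prime power `p ^ j`; a Sylow `p`-subgroup is normal, elementary abelian and regular, and consists of the identity together with the elements without fixed points. (Frobenius' Theorem is not needed.) -/
theorem result {α : Type*} [Fintype α] [DecidableEq α] (G : Subgroup (Equiv.Perm α)) [MulAction.IsMultiplyPretransitive G α 2] (hsharp : ∀ x : Fin 2 ↪ α, MulAction.stabilizer G x = ⊥) (h2 : 2 ≤ Fintype.card α) : ∃ p j : ℕ, p.Prime ∧ 1 ≤ j ∧ Fintype.card α = p ^ j ∧ ∀ (hp : Fact p.Prime) (P : Sylow p G), (P : Subgroup G).Normal ∧ IsMulCommutative (P : Subgroup G) ∧ (∀ x ∈ (P : Subgroup G), x ^ p = 1) ∧ MulAction.IsPretransitive (P : Subgroup G) α ∧ (∀ a : α, MulAction.stabilizer (P : Subgroup G) a = ⊥) ∧ ∀ g : G, g ∈ (P : Subgroup G) ↔ g = 1 ∨ ∀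 a : α, g • a ≠ a := by
  classical
  have hfinG : Finite G := inferInstance
  have h2t : ∀ a b c d : α, a ≠ b → c ≠ d → ∃ g : G, g • a = c ∧ g • b = d := by
    intro a b c d hab hcd
    exact (MulAction.is_two_pretransitive_iff (G := G) (α := α)).mp inferInstance hab hcd
  have hsh : ∀ (g : G) (a b : α), a ≠ b → g • a = a → g • b = b → g = 1 := by
    intro g a b hab ha hb
    have h3 := hsharp ⟨![a, b], by
      intro i j hij
      fin_cases i <;> fin_cases j <;> simp_all [hab.symm]⟩
    rw [Subgroup.eq_bot_iff_forall] at h3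
    apply h3
    rw [mem_stabilizer_iff]
    ext i
    fin_cases i
    · exact ha
    · exact hb
  obtain ⟨a, b, hab⟩ : ∃ a b : α, a ≠ b := Fintype.exists_pair_of_one_lt_card (by omega)
  have htr : ∀ c d : α, ∃ g : G, g • c = d := by
    intro c d
    have hex : ∀ x : α, ∃ y, x ≠ y := by
      intro x
      by_cases h : x = a
      · exact ⟨b, h ▸ hab⟩
      · exact ⟨a, h⟩
    obtain ⟨c', hc'⟩ := hex c
    obtain ⟨d', hd'⟩ := hex d
    obtain ⟨g, hg, _⟩ := h2t c c' d d' hc' hd'
    exact ⟨g, hg⟩
  haveI hpt : IsPretransitive G α := ⟨htr⟩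
  set H := stabilizer G a with hH
  have hHt : H ≠ ⊤ := by
    intro h
    obtain ⟨g, hg⟩ := htr a b
    have : g ∈ H := by rw [h]; trivial
    rw [hH, mem_stabilizer_iff, hg] at this
    exact hab this.symm
  have hstab : ∀ (g : G), (∃ c : α, g • c = c) ↔ ∃ u : G, u⁻¹ * g * u ∈ H := by
    intro g
    constructor
    · rintro ⟨c, hc⟩
      obtain ⟨u, rfl⟩ := htr a c
      refine ⟨u, ?_⟩
      rw [hH, mem_stabilizer_iff, mul_smul, mul_smul, hc, inv_smul_smul]
    · rintro ⟨u, hu⟩
      refine ⟨u • a, ?_⟩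
      rw [hH, mem_stabilizer_iff, mul_smul, mul_smul, inv_smul_eq_iff] at hu
      exact hu
  have hidx : H.index = Fintype.card α := by
    rw [hH, MulAction.index_stabilizer_of_transitive, Nat.card_eq_fintype_card]
  obtain ⟨K, hKn, hKmem, hKcard⟩ : ∃ K : Subgroup G, K.Normal ∧ (∀ g : G, g ∈ K ↔ g = 1 ∨ ∀ c : α, g • c ≠ c) ∧
      Nat.card K = Fintype.card α := by
    by_cases hHb : H = ⊥
    · refine ⟨⊤, inferInstance, ?_, ?_⟩
      · intro g
        constructor
        · intro _
          by_contra hcon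
          push Not at hcon
          obtain ⟨hg1, hg2⟩ := hcon
          obtain ⟨u, hu⟩ := (hstab g).mp hg2
          rw [hHb, Subgroup.mem_bot] at hu
          apply hg1
          have : g = u * (u⁻¹ * g * u) * u⁻¹ := by group
          rw [this, hu]; group
        · intro _; trivial
      · rw [Subgroup.card_top, ← hidx, hHb, Subgroup.index_bot]
    · have hFC : IsFrobeniusComplement H := by
        rw [isFrobeniusComplement_iff]
        refine ⟨hHb, hHt, ?_⟩
        intro g hg x hx hgx
        apply hsh x a (g • a) (fun h => hg h.symm) hx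
        rw [hH, mem_stabilizer_iff, mul_smul, mul_smul, inv_smul_eq_iff] at hgx
        exact hgx
      obtain ⟨K, hK, hKn, hKc⟩ := frobenius_kernel H hFC
      refine ⟨K, hKn, ?_, ?_⟩
      · intro g
        rw [← SetLike.mem_coe, hK, mem_frobeniusKernel_iff]
        apply or_congr_right
        have := not_congr (hstab g)
        push Not at this
        exact this.symm
      · rw [← hidx]
        exact (hKc.index_eq_card).symm
  have hconj : ∀ k ∈ K, ∀ k' ∈ K, k ≠ 1 → k' ≠ 1 → ∃ g : G, g * k * g⁻¹ = k' := by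
    intro k hk k' hk' hk1 hk1'
    have e1 : a ≠ k • a := by
      rcases (hKmem k).mp hk with h | h
      · exact absurd h hk1
      · exact (h a).symm
    have e2 : a ≠ k' • a := by
      rcases (hKmem k').mp hk' with h | h
      · exact absurd h hk1'
      · exact (h a).symm
    obtain ⟨g, hg1, hg2⟩ := h2t a (k • a) a (k' • a) e1 e2
    refine ⟨g, ?_⟩
    have h3 : k'⁻¹ * (g * k * g⁻¹) ∈ K := K.mul_mem (K.inv_mem hk') (hKn.conj_mem k hk g)
    have h4 : (k'⁻¹ * (g * k * g⁻¹)) • a = a := by
      have h5 : g⁻¹ • a = a := by rw [inv_smul_eq_iff, hg1]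
      rw [mul_smul, mul_smul, mul_smul, h5, hg2, inv_smul_smul]
    rcases (hKmem _).mp h3 with h | h
    · exact (inv_mul_eq_one.mp h).symm
    · exact absurd h4 (h a)
  obtain ⟨p, hp, hpd⟩ := Nat.exists_prime_and_dvd (show Nat.card K ≠ 1 by omega)
  haveI hpf : Fact p.Prime := ⟨hp⟩
  obtain ⟨x, hx⟩ := exists_prime_orderOf_dvd_card' (G := K) p hpd
  have hx1 : (x : G) ≠ 1 := by
    intro h0
    have : x = 1 := Subtype.ext h0
    rw [this, orderOf_one] at hx
    exact hp.one_lt.ne hx
  have hxp : (x : G) ^ p = 1 := by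
    rw [← Subgroup.orderOf_coe] at hx
    rw [← hx]; exact pow_orderOf_eq_one _
  have hpow : ∀ k ∈ K, k ^ p = 1 := by
    intro k hk
    by_cases hk1 : k = 1
    · rw [hk1, one_pow]
    · obtain ⟨g, rfl⟩ := hconj x x.2 k hk hx1 hk1
      rw [conj_pow, hxp]; group
  have hKp : IsPGroup p K := fun k => ⟨1, by rw [pow_one]; exact Subtype.ext (hpow k k.2)⟩
  obtain ⟨j, hj⟩ := IsPGroup.iff_card.mp hKp
  have hKab : ∀ k ∈ K, ∀ k' ∈ K, k * k' = k' * k := by
    haveI : Nontrivial K := ⟨⟨x, 1, fun h => hx1 (congrArg Subtype.val h)⟩⟩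
    haveI := hKp.center_nontrivial
    obtain ⟨z, hz⟩ := exists_ne (1 : Subgroup.center K)
    have hz1 : ((z : K) : G) ≠ 1 := fun h => hz (Subtype.ext (Subtype.ext h))
    intro k hk k' hk'
    by_cases hk1 : k = 1
    · rw [hk1]; group
    · obtain ⟨g, hg⟩ := hconj (z : K) (z : K).2 k hk hz1 hk1
      have h3 := Subgroup.mem_center_iff.mp z.2 ⟨g⁻¹ * k' * g, by
        have := hKn.conj_mem k' hk' g⁻¹
        rwa [inv_inv] at this⟩
      have h4 : (g⁻¹ * k' * g) * ((z : K) : G) = (z : K) * (g⁻¹ * k' * g) := congrArg Subtype.val h3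
      rw [← hg]
      calc g * ((z : K) : G) * g⁻¹ * k' = g * (((z : K) : G) * (g⁻¹ * k' * g)) * g⁻¹ := by group
        _ = g * ((g⁻¹ * k' * g) * ((z : K) : G)) * g⁻¹ := by rw [h4]
        _ = _ := by group
  have hj1 : 1 ≤ j := by
    by_contra h
    have : j = 0 := by omega
    rw [this, pow_zero] at hj
    omega
  have hreg : ∀ k ∈ K, ∀ c : α, k • c = c → k = 1 := by
    intro k hk c hc
    rcases (hKmem k).mp hk with h | h
    · exact h
    · exact absurd hc (h c)
  refine ⟨p, j, hp, hj1, by rw [← hKcard, hj], ?_⟩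
  intro hp' P
  -- p does not divide the index of K
  have hnd : ¬ p ∣ K.index := by
    intro hd
    have hdH : p ∣ Nat.card H := by
      have h3 := K.card_mul_index
      have h4 := H.card_mul_index
      rw [hKcard] at h3
      rw [hidx, mul_comm, ← h3] at h4
      have h5 : 0 < Fintype.card α := by omega
      rw [Nat.eq_of_mul_eq_mul_left h5 h4]
      exact hd
    obtain ⟨h, hh⟩ := exists_prime_orderOf_dvd_card' (G := H) p hdH
    have hh1 : (h : G) ≠ 1 := by
      intro h0
      have : h = 1 := Subtype.ext h0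
      rw [this, orderOf_one] at hh
      exact hp.one_lt.ne hh
    have hkfix : ∀ k : K, (MulAut.conjNormal (h : G) : MulAut K) k = k → k = 1 := by
      intro k hk
      have h3 := congrArg Subtype.val hk
      rw [MulAut.conjNormal_apply] at h3
      have h4 : (h : G) * k = k * h := mul_inv_eq_iff_eq_mul.mp h3
      by_contra hk1
      have hka : (k : G) • a ≠ a := fun h5 => hk1 (Subtype.ext (hreg k k.2 a h5))
      have hha : (h : G) • a = a := h.2
      apply hh1
      apply hsh h a ((k : G) • a) hka.symm hha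
      rw [smul_smul, h4, mul_smul, hha]
    have hzp : IsPGroup p (Subgroup.zpowers (h : G)) := IsPGroup.of_card (n := 1) (by
      rw [Nat.card_zpowers, Subgroup.orderOf_coe, hh, pow_one])
    letI : MulAction (Subgroup.zpowers (h : G)) K :=
      MulAction.compHom K ((MulAut.conjNormal : G →* MulAut K).comp (Subgroup.zpowers (h : G)).subtype)
    have h1 := hzp.card_modEq_card_fixedPoints K
    have h2 : MulAction.fixedPoints (Subgroup.zpowers (h : G)) K = {1} := by
      ext v
      constructor
      · intro hv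
        exact hkfix v (hv ⟨h, Subgroup.mem_zpowers _⟩)
      · rintro rfl
        intro y
        exact map_one ((MulAut.conjNormal : G →* MulAut K) (y : G))
    rw [h2] at h1
    have h3 : Nat.card ({1} : Set K) = 1 := by simp
    rw [h3] at h1
    have h4 : p ∣ 1 := (Nat.ModEq.dvd_iff h1 dvd_rfl).mp hpd
    exact hp.one_lt.ne' (Nat.dvd_one.mp h4)
  have hPK : (P : Subgroup G) = K := by
    have h3 : K ≤ P := L0.normal_le_sylow hKp P
    symm
    obtain ⟨m, hm⟩ := IsPGroup.iff_card.mp P.isPGroup'
    apply Subgroup.eq_of_le_of_card_ge h3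
    have h4 : (p ^ m).Coprime K.index := Nat.Coprime.pow_left m ((Nat.Prime.coprime_iff_not_dvd hp).mpr hnd)
    have h5 : Nat.card (P : Subgroup G) ∣ Nat.card K := by
      rw [hm]
      apply h4.dvd_of_dvd_mul_right
      rw [K.card_mul_index, ← hm]
      exact Subgroup.card_subgroup_dvd_card _
    exact Nat.le_of_dvd Nat.card_pos h5
  rw [hPK]
  have hPt : IsPretransitive K α := by
    have hinj : Function.Injective (fun k : K => (k : G) • a) := by
      intro k k' hkk
      have h3 : ((k' : G)⁻¹ * k) • a = a := by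
        rw [mul_smul]
        show (k' : G)⁻¹ • ((k : G) • a) = a
        rw [show (k : G) • a = (k' : G) • a from hkk, inv_smul_smul]
      have h4 := hreg _ (K.mul_mem (K.inv_mem k'.2) k.2) a h3
      exact Subtype.ext (inv_mul_eq_one.mp h4).symm
    have hbij : Function.Bijective (fun k : K => (k : G) • a) := by
      have := Fintype.ofFinite K
      rw [Fintype.bijective_iff_injective_and_card]
      exact ⟨hinj, by rw [← Nat.card_eq_fintype_card, hKcard]⟩
    constructor
    intro c d
    obtain ⟨k, hk⟩ := hbij.2 c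
    obtain ⟨k', hk'⟩ := hbij.2 d
    refine ⟨k' * k⁻¹, ?_⟩
    show ((k' : G) * (k : G)⁻¹) • c = d
    rw [← hk, ← hk']
    show ((k' : G) * (k : G)⁻¹) • ((k : G) • a) = (k' : G) • a
    rw [mul_smul, inv_smul_smul]
  refine ⟨hKn, ⟨⟨fun u v => Subtype.ext (hKab u u.2 v v.2)⟩⟩, hpow, hPt, ?_, hKmem⟩
  intro c
  rw [Subgroup.eq_bot_iff_forall]
  intro k hk
  exact Subtype.ext (hreg k k.2 c hk)

end Cfsg.Agent.S0680
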