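import Cfsg.Statements.S0994
import Cfsg.Agent.H3.Basic
import Cfsg.Agent.H2.SylCount
import Cfsg.Agent.H1.Transfer

set_option autoImplicit false
open Cfsg

namespace Cfsg.Agent.S0994

/-- No finite simple group has order 1188 = 2^2 * 3^3 * 11. -/
theorem result {G : Type*} [Group G] [Finite G] [IsSimpleGroup G] : Nat.card G ≠ 1188 := by
  classical
  intro h
  haveI : Fact (Nat.Prime 11) := ⟨by norm_num⟩
  obtain ⟨P⟩ := (inferInstance : Nonempty (Sylow 11 G))
  have hPc : Nat.card (P : Subgroup G) = 11 := Cfsg.Agent.H2.card_sylow_prime P (by rw [h]; norm_num) (by rw [h]; norm_num)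
  have hidx : Nat.card (Sylow 11 G) = (Subgroup.normalizer ((P : Subgroup G) : Set G)).index := P.card_eq_index_normalizer
  have hn1 := card_sylow_modEq_one 11 G
  have hn2 : Nat.card (Sylow 11 G) ∣ 108 := by
    have h3 := P.card_dvd_index
    have h4 := (P : Subgroup G).card_mul_index
    rw [hPc, h] at h4
    have h5 : (P : Subgroup G).index = 108 := by omega
    rwa [h5] at h3
  have hprime : Nat.card G ≠ 11 := by rw [h]; norm_num
  have hn3 : Nat.card (Sylow 11 G) = 1 ∨ Nat.card (Sylow 11 G) = 12 := by
    unfold Nat.ModEq at hn1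
    have h3 : Nat.card (Sylow 11 G) ≤ 108 := Nat.le_of_dvd (by norm_num) hn2
    generalize Nat.card (Sylow 11 G) = n at hn1 hn2 h3
    have h4 : n ∈ Nat.divisors 108 := Nat.mem_divisors.2 ⟨hn2, by norm_num⟩
    have h5 : Nat.divisors 108 = {1, 2, 3, 4, 6, 9, 12, 18, 27, 36, 54, 108} := by decide +kernel
    rw [h5] at h4
    simp only [Finset.mem_insert, Finset.mem_singleton] at h4
    omega
  have hNd : Nat.Coprime (Nat.card (Subgroup.normalizer ((P : Subgroup G) : Set G))) 10 ∨ Nat.card (Sylow 11 G) = 1 := by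
    rcases hn3 with h3 | h3
    · exact Or.inr h3
    · left
      have h5 := (Subgroup.normalizer ((P : Subgroup G) : Set G)).card_mul_index
      rw [← hidx, h3, h] at h5
      have h6 : Nat.card (Subgroup.normalizer ((P : Subgroup G) : Set G)) = 99 := by omega
      rw [h6]
      norm_num
  rcases hNd with hc | h3
  · have hNC : Subgroup.normalizer ((P : Subgroup G) : Set G) ≤ Subgroup.centralizer ((P : Subgroup G) : Set G) := by
      intro x hx
      refine Cfsg.Agent.H2.centralizes_of_card_prime (r := 11) (by norm_num) hPc hx ?_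
      refine Nat.Coprime.coprime_dvd_left (Subgroup.orderOf_dvd_natCard _ hx) hc
    obtain ⟨S, K, hK, hSK⟩ := Cfsg.Agent.H1.hasNormalPComplement_of_normalizer_le_centralizer P hNC
    have hSc : Nat.card (S : Subgroup G) = Nat.card (P : Subgroup G) := Cfsg.Agent.H3.sylow_card_eq S P
    have h4 : Nat.card K * Nat.card (S : Subgroup G) = Nat.card G := hSK.card_mul
    rcases IsSimpleGroup.eq_bot_or_eq_top_of_normal K hK with h5 | h5
    · rw [h5, Subgroup.card_bot, one_mul, hSc, hPc, h] at h4
      omega
    · rw [h5, Subgroup.card_top, hSc, hPc, h] at h4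
      omega
  · haveI : Subsingleton (Sylow 11 G) := (Nat.card_eq_one_iff_unique.1 h3).1
    have hn := Sylow.normal_of_subsingleton P
    rcases IsSimpleGroup.eq_bot_or_eq_top_of_normal (P : Subgroup G) hn with h5 | h5
    · rw [h5, Subgroup.card_bot] at hPc
      omega
    · rw [h5, Subgroup.card_top, h] at hPc
      omega

end Cfsg.Agent.S0994
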