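import Cfsg.Statements.S1124
import Cfsg.Agent.L0.R1.Four
-- import your own Cfsg.Agent.* helpers here

set_option autoImplicit false
open scoped Pointwise
open Cfsg

namespace Cfsg.Agent.S1124

/-- Let `t` be an element of order 2 of a finite group normalising a subgroup `X` of odd order, `Y = C_X(t)` and `Z` the set of elements of `X` inverted by `t`. Then `(y, z) ↦ y z` is a bijection `Y × Z → X`, so `|X| = |Y| |Z|`, and the subgroup generated by `Z` is normal in `X`. -/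
theorem result {M : Type*} [Group M] [Finite M]
    (t : M) (ht : orderOf t = 2) (X : Subgroup M) (hodd : Odd (Nat.card X))
    (hnorm : ∀ x ∈ X, t * x * t⁻¹ ∈ X) :
    (∀ x ∈ X, ∃! p : M × M, p.1 ∈ X ⊓ Subgroup.centralizer {t} ∧ p.2 ∈ Cfsg.invertedBy X t ∧ x = p.1 * p.2) ∧
      Nat.card X = Nat.card ↥(X ⊓ Subgroup.centralizer {t}) * Nat.card (Cfsg.invertedBy X t) ∧
      ∀ x ∈ X, MulAut.conj x • Subgroup.closure (Cfsg.invertedBy X t) = Subgroup.closure (Cfsg.invertedBy X t) := by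
  have htt : t * t = 1 := by rw [← pow_two, ← ht, pow_orderOf_eq_one]
  have hti : t⁻¹ = t := inv_eq_of_mul_eq_one_left htt
  have hn : ∀ x ∈ X, t * x * t ∈ X := fun x hx => by
    have := hnorm x hx
    rwa [hti] at this
  have memK : ∀ z, z ∈ Cfsg.invertedBy X t ↔ z ∈ X ∧ t * z * t = z⁻¹ := fun z => by
    unfold Cfsg.invertedBy
    rw [Set.mem_setOf_eq, hti]
  have hex : ∀ x ∈ X, ∃! p : M × M, p.1 ∈ X ⊓ Subgroup.centralizer {t} ∧ p.2 ∈ Cfsg.invertedBy X t ∧ x = p.1 * p.2 := by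
    intro x hx
    obtain ⟨y, hy, hyt, z, hz, hzt, he⟩ := Cfsg.Agent.L0.R1.VK_exists htt hodd hn hx
    refine ⟨(y, z), ⟨Subgroup.mem_inf.mpr ⟨hy, Subgroup.mem_centralizer_singleton_iff.mpr hyt.symm⟩, (memK z).mpr ⟨hz, hzt⟩, he⟩, ?_⟩
    rintro ⟨y', z'⟩ ⟨h1, h2, h3⟩
    obtain ⟨hy', hyt'⟩ := Subgroup.mem_inf.mp h1
    obtain ⟨hz', hzt'⟩ := (memK z').mp h2
    have hyt'' : t * y' = y' * t := (Subgroup.mem_centralizer_singleton_iff.mp hyt').symm
    obtain ⟨e1, e2⟩ := Cfsg.Agent.L0.R1.VK_unique htt hodd hn hyt'' hyt hz' hz hzt' hzt (h3.symm.trans he)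
    exact Prod.ext e1 e2
  refine ⟨hex, ?_, ?_⟩
  · rw [← Nat.card_prod]
    refine Nat.card_congr (Equiv.ofBijective (fun p : ↥(X ⊓ Subgroup.centralizer {t}) × Cfsg.invertedBy X t =>
      (⟨(p.1 : M) * p.2, X.mul_mem (Subgroup.mem_inf.mp p.1.2).1 ((memK _).mp p.2.2).1⟩ : X)) ?_).symm
    constructor
    · rintro ⟨⟨y, hy⟩, ⟨z, hz⟩⟩ ⟨⟨y', hy'⟩, ⟨z', hz'⟩⟩ h
      have h1 : y * z = y' * z' := congrArg Subtype.val h
      have h2 := (hex (y * z) (X.mul_mem (Subgroup.mem_inf.mp hy).1 ((memK _).mp hz).1)).unique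
        (y₁ := (y, z)) (y₂ := (y', z')) ⟨hy, hz, rfl⟩ ⟨hy', hz', h1⟩
      have h3 : y = y' := congrArg Prod.fst h2
      have h4 : z = z' := congrArg Prod.snd h2
      subst h3; subst h4; rfl
    · rintro ⟨x, hx⟩
      obtain ⟨⟨y, z⟩, ⟨h1, h2, h3⟩, -⟩ := hex x hx
      exact ⟨(⟨y, h1⟩, ⟨z, h2⟩), Subtype.ext h3.symm⟩
  · have hone : ∀ x ∈ X, MulAut.conj x • Subgroup.closure (Cfsg.invertedBy X t) ≤ Subgroup.closure (Cfsg.invertedBy X t) := by
      intro x hx
      obtain ⟨⟨y, z⟩, ⟨h1, h2, h3⟩, -⟩ := hex x hx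
      change x = y * z at h3
      obtain ⟨hy, hyt⟩ := Subgroup.mem_inf.mp h1
      have hyt' : y * t = t * y := Subgroup.mem_centralizer_singleton_iff.mp hyt
      have hzc : z ∈ Subgroup.closure (Cfsg.invertedBy X t) := Subgroup.subset_closure h2
      rintro _ ⟨w, hw, rfl⟩
      have hw' : w ∈ Subgroup.closure (Cfsg.invertedBy X t) := hw
      change x * w * x⁻¹ ∈ Subgroup.closure (Cfsg.invertedBy X t)
      have h4 : x * w * x⁻¹ = y * (z * w * z⁻¹) * y⁻¹ := by rw [h3]; group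
      rw [h4]
      have h5 : z * w * z⁻¹ ∈ Subgroup.closure (Cfsg.invertedBy X t) := Subgroup.mul_mem _ (Subgroup.mul_mem _ hzc hw') (Subgroup.inv_mem _ hzc)
      have h6 : ∀ v ∈ Subgroup.closure (Cfsg.invertedBy X t), y * v * y⁻¹ ∈ Subgroup.closure (Cfsg.invertedBy X t) := by
        intro v hv
        induction hv using Subgroup.closure_induction with
        | mem v hv =>
          apply Subgroup.subset_closure
          obtain ⟨hvX, hvt⟩ := (memK v).mp hv
          refine (memK _).mpr ⟨X.mul_mem (X.mul_mem hy hvX) (X.inv_mem hy), ?_⟩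
          have h7 : y⁻¹ * t = t * y⁻¹ := by
            calc y⁻¹ * t = y⁻¹ * (t * y) * y⁻¹ := by group
              _ = t * y⁻¹ := by rw [← hyt']; group
          calc t * (y * v * y⁻¹) * t = (t * y) * v * (y⁻¹ * t) := by group
            _ = (y * t) * v * (t * y⁻¹) := by rw [h7, hyt']
            _ = y * (t * v * t) * y⁻¹ := by group
            _ = (y * v * y⁻¹)⁻¹ := by rw [hvt]; group
        | one => rw [mul_one, mul_inv_cancel]; exact Subgroup.one_mem _
        | mul u v _ _ hu hv =>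
          have : y * (u * v) * y⁻¹ = (y * u * y⁻¹) * (y * v * y⁻¹) := by group
          rw [this]; exact Subgroup.mul_mem _ hu hv
        | inv u _ hu =>
          have : y * u⁻¹ * y⁻¹ = (y * u * y⁻¹)⁻¹ := by group
          rw [this]; exact Subgroup.inv_mem _ hu
      exact h6 _ h5
    intro x hx
    apply le_antisymm (hone x hx)
    have h1 := hone x⁻¹ (X.inv_mem hx)
    rw [map_inv, Subgroup.pointwise_smul_subset_iff] at h1
    rwa [inv_inv] at h1

end Cfsg.Agent.S1124
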