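import Cfsg.Statements.S1225
import Mathlib
import Cfsg.Agent.H1.SE2

set_option autoImplicit false
open Cfsg

namespace Cfsg.Agent.S1225

open scoped commutatorElement Pointwise
open Cfsg.Agent.H1

/-- Let H be a strongly embedded subgroup of the finite group G, u an involution outside H and D = H ∩ uHu⁻¹. Then any two involutions of H are conjugate by an element of D, and any two involutions of G are conjugate in G. -/
theorem result {G : Type*} [Group G] [Finite G] (H : Subgroup G) (hH : Cfsg.IsStronglyEmbedded H) (u : G) (hu : orderOf u = 2) (huH : u ∉ H) (s t : G) (hs : orderOf s = 2) (hsH : s ∈ H) (ht : orderOf t = 2) (htH : t ∈ H) : (∃ d ∈ (H ⊓ H.map (MulAut.conj u).toMonoidHom), d * s * d⁻¹ = t) ∧ ∀ a b : G, orderOf a = 2 → orderOf b = 2 → IsConj a b := by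
  have hSE := SE_of_stronglyEmbedded hH
  have hne := mk_ne huH
  have hux : u • (QuotientGroup.mk 1 : G ⧸ H) = QuotientGroup.mk u := by rw [smul_mk, mul_one]
  have key : ∀ s t : G, orderOf s = 2 → s ∈ H → orderOf t = 2 → t ∈ H →
      ∃ d ∈ (H ⊓ H.map (MulAut.conj u).toMonoidHom), d * s * d⁻¹ = t := by
    intro s t hs hsH ht htH
    obtain ⟨d, hd1, hd2, hd3⟩ := hSE.trans hne hs ht hu (mem_iff_fix.mp hsH) (mem_iff_fix.mp htH) hux
    exact ⟨d, Subgroup.mem_inf.mpr ⟨mem_iff_fix.mpr hd1, mem_map_conj.mpr hd2⟩, hd3⟩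
  refine ⟨key s t hs hsH ht htH, ?_⟩
  have hin : ∀ a : G, orderOf a = 2 → ∃ g : G, g⁻¹ * a * g ∈ H := by
    intro a ha
    obtain ⟨c, hc, -⟩ := hSE a ha
    obtain ⟨g, rfl⟩ := QuotientGroup.mk_surjective c
    exact ⟨g, mk_fix.mp hc⟩
  have ho : ∀ a g : G, orderOf (g⁻¹ * a * g) = orderOf a := by
    intro a g
    have := orderOf_conj g⁻¹ a
    rwa [inv_inv] at this
  intro a b ha hb
  obtain ⟨g, hg⟩ := hin a ha
  obtain ⟨h, hh⟩ := hin b hb
  obtain ⟨d, -, hd⟩ := key _ _ (by rw [ho]; exact ha) hg (by rw [ho]; exact hb) hh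
  refine isConj_iff.mpr ⟨h * d * g⁻¹, ?_⟩
  calc h * d * g⁻¹ * a * (h * d * g⁻¹)⁻¹ = h * (d * (g⁻¹ * a * g) * d⁻¹) * h⁻¹ := by group
    _ = b := by rw [hd]; group

end Cfsg.Agent.S1225
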