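import Cfsg.Statements.S1227
import Mathlib
import Cfsg.Agent.H1.SE3

set_option autoImplicit false
open Cfsg

namespace Cfsg.Agent.S1227

open scoped commutatorElement Pointwise
open Cfsg.Agent.H1

/-- Let G be a finite group with a Sylow 2-subgroup T that is neither cyclic nor normal, such that the centralizer of every involution is an elementary abelian 2-group; put H = N_G(T), let u be an involution outside H and D = H ∩ uHu⁻¹. Then u inverts every element of D, |H| = |T|·(|T| − 1), and D is a complement to T in H. -/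
theorem result {G : Type*} [Group G] [Finite G] (T : Sylow 2 G) (hnc : ¬ IsCyclic (T : Subgroup G)) (hnn : ¬ (T : Subgroup G).Normal) (hC : ∀ t : G, orderOf t = 2 → IsMulCommutative (Subgroup.centralizer ({t} : Set G)) ∧ ∀ c ∈ Subgroup.centralizer ({t} : Set G), c ^ 2 = 1) (u : G) (hu : orderOf u = 2) (huH : u ∉ Subgroup.normalizer ((T : Subgroup G) : Set G)) : (∀ d ∈ Subgroup.normalizer ((T : Subgroup G) : Set G) ⊓ (Subgroup.normalizer ((T : Subgroup G) : Set G)).map (MulAut.conj u).toMonoidHom, u * d * u⁻¹ = d⁻¹) ∧ Nat.card (Subgroup.normalizer ((T : Subgroup G) : Set G)) = Nat.card T * (Nat.card T - 1) ∧ Subgroup.IsComplement' ((Subgroup.normalizer ((T : Subgroup G) : Set G) ⊓ (Subgroup.normalizer ((T : Subgroup G) : Set G)).map (MulAut.conj u).toMonoidHom).subgroupOf (Subgroup.normalizer ((T : Subgroup G) : Set G))) ((T : Subgroup G).subgroupOf (Subgroup.normalizer ((T : Subgroup G) : Set G))) := by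
  have h := CIT_of T hnc hnn hC
  set H := Subgroup.normalizer ((T : Subgroup G) : Set G) with hH
  have hne := mk_ne huH
  have hux : u • (QuotientGroup.mk 1 : G ⧸ H) = QuotientGroup.mk u := by rw [smul_mk, mul_one]
  have hD : ∀ d, d ∈ H ⊓ H.map (MulAut.conj u).toMonoidHom ↔ d • (QuotientGroup.mk 1 : G ⧸ H) = QuotientGroup.mk 1 ∧
      d • (QuotientGroup.mk u : G ⧸ H) = QuotientGroup.mk u := by
    intro d
    rw [Subgroup.mem_inf, mem_iff_fix, mem_map_conj]
  have hTn : ∀ x, x ∈ (T : Subgroup G) ↔ x = 1 ∨ (orderOf x = 2 ∧ x ∈ H) := by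
    intro x
    constructor
    · intro hx
      by_cases hx1 : x = 1
      · exact Or.inl hx1
      · exact Or.inr ⟨invol_of (h.sq x hx) hx1, h.TH hx⟩
    · rintro (rfl | ⟨h1, h2⟩)
      · exact (T : Subgroup G).one_mem
      · exact h.inv x h2 h1
  have hcT : Nat.card T = Nat.card {t : G // orderOf t = 2 ∧ t ∈ H} + 1 := by
    classical
    have h1 : ({x : G | x ∈ (T : Subgroup G)} : Set G) = insert 1 {t : G | orderOf t = 2 ∧ t ∈ H} := by
      ext x; simp only [Set.mem_setOf_eq, Set.mem_insert_iff]; exact hTn x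
    have h2 : Set.ncard ({x : G | x ∈ (T : Subgroup G)} : Set G) = Nat.card T := rfl
    have h3 : Set.ncard ({t : G | orderOf t = 2 ∧ t ∈ H} : Set G) = Nat.card {t : G // orderOf t = 2 ∧ t ∈ H} := rfl
    rw [← h2, ← h3, h1, Set.ncard_insert_of_notMem]
    rintro ⟨h4, -⟩
    rw [orderOf_one] at h4; omega
  have hcompl : Subgroup.IsComplement' ((H ⊓ H.map (MulAut.conj u).toMonoidHom).subgroupOf H) ((T : Subgroup G).subgroupOf H) := by
    apply Subgroup.isComplement'_of_disjoint_and_mul_eq_univ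
    · rw [Subgroup.disjoint_def]
      intro x hx1 hx2
      rw [Subgroup.mem_subgroupOf] at hx1 hx2
      obtain ⟨h1, h2⟩ := (hD _).mp hx1
      by_contra hne1
      apply hne
      symm
      apply h.T_fix hx2 _ h2
      intro e
      exact hne1 (Subtype.ext e)
    · rw [Set.eq_univ_iff_forall]
      intro g
      obtain ⟨t, ht, d, hd, hdy, hg⟩ := h.factor hne g.2
      refine Set.mem_mul.mpr ⟨⟨d, hd⟩, ?_, ⟨d⁻¹ * t * d, h.TH (by
        have := h.norm d⁻¹ (inv_mem hd) t ht
        rwa [inv_inv] at this)⟩, ?_, ?_⟩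
      · rw [SetLike.mem_coe, Subgroup.mem_subgroupOf]
        exact (hD d).mpr ⟨mem_iff_fix.mp hd, hdy⟩
      · rw [SetLike.mem_coe, Subgroup.mem_subgroupOf]
        have := h.norm d⁻¹ (inv_mem hd) t ht
        rwa [inv_inv] at this
      · apply Subtype.ext
        change d * (d⁻¹ * t * d) = g
        rw [hg]; group
  have hcD : Nat.card ((H ⊓ H.map (MulAut.conj u).toMonoidHom).subgroupOf H) = Nat.card {t : G // orderOf t = 2 ∧ t ∈ H} := by
    rw [← h.card_stab hne, Nat.card_congr (Subgroup.subgroupOfEquivOfLe inf_le_left).toEquiv]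
    exact Nat.card_congr (Equiv.subtypeEquivRight hD)
  refine ⟨?_, ?_, hcompl⟩
  · intro d hd
    obtain ⟨h1, h2⟩ := (hD d).mp hd
    exact h.inverts hne hu hux h1 h2
  · have h1 := hcompl.card_mul
    rw [hcD, Nat.card_congr (Subgroup.subgroupOfEquivOfLe h.TH).toEquiv] at h1
    rw [← h1]
    have : Nat.card T - 1 = Nat.card {t : G // orderOf t = 2 ∧ t ∈ H} := by omega
    rw [this, mul_comm]

end Cfsg.Agent.S1227
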