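import Cfsg.Statements.S1228
import Mathlib
import Cfsg.Agent.H1.SE3

set_option autoImplicit false
open Cfsg

namespace Cfsg.Agent.S1228

open scoped commutatorElement Pointwise
open Cfsg.Agent.H1

/-- Let G be a finite group with a Sylow 2-subgroup T that is neither cyclic nor normal, such that the centralizer of every involution is an elementary abelian 2-group; put H = N_G(T), let u be an involution outside H and D = H ∩ uHu⁻¹. Then N_G(D) = D ⊔ ⟨u⟩, and a coset gH is fixed by every element of D exactly when gH = H or gH = uH. -/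
theorem result {G : Type*} [Group G] [Finite G] (T : Sylow 2 G) (hnc : ¬ IsCyclic (T : Subgroup G)) (hnn : ¬ (T : Subgroup G).Normal) (hC : ∀ t : G, orderOf t = 2 → IsMulCommutative (Subgroup.centralizer ({t} : Set G)) ∧ ∀ c ∈ Subgroup.centralizer ({t} : Set G), c ^ 2 = 1) (u : G) (hu : orderOf u = 2) (huH : u ∉ Subgroup.normalizer ((T : Subgroup G) : Set G)) : Subgroup.normalizer ((Subgroup.normalizer ((T : Subgroup G) : Set G) ⊓ (Subgroup.normalizer ((T : Subgroup G) : Set G)).map (MulAut.conj u).toMonoidHom : Subgroup G) : Set G) = (Subgroup.normalizer ((T : Subgroup G) : Set G) ⊓ (Subgroup.normalizer ((T : Subgroup G) : Set G)).map (MulAut.conj u).toMonoidHom) ⊔ Subgroup.zpowers u ∧ ∀ g : G, ((∀ d ∈ Subgroup.normalizer ((T : Subgroup G) : Set G) ⊓ (Subgroup.normalizer ((T : Subgroup G) : Set G)).map (MulAut.conj u).toMonoidHom, d • (QuotientGroup.mk g : G ⧸ Subgroup.normalizer ((T : Subgroup G) : Set G)) = QuotientGroup.mk g) ↔ (QuotientGroup.mk g : G ⧸ Subgroup.normalizer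 ((T : Subgroup G) : Set G)) = QuotientGroup.mk 1 ∨ (QuotientGroup.mk g : G ⧸ Subgroup.normalizer ((T : Subgroup G) : Set G)) = QuotientGroup.mk u) := by
  have h := CIT_of T hnc hnn hC
  set H := Subgroup.normalizer ((T : Subgroup G) : Set G) with hH
  have hne := mk_ne huH
  have hux : u • (QuotientGroup.mk 1 : G ⧸ H) = QuotientGroup.mk u := by rw [smul_mk, mul_one]
  have huy := smul_swap hu hux
  have hD : ∀ d, d ∈ H ⊓ H.map (MulAut.conj u).toMonoidHom ↔ d • (QuotientGroup.mk 1 : G ⧸ H) = QuotientGroup.mk 1 ∧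
      d • (QuotientGroup.mk u : G ⧸ H) = QuotientGroup.mk u := by
    intro d
    rw [Subgroup.mem_inf, mem_iff_fix, mem_map_conj]
  obtain ⟨d₀, hd₀1, hd₀⟩ : ∃ d : G, d ≠ 1 ∧ d ∈ H ⊓ H.map (MulAut.conj u).toMonoidHom := by
    have h1 := h.card_two
    rw [← h.card_stab hne] at h1
    haveI : Nontrivial {d : G // d • (QuotientGroup.mk 1 : G ⧸ H) = QuotientGroup.mk 1 ∧ d • (QuotientGroup.mk u : G ⧸ H) = QuotientGroup.mk u} :=
      Finite.one_lt_card_iff_nontrivial.mp h1
    obtain ⟨⟨d, hd⟩, hd1⟩ := exists_ne (⟨1, by rw [one_smul], by rw [one_smul]⟩ :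
      {d : G // d • (QuotientGroup.mk 1 : G ⧸ H) = QuotientGroup.mk 1 ∧ d • (QuotientGroup.mk u : G ⧸ H) = QuotientGroup.mk u})
    exact ⟨d, fun e => hd1 (Subtype.ext e), (hD d).mpr hd⟩
  have hfix : ∀ c : G ⧸ H, (∀ d ∈ H ⊓ H.map (MulAut.conj u).toMonoidHom, d • c = c) → c = QuotientGroup.mk 1 ∨ c = QuotientGroup.mk u := by
    intro c hc
    by_contra hno
    push Not at hno
    obtain ⟨h1, h2⟩ := (hD d₀).mp hd₀
    exact hd₀1 (h.fix_three_base hne (Ne.symm hno.1) (Ne.symm hno.2) (mem_iff_fix.mpr h1) h2 (hc d₀ hd₀))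
  constructor
  · apply le_antisymm
    · intro g hg
      have hg' : ∀ c : G ⧸ H, (∀ d ∈ H ⊓ H.map (MulAut.conj u).toMonoidHom, d • c = c) →
          ∀ d ∈ H ⊓ H.map (MulAut.conj u).toMonoidHom, d • (g • c) = g • c := by
        intro c hc d hd
        have h1 := (Subgroup.mem_normalizer_iff.mp (inv_mem hg) d).mp hd
        rw [inv_inv] at h1
        have h2 := hc _ h1
        rw [mul_smul, mul_smul, inv_smul_eq_iff] at h2
        exact h2
      have hx0 : ∀ d ∈ H ⊓ H.map (MulAut.conj u).toMonoidHom, d • (QuotientGroup.mk 1 : G ⧸ H) = QuotientGroup.mk 1 := fun d hd => ((hD d).mp hd).1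
      have hy0 : ∀ d ∈ H ⊓ H.map (MulAut.conj u).toMonoidHom, d • (QuotientGroup.mk u : G ⧸ H) = QuotientGroup.mk u := fun d hd => ((hD d).mp hd).2
      rcases hfix _ (hg' _ hx0) with h1 | h1
      · have h2 : g • (QuotientGroup.mk u : G ⧸ H) = QuotientGroup.mk u := by
          rcases hfix _ (hg' _ hy0) with h2 | h2
          · exact absurd (smul_left_cancel g (h1.trans h2.symm)) hne
          · exact h2
        exact Subgroup.mem_sup_left ((hD g).mpr ⟨h1, h2⟩)
      · have h2 : g • (QuotientGroup.mk u : G ⧸ H) = QuotientGroup.mk 1 := by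
          rcases hfix _ (hg' _ hy0) with h2 | h2
          · exact h2
          · exact absurd (smul_left_cancel g (h1.trans h2.symm)) hne
        have h3 : u * g ∈ H ⊓ H.map (MulAut.conj u).toMonoidHom := (hD _).mpr ⟨by rw [mul_smul, h1, huy], by rw [mul_smul, h2, hux]⟩
        have h4 : g = u⁻¹ * (u * g) := by group
        rw [h4]
        exact mul_mem (inv_mem (Subgroup.mem_sup_right (Subgroup.mem_zpowers u))) (Subgroup.mem_sup_left h3)
    · refine sup_le Subgroup.le_normalizer ?_
      rw [Subgroup.zpowers_le]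
      apply mem_normalizer_of_conj_mem
      intro d hd
      obtain ⟨h1, h2⟩ := (hD d).mp hd
      rw [h.inverts hne hu hux h1 h2]
      exact inv_mem hd
  · intro g
    constructor
    · exact hfix _
    · rintro (h1 | h1) d hd
      · rw [h1]; exact ((hD d).mp hd).1
      · rw [h1]; exact ((hD d).mp hd).2

end Cfsg.Agent.S1228
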