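import Cfsg.Statements.S1229
import Mathlib
import Cfsg.Agent.H1.SE3

set_option autoImplicit false
open Cfsg

namespace Cfsg.Agent.S1229

open scoped commutatorElement Pointwise
open Cfsg.Agent.H1

/-- Let G be a finite group with a Sylow 2-subgroup T that is neither cyclic nor normal, such that the centralizer of every involution is an elementary abelian 2-group; put H = N_G(T) and X = G/H. Then G is triply transitive on X, an element fixing three distinct points of X is the identity, and T acts regularly on X minus the point H. -/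
theorem result {G : Type*} [Group G] [Finite G] (T : Sylow 2 G) (hnc : ¬ IsCyclic (T : Subgroup G)) (hnn : ¬ (T : Subgroup G).Normal) (hC : ∀ t : G, orderOf t = 2 → IsMulCommutative (Subgroup.centralizer ({t} : Set G)) ∧ ∀ c ∈ Subgroup.centralizer ({t} : Set G), c ^ 2 = 1) : (∀ x₁ x₂ x₃ y₁ y₂ y₃ : G ⧸ Subgroup.normalizer ((T : Subgroup G) : Set G), x₁ ≠ x₂ → x₁ ≠ x₃ → x₂ ≠ x₃ → y₁ ≠ y₂ → y₁ ≠ y₃ → y₂ ≠ y₃ → ∃ g : G, g • x₁ = y₁ ∧ g • x₂ = y₂ ∧ g • x₃ = y₃) ∧ (∀ g : G, ∀ x₁ x₂ x₃ : G ⧸ Subgroup.normalizer ((T : Subgroup G) : Set G), x₁ ≠ x₂ → x₁ ≠ x₃ → x₂ ≠ x₃ → g • x₁ = x₁ → g • x₂ = x₂ → g • x₃ = x₃ → g = 1) ∧ (∀ x y : G ⧸ Subgroup.normalizer ((T : Subgroup G) : Set G), x ≠ QuotientGroup.mk 1 → y ≠ QuotientGroup.mk 1 → ∃! t : G, t ∈ T ∧ t • x = y) := by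
  have h := CIT_of T hnc hnn hC
  set H := Subgroup.normalizer ((T : Subgroup G) : Set G) with hH
  have hT : ∀ x y : G ⧸ H, x ≠ QuotientGroup.mk 1 → y ≠ QuotientGroup.mk 1 → ∃! t : G, t ∈ T ∧ t • x = y := by
    intro x y hx hy
    obtain ⟨t, ht, hty⟩ := h.T_trans hx.symm hy.symm
    refine ⟨t, ⟨ht, hty⟩, ?_⟩
    rintro s ⟨hs, hsy⟩
    have h1 : (s⁻¹ * t) • x = x := by rw [mul_smul, hty, ← hsy, inv_smul_smul]
    by_contra hne
    exact hx (h.T_fix (mul_mem (inv_mem hs) ht) (fun e => hne (inv_mul_eq_one.mp e)) h1)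
  refine ⟨?_, ?_, hT⟩
  · -- reduce to a base triple
    obtain ⟨a, ha, b, hb, ha1, hb1, hab⟩ := h.two
    have hnH : ∃ u : G, u ∉ H := by
      by_contra hno
      push Not at hno
      exact hnn (Subgroup.normalizer_eq_top_iff.mp (top_le_iff.mp fun g _ => hno g))
    obtain ⟨u, huH⟩ := hnH
    have hne := mk_ne huH
    set y₀ : G ⧸ H := QuotientGroup.mk u with hy₀
    set z₀ : G ⧸ H := a • y₀ with hz₀
    have key : ∀ x₁ x₂ x₃ : G ⧸ H, x₁ ≠ x₂ → x₁ ≠ x₃ → x₂ ≠ x₃ → ∃ g : G, g • x₁ = QuotientGroup.mk 1 ∧ g • x₂ = y₀ ∧ g • x₃ = z₀ := by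
      intro x₁ x₂ x₃ h12 h13 h23
      obtain ⟨g, rfl⟩ := QuotientGroup.mk_surjective x₁
      have hb : g⁻¹ • (QuotientGroup.mk g : G ⧸ H) = QuotientGroup.mk 1 := by rw [smul_mk, inv_mul_cancel]
      have n2 : g⁻¹ • x₂ ≠ QuotientGroup.mk 1 := by rw [← hb]; exact fun e => h12 (smul_left_cancel _ e).symm
      have n3 : g⁻¹ • x₃ ≠ QuotientGroup.mk 1 := by rw [← hb]; exact fun e => h13 (smul_left_cancel _ e).symm
      obtain ⟨t, ⟨ht, hty⟩, -⟩ := hT _ y₀ n2 hne.symm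
      have htb : t • (QuotientGroup.mk 1 : G ⧸ H) = QuotientGroup.mk 1 := mem_iff_fix.mp (h.TH ht)
      have n3' : t • g⁻¹ • x₃ ≠ QuotientGroup.mk 1 := by
        intro e
        apply n3
        rw [← htb] at e
        exact smul_left_cancel _ e
      obtain ⟨s, ⟨hs, hsy⟩, -⟩ := hT y₀ _ hne.symm n3'
      have hs1 : s ≠ 1 := by
        rintro rfl
        rw [one_smul, ← hty] at hsy
        exact h23 (smul_left_cancel _ (smul_left_cancel _ hsy))
      -- conjugate `s` to `a` by an element of the stabilizer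
      obtain ⟨v, hv, hvx⟩ := h.exists_swap hne
      obtain ⟨d, hd1, hd2, hd3⟩ := h.se.trans hne (invol_of (h.sq s hs) hs1) (invol_of (h.sq a ha) ha1) hv
        (mem_iff_fix.mp (h.TH hs)) (mem_iff_fix.mp (h.TH ha)) hvx
      refine ⟨d * t * g⁻¹, ?_, ?_, ?_⟩
      · rw [mul_smul, mul_smul, hb, htb, hd1]
      · rw [mul_smul, mul_smul, hty, hd2]
      · rw [mul_smul, mul_smul, ← hsy, ← mul_smul]
        have : d * s = a * d := by rw [← hd3]; group
        rw [this, mul_smul, hd2]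
    intro x₁ x₂ x₃ y₁ y₂ y₃ h12 h13 h23 k12 k13 k23
    obtain ⟨g, g1, g2, g3⟩ := key x₁ x₂ x₃ h12 h13 h23
    obtain ⟨k, k1, k2, k3⟩ := key y₁ y₂ y₃ k12 k13 k23
    exact ⟨k⁻¹ * g, by rw [mul_smul, g1, inv_smul_eq_iff, k1], by rw [mul_smul, g2, inv_smul_eq_iff, k2],
      by rw [mul_smul, g3, inv_smul_eq_iff, k3]⟩
  · intro g x₁ x₂ x₃ h12 h13 h23 g1 g2 g3
    exact h.fix_three h12 h13 h23 g1 g2 g3

end Cfsg.Agent.S1229
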