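import Cfsg.Statements.S1239
import Mathlib
import Cfsg.Agent.H1.WF6
import Cfsg.Agent.H1.Isolated

set_option autoImplicit false
open Cfsg

namespace Cfsg.Agent.S1239

open scoped commutatorElement Pointwise


/-- Let X be a finite group whose Sylow 2-subgroup S is quasi-dihedral or wreathed, and suppose some involution of S is isolated in X. Then the product of the largest normal odd-order subgroup O(X) with the centre of S is normal in X. -/
theorem result {X : Type*} [Group X] [Finite X] (S : Sylow 2 X) (hS : Cfsg.IsQuasiDihedral (S : Subgroup X) ∨ Cfsg.IsWreathed (S : Subgroup X)) (z : X) (hzS : z ∈ S) (hz : Cfsg.IsIsolatedInvolution z) : (Cfsg.oddCore X ⊔ (Subgroup.center (S : Subgroup X)).map (S : Subgroup X).subtype).Normal := by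
  have hzc : ∀ t ∈ (S : Subgroup X), t * z = z * t := by
    intro t ht
    exact (H1.iso_central hz S.2.isNilpotent hzS ht).symm
  have hzC : (⟨z, hzS⟩ : (S : Subgroup X)) ∈ Subgroup.center (S : Subgroup X) := by
    rw [Subgroup.mem_center_iff]
    intro t
    exact Subtype.ext (hzc t t.2)
  have hzz : (⟨z, hzS⟩ : (S : Subgroup X)) * ⟨z, hzS⟩ = 1 := Subtype.ext (H1.invol_sq hz.1)
  have hz1 : (⟨z, hzS⟩ : (S : Subgroup X)) ≠ 1 := fun h => H1.invol_ne hz.1 (congrArg Subtype.val h)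
  have huniq : ∀ a : (S : Subgroup X), a ∈ Subgroup.center (S : Subgroup X) → orderOf a = 2 → a = ⟨z, hzS⟩ := by
    intro a ha hoa
    rcases hS with hS | hS
    · obtain ⟨n, x, y, -, -, h⟩ := H1.qd_data hS
      have key : ∀ b ∈ Subgroup.center (S : Subgroup X), orderOf b = 2 → b = x ^ (2 * (2 ^ (n - 2) : ℕ) : ℤ) := by
        intro b hb hob
        rw [h.center_eq] at hb
        obtain ⟨k, rfl⟩ := Subgroup.mem_zpowers_iff.mp hb
        rw [← zpow_mul] at hob ⊢
        exact h.x_ord_two hob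
      rw [key a ha hoa, key _ hzC (H1.invol_of hzz hz1)]
    · obtain ⟨n, x, y, w, hn2, hcard, h⟩ := H1.wd_data hS
      obtain ⟨c, hc⟩ : ∃ c : ℤ, ((2 ^ n : ℕ) : ℤ) = 4 * c := by
        obtain ⟨c, hc⟩ := h.hq
        exact ⟨c, by exact_mod_cast hc⟩
      rw [h.center_invol hc ha (H1.invol_sq hoa) (H1.invol_ne hoa), h.center_invol hc hzC hzz hz1]
  obtain ⟨a, ha, hZ⟩ := H1.center_gen S hS (by
    rintro _ ho ⟨a, haZ, rfl⟩ g hg
    have h1 : a = ⟨z, hzS⟩ := huniq a haZ (by rw [← Subgroup.orderOf_coe]; exact ho)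
    subst h1
    exact hz.2 g (hzc _ hg).symm)
  rw [hZ]
  have hO : (Cfsg.oddCore X).Normal := inferInstance
  constructor
  intro n hn g
  have hn' : n ∈ ((Cfsg.oddCore X ⊔ Subgroup.zpowers a : Subgroup X) : Set X) := hn
  rw [Subgroup.normal_mul] at hn'
  obtain ⟨o, ho, w, hw, how⟩ := hn'
  have how' : o * w = n := how
  obtain ⟨k, rfl⟩ := Subgroup.mem_zpowers_iff.mp hw
  have h1 : g * a * g⁻¹ ∈ Cfsg.oddCore X ⊔ Subgroup.zpowers a := by
    have h2 := H1.zstar2 ha g
    have h3 : g * a * g⁻¹ = (a * g * a⁻¹ * g⁻¹)⁻¹ * a := by group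
    rw [h3]
    exact mul_mem (inv_mem (Subgroup.mem_sup_left h2)) (Subgroup.mem_sup_right (Subgroup.mem_zpowers a))
  have e : g * n * g⁻¹ = (g * o * g⁻¹) * (g * a * g⁻¹) ^ k := by
    rw [← how', conj_zpow]; group
  rw [e]
  exact mul_mem (Subgroup.mem_sup_left (hO.conj_mem o ho g)) (zpow_mem h1 k)

end Cfsg.Agent.S1239
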