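import Cfsg.Statements.S1244
import Mathlib
import Cfsg.Agent.H1.TrMod
import Cfsg.Agent.H5.Char3
import Cfsg.Agent.H1.SE

set_option autoImplicit false
open Cfsg

namespace Cfsg.Agent.S1244

open scoped commutatorElement Pointwise
open Cfsg.Agent.H1 Subgroup

theorem prod_parity {A : Type*} [CommGroup A] [DecidableEq A] (V W : Set A) (h1 : (1 : A) ∈ V) (h1W : (1 : A) ∈ W) (hmul : ∀ a ∈ V, ∀ b ∈ V, a * b ∈ V)
    (hW : ∀ a ∈ V, ∀ b ∈ V, (a * b ∈ W ↔ (a ∈ W ↔ b ∈ W))) (O : Finset A) (hO : ∀ x ∈ O, x ∈ V ∧ x ∉ W) :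
    (∏ x ∈ O, x) ∈ V ∧ ((∏ x ∈ O, x) ∈ W ↔ Even O.card) := by
  induction O using Finset.induction_on with
  | empty => simp [h1, h1W]
  | insert a s ha ih =>
    obtain ⟨ih1, ih2⟩ := ih (fun x hx => hO x (Finset.mem_insert_of_mem hx))
    obtain ⟨ha1, ha2⟩ := hO a (Finset.mem_insert_self a s)
    rw [Finset.prod_insert ha, Finset.card_insert_of_notMem ha]
    refine ⟨hmul _ ha1 _ ih1, ?_⟩
    rw [hW _ ha1 _ ih1, ih2, Nat.even_add_one]
    tauto

/-- Let G be a finite group with no subgroup of index 2 whose Sylow 2-subgroup S is commutative, and let R ≤ S be a subgroup whose 2-rank is exactly one less than the 2-rank r of S. Then every involution of S is conjugate, by an element of N_G(S), to an element of R. -/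
theorem result {G : Type*} [Group G] [Finite G] (hG : ∀ H : Subgroup G, H.index ≠ 2) (S : Sylow 2 G) (hS : IsMulCommutative (S : Subgroup G)) (r : ℕ) (hr1 : 1 ≤ r) (hSr : Cfsg.PRankLE 2 r (S : Subgroup G) ∧ ¬ Cfsg.PRankLE 2 (r - 1) (S : Subgroup G)) (R : Subgroup G) (hRS : R ≤ S) (hRr : Cfsg.PRankLE 2 (r - 1) R ∧ (r = 1 ∨ ¬ Cfsg.PRankLE 2 (r - 2) R)) (t : G) (ht : orderOf t = 2) (htS : t ∈ S) : ∃ n ∈ Subgroup.normalizer ((S : Subgroup G) : Set G), n * t * n⁻¹ ∈ R := by
  classical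
  haveI : Fact (Nat.Prime 2) := ⟨Nat.prime_two⟩
  letI : Fintype (S : Subgroup G) := Fintype.ofFinite _
  have hSc : ∀ a ∈ (S : Subgroup G), ∀ b ∈ (S : Subgroup G), a * b = b * a := by
    intro a ha b hb
    exact congrArg Subtype.val (hS.is_comm.comm ⟨a, ha⟩ ⟨b, hb⟩)
  set N := Subgroup.normalizer ((S : Subgroup G) : Set G) with hN
  by_contra hno
  push Not at hno
  let V : Subgroup G :=
    { carrier := {x | x ∈ (S : Subgroup G) ∧ x * x = 1}
      one_mem' := ⟨one_mem _, by group⟩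
      mul_mem' := by
        rintro a b ⟨ha, ha2⟩ ⟨hb, hb2⟩
        refine ⟨mul_mem ha hb, ?_⟩
        calc a * b * (a * b) = a * (b * a) * b := by group
          _ = (a * a) * (b * b) := by rw [hSc b hb a ha]; group
          _ = 1 := by rw [ha2, hb2, one_mul]
      inv_mem' := by
        rintro a ⟨ha, ha2⟩
        refine ⟨inv_mem ha, ?_⟩
        rw [← mul_inv_rev, ha2, inv_one] }
  have hVm : ∀ x, x ∈ V ↔ x ∈ (S : Subgroup G) ∧ x * x = 1 := fun x => Iff.rfl
  have hVS : V ≤ S := fun x hx => hx.1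
  have hVp : IsPGroup 2 V := S.2.to_le hVS
  have hbound : ∀ (T : Subgroup G), T ≤ S → ∀ k, Cfsg.PRankLE 2 k T → Nat.card (V ⊓ T : Subgroup G) ≤ 2 ^ k := by
    intro T hT k hk
    have h1 := hk ((V ⊓ T).subgroupOf T) ⟨⟨by
      rintro ⟨⟨a, ha⟩, ha'⟩ ⟨⟨b, hb⟩, hb'⟩
      apply Subtype.ext
      apply Subtype.ext
      exact hSc a (hT ha) b (hT hb)⟩⟩ (by
      intro a ha
      apply Subtype.ext
      change (a : G) ^ 2 = 1
      rw [pow_two]
      exact ((Subgroup.mem_inf.mp (mem_subgroupOf.mp ha)).1).2)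
    rwa [Nat.card_congr (Subgroup.subgroupOfEquivOfLe inf_le_right).toEquiv] at h1
  have hbound' : ∀ (T : Subgroup G), T ≤ S → ∀ k, ¬ Cfsg.PRankLE 2 k T → 2 ^ k < Nat.card (V ⊓ T : Subgroup G) := by
    intro T hT k hk
    unfold Cfsg.PRankLE at hk
    push Not at hk
    obtain ⟨A, hA, hA2, hAc⟩ := hk
    refine lt_of_lt_of_le hAc ?_
    rw [← Subgroup.card_map_of_injective T.subtype_injective (K := A)]
    apply Subgroup.card_le_of_le
    rintro _ ⟨a, ha, rfl⟩
    refine Subgroup.mem_inf.mpr ⟨⟨hT a.2, ?_⟩, a.2⟩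
    have := congrArg Subtype.val (hA2 a ha)
    rw [← pow_two]
    exact this
  obtain ⟨k, hk⟩ := IsPGroup.iff_card.mp hVp
  have hVSi : V ⊓ (S : Subgroup G) = V := inf_eq_left.mpr hVS
  have hVr : Nat.card V = 2 ^ r := by
    have h1 := hbound S le_rfl r hSr.1
    have h2 := hbound' S le_rfl (r - 1) hSr.2
    rw [hVSi, hk] at h1 h2
    rw [hk]
    have h3 : k ≤ r := (Nat.pow_le_pow_iff_right (by norm_num)).mp h1
    have h4 : r - 1 < k := (Nat.pow_lt_pow_iff_right (by norm_num)).mp h2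
    congr 1; omega
  have hWr : Nat.card (V ⊓ R : Subgroup G) = 2 ^ (r - 1) := by
    obtain ⟨j, hj⟩ := IsPGroup.iff_card.mp (hVp.to_le (inf_le_left : V ⊓ R ≤ V))
    have h1 := hbound R hRS (r - 1) hRr.1
    rw [hj] at h1 ⊢
    have h3 : j ≤ r - 1 := (Nat.pow_le_pow_iff_right (by norm_num)).mp h1
    rcases hRr.2 with h | h
    · subst h
      congr 1; omega
    · have h2 := hbound' R hRS (r - 2) h
      rw [hj] at h2
      have h4 : r - 2 < j := (Nat.pow_lt_pow_iff_right (by norm_num)).mp h2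
      congr 1; omega
  have hWi : ((V ⊓ R).subgroupOf V).index = 2 := by
    have h1 := Subgroup.card_mul_index ((V ⊓ R).subgroupOf V)
    rw [Nat.card_congr (Subgroup.subgroupOfEquivOfLe inf_le_left).toEquiv, hWr, hVr] at h1
    have h2 : 2 ^ r = 2 ^ (r - 1) * 2 := by rw [← pow_succ]; congr 1; omega
    rw [h2] at h1
    exact Nat.eq_of_mul_eq_mul_left (by positivity) h1
  letI : CommGroup (S : Subgroup G) :=
    { (inferInstance : Group (S : Subgroup G)) with
      mul_comm := fun a b => hS.is_comm.comm a b }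
  -- fixed points of N are trivial
  have hfix : ∀ s ∈ (S : Subgroup G), (∀ n ∈ N, n * s * n⁻¹ = s) → s = 1 := by
    intro s hs hsn
    let ϕ : (S : Subgroup G) →* (S : Subgroup G) := MonoidHom.id _
    have h1 : MonoidHom.transfer ϕ s = 1 := by
      have h2 : (MonoidHom.transfer ϕ).ker = ⊤ := by
        by_contra hne
        obtain ⟨M, -, hM, -⟩ := exists_normal_index_of_isPGroup_quotient (p := 2) (MonoidHom.transfer ϕ).ker
          (by
            have h3 := S.2.to_subgroup (MonoidHom.transfer ϕ).range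
            exact h3.of_equiv (QuotientGroup.quotientKerEquivRange (MonoidHom.transfer ϕ)).symm) hne
        exact hG M hM
      have : s ∈ (MonoidHom.transfer ϕ).ker := by rw [h2]; trivial
      exact this
    obtain ⟨q, hq⟩ := (IsPGroup.iff_orderOf.mp S.2) ⟨s, hs⟩
    have h4 := transfer_not_mem_commutator (p := 2) (((Nat.Prime.coprime_iff_not_dvd Nat.prime_two).mpr S.not_dvd_index)) ϕ s hs
      ⟨q, by rw [← hq, ← Subgroup.orderOf_coe]⟩ (by
        intro j g₀ h
        have h5 := burnside_fusion S hS (x := s ^ j) (u := g₀⁻¹) (pow_mem hs j) (by rw [inv_inv]; exact h)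
        obtain ⟨n, hn, hne⟩ := h5
        rw [inv_inv] at hne
        apply Subtype.ext
        change g₀⁻¹ * s ^ j * g₀ = ((⟨s, hs⟩ : (S : Subgroup G)) ^ j : (S : Subgroup G))
        rw [hne, Subgroup.coe_pow]
        change n * s ^ j * n⁻¹ = s ^ j
        rw [← conj_pow, hsn n hn]) h1
    exact congrArg Subtype.val h4
  -- the orbit
  set O : Finset (S : Subgroup G) := Finset.univ.filter (fun x : (S : Subgroup G) => ∃ n ∈ N, n * t * n⁻¹ = x) with hO
  have htt : t * t = 1 := invol_sq ht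
  have hcardO : Odd O.card := by
    have hSN : (S : Subgroup G) ≤ N := Subgroup.le_normalizer
    have htN : t ∈ N := hSN htS
    have h1 : O.card = (centralizer ({(⟨t, htN⟩ : N)} : Set N)).index := by
      rw [← Cfsg.Agent.H5.card_isConj, ← Fintype.card_coe, ← Nat.card_eq_fintype_card]
      apply Nat.card_congr
      refine ⟨fun x => ⟨⟨x.1, hSN x.1.2⟩, ?_⟩, fun x => ⟨⟨x.1, ?_⟩, ?_⟩, ?_, ?_⟩
      · obtain ⟨n, hn, hx⟩ := (Finset.mem_filter.mp x.2).2
        exact isConj_iff.mpr ⟨⟨n, hn⟩, Subtype.ext hx⟩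
      · obtain ⟨n, hx⟩ := isConj_iff.mp x.2
        have hx' : (n : G) * t * (n : G)⁻¹ = x.1 := congrArg Subtype.val hx
        rw [← hx']
        exact (Subgroup.mem_normalizer_iff.mp n.2 t).mp htS
      · obtain ⟨n, hx⟩ := isConj_iff.mp x.2
        exact Finset.mem_filter.mpr ⟨Finset.mem_univ _, n, n.2, congrArg Subtype.val hx⟩
      · intro x; rfl
      · intro x; rfl
    rw [h1, ← Nat.not_even_iff_odd, even_iff_two_dvd]
    intro hd
    have h2 : (S : Subgroup G).subgroupOf N ≤ centralizer ({(⟨t, htN⟩ : N)} : Set N) := by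
      intro x hx
      rw [mem_centralizer_singleton_iff]
      exact Subtype.ext (hSc _ hx _ htS)
    have h3 := hd.trans (Subgroup.index_dvd_of_le h2)
    exact S.not_dvd_index (h3.trans (Subgroup.relIndex_dvd_index_of_le hSN))
  have hOm : ∀ x ∈ O, (x : G) ∈ V ∧ (x : G) ∉ R := by
    intro x hx
    obtain ⟨n, hn, hnx⟩ := (Finset.mem_filter.mp hx).2
    refine ⟨⟨x.2, ?_⟩, ?_⟩
    · rw [← hnx]
      calc n * t * n⁻¹ * (n * t * n⁻¹) = n * (t * t) * n⁻¹ := by group
        _ = 1 := by rw [htt]; group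
    · rw [← hnx]; exact hno n hn
  obtain ⟨h1, h2⟩ := prod_parity (A := (S : Subgroup G)) {x | (x : G) ∈ V} {x | (x : G) ∈ R} V.one_mem R.one_mem
    (fun a ha b hb => V.mul_mem ha hb) (by
      intro a ha b hb
      have h3 := Subgroup.mul_mem_iff_of_index_two hWi (a := ⟨a, ha⟩) (b := ⟨b, hb⟩)
      simp only [mem_subgroupOf] at h3
      have h4 : ∀ c : G, c ∈ V → (c ∈ V ⊓ R ↔ c ∈ R) := fun c hc => ⟨fun h => (Subgroup.mem_inf.mp h).2, fun h => Subgroup.mem_inf.mpr ⟨hc, h⟩⟩
      change ((a : G) * b ∈ V ⊓ R ↔ _) at h3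
      rw [h4 _ (V.mul_mem ha hb), h4 _ ha, h4 _ hb] at h3
      exact h3) O hOm
  have h3 : (((∏ x ∈ O, x : (S : Subgroup G)) : (S : Subgroup G)) : G) = 1 := by
    apply hfix _ (∏ x ∈ O, x : (S : Subgroup G)).2
    intro n hn
    let φ : (S : Subgroup G) →* (S : Subgroup G) :=
      { toFun := fun x => ⟨n * x * n⁻¹, (Subgroup.mem_normalizer_iff.mp hn x).mp x.2⟩
        map_one' := Subtype.ext (by simp)
        map_mul' := fun x y => Subtype.ext (by simp only [Subgroup.coe_mul]; group) }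
    have h4 : φ (∏ x ∈ O, x) = ∏ x ∈ O, x := by
      rw [map_prod]
      refine Finset.prod_nbij (fun x => φ x) ?_ ?_ ?_ (fun _ _ => rfl)
      · intro x hx
        obtain ⟨m, hm, hmx⟩ := (Finset.mem_filter.mp hx).2
        refine Finset.mem_filter.mpr ⟨Finset.mem_univ _, n * m, mul_mem hn hm, ?_⟩
        change n * m * t * (n * m)⁻¹ = n * x * n⁻¹
        rw [← hmx]; group
      · intro x _ y _ hxy
        have h5 : n * (x : G) * n⁻¹ = n * y * n⁻¹ := congrArg Subtype.val hxy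
        exact Subtype.ext (mul_left_cancel (mul_right_cancel h5))
      · intro y hy
        obtain ⟨m, hm, hmy⟩ := (Finset.mem_filter.mp hy).2
        have hy' : n⁻¹ * (y : G) * n ∈ (S : Subgroup G) := by
          have := (Subgroup.mem_normalizer_iff.mp (inv_mem hn) (y : G)).mp y.2
          rwa [inv_inv] at this
        refine ⟨⟨_, hy'⟩, ?_, ?_⟩
        · refine Finset.mem_coe.mpr (Finset.mem_filter.mpr ⟨Finset.mem_univ _, n⁻¹ * m, mul_mem (inv_mem hn) hm, ?_⟩)
          change n⁻¹ * m * t * (n⁻¹ * m)⁻¹ = n⁻¹ * y * n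
          rw [← hmy]; group
        · apply Subtype.ext
          change n * (n⁻¹ * y * n) * n⁻¹ = y
          group
    exact congrArg Subtype.val h4
  have h4 : (∏ x ∈ O, x : (S : Subgroup G)) ∈ ({x | (x : G) ∈ R} : Set (S : Subgroup G)) := by
    change (((∏ x ∈ O, x : (S : Subgroup G)) : (S : Subgroup G)) : G) ∈ R
    rw [h3]; exact R.one_mem
  exact absurd (h2.mp h4) (Nat.not_even_iff_odd.mpr hcardO)

end Cfsg.Agent.S1244
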