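import Cfsg.Statements.S1249
import Mathlib
import Cfsg.Agent.H1.Basic
import Cfsg.Agent.L0.Coprime

set_option autoImplicit false
open Cfsg

namespace Cfsg.Agent.S1249

open scoped commutatorElement Pointwise


/-- Let P and Q be Sylow p-subgroups of the finite group G both containing the subgroup A. If A is strongly closed in P, then A is strongly closed in Q. -/
theorem result {G : Type*} [Group G] [Finite G] {p : ℕ} [Fact p.Prime] (P Q : Sylow p G) (A : Subgroup G) (hAQ : A ≤ Q) (hA : Cfsg.IsStronglyClosed A (P : Subgroup G)) : Cfsg.IsStronglyClosed A (Q : Subgroup G) := by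
  classical
  obtain ⟨y, hy⟩ := MulAction.exists_smul_eq G P Q
  have hmem : ∀ u : G, u ∈ (Q : Subgroup G) ↔ y⁻¹ * u * y ∈ (P : Subgroup G) := by
    intro u
    rw [← hy]
    exact Cfsg.Agent.H1.mem_smul_sylow
  have h1 : ∀ x ∈ A, y⁻¹ * x * y ∈ A := by
    intro x hx
    have h2 := (hmem x).mp (hAQ hx)
    have := hA.2 x hx y⁻¹ (by rw [inv_inv]; exact h2)
    rwa [inv_inv] at this
  have h2 : y⁻¹ ∈ Subgroup.normalizer (A : Set G) := by
    apply Cfsg.Agent.H1.mem_normalizer_of_conj_mem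
    intro x hx
    rw [inv_inv]; exact h1 x hx
  have h3 : ∀ u, y⁻¹ * u * y ∈ A → u ∈ A := by
    intro u hu
    have := (Subgroup.mem_normalizer_iff.mp h2 u).mpr
    rw [inv_inv] at this
    exact this hu
  refine ⟨hAQ, fun x hx g hg => ?_⟩
  apply h3
  have h4 := (hmem _).mp hg
  have e : y⁻¹ * (g * x * g⁻¹) * y = (y⁻¹ * g) * x * (y⁻¹ * g)⁻¹ := by group
  rw [e] at h4 ⊢
  exact hA.2 x hx _ h4

end Cfsg.Agent.S1249
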