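import Cfsg.Statements.S1250
import Mathlib
import Cfsg.Agent.H1.Basic
import Cfsg.Agent.L0.Coprime

set_option autoImplicit false
open Cfsg

namespace Cfsg.Agent.S1250

open scoped commutatorElement Pointwise


/-- Let S be a Sylow p-subgroup of the finite group G, A ≤ S strongly closed in S, and N a normal subgroup. Then the image of A in G ⧸ N is strongly closed in the image of S (which is a Sylow p-subgroup of G ⧸ N). -/
theorem result {G : Type*} [Group G] [Finite G] {p : ℕ} [Fact p.Prime] (S : Sylow p G) (A : Subgroup G) (hA : Cfsg.IsStronglyClosed A (S : Subgroup G)) (N : Subgroup G) [N.Normal] : Cfsg.IsStronglyClosed (A.map (QuotientGroup.mk' N)) ((S : Subgroup G).map (QuotientGroup.mk' N)) := by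
  classical
  refine ⟨Subgroup.map_mono hA.1, ?_⟩
  rintro _ ⟨x, hx, rfl⟩ g' hg
  obtain ⟨g, rfl⟩ := QuotientGroup.mk'_surjective N g'
  rw [← map_inv, ← map_mul, ← map_mul] at hg ⊢
  obtain ⟨s, hs, hsg⟩ := hg
  set u := g * x * g⁻¹ with hu
  set H := N ⊔ (S : Subgroup G) with hH
  have hSH : (S : Subgroup G) ≤ H := le_sup_right
  have huH : u ∈ H := by
    have h1 : s⁻¹ * u ∈ N := QuotientGroup.eq.mp hsg
    have : u = s * (s⁻¹ * u) := by group
    rw [this]
    exact H.mul_mem (hSH hs) ((le_sup_left : N ≤ H) h1)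
  have hup : IsPGroup p (Subgroup.zpowers (⟨u, huH⟩ : H)) := by
    obtain ⟨k, hk⟩ := S.isPGroup' ⟨x, hA.1 hx⟩
    have hxk : x ^ p ^ k = 1 := congrArg Subtype.val hk
    have huk : u ^ p ^ k = 1 := by rw [hu, conj_pow, hxk, mul_one, mul_inv_cancel]
    have h1 : orderOf (⟨u, huH⟩ : H) ∣ p ^ k := orderOf_dvd_of_pow_eq_one (Subtype.ext huk)
    obtain ⟨j, _, hj⟩ := (Nat.dvd_prime_pow Fact.out).mp h1
    exact IsPGroup.of_card (n := j) (by rw [Nat.card_zpowers, hj])
  obtain ⟨Q, hQ⟩ := hup.exists_le_sylow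
  let S' : Sylow p H := S.subtype hSH
  obtain ⟨y, hy⟩ := MulAction.exists_smul_eq H Q S'
  have h1 : (y : G) * u * (y : G)⁻¹ ∈ (S : Subgroup G) := by
    have h2 : y * ⟨u, huH⟩ * y⁻¹ ∈ S' := by
      rw [← hy]
      exact ⟨_, hQ (Subgroup.mem_zpowers _), rfl⟩
    exact h2
  obtain ⟨n, hn, t, ht, e⟩ := Subgroup.mem_sup_of_normal_left.mp y.2
  -- y = n t; write y = t n' with n' ∈ N
  have hn' : t⁻¹ * n * t ∈ N := by
    have := (inferInstance : N.Normal).conj_mem n hn t⁻¹
    rwa [inv_inv] at this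
  set m := t⁻¹ * n * t with hm
  have hytm : (y : G) = t * m := by rw [← e, hm]; group
  have h3 : m * u * m⁻¹ ∈ (S : Subgroup G) := by
    have h4 : m * u * m⁻¹ = t⁻¹ * ((y : G) * u * (y : G)⁻¹) * t := by rw [hytm]; group
    rw [h4]
    exact (S : Subgroup G).mul_mem ((S : Subgroup G).mul_mem ((S : Subgroup G).inv_mem ht) h1) ht
  have h5 : m * u * m⁻¹ ∈ A := by
    have h6 := hA.2 x hx (m * g)
    have e2 : m * g * x * (m * g)⁻¹ = m * u * m⁻¹ := by rw [hu]; group
    rw [e2] at h6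
    exact h6 h3
  refine ⟨m * u * m⁻¹, h5, ?_⟩
  have hm1 : QuotientGroup.mk' N m = 1 := (QuotientGroup.eq_one_iff m).mpr hn'
  rw [map_mul, map_mul, map_inv, hm1, inv_one, one_mul, mul_one]

end Cfsg.Agent.S1250
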