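import Cfsg.Statements.S1327
import Cfsg.Agent.L0.GenFit
import Cfsg.Agent.H6.CharP
import Cfsg.Agent.H6.Cocyc
import Cfsg.Agent.H1.PCon
import Mathlib

set_option autoImplicit false
open Cfsg

namespace Cfsg.Agent.S1327

open Cfsg.Agent.L0 Cfsg.Agent.H6

/-- A finite group X is p-constrained if and only if its p-layer L_{p'}(X) is trivial (equivalently X / O_{p'}(X) has trivial layer). -/
theorem result {X : Type*} [Group X] [Finite X] (p : ℕ) [Fact p.Prime] : Cfsg.IsPConstrained p X ↔ Cfsg.pLayer p X = ⊥ := by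
  have hb : pPrimeCore p (X ⧸ pPrimeCore p X) = ⊥ := pPrimeCore_quotient_pPrimeCore p X
  have hfp : fittingSubgroup (X ⧸ pPrimeCore p X) ≤ pCore p (X ⧸ pPrimeCore p X) := le_pCore (fitting_isP hb)
  rw [Cfsg.Agent.H1.pConstrained_iff, ← F_iff_cent]
  constructor
  · intro h
    refine (sSup_eq_bot).2 ?_
    intro K hK
    exfalso
    have h1 : K.map (QuotientGroup.mk' (pPrimeCore p X)) ≤ pCore p (X ⧸ pPrimeCore p X) := by
      rw [← h]
      exact (le_layer hK.2.1).trans (layer_le_generalized _)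
    have h2 : Group.IsSolvable ↥(K.map (QuotientGroup.mk' (pPrimeCore p X))) :=
      Cfsg.Agent.H1.isSolvable_of_isPGroup ((pCore_isPGroup p _).to_le h1)
    exact quasisimple_not_isSolvable hK.2.1.2 h2
  · intro h
    have hl : layer (X ⧸ pPrimeCore p X) = ⊥ := by
      refine (sSup_eq_bot).2 ?_
      intro K hK
      exfalso
      have hK' : (K.comap (QuotientGroup.mk' (pPrimeCore p X))).IsSubnormal := hK.1.comap _
      obtain ⟨L, hL⟩ : ∃ L : Subgroup X, L.IsSubnormal ∧ L.map (QuotientGroup.mk' (pPrimeCore p X)) = K ∧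
          ∀ H : Subgroup X, H.IsSubnormal → H.map (QuotientGroup.mk' (pPrimeCore p X)) = K → Nat.card L ≤ Nat.card H := by
        classical
        have hex : ∃ n, ∃ L : Subgroup X, L.IsSubnormal ∧ L.map (QuotientGroup.mk' (pPrimeCore p X)) = K ∧ Nat.card L = n :=
          ⟨_, _, hK', Subgroup.map_comap_eq_self_of_surjective (QuotientGroup.mk'_surjective _) K, rfl⟩
        obtain ⟨L, hL1, hL2, hL3⟩ := Nat.find_spec hex
        refine ⟨L, hL1, hL2, fun H hH1 hH2 => ?_⟩
        rw [hL3]
        exact Nat.find_min' hex ⟨H, hH1, hH2, rfl⟩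
      have hP : IsPComponent p L := by
        refine ⟨hL.1, by rw [hL.2.1]; exact hK, ?_⟩
        intro H hH hHL hmap
        exact Subgroup.eq_of_le_of_card_ge hHL (hL.2.2 H hH (hmap.trans hL.2.1))
      have h3 : L = ⊥ := by
        rw [eq_bot_iff, ← h]
        exact le_sSup hP
      have h4 : K = ⊥ := by rw [← hL.2.1, h3, Subgroup.map_bot]
      exact quasisimple_ne_bot hK.2 h4
    rw [generalizedFittingSubgroup, hl, bot_sup_eq]
    refine le_antisymm hfp ?_
    refine le_sSup ⟨inferInstance, ?_⟩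
    exact (pCore_isPGroup p _).isNilpotent

end Cfsg.Agent.S1327
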