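import Cfsg.Statements.S1293
import Cfsg.Agent.H2.PComp2
import Cfsg.Agent.S1327
import Cfsg.Agent.S0631
import Mathlib

set_option autoImplicit false
open Cfsg

namespace Cfsg.Agent.S1293

open Cfsg.Agent.H2 Cfsg.Agent.H6 Cfsg.Agent.L0

/-- Let G be finite with L_{p'}(G) = 1, and H = N_G(P) for a nontrivial p-subgroup P. Then L_{p'}(H) = 1 and O_{p'}(H) ≤ O_{p'}(G). -/
theorem result {G : Type*} [Group G] [Finite G] (p : ℕ) [Fact p.Prime] (hL : Cfsg.pLayer p G = ⊥) (P : Subgroup G) (hP : IsPGroup p ↥P) (hP1 : P ≠ ⊥) : Cfsg.pLayer p ↥(Subgroup.normalizer (P : Set G)) = ⊥ ∧ (Cfsg.pPrimeCore p ↥(Subgroup.normalizer (P : Set G))).map (Subgroup.normalizer (P : Set G)).subtype ≤ Cfsg.pPrimeCore p G := by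
  have hc : IsPConstrained p G := (Cfsg.Agent.S1327.result p).2 hL
  refine ⟨(Cfsg.Agent.S1327.result p).1 (Cfsg.Agent.S0631.result hc P hP).1, ?_⟩
  rw [Cfsg.Agent.H1.pConstrained_iff, ← cp_top_iff] at hc
  have hPb : IsPGroup p (P.map (QuotientGroup.mk' (pPrimeCore p G))) := hP.map _
  have hN : CP p (Subgroup.normalizer ((P.map (QuotientGroup.mk' (pPrimeCore p G)) : Subgroup (G ⧸ pPrimeCore p G)) : Set (G ⧸ pPrimeCore p G))) := by
    refine hc.loc (B := P.map (QuotientGroup.mk' (pPrimeCore p G))) le_top hPb (le_pCoreOf Subgroup.le_normalizer le_rfl hPb) le_top ?_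
    exact inf_le_right.trans (Cfsg.Agent.H6.centralizer_le_norm _)
  -- elements of O_{p'}(N) have image centralizing O_p of the normalizer
  obtain ⟨M, hM⟩ : ∃ M, M = ((pPrimeCore p ↥(Subgroup.normalizer (P : Set G))).map (Subgroup.normalizer (P : Set G)).subtype) := ⟨_, rfl⟩
  have hMn : Subgroup.normalizer (P : Set G) ≤ Subgroup.normalizer (M : Set G) := by
    rw [hM]
    refine (Subgroup.normal_subgroupOf_iff_le_normalizer (Subgroup.map_subtype_le _)).1 ?_
    rw [Subgroup.subgroupOf, Subgroup.comap_map_eq_self_of_injective (Subgroup.subtype_injective _)]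
    infer_instance
  have hMle : M ≤ Subgroup.normalizer (P : Set G) := by rw [hM]; exact Subgroup.map_subtype_le _
  have hMc : (Nat.card M).Coprime p := by
    rw [hM, card_map_subtype]; exact pPrimeCore_coprime p _
  rw [← hM]
  intro x hx
  have hxo : (orderOf (QuotientGroup.mk' (pPrimeCore p G) x)).Coprime p :=
    Nat.Coprime.coprime_dvd_left ((orderOf_map_dvd _ x).trans (Subgroup.orderOf_dvd_natCard M hx)) hMc
  have hxN : QuotientGroup.mk' (pPrimeCore p G) x ∈ Subgroup.normalizer ((P.map (QuotientGroup.mk' (pPrimeCore p G)) : Subgroup (G ⧸ pPrimeCore p G)) : Set (G ⧸ pPrimeCore p G)) :=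
    Subgroup.le_normalizer_map _ ⟨x, hMle hx, rfl⟩
  have h1 := hN _ hxN hxo (by
    intro a ha
    obtain ⟨R, hR⟩ : ∃ R, R = pCoreOf p (Subgroup.normalizer ((P.map (QuotientGroup.mk' (pPrimeCore p G)) : Subgroup (G ⧸ pPrimeCore p G)) : Set (G ⧸ pPrimeCore p G))) := ⟨_, rfl⟩
    rw [← hR] at ha
    have hRp : IsPGroup p R := by rw [hR]; exact pCoreOf_isPGroup _
    have haN : a ∈ Subgroup.normalizer ((P.map (QuotientGroup.mk' (pPrimeCore p G)) : Subgroup (G ⧸ pPrimeCore p G)) : Set (G ⧸ pPrimeCore p G)) := by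
      rw [hR] at ha; exact pCoreOf_le _ ha
    have hxR : QuotientGroup.mk' (pPrimeCore p G) x ∈ Subgroup.normalizer (R : Set (G ⧸ pPrimeCore p G)) := by
      rw [hR]; exact le_norm_pCoreOf _ hxN
    -- a normalizes the image of M
    have haM : a ∈ Subgroup.normalizer ((M.map (QuotientGroup.mk' (pPrimeCore p G)) : Subgroup (G ⧸ pPrimeCore p G)) : Set (G ⧸ pPrimeCore p G)) := by
      obtain ⟨g, rfl⟩ := QuotientGroup.mk'_surjective _ a
      obtain ⟨y, hy, m, hm, rfl⟩ := Cfsg.Agent.H1.normalizer_lift (N := pPrimeCore p G) (P := P)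
        (Cfsg.Agent.H1.coprime_of_isPGroup hP (pPrimeCore_coprime p G)) (Or.inl (Cfsg.Agent.H1.isSolvable_of_isPGroup hP)) haN
      have h3 : QuotientGroup.mk' (pPrimeCore p G) y = 1 := (QuotientGroup.eq_one_iff y).mpr hy
      rw [map_mul, h3, one_mul]
      exact Subgroup.le_normalizer_map _ ⟨m, hMn hm, rfl⟩
    -- the commutator is in both
    have h2 : a * QuotientGroup.mk' (pPrimeCore p G) x * a⁻¹ * (QuotientGroup.mk' (pPrimeCore p G) x)⁻¹ ∈ R ⊓ M.map (QuotientGroup.mk' (pPrimeCore p G)) := by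
      refine ⟨?_, ?_⟩
      · have e : a * QuotientGroup.mk' (pPrimeCore p G) x * a⁻¹ * (QuotientGroup.mk' (pPrimeCore p G) x)⁻¹ =
            a * (QuotientGroup.mk' (pPrimeCore p G) x * a⁻¹ * (QuotientGroup.mk' (pPrimeCore p G) x)⁻¹) := by group
        rw [e]
        exact R.mul_mem ha ((Subgroup.mem_normalizer_iff.1 hxR _).1 (R.inv_mem ha))
      · exact Subgroup.mul_mem _ ((Subgroup.mem_normalizer_iff.1 haM _).1 ⟨x, hx, rfl⟩) (Subgroup.inv_mem _ ⟨x, hx, rfl⟩)
    have h3 : R ⊓ M.map (QuotientGroup.mk' (pPrimeCore p G)) = ⊥ := by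
      apply inf_eq_bot_of_coprime'
      obtain ⟨n, hn⟩ := IsPGroup.iff_card.1 hRp
      rw [hn]
      refine Nat.Coprime.pow_left n (Nat.Coprime.symm ?_)
      exact Nat.Coprime.coprime_dvd_left (Subgroup.card_map_dvd M _) hMc
    rw [h3, Subgroup.mem_bot, mul_inv_eq_one, mul_inv_eq_iff_eq_mul] at h2
    exact h2)
  exact (QuotientGroup.eq_one_iff x).1 h1

end Cfsg.Agent.S1293
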