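import Cfsg.Statements.S1313
import Cfsg.Agent.H2.Lay
import Cfsg.Agent.H6.Cocyc
import Mathlib

set_option autoImplicit false
open Cfsg

namespace Cfsg.Agent.S1313

open Cfsg.Agent.H2 Cfsg.Agent.L0

/-- For a finite group H, |H| ≤ |F*(H)|!. -/
theorem result {H : Type*} [Group H] [Finite H] : Nat.card H ≤ Nat.factorial (Nat.card ↥(Cfsg.generalizedFittingSubgroup H)) := by
  classical
  set F := generalizedFittingSubgroup H with hF
  have hC : Subgroup.centralizer (F : Set H) ≤ F := centralizer_generalizedFitting_le H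
  let φ : H →* MulAut F := MulAut.conjNormal
  have hker : φ.ker ≤ F := by
    intro x hx
    apply hC
    rw [Subgroup.mem_centralizer_iff]
    intro y hy
    have h1 : φ x = 1 := hx
    have h2 : x * y * x⁻¹ = y := by
      have := MulAut.conjNormal_apply x (⟨y, hy⟩ : F)
      have h3 : φ x ⟨y, hy⟩ = ⟨y, hy⟩ := by rw [h1]; rfl
      rw [← this]; exact congrArg Subtype.val h3
    exact (mul_inv_eq_iff_eq_mul.1 h2).symm
  have hkc : Nat.card φ.ker ≤ Nat.card F := Nat.le_of_dvd Nat.card_pos (Subgroup.card_dvd_of_le hker)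
  have hrange : Nat.card φ.range ≤ Nat.factorial (Nat.card F - 1) := by
    let g : MulAut F → Equiv.Perm {x : F // x ≠ 1} := fun α =>
      α.toEquiv.subtypeEquiv (fun x => by
        show x ≠ 1 ↔ α x ≠ 1
        rw [not_iff_not]
        exact (map_eq_one_iff α α.injective).symm)
    have hg : Function.Injective g := by
      intro α β h
      ext1 x
      by_cases hx : x = 1
      · rw [hx, map_one, map_one]
      · have h1 := congrArg (fun e : Equiv.Perm {x : F // x ≠ 1} => ((e ⟨x, hx⟩ : {x : F // x ≠ 1}) : F)) h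
        exact h1
    have h1 : Nat.card φ.range ≤ Nat.card (MulAut F) :=
      Nat.card_le_card_of_injective _ (Subgroup.subtype_injective φ.range)
    have h2 : Nat.card (MulAut F) ≤ Nat.card (Equiv.Perm {x : F // x ≠ 1}) := Nat.card_le_card_of_injective g hg
    have h3 : Nat.card (Equiv.Perm {x : F // x ≠ 1}) = Nat.factorial (Nat.card {x : F // x ≠ 1}) := Nat.card_perm
    have h4 : Nat.card {x : F // x ≠ 1} = Nat.card F - 1 := by
      have h5 : Nat.card {x : F // x ≠ 1} = Set.ncard ({(1 : F)}ᶜ : Set F) := rfl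
      rw [h5, Set.ncard_compl, Set.ncard_singleton]
    rw [h3, h4] at h2
    exact h1.trans h2
  have hcard : Nat.card H = Nat.card φ.ker * Nat.card φ.range := by
    rw [← Subgroup.index_ker φ, Subgroup.card_mul_index]
  rw [hcard]
  have hpos : 0 < Nat.card F := Nat.card_pos
  calc Nat.card φ.ker * Nat.card φ.range ≤ Nat.card F * Nat.factorial (Nat.card F - 1) := Nat.mul_le_mul hkc hrange
    _ = Nat.factorial (Nat.card F) := Nat.mul_factorial_pred hpos.ne'

end Cfsg.Agent.S1313
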