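import Cfsg.Statements.S1339
import Cfsg.Agent.L0.Misc.Tv
-- import your own Cfsg.Agent.* helpers here

set_option autoImplicit false
open Cfsg

namespace Cfsg.Agent.S1339

/-- Let F be a field with 2 elements, n ≥ 3, and t ∈ SL(n, F) a transvection (t = 1 + E_{ij}, i ≠ j). Then the generalized Fitting subgroup of C(t) is O_2(C(t)). -/
theorem result {F : Type*} [Field F] [Fintype F] [DecidableEq F] (hF : Fintype.card F = 2) (n : ℕ) (hn : 3 ≤ n) (i j : Fin n) (hij : i ≠ j) (t : Matrix.SpecialLinearGroup (Fin n) F) (ht : (t : Matrix (Fin n) (Fin n) F) = Matrix.transvection i j 1) : Cfsg.generalizedFittingSubgroup ↥(Subgroup.centralizer ({t} : Set (Matrix.SpecialLinearGroup (Fin n) F))) = Cfsg.pCore 2 ↥(Subgroup.centralizer ({t} : Set (Matrix.SpecialLinearGroup (Fin n) F))) := by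
  classical
  haveI : Fact (Nat.Prime 2) := ⟨Nat.prime_two⟩
  let SLn := Matrix.SpecialLinearGroup (Fin n) F
  let E : Fin n → F := Pi.single i 1
  have hEd : E = Pi.single i 1 := rfl
  have hone : ∀ x : F, x ≠ 0 → x = 1 := by
    intro x hx
    by_contra hx1
    have h1 : ({0, 1, x} : Finset F).card ≤ Fintype.card F := Finset.card_le_univ _
    rw [hF, Finset.card_insert_of_notMem (by simp [hx.symm]), Finset.card_insert_of_notMem (by simp [Ne.symm hx1])] at h1
    simp at h1
  have h2F : (1 : F) + 1 = 0 := by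
    by_contra h
    have := hone _ h
    have h1 : (1 : F) = 0 := by
      have h3 : (1 : F) + 1 = 1 + 0 := by rw [this, add_zero]
      exact add_left_cancel h3
    exact one_ne_zero h1
  have hact : ∀ g h : SLn, ∀ v : Fin n → F, ((g * h : SLn) : Matrix (Fin n) (Fin n) F).mulVec v = (g : Matrix (Fin n) (Fin n) F).mulVec ((h : Matrix (Fin n) (Fin n) F).mulVec v) := by
    intro g h v
    rw [Matrix.SpecialLinearGroup.coe_mul, Matrix.mulVec_mulVec]
  have hact1 : ∀ v : Fin n → F, ((1 : SLn) : Matrix (Fin n) (Fin n) F).mulVec v = v := by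
    intro v
    rw [Matrix.SpecialLinearGroup.coe_one, Matrix.one_mulVec]
  have htv : ∀ v : Fin n → F, (t : Matrix (Fin n) (Fin n) F).mulVec v = v + v j • E := by
    intro v
    rw [ht]; exact Cfsg.Agent.L0.Tv.tv_mulVec i j v
  have hEj : E j = 0 := by rw [hEd]; simp [hij.symm]
  have hfixE : ∀ g : SLn, g ∈ Subgroup.centralizer ({t} : Set SLn) → (g : Matrix (Fin n) (Fin n) F).mulVec E = E := by
    intro g hg
    rw [Subgroup.mem_centralizer_singleton_iff] at hg
    let ej : Fin n → F := Pi.single j 1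
    have h1 : ((g * t : SLn) : Matrix (Fin n) (Fin n) F).mulVec ej = ((t * g : SLn) : Matrix (Fin n) (Fin n) F).mulVec ej := by rw [hg]
    rw [hact, hact, htv, htv, Matrix.mulVec_add, Matrix.mulVec_smul] at h1
    have h2 := add_left_cancel h1
    have h3 : ej j = 1 := by simp [ej]
    rw [h3, one_smul] at h2
    have h4 : ((g : Matrix (Fin n) (Fin n) F).mulVec ej) j ≠ 0 := by
      intro h5
      rw [h5, zero_smul] at h2
      have h6 : ((g⁻¹ * g : SLn) : Matrix (Fin n) (Fin n) F).mulVec E = E := by rw [inv_mul_cancel, hact1]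
      rw [hact, h2, Matrix.mulVec_zero] at h6
      have h7 := congrFun h6 i
      simp [hEd] at h7
    rw [hone _ h4, one_smul] at h2
    exact h2
  obtain ⟨N, hN⟩ : ∃ N : Subgroup ↥(Subgroup.centralizer ({t} : Set SLn)), ∀ g, g ∈ N ↔ ∀ v : Fin n → F, ∃ c : F, ((g : SLn) : Matrix (Fin n) (Fin n) F).mulVec v = v + c • E := by
    refine ⟨{ carrier := {g | ∀ v : Fin n → F, ∃ c : F, ((g : SLn) : Matrix (Fin n) (Fin n) F).mulVec v = v + c • E}, mul_mem' := ?_, one_mem' := ?_, inv_mem' := ?_ }, fun g => Iff.rfl⟩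
    · intro a b ha hb v
      obtain ⟨c, hc⟩ := hb v
      obtain ⟨d, hd⟩ := ha v
      refine ⟨d + c, ?_⟩
      change ((((a : SLn) * (b : SLn)) : SLn) : Matrix (Fin n) (Fin n) F).mulVec v = _
      rw [hact, hc, Matrix.mulVec_add, Matrix.mulVec_smul, hd, hfixE _ a.2, add_smul, add_assoc]
    · intro v
      exact ⟨0, by change ((1 : SLn) : Matrix (Fin n) (Fin n) F).mulVec v = _; rw [hact1, zero_smul, add_zero]⟩
    · intro a ha v
      obtain ⟨c, hc⟩ := ha v
      refine ⟨-c, ?_⟩
      change ((((a : SLn)⁻¹ : SLn)) : Matrix (Fin n) (Fin n) F).mulVec v = _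
      have h1 : (((a : SLn)⁻¹ * (a : SLn) : SLn) : Matrix (Fin n) (Fin n) F).mulVec v = v := by rw [inv_mul_cancel, hact1]
      rw [hact, hc, Matrix.mulVec_add, Matrix.mulVec_smul] at h1
      have h2 := hfixE _ ((Subgroup.centralizer ({t} : Set SLn)).inv_mem a.2)
      change (((a : SLn)⁻¹ : SLn) : Matrix (Fin n) (Fin n) F).mulVec E = E at h2
      rw [h2] at h1
      rw [neg_smul, ← sub_eq_add_neg, eq_sub_iff_add_eq]
      exact h1
  have hNn : N.Normal := by
    constructor
    intro g hg h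
    rw [hN] at hg ⊢
    intro v
    obtain ⟨c, hc⟩ := hg ((((h : SLn)⁻¹ : SLn) : Matrix (Fin n) (Fin n) F).mulVec v)
    refine ⟨c, ?_⟩
    change (((h : SLn) * (g : SLn) * (h : SLn)⁻¹ : SLn) : Matrix (Fin n) (Fin n) F).mulVec v = _
    rw [hact, hact, hc, Matrix.mulVec_add, Matrix.mulVec_smul, hfixE _ h.2, ← hact, mul_inv_cancel, hact1]
  have hNp : IsPGroup 2 N := by
    intro g
    refine ⟨1, ?_⟩
    rw [pow_one, pow_two]
    apply Subtype.ext
    apply Subtype.ext
    apply Cfsg.Agent.L0.Tv.sl_ext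
    intro v
    have hg := (hN g.1).mp g.2
    obtain ⟨c, hc⟩ := hg v
    change ((((g : ↥(Subgroup.centralizer ({t} : Set SLn))) : SLn) * ((g : ↥(Subgroup.centralizer ({t} : Set SLn))) : SLn) : SLn) : Matrix (Fin n) (Fin n) F).mulVec v = ((1 : SLn) : Matrix (Fin n) (Fin n) F).mulVec v
    rw [hact, hc, Matrix.mulVec_add, Matrix.mulVec_smul, hc, hfixE _ g.1.2, hact1, add_assoc, ← add_smul]
    have : c + c = 0 := by rw [← mul_one c, ← mul_add, h2F, mul_zero]
    rw [this, zero_smul, add_zero]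
  rw [Cfsg.Agent.H6.F_iff_cent]
  have hNle : N ≤ Cfsg.pCore 2 ↥(Subgroup.centralizer ({t} : Set SLn)) := Cfsg.Agent.L0.le_pCore hNp
  refine le_trans ?_ hNle
  intro w hw
  rw [hN]
  -- w commutes with the transvections
  have hwk : ∀ k : Fin n, k ≠ i → ∀ v : Fin n → F, (((w : SLn) : Matrix (Fin n) (Fin n) F).mulVec v) k = v k := by
    intro k hk v
    obtain ⟨s, hs⟩ : ∃ s : SLn, (s : Matrix (Fin n) (Fin n) F) = Matrix.transvection i k 1 :=
      ⟨⟨Matrix.transvection i k 1, Matrix.det_transvection_of_ne i k hk.symm 1⟩, rfl⟩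
    have hsv : ∀ v : Fin n → F, (s : Matrix (Fin n) (Fin n) F).mulVec v = v + v k • E := by
      intro v
      rw [hs]; exact Cfsg.Agent.L0.Tv.tv_mulVec i k v
    have hEk : E k = 0 := by rw [hEd]; simp [hk]
    have hsC : s ∈ Subgroup.centralizer ({t} : Set SLn) := by
      rw [Subgroup.mem_centralizer_singleton_iff]
      apply Cfsg.Agent.L0.Tv.sl_ext
      intro v
      rw [hact, hact, htv, hsv, hsv, htv]
      simp only [Pi.add_apply, Pi.smul_apply, hEj, hEk, smul_eq_mul, mul_zero, add_zero]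
      abel
    have hsN : (⟨s, hsC⟩ : ↥(Subgroup.centralizer ({t} : Set SLn))) ∈ N := by
      rw [hN]
      intro v
      exact ⟨v k, hsv v⟩
    have h1 := Subgroup.mem_centralizer_iff.mp hw _ (hNle hsN)
    have h2 : s * (w : SLn) = (w : SLn) * s := congrArg Subtype.val h1
    have h3 : ((s * (w : SLn) : SLn) : Matrix (Fin n) (Fin n) F).mulVec v = (((w : SLn) * s : SLn) : Matrix (Fin n) (Fin n) F).mulVec v := by rw [h2]
    rw [hact, hact, hsv, hsv, Matrix.mulVec_add, Matrix.mulVec_smul, hfixE _ w.2] at h3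
    have h4 := congrFun (add_left_cancel h3) i
    simpa [hEd] using h4
  intro v
  refine ⟨(((w : SLn) : Matrix (Fin n) (Fin n) F).mulVec v) i - v i, ?_⟩
  funext k
  by_cases hk : k = i
  · subst hk
    simp [hEd]
  · rw [hwk k hk v]
    simp [hEd, hk]

end Cfsg.Agent.S1339
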