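import Cfsg.Statements.S1532
import Cfsg.Agent.H4.Feit4

set_option autoImplicit false
open Cfsg

namespace Cfsg.Agent.S1532

/-- Let G be a finite group, p an odd prime and P a Sylow p-subgroup that is non-abelian, whose underlying set is a TI-subset of G, with P properly contained in its set normaliser N and C_G(x) ≤ P for every non-identity x ∈ P. Let Z be a nontrivial subgroup of the centre of P normalised by N. Then the set of irreducible characters χ of N with χ z ≠ χ 1 for some z ∈ Z is coherent for the map induced by induction from N to G. -/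
theorem result {G : Type*} [Group G] [Fintype G] (p : ℕ) [Fact p.Prime] (hp : p ≠ 2) (P : Sylow p G) (hna : ¬ IsMulCommutative (P : Subgroup G)) (hTI : Cfsg.IsTISubset ((P : Subgroup G) : Set G)) (hlt : (P : Subgroup G) < Subgroup.normalizer ((P : Subgroup G) : Set G)) (hC : ∀ k ∈ (P : Subgroup G), k ≠ 1 → Subgroup.centralizer ({k} : Set G) ≤ (P : Subgroup G)) [Fintype ↥(Subgroup.normalizer ((P : Subgroup G) : Set G))] (Z : Subgroup G) (hZ1 : Z ≠ ⊥) (hZP : ∀ z ∈ Z, z ∈ (P : Subgroup G) ∧ ∀ y ∈ (P : Subgroup G), z * y = y * z) (hZn : ∀ x ∈ Subgroup.normalizer ((P : Subgroup G) : Set G), ∀ z ∈ Z, x * z * x⁻¹ ∈ Z) : Cfsg.IsCoherent {χ : ↥(Subgroup.normalizer ((P : Subgroup G) : Set G)) → ℂ | Cfsg.IsIrrCharacter ↥(Subgroup.normalizer ((P : Subgroup G) : Set G)) χ ∧ ∃ z : ↥(Subgroup.normalizer ((P : Subgroup G) : Set G)), (z : G) ∈ Z ∧ χ z ≠ χ 1} {1}ᶜ (fun α => Cfsg.indFun (Subgroup.normalizer ((P : Subgroup G) : Set G)) α) := by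
  classical
  have hp' : p.Prime := Fact.out
  set L := Subgroup.normalizer ((P : Subgroup G) : Set G) with hLdef
  set K : Subgroup L := (P : Subgroup G).subgroupOf L with hKdef
  have hKL : (P : Subgroup G) ≤ L := Subgroup.le_normalizer
  have hcard : Nat.card K = Nat.card (P : Subgroup G) := H4.card_subgroupOf_of_le hKL
  have hC' : ∀ k ∈ K, k ≠ 1 → Subgroup.centralizer ({k} : Set L) ≤ K := by
    intro k hk hk1 x hx
    rw [Subgroup.mem_centralizer_singleton_iff] at hx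
    have h1 := hC (k : G) hk (fun h => hk1 (Subtype.ext h))
    apply h1
    rw [Subgroup.mem_centralizer_singleton_iff]
    exact congrArg Subtype.val hx
  have hpK : IsPGroup p K := by
    obtain ⟨n, hn⟩ := P.isPGroup'.exists_card_eq
    exact IsPGroup.of_card (n := n) (by rw [hcard]; exact hn)
  have hKn : K.Normal := by
    rw [hKdef, hLdef]; infer_instance
  have hnab : ⁅K, K⁆ ≠ ⊥ := by
    intro h
    apply hna
    refine ⟨⟨fun a b => ?_⟩⟩
    have h1 : (⟨a, hKL a.2⟩ : L) * (⟨b, hKL b.2⟩ : L) * (⟨a, hKL a.2⟩ : L)⁻¹ * (⟨b, hKL b.2⟩ : L)⁻¹ ∈ (⊥ : Subgroup L) := by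
      rw [← h, ← commutatorElement_def]
      exact Subgroup.commutator_mem_commutator (show (⟨a, hKL a.2⟩ : L) ∈ K from a.2) (show (⟨b, hKL b.2⟩ : L) ∈ K from b.2)
    rw [Subgroup.mem_bot] at h1
    have h2 := congrArg (fun x : L => (x : G)) h1
    have h3 : (a : G) * b * (a : G)⁻¹ * (b : G)⁻¹ = 1 := h2
    apply Subtype.ext
    show (a : G) * b = b * a
    have : (a : G) * b = ((a : G) * b * (a : G)⁻¹ * (b : G)⁻¹) * (b * a) := by group
    rw [this, h3, one_mul]
  have hK1' : K ≠ ⊥ := by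
    intro h
    apply hnab
    rw [h, Subgroup.commutator_bot_left]
  have hoddi := H4.odd_of_nonab hKn hC' hnab
  have hodd : Odd (Nat.card L) := by
    rw [← K.index_mul_card]
    refine hoddi.mul ?_
    obtain ⟨n, hn⟩ := hpK.exists_card_eq
    rw [hn]
    exact (hp'.odd_of_ne_two hp).pow
  obtain ⟨_, hcop⟩ := H4.cop_of_cent hKn hC'
  have hcop' : Nat.Coprime p K.index := by
    obtain ⟨n, hn⟩ := hpK.exists_card_eq
    have hn0 : n ≠ 0 := by
      rintro rfl
      exact hK1' (Subgroup.card_eq_one.mp hn)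
    exact Nat.Coprime.coprime_dvd_left (by rw [hn]; exact dvd_pow_self p hn0) hcop
  set Z' : Subgroup L := Z.subgroupOf L with hZ'
  have hZK : Z' ≤ K := fun z hz => (hZP z hz).1
  have hZ1' : Z' ≠ ⊥ := by
    intro h
    apply hZ1
    rw [Subgroup.eq_bot_iff_forall]
    intro z hz
    have h1 : (⟨z, hKL (hZP z hz).1⟩ : L) ∈ Z' := hz
    rw [h, Subgroup.mem_bot] at h1
    exact congrArg (fun x : L => (x : G)) h1
  have hZn' : Z'.Normal := ⟨fun z hz x => hZn x x.2 z hz⟩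
  have hZc : ∀ z ∈ Z', ∀ k ∈ K, z * k = k * z := fun z hz k hk => Subtype.ext ((hZP z hz).2 k hk)
  have hsub : H4.XZ K Z' ⊆ inducedIrrAbove K ⊥ := by
    rw [← H4.diff_eq_XZ hKn hZn']; exact Set.diff_subset
  have hirrS : ∀ χ ∈ inducedIrrAbove K ⊥, IsIrrCharacter L χ := by
    rintro χ ⟨θ, h1, h2, _, rfl⟩
    exact H4.induced_irr_of_cent hKn hC' θ h1 h2
  have hirr : ∀ χ ∈ H4.XZ K Z', IsIrrCharacter L χ := fun χ hχ => hirrS χ (hsub hχ)
  have hXeq := H4.XZ_eq_irr hKn hZn' hZK hirr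
  have hset : {χ : L → ℂ | IsIrrCharacter L χ ∧ ∃ z : L, (z : G) ∈ Z ∧ χ z ≠ χ 1} = H4.XZ K Z' := by
    rw [hXeq]; rfl
  obtain ⟨hiso, hvan⟩ := H4.ti_iso (P : Subgroup G) L rfl hTI (H4.XZ K Z') (fun χ hχ => H4.IsIrr.isCharacter (hirr χ hχ))
    (by
      intro χ hχ x hx
      obtain ⟨θ, _, _, _, rfl⟩ := hsub hχ
      exact H4.ind_vanish_off hKn θ (fun h => hx h))
  have h := H4.coherent_XZ hp' hp hKn hpK hZn' hZK hZ1' hZc hcop' hirr
    (fun χ hχ h => H4.above_ne_one hKn (hsub hχ) (H4.odd_real_one hodd (hirr χ hχ) h)) hiso hvan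
  rw [hset]; convert h

end Cfsg.Agent.S1532
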