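import Cfsg.Statements.S1533
import Cfsg.Agent.H4.Feit4

set_option autoImplicit false
open Cfsg

namespace Cfsg.Agent.S1533

/-- Let G be a finite group, p an odd prime, and P a nontrivial Sylow p-subgroup whose underlying set is a TI-subset of G, with P properly contained in its set normaliser N and C_G(x) ≤ P for every non-identity x ∈ P. Let S be the set of irreducible characters χ of N with χ x ≠ χ 1 for some x ∈ P. Then either S has exactly one member, P is elementary abelian and Nat.card P = [N:P] + 1; or (S, N minus 1, induction to G) is coherent. -/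
theorem result {G : Type*} [Group G] [Fintype G] (p : ℕ) [Fact p.Prime] (hp : p ≠ 2) (P : Sylow p G) (hP1 : (P : Subgroup G) ≠ ⊥) (hTI : Cfsg.IsTISubset ((P : Subgroup G) : Set G)) (hlt : (P : Subgroup G) < Subgroup.normalizer ((P : Subgroup G) : Set G)) (hC : ∀ k ∈ (P : Subgroup G), k ≠ 1 → Subgroup.centralizer ({k} : Set G) ≤ (P : Subgroup G)) [Fintype ↥(Subgroup.normalizer ((P : Subgroup G) : Set G))] : (Nat.card {χ : ↥(Subgroup.normalizer ((P : Subgroup G) : Set G)) → ℂ // Cfsg.IsIrrCharacter ↥(Subgroup.normalizer ((P : Subgroup G) : Set G)) χ ∧ ∃ x : ↥(Subgroup.normalizer ((P : Subgroup G) : Set G)), (x : G) ∈ (P : Subgroup G) ∧ χ x ≠ χ 1} = 1 ∧ Cfsg.IsElementaryAbelian p (P : Subgroup G) ∧ Nat.card (P : Subgroup G) = ((P : Subgroup G).subgroupOf (Subgroup.normalizer ((P : Subgroup G) : Set G))).index + 1) ∨ Cfsg.IsCoherent {χ : ↥(Subgroup.normalizer ((P : Subgroup G) : Set G)) → ℂ | Cfsg.IsIrrCharacter ↥(Subgroup.normalizer ((P : Subgroup G) : Set G)) χ ∧ ∃ x : ↥(Subgroup.normalizer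 ((P : Subgroup G) : Set G)), (x : G) ∈ (P : Subgroup G) ∧ χ x ≠ χ 1} {1}ᶜ (fun α => Cfsg.indFun (Subgroup.normalizer ((P : Subgroup G) : Set G)) α) := by
  classical
  have hp' : p.Prime := Fact.out
  set L := Subgroup.normalizer ((P : Subgroup G) : Set G) with hLdef
  set K : Subgroup L := (P : Subgroup G).subgroupOf L with hKdef
  have hKL : (P : Subgroup G) ≤ L := Subgroup.le_normalizer
  have hcard : Nat.card K = Nat.card (P : Subgroup G) := H4.card_subgroupOf_of_le hKL
  have hK1' : K ≠ ⊥ := by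
    intro h
    apply hP1
    have h1 := Subgroup.card_eq_one.mpr h
    rw [hcard] at h1
    exact Subgroup.card_eq_one.mp h1
  have hKt : K ≠ ⊤ := by
    intro h
    rw [hKdef, Subgroup.subgroupOf_eq_top] at h
    exact absurd h (not_le_of_gt hlt)
  have hC' : ∀ k ∈ K, k ≠ 1 → Subgroup.centralizer ({k} : Set L) ≤ K := by
    intro k hk hk1 x hx
    rw [Subgroup.mem_centralizer_singleton_iff] at hx
    have h1 := hC (k : G) hk (fun h => hk1 (Subtype.ext h))
    apply h1
    rw [Subgroup.mem_centralizer_singleton_iff]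
    exact congrArg Subtype.val hx
  have hpK : IsPGroup p K := by
    obtain ⟨n, hn⟩ := P.isPGroup'.exists_card_eq
    exact IsPGroup.of_card (n := n) (by rw [hcard]; exact hn)
  have hnil' : Group.IsNilpotent K := hpK.isNilpotent
  have hKn : K.Normal := by
    rw [hKdef, hLdef]; infer_instance
  have hS := H4.S_eq hKn hC'
  have hset : {χ : L → ℂ | IsIrrCharacter L χ ∧ ∃ k : L, (k : G) ∈ (P : Subgroup G) ∧ χ k ≠ χ 1} = inducedIrrAbove K ⊥ := by
    rw [hS]; rfl
  rcases H4.feit_ti (P : Subgroup G) L rfl hTI K rfl hC' hK1' hKt hnil' with ⟨h1, h2⟩ | ⟨h1, h2⟩ | h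
  · left
    refine ⟨?_, ?_, ?_⟩
    · rw [← H4.one_of_card hKn hC' hKt h2 h1]
      exact congrArg (fun S : Set (L → ℂ) => Nat.card S) hset
    · obtain ⟨q, hq, hc, hqk⟩ := H4.elem_of_card hKn hC' hK1' h2 h1
      have hqp : q = p := by
        haveI : Fact q.Prime := ⟨hq⟩
        obtain ⟨k, hk, hk1⟩ := K.bot_or_exists_ne_one.resolve_left hK1'
        have h3 : orderOf k = q := orderOf_eq_prime (hqk k hk) hk1 |>.trans rfl
        obtain ⟨n, hn⟩ := hpK.exists_card_eq
        have h4 : q ∣ p ^ n := by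
          rw [← hn, ← h3]; exact Subgroup.orderOf_dvd_natCard K hk
        exact (Nat.prime_dvd_prime_iff_eq hq hp').mp (hq.dvd_of_dvd_pow h4)
      subst hqp
      refine ⟨⟨⟨fun a b => ?_⟩⟩, fun a ha => ?_⟩
      · have := hc ⟨a, hKL a.2⟩ a.2 ⟨b, hKL b.2⟩ b.2
        exact Subtype.ext (congrArg (fun x : L => (x : G)) this)
      · have := hqk ⟨a, hKL ha⟩ ha
        exact congrArg (fun x : L => (x : G)) this
    · rw [← hcard]; exact h1
  · exfalso
    obtain ⟨n, hn⟩ := h1.exists_card_eq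
    obtain ⟨m, hm⟩ := hpK.exists_card_eq
    rw [hn] at hm
    have hn0 : n ≠ 0 := by
      rintro rfl
      exact hK1' (Subgroup.card_eq_one.mp hn)
    have h3 : 2 ∣ p ^ m := by rw [← hm]; exact dvd_pow_self 2 hn0
    exact hp ((Nat.prime_dvd_prime_iff_eq Nat.prime_two hp').mp (Nat.prime_two.dvd_of_dvd_pow h3)).symm
  · right
    rw [hset]; convert h

end Cfsg.Agent.S1533
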