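import Cfsg.Statements.S1534
import Cfsg.Agent.H4.Feit4

set_option autoImplicit false
open Cfsg

namespace Cfsg.Agent.S1534

/-- Let G be a finite group and K a nontrivial nilpotent subgroup whose underlying set is a TI-subset of G, properly contained in its set normaliser N, with C_G(k) ≤ K for every non-identity k ∈ K; let e be the index of K in N and S the set of irreducible characters χ of N with χ k ≠ χ 1 for some k ∈ K. Then one of: S has exactly one member, Nat.card K = e + 1 and K is an elementary abelian p-group for some prime p; or K is a Sylow 2-subgroup of G (Nat.card K is the largest power of 2 dividing Nat.card G) and [K : [K,K]] < 4e²; or (S, N minus 1, induction to G) is coherent. -/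
theorem result {G : Type*} [Group G] [Fintype G] (K : Subgroup G) (hK1 : K ≠ ⊥) (hnil : Group.IsNilpotent K) (hTI : Cfsg.IsTISubset (K : Set G)) (hlt : K < Subgroup.normalizer (K : Set G)) (hC : ∀ k ∈ K, k ≠ 1 → Subgroup.centralizer ({k} : Set G) ≤ K) [Fintype ↥(Subgroup.normalizer (K : Set G))] : (Nat.card {χ : ↥(Subgroup.normalizer (K : Set G)) → ℂ // Cfsg.IsIrrCharacter ↥(Subgroup.normalizer (K : Set G)) χ ∧ ∃ k : ↥(Subgroup.normalizer (K : Set G)), (k : G) ∈ K ∧ χ k ≠ χ 1} = 1 ∧ Nat.card K = (K.subgroupOf (Subgroup.normalizer (K : Set G))).index + 1 ∧ ∃ p : ℕ, p.Prime ∧ Cfsg.IsElementaryAbelian p K) ∨ (Nat.card K = 2 ^ (Nat.card G).factorization 2 ∧ (⁅K, K⁆.subgroupOf K).index < 4 * (K.subgroupOf (Subgroup.normalizer (K : Set G))).index ^ 2) ∨ Cfsg.IsCoherent {χ : ↥(Subgroup.normalizer (K : Set G)) → ℂ | Cfsg.IsIrrCharacter ↥(Subgroup.normalizer (K : Set G)) χ ∧ ∃ k : ↥(Subgroup.normalizer (K : Set G)), (k : G) ∈ K ∧ χ k ≠ χ 1} {1}ᶜ (fun α => Cfsg.indFun (Subgroup.normalizer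 (K : Set G)) α) := by
  classical
  set L := Subgroup.normalizer (K : Set G) with hLdef
  have hmem : ∀ x : L, x ∈ K.subgroupOf L ↔ (x : G) ∈ K := fun x => Iff.rfl
  have hKL : K ≤ L := Subgroup.le_normalizer
  have hcard : Nat.card (K.subgroupOf L) = Nat.card K := H4.card_subgroupOf_of_le hKL
  have hK1' : K.subgroupOf L ≠ ⊥ := by
    intro h
    apply hK1
    have h1 := Subgroup.card_eq_one.mpr h
    rw [hcard] at h1
    exact Subgroup.card_eq_one.mp h1
  have hKt : K.subgroupOf L ≠ ⊤ := by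
    intro h
    rw [Subgroup.subgroupOf_eq_top] at h
    exact absurd h (not_le_of_gt hlt)
  have hC' : ∀ k ∈ K.subgroupOf L, k ≠ 1 → Subgroup.centralizer ({k} : Set L) ≤ K.subgroupOf L := by
    intro k hk hk1 x hx
    rw [Subgroup.mem_centralizer_singleton_iff] at hx
    have h1 := hC (k : G) hk (fun h => hk1 (Subtype.ext h))
    apply h1
    rw [Subgroup.mem_centralizer_singleton_iff]
    exact congrArg Subtype.val hx
  have hnil' : Group.IsNilpotent (K.subgroupOf L) := Group.nilpotent_of_mulEquiv (Subgroup.subgroupOfEquivOfLe hKL).symm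
  have hKn : (K.subgroupOf L).Normal := by
    rw [hLdef]; infer_instance
  have hS := H4.S_eq hKn hC'
  have hset : {χ : L → ℂ | IsIrrCharacter L χ ∧ ∃ k : L, (k : G) ∈ K ∧ χ k ≠ χ 1} = inducedIrrAbove (K.subgroupOf L) ⊥ := by
    rw [hS]; rfl
  have hcomm_map : (⁅K.subgroupOf L, K.subgroupOf L⁆).map L.subtype = ⁅K, K⁆ := by
    rw [Subgroup.map_commutator, Subgroup.subgroupOf_map_subtype, inf_eq_left.mpr hKL]
  have hKK : ⁅K, K⁆ ≤ K := Subgroup.commutator_le_self K
  have hrel : (⁅K.subgroupOf L, K.subgroupOf L⁆).relIndex (K.subgroupOf L) = (⁅K, K⁆.subgroupOf K).index := by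
    show _ = (⁅K, K⁆).relIndex K
    have h1 : (⁅K.subgroupOf L, K.subgroupOf L⁆).relIndex (K.subgroupOf L) * Nat.card (⁅K.subgroupOf L, K.subgroupOf L⁆ : Subgroup L) = Nat.card (K.subgroupOf L) :=
      (by
        rw [mul_comm, ← Subgroup.relIndex_bot_left, Subgroup.relIndex_mul_relIndex _ _ _ bot_le (Subgroup.commutator_le_self _), Subgroup.relIndex_bot_left])
    have h2 : (⁅K, K⁆).relIndex K * Nat.card (⁅K, K⁆ : Subgroup G) = Nat.card K := by
      rw [mul_comm, ← Subgroup.relIndex_bot_left, Subgroup.relIndex_mul_relIndex _ _ _ bot_le hKK, Subgroup.relIndex_bot_left]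
    have h3 : Nat.card (⁅K, K⁆ : Subgroup G) = Nat.card (⁅K.subgroupOf L, K.subgroupOf L⁆ : Subgroup L) := by
      rw [← hcomm_map]
      exact Nat.card_congr ((⁅K.subgroupOf L, K.subgroupOf L⁆).equivMapOfInjective _ L.subtype_injective).toEquiv.symm
    rw [h3, ← hcard, ← h1] at h2
    exact (Nat.eq_of_mul_eq_mul_right Nat.card_pos h2).symm
  rcases H4.feit_ti K L rfl hTI (K.subgroupOf L) rfl hC' hK1' hKt hnil' with ⟨h1, h2⟩ | ⟨h1, h2⟩ | h
  · left
    refine ⟨?_, ?_, ?_⟩
    · rw [← H4.one_of_card hKn hC' hKt h2 h1]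
      exact congrArg (fun S : Set (L → ℂ) => Nat.card S) hset
    · rw [← hcard]; exact h1
    · obtain ⟨q, hq, hc, hqk⟩ := H4.elem_of_card hKn hC' hK1' h2 h1
      refine ⟨q, hq, ⟨⟨fun a b => ?_⟩⟩, fun a ha => ?_⟩
      · have := hc ⟨a, hKL a.2⟩ a.2 ⟨b, hKL b.2⟩ b.2
        exact Subtype.ext (congrArg (fun x : L => (x : G)) this)
      · have := hqk ⟨a, hKL ha⟩ ha
        exact congrArg (fun x : L => (x : G)) this
  · right; left
    rw [hrel] at h2
    refine ⟨?_, h2⟩
    obtain ⟨_, hcop⟩ := H4.cop_of_cent hKn hC'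
    have hpK : IsPGroup 2 K := by
      obtain ⟨n, hn⟩ := h1.exists_card_eq
      exact IsPGroup.of_card (n := n) (by rw [← hcard, hn])
    obtain ⟨P, hP⟩ := H4.sylow_of_cop (p := 2) hpK (by
      intro h3
      have h4 : 2 ∣ Nat.card (K.subgroupOf L) := by
        obtain ⟨n, hn⟩ := h1.exists_card_eq
        rw [hn]
        rcases n with _ | n
        · exact absurd (Subgroup.card_eq_one.mp hn) hK1'
        · exact dvd_pow_self 2 (Nat.succ_ne_zero n)
      have h5 := Nat.dvd_gcd h4 h3
      have h6 : (Nat.card (K.subgroupOf L)).gcd (K.relIndex L) = 1 := hcop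
      rw [h6] at h5
      exact absurd (Nat.dvd_one.mp h5) (by norm_num))
    rw [← hP]
    exact P.card_eq_multiplicity
  · right; right
    rw [hset]; convert h

end Cfsg.Agent.S1534
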