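import Cfsg.Statements.S1894
import Cfsg.Agent.H6.PMin2
import Cfsg.Agent.H1.Basic

set_option autoImplicit false
open Cfsg

namespace Cfsg.Agent.S1894

open Subgroup Agent.H6 in
open scoped commutatorElement in
theorem main {P : Type*} [Group P] [Finite P] {p : ℕ} [Fact p.Prime] (hP : IsPGroup p P)
    (A : Subgroup P) [hA : A.Normal] (B : Subgroup P) [hBn : B.Normal] (hBA : B ≤ A) (hB : IsMulCommutative B) :
    ∃ C : Subgroup P, C.Normal ∧ B ≤ C ∧ Cfsg.IsSCN A C := by
  haveI := hP.isNilpotent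
  obtain ⟨C, ⟨hCn, hCab, hBC, hCA⟩, hmax⟩ := Set.exists_max_image {C : Subgroup P | C.Normal ∧ (∀ a ∈ C, ∀ b ∈ C, a * b = b * a) ∧ B ≤ C ∧ C ≤ A} (fun C => Nat.card C)
    (Set.toFinite _) ⟨B, hBn, fun a ha b hb => congrArg Subtype.val (hB.is_comm.comm ⟨a, ha⟩ ⟨b, hb⟩), le_rfl, hBA⟩
  have hCt : (⊤ : Subgroup P) ≤ normalizer (C : Set P) := (normalizer_eq_top_iff.2 hCn).ge
  refine ⟨C, hCn, hBC, hCA, le_top.trans hCt, ?_⟩
  have hCC : C ≤ A ⊓ centralizer (C : Set P) := le_inf hCA fun a ha => mem_centralizer_iff.2 fun b hb => hCab b hb a ha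
  by_contra hne
  obtain ⟨D, hD⟩ : ∃ D, D = A ⊓ centralizer (C : Set P) := ⟨_, rfl⟩
  rw [← hD] at hCC hne
  have hDn : D.Normal := by
    rw [← normalizer_eq_top_iff, eq_top_iff, hD]
    exact norm_inf' (normalizer_eq_top_iff.2 hA).ge (norm_cent hCt)
  obtain ⟨π, hπ⟩ : ∃ π : P →* P ⧸ C, π = QuotientGroup.mk' C := ⟨_, rfl⟩
  have hπs : Function.Surjective π := by rw [hπ]; exact QuotientGroup.mk'_surjective _
  have hk : ∀ x, π x = 1 ↔ x ∈ C := fun x => by rw [hπ, ← MonoidHom.mem_ker, QuotientGroup.ker_mk']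
  have hDm : D.map π ≠ ⊥ := by
    rw [hπ, Ne, Subgroup.map_eq_bot_iff, QuotientGroup.ker_mk']
    exact fun h => hne (le_antisymm h hCC)
  haveI : (D.map π).Normal := hDn.map π hπs
  have h1 := H1.inf_center_ne_bot (D.map π) hDm
  obtain ⟨y, hy, hy1⟩ := (Subgroup.ne_bot_iff_exists_ne_one).1 h1 |>.elim fun y hy => (⟨y.1, y.2, fun e => hy (Subtype.ext e)⟩ : ∃ y, y ∈ D.map π ⊓ center (P ⧸ C) ∧ y ≠ 1)
  obtain ⟨⟨x, hx, rfl⟩, hyc⟩ := hy
  have hxC : x ∉ C := fun h => hy1 ((hk x).2 h)
  have hcomm : ∀ g : P, ⁅g, x⁆ ∈ C := by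
    intro g
    rw [← hk, map_commutatorElement, commutatorElement_eq_one_iff_mul_comm]
    exact mem_center_iff.1 hyc (π g)
  have hxcent : ∀ c ∈ C, c * x = x * c := by
    have : x ∈ centralizer (C : Set P) := (hD ▸ hx : x ∈ A ⊓ centralizer (C : Set P)).2
    intro c hc
    exact mem_centralizer_iff.1 this c hc
  obtain ⟨E, hE⟩ : ∃ E, E = C ⊔ zpowers x := ⟨_, rfl⟩
  have hEn : E.Normal := by
    refine ⟨fun e he g => ?_⟩
    have hce : ∀ g : P, ∀ e ∈ E, ⁅g, e⁆ ∈ C := by
      intro g e he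
      have h5 : ⁅E, (⊤ : Subgroup P)⁆ ≤ C := by
        rw [hE]
        refine comm_sup_le (le_top.trans hCt) (le_top.trans hCt) (comm_le_iff_norm.2 hCt) ?_
        refine comm_zpowers_le (hCt (mem_top x)) fun q _ => ?_
        have := inv_mem (hcomm q)
        rwa [commutatorElement_inv] at this
      have := h5 (commutator_mem_commutator he (mem_top g))
      have := inv_mem this
      rwa [commutatorElement_inv] at this
    have e1 : g * e * g⁻¹ = ⁅g, e⁆ * e := by rw [commutatorElement_def]; group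
    rw [e1]
    exact mul_mem (hE ▸ mem_sup_left (hce g e he)) he
  have hEc : E ≤ centralizer (E : Set P) := by
    have h6 : zpowers x ≤ centralizer (C : Set P) := by
      rw [zpowers_le]; exact mem_centralizer_iff.2 fun c hc => hxcent c hc
    have h7 : C ≤ centralizer (C : Set P) := fun a ha => mem_centralizer_iff.2 fun b hb => hCab b hb a ha
    have h8 : zpowers x ≤ centralizer ((zpowers x : Subgroup P) : Set P) := by
      rw [zpowers_le, mem_centralizer_iff]
      rintro _ ⟨k, rfl⟩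
      exact ((Commute.refl x).zpow_left k)
    have h9 : C ≤ centralizer (E : Set P) := by
      rw [le_centralizer_iff, hE]; exact sup_le h7 h6
    have h10 : zpowers x ≤ centralizer (E : Set P) := by
      rw [le_centralizer_iff, hE]; exact sup_le (le_centralizer_iff.1 h6) h8
    conv_lhs => rw [hE]
    exact sup_le h9 h10
  have h11 := hmax E ⟨hEn, fun a ha b hb => mem_centralizer_iff.1 (hEc hb) a ha, hBC.trans (hE ▸ le_sup_left), by
    rw [hE]
    refine sup_le hCA ?_
    rw [zpowers_le]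
    exact (hD ▸ hx : x ∈ A ⊓ centralizer (C : Set P)).1⟩
  have h12 : C = E := eq_of_le_of_card_ge (hE ▸ le_sup_left) h11
  apply hxC
  rw [h12, hE]
  exact mem_sup_right (mem_zpowers x)

/-- Let P be a finite p-group, A a normal subgroup of P and B an abelian subgroup of A that is normal in P. Then some subgroup C of A containing B is normal in P and is self-centralizing and normal in A (C ∈ SCN(A)). -/
theorem result {P : Type*} [Group P] [Finite P] {p : ℕ} [Fact p.Prime] (hP : IsPGroup p P)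
    (A : Subgroup P) [A.Normal] (B : Subgroup P) [B.Normal] (hBA : B ≤ A) (hB : IsMulCommutative B) :
    ∃ C : Subgroup P, C.Normal ∧ B ≤ C ∧ Cfsg.IsSCN A C := by
  exact main hP A B hBA hB

end Cfsg.Agent.S1894
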