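import Cfsg.Statements.S1921
import Cfsg.Agent.L0.GenFit
import Cfsg.Agent.H6.PRed5

set_option autoImplicit false
open Cfsg

namespace Cfsg.Agent.S1921

/-- Let a be an involution of a finite group H and L a component of H with a L a⁻¹ ≠ L; put M = ⟨L, aLa⁻¹⟩ and let J be the subgroup generated by the elements x · a x a⁻¹ with x ∈ L (the diagonal). Then every element of M outside J·Z(M) generates M together with J. -/
theorem result {H : Type*} [Group H] [Finite H] (a : H) (ha : orderOf a = 2) (L : Subgroup H) (hL : Cfsg.IsComponent L)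
    (hLa : L.map (MulAut.conj a).toMonoidHom ≠ L) (x : H) (hxM : x ∈ L ⊔ L.map (MulAut.conj a).toMonoidHom)
    (hxJ : x ∉ Subgroup.closure {y : H | ∃ l ∈ L, y = l * (a * l * a⁻¹)} ⊔
      ((L ⊔ L.map (MulAut.conj a).toMonoidHom) ⊓ Subgroup.centralizer ((L ⊔ L.map (MulAut.conj a).toMonoidHom : Subgroup H) : Set H))) :
    Subgroup.closure {y : H | ∃ l ∈ L, y = l * (a * l * a⁻¹)} ⊔ Subgroup.zpowers x = L ⊔ L.map (MulAut.conj a).toMonoidHom := by
  obtain ⟨L', hL'⟩ : ∃ L', L' = L.map (MulAut.conj a).toMonoidHom := ⟨_, rfl⟩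
  have hLc' : Cfsg.IsComponent L' := by rw [hL']; exact Agent.L0.isComponent_map_equiv (MulAut.conj a) hL
  rw [← hL'] at hxM hxJ hLa ⊢
  have hcj : ∀ l ∈ L, a * l * a⁻¹ ∈ L' := by
    intro l hl
    rw [hL']
    exact ⟨l, hl, by simp⟩
  have hcj' : ∀ m ∈ L', ∃ l ∈ L, m = a * l * a⁻¹ := by
    intro m hm
    rw [hL'] at hm
    obtain ⟨l, hl, rfl⟩ := hm
    exact ⟨l, hl, by simp⟩
  have hbot : ⁅L, L'⁆ = ⊥ := Agent.L0.component_commute hL hLc' fun h => hLa h.symm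
  have hcomm : ∀ l ∈ L, ∀ m ∈ L', l * m = m * l := by
    intro l hl m hm
    exact (Subgroup.mem_centralizer_iff.1 ((Subgroup.commutator_eq_bot_iff_le_centralizer.1 hbot) hl) m hm).symm
  obtain ⟨J, hJ⟩ : ∃ J, J = Subgroup.closure {y : H | ∃ l ∈ L, y = l * (a * l * a⁻¹)} := ⟨_, rfl⟩
  rw [← hJ] at hxJ ⊢
  have hmemJ : ∀ l ∈ L, l * (a * l * a⁻¹) ∈ J := fun l hl => by rw [hJ]; exact Subgroup.subset_closure ⟨l, hl, rfl⟩
  have hJM : J ≤ L ⊔ L' := by
    rw [hJ, Subgroup.closure_le]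
    rintro _ ⟨l, hl, rfl⟩
    exact mul_mem (Subgroup.mem_sup_left hl) (Subgroup.mem_sup_right (hcj l hl))
  have hnorm : L' ≤ Subgroup.normalizer (L : Set H) := by
    rw [Agent.H6.le_norm_iff]
    intro m hm l hl
    rw [← hcomm l hl m hm, mul_inv_cancel_right]; exact hl
  refine le_antisymm (sup_le hJM (by rwa [Subgroup.zpowers_le])) ?_
  obtain ⟨R, hR⟩ : ∃ R, R = J ⊔ Subgroup.zpowers x := ⟨_, rfl⟩
  rw [← hR]
  have hJR : J ≤ R := by rw [hR]; exact le_sup_left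
  have hxR : x ∈ R := by rw [hR]; exact Subgroup.mem_sup_right (Subgroup.mem_zpowers x)
  obtain ⟨l, hl, m', hm', hlm⟩ := (Agent.L0.mem_sup_of_normalizes hnorm).1 hxM
  obtain ⟨m, hm, rfl⟩ := hcj' m' hm'
  -- `y = l m⁻¹`
  have hy : l * m⁻¹ ∈ R := by
    have h1 : x * (m⁻¹ * (a * m⁻¹ * a⁻¹)) ∈ R := mul_mem hxR (hJR (hmemJ _ (inv_mem hm)))
    have h2 := hcomm m⁻¹ (inv_mem hm) (a * m⁻¹ * a⁻¹) (hcj _ (inv_mem hm))
    have e : x * (m⁻¹ * (a * m⁻¹ * a⁻¹)) = l * m⁻¹ := by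
      calc x * (m⁻¹ * (a * m⁻¹ * a⁻¹)) = (l * (a * m * a⁻¹)) * ((a * m⁻¹ * a⁻¹) * m⁻¹) := by rw [← hlm, h2]
        _ = l * m⁻¹ := by group
    rwa [e] at h1
  have hyL : l * m⁻¹ ∈ L := mul_mem hl (inv_mem hm)
  have hLN : L ≤ Subgroup.normalizer ((L ⊓ R : Subgroup H) : Set H) := by
    rw [Agent.H6.le_norm_iff]
    intro g hg b hb
    refine Subgroup.mem_inf.2 ⟨mul_mem (mul_mem hg hb.1) (inv_mem hg), ?_⟩
    have h1 := mul_mem (mul_mem (hJR (hmemJ g hg)) hb.2) (inv_mem (hJR (hmemJ g hg)))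
    have h2 := hcomm b hb.1 (a * g * a⁻¹) (hcj g hg)
    have e : g * (a * g * a⁻¹) * b * (g * (a * g * a⁻¹))⁻¹ = g * b * g⁻¹ := by
      calc g * (a * g * a⁻¹) * b * (g * (a * g * a⁻¹))⁻¹ = g * ((a * g * a⁻¹) * b) * (a * g * a⁻¹)⁻¹ * g⁻¹ := by group
        _ = g * (b * (a * g * a⁻¹)) * (a * g * a⁻¹)⁻¹ * g⁻¹ := by rw [h2]
        _ = g * b * g⁻¹ := by group
    rwa [e] at h1
  have hLR : L ≤ R := by
    rcases Agent.L0.quasisimple_le_or_commutator hL.2 (inf_le_left : L ⊓ R ≤ L) hLN with h | h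
    · exact h.trans inf_le_right
    · exfalso
      apply hxJ
      have hLc := Subgroup.commutator_eq_bot_iff_le_centralizer.1 h
      have hyz : l * m⁻¹ ∈ Subgroup.centralizer ((L ⊔ L' : Subgroup H) : Set H) := by
        have h3 : L ⊔ L' ≤ Subgroup.centralizer {l * m⁻¹} := by
          refine sup_le ?_ ?_
          · intro g hg
            exact Subgroup.mem_centralizer_singleton_iff.2 (Subgroup.mem_centralizer_iff.1 (hLc hg) (l * m⁻¹) ⟨hyL, hy⟩).symm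
          · intro g hg
            exact Subgroup.mem_centralizer_singleton_iff.2 (hcomm _ hyL g hg).symm
        rw [Subgroup.mem_centralizer_iff]
        intro g hg
        exact Subgroup.mem_centralizer_singleton_iff.1 (h3 hg)
      have e : x = (m * (a * m * a⁻¹)) * (l * m⁻¹) := by
        have h4 := Subgroup.mem_centralizer_iff.1 hyz (m * (a * m * a⁻¹)) (mul_mem (Subgroup.mem_sup_left hm) (Subgroup.mem_sup_right (hcj m hm)))
        rw [h4, ← hlm]; group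
      rw [e]
      exact mul_mem (Subgroup.mem_sup_left (hmemJ m hm)) (Subgroup.mem_sup_right (Subgroup.mem_inf.2 ⟨Subgroup.mem_sup_left hyL, hyz⟩))
  refine sup_le hLR ?_
  intro g hg
  obtain ⟨k, hk, rfl⟩ := hcj' g hg
  have h5 := mul_mem (inv_mem (hLR hk)) (hJR (hmemJ k hk))
  rwa [inv_mul_cancel_left] at h5

end Cfsg.Agent.S1921
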