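import Cfsg.Statements.S1939

-- import your own Cfsg.Agent.* helpers here

set_option autoImplicit false
open Cfsg

namespace Cfsg.Agent.S1939

/-- Let S be a Sylow p-subgroup of the finite group G and a an element of S that is the only G-conjugate of a lying in S. Then every power of a has the same property: for every n, the only G-conjugate of a^n lying in S is a^n. -/
theorem result {G : Type*} [Group G] [Finite G] {p : ℕ} [Fact p.Prime] (S : Sylow p G) (a : G)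
    (haS : a ∈ (S : Subgroup G)) (hwc : ∀ g : G, g * a * g⁻¹ ∈ (S : Subgroup G) → g * a * g⁻¹ = a) (n : ℕ) :
    ∀ g : G, g * a ^ n * g⁻¹ ∈ (S : Subgroup G) → g * a ^ n * g⁻¹ = a ^ n := by
  intro g hg
  have haZ : ∀ s ∈ (S : Subgroup G), s * a = a * s := by
    intro s hs
    have h1 := hwc s ((S : Subgroup G).mul_mem ((S : Subgroup G).mul_mem hs haS) ((S : Subgroup G).inv_mem hs))
    exact mul_inv_eq_iff_eq_mul.mp h1
  set b := g * a ^ n * g⁻¹ with hb
  have hb' : b = (g * a * g⁻¹) ^ n := by rw [hb, conj_pow]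
  set C := Subgroup.centralizer ({b} : Set G) with hC
  have haC : a ∈ C := by
    rw [hC, Subgroup.mem_centralizer_singleton_iff]
    exact (haZ b hg).symm
  have ha'C : g * a * g⁻¹ ∈ C := by
    rw [hC, Subgroup.mem_centralizer_singleton_iff, hb']
    exact (Commute.refl (g * a * g⁻¹)).pow_right n
  have hap : IsPGroup p (Subgroup.zpowers a) :=
    S.isPGroup'.of_injective (Subgroup.inclusion (Subgroup.zpowers_le.mpr haS)) (Subgroup.inclusion_injective _)
  have hpow : ∃ k, a ^ p ^ k = 1 := by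
    obtain ⟨k, hk⟩ := S.isPGroup' ⟨a, haS⟩
    exact ⟨k, congrArg Subtype.val hk⟩
  have hz : ∀ y : C, (∃ k, y ^ p ^ k = 1) → IsPGroup p (Subgroup.zpowers y) := by
    rintro y ⟨k, hk⟩ ⟨u, hu⟩
    obtain ⟨i, rfl⟩ := Subgroup.mem_zpowers_iff.mp hu
    refine ⟨k, Subtype.ext ?_⟩
    change (y ^ i) ^ p ^ k = 1
    rw [← zpow_natCast, ← zpow_mul, mul_comm, zpow_mul, zpow_natCast, hk, one_zpow]
  obtain ⟨k, hk⟩ := hpow
  obtain ⟨T, hT⟩ := (hz ⟨a, haC⟩ ⟨k, Subtype.ext hk⟩).exists_le_sylow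
  obtain ⟨T', hT'⟩ := (hz ⟨g * a * g⁻¹, ha'C⟩ ⟨k, Subtype.ext (by
    change (g * a * g⁻¹) ^ p ^ k = 1
    rw [conj_pow, hk]; group)⟩).exists_le_sylow
  obtain ⟨c, hc⟩ := MulAction.exists_smul_eq C T' T
  have h1 : (⟨a, haC⟩ : C) ∈ (T : Subgroup C) := hT (Subgroup.mem_zpowers _)
  have h2 : c * ⟨g * a * g⁻¹, ha'C⟩ * c⁻¹ ∈ (T : Subgroup C) := by
    rw [← hc]
    have h3 : (⟨g * a * g⁻¹, ha'C⟩ : C) ∈ (T' : Subgroup C) := hT' (Subgroup.mem_zpowers _)
    have h4 := Subgroup.smul_mem_pointwise_smul (⟨g * a * g⁻¹, ha'C⟩ : C) (MulAut.conj c) (T' : Subgroup C) h3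
    exact h4
  have hTp : IsPGroup p ((T : Subgroup C).map C.subtype) := T.isPGroup'.map _
  obtain ⟨R, hR⟩ := hTp.exists_le_sylow
  obtain ⟨h, hh⟩ := MulAction.exists_smul_eq G R S
  have key : ∀ u : C, u ∈ (T : Subgroup C) → h * (u : G) * h⁻¹ ∈ (S : Subgroup G) := by
    intro u hu
    rw [← hh]
    exact Subgroup.smul_mem_pointwise_smul (u : G) (MulAut.conj h) (R : Subgroup G) (hR ⟨u, hu, rfl⟩)
  have h5 := hwc h (key _ h1)
  have h6 : h * ((c : G) * (g * a * g⁻¹) * (c : G)⁻¹) * h⁻¹ ∈ (S : Subgroup G) := key _ h2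
  have h7 : h * ((c : G) * (g * a * g⁻¹) * (c : G)⁻¹) * h⁻¹ = (h * c * g) * a * (h * c * g)⁻¹ := by group
  rw [h7] at h6
  have h8 := hwc _ h6
  have h9 : ((c : G) * g) * a * ((c : G) * g)⁻¹ = a := by
    have h10 : (h * c * g) * a * (h * c * g)⁻¹ = h * a * h⁻¹ := by rw [h8, h5]
    calc ((c : G) * g) * a * ((c : G) * g)⁻¹ = h⁻¹ * ((h * c * g) * a * (h * c * g)⁻¹) * h := by group
      _ = h⁻¹ * (h * a * h⁻¹) * h := by rw [h10]
      _ = a := by group
  have h11 : (c : G) * b * (c : G)⁻¹ = b := by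
    have h12 : (c : G) * b = b * c := Subgroup.mem_centralizer_singleton_iff.mp c.2
    rw [h12, mul_inv_cancel_right]
  calc b = (c : G) * b * (c : G)⁻¹ := h11.symm
    _ = (((c : G) * g) * a * ((c : G) * g)⁻¹) ^ n := by rw [hb, conj_pow]; group
    _ = a ^ n := by rw [h9]

end Cfsg.Agent.S1939
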