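import Cfsg.Statements.S1940
import Cfsg.Agent.H6.PMin2

set_option autoImplicit false
open Cfsg

namespace Cfsg.Agent.S1940

theorem main {L : Type*} [Group L] [Finite L] {M : Type*} [CommGroup M] [Finite M] [MulDistribMulAction L M]
    {p : ℕ} [hp : Fact p.Prime] (N : Subgroup M)
    (hquot : IsPGroup p (M ⧸ N)) (htriv : ∀ (l : L) (m : M), (l • m) * m⁻¹ ∈ N) (T : Sylow p L)
    (n c : M) (hn : n ∈ N) (hc : ∀ t ∈ (T : Subgroup L), t • c = c) :
    ∃ n' ∈ N, ∃ c' : M, (∀ l : L, l • c' = c') ∧ n * c = n' * c' := by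
  let f : L ⧸ (T : Subgroup L) → M := fun q => Quotient.liftOn' q (fun l => l • c) (by
    intro a b hab
    have h1 : a⁻¹ * b ∈ (T : Subgroup L) := QuotientGroup.leftRel_apply.1 hab
    have h2 : b • c = a • (a⁻¹ * b) • c := by rw [smul_smul]; congr 1; group
    show a • c = b • c
    rw [h2, hc _ h1])
  haveI : Fintype (L ⧸ (T : Subgroup L)) := Fintype.ofFinite _
  have hfl : ∀ (l : L) (q : L ⧸ (T : Subgroup L)), l • f q = f (l • q) := by
    intro l q
    induction q using QuotientGroup.induction_on with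
    | H a => exact smul_smul l a c
  have hd : ∀ l : L, l • (∏ q, f q) = ∏ q, f q := by
    intro l
    rw [Finset.smul_prod']
    simp_rw [hfl]
    exact Fintype.prod_equiv (MulAction.toPerm l) _ _ (fun q => rfl)
  obtain ⟨d, hdd⟩ : ∃ d, d = ∏ q, f q := ⟨_, rfl⟩
  rw [← hdd] at hd
  obtain ⟨π, hπ⟩ : ∃ π : M →* M ⧸ N, π = QuotientGroup.mk' N := ⟨_, rfl⟩
  have hk : ∀ x, π x = 1 ↔ x ∈ N := fun x => by rw [hπ, ← MonoidHom.mem_ker, QuotientGroup.ker_mk']
  have hπl : ∀ (l : L) (m : M), π (l • m) = π m := by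
    intro l m
    have := (hk _).2 (htriv l m)
    rw [map_mul, map_inv, mul_inv_eq_one] at this
    exact this
  have hπf : ∀ q, π (f q) = π c := by
    intro q
    induction q using QuotientGroup.induction_on with
    | H a => exact hπl a c
  have hπd : π d = π c ^ (T : Subgroup L).index := by
    rw [hdd, map_prod]
    simp_rw [hπf]
    rw [Finset.prod_const, Subgroup.index_eq_card, Nat.card_eq_fintype_card]; rfl
  obtain ⟨j, hj⟩ := hquot (π c)
  have hcop : ((T : Subgroup L).index).Coprime (p ^ j) :=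
    ((Nat.Prime.coprime_iff_not_dvd hp.out).2 T.not_dvd_index).symm.pow_right j
  obtain ⟨k, hk1⟩ : ∃ k : ℕ, (T : Subgroup L).index * k ≡ 1 [MOD p ^ j] := by
    obtain ⟨k, hk⟩ := Nat.exists_mul_mod_eq_of_coprime 1 hcop (pow_pos hp.out.pos j).ne'
    exact ⟨k, hk.2⟩
  have hπk : π (d ^ k) = π c := by
    rw [map_pow, hπd, ← pow_mul]
    have h1 : (T : Subgroup L).index * k ≡ 1 [MOD orderOf (π c)] := hk1.of_dvd (orderOf_dvd_of_pow_eq_one hj)
    rw [pow_eq_pow_iff_modEq.2 h1, pow_one]
  refine ⟨n * (c * (d ^ k)⁻¹), mul_mem hn ?_, d ^ k, fun l => ?_, by rw [mul_assoc, mul_assoc, inv_mul_cancel, mul_one]⟩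
  · rw [← hk, map_mul, map_inv, hπk, mul_inv_cancel]
  · rw [smul_pow', hd]

/-- Let the finite group L act by automorphisms on the finite abelian group M, and let N be an L-invariant subgroup of M such that M/N is a p-group on which L acts trivially (every l • m lies in the coset mN). If every element of M is a product of an element of N and an element fixed by a Sylow p-subgroup T of L, then every element of M is a product of an element of N and an element fixed by all of L. -/
theorem result {L : Type*} [Group L] [Finite L] {M : Type*} [CommGroup M] [Finite M] [MulDistribMulAction L M]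
    {p : ℕ} [Fact p.Prime] (N : Subgroup M) (hN : ∀ (l : L) (m : M), m ∈ N → l • m ∈ N)
    (hquot : IsPGroup p (M ⧸ N)) (htriv : ∀ (l : L) (m : M), (l • m) * m⁻¹ ∈ N) (T : Sylow p L)
    (hT : ∀ m : M, ∃ n ∈ N, ∃ c : M, (∀ t ∈ (T : Subgroup L), t • c = c) ∧ m = n * c) :
    ∀ m : M, ∃ n ∈ N, ∃ c : M, (∀ l : L, l • c = c) ∧ m = n * c := by
  intro m
  obtain ⟨n, hn, c, hc, rfl⟩ := hT m
  exact main N hquot htriv T n c hn hc

end Cfsg.Agent.S1940
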