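import Cfsg.Statements.S1946
import Cfsg.Agent.H6.Omega2

set_option autoImplicit false
open Cfsg

namespace Cfsg.Agent.S1946

/-- Let P be a Sylow p-subgroup of the finite group G. Then G has a normal p-complement if and only if P controls the fusion of its elements of order dividing p (dividing 4 when p = 2): whenever such an element a of P has a G-conjugate g a g⁻¹ in P, that conjugate is already x a x⁻¹ for some x in P. -/
theorem result {G : Type*} [Group G] [Finite G] {p : ℕ} [Fact p.Prime] (P : Sylow p G) :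
    Cfsg.HasNormalPComplement p G ↔
      ∀ a ∈ (P : Subgroup G), (a ^ p = 1 ∨ (p = 2 ∧ a ^ 4 = 1)) → ∀ g : G, g * a * g⁻¹ ∈ (P : Subgroup G) →
        ∃ x ∈ (P : Subgroup G), g * a * g⁻¹ = x * a * x⁻¹ := by
  constructor
  · intro hG a ha _ g hg
    obtain ⟨N, hN, hNc, k, hk⟩ := Agent.H1.hasNormalPComplement_iff.1 hG
    have hsup : (P : Subgroup G) ⊔ N = ⊤ := by
      rw [← Subgroup.index_eq_one]
      have h1 : ((P : Subgroup G) ⊔ N).index ∣ (P : Subgroup G).index := Subgroup.index_dvd_of_le le_sup_left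
      have h2 : ((P : Subgroup G) ⊔ N).index ∣ p ^ k := hk ▸ Subgroup.index_dvd_of_le le_sup_right
      have h3 : Nat.Coprime (P : Subgroup G).index (p ^ k) :=
        (((Nat.Prime.coprime_iff_not_dvd Fact.out).2 P.not_dvd_index).symm).pow_right k
      exact Nat.eq_one_of_dvd_coprimes h3 h1 h2
    have hg' : g ∈ (P : Subgroup G) ⊔ N := by rw [hsup]; trivial
    obtain ⟨x, hx, n, hn, rfl⟩ := (Subgroup.mem_sup_of_normal_right).1 hg'
    refine ⟨x, hx, ?_⟩
    have h1 : n * a * n⁻¹ ∈ (P : Subgroup G) := by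
      have := mul_mem (mul_mem (inv_mem hx) hg) hx
      have e : x⁻¹ * (x * n * a * (x * n)⁻¹) * x = n * a * n⁻¹ := by group
      rwa [e] at this
    have h2 : n * a * n⁻¹ * a⁻¹ ∈ (P : Subgroup G) ⊓ N := by
      refine Subgroup.mem_inf.2 ⟨mul_mem h1 (inv_mem ha), ?_⟩
      have e : n * a * n⁻¹ * a⁻¹ = n * (a * n⁻¹ * a⁻¹) := by group
      rw [e]
      exact mul_mem hn (hN.conj_mem _ (inv_mem hn) _)
    have h3 : (P : Subgroup G) ⊓ N = ⊥ := Agent.H6.inf_eq_bot_of_coprime P.2 hNc
    rw [h3, Subgroup.mem_bot] at h2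
    have h4 : n * a * n⁻¹ = a := by
      have := congrArg (fun z => z * a) h2
      simpa using this
    calc x * n * a * (x * n)⁻¹ = x * (n * a * n⁻¹) * x⁻¹ := by group
      _ = x * a * x⁻¹ := by rw [h4]
  · intro h
    refine Agent.H1.frobenius_criterion ?_
    have main : ∀ Q : Subgroup G, Q ≤ (P : Subgroup G) → ∀ g ∈ Subgroup.normalizer (Q : Set G), (orderOf g).Coprime p →
        g ∈ Subgroup.centralizer (Q : Set G) := by
      intro Q hQP g hg hgo
      have hnil : Group.IsNilpotent ↥(P : Subgroup G) := P.2.isNilpotent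
      obtain ⟨n, hn⟩ := hnil.nilpotent
      refine Agent.H6.cent_of_chain (P.2.to_le hQP) hg hgo
        (fun i => ((Subgroup.upperCentralSeries ↥(P : Subgroup G) i).map (P : Subgroup G).subtype : Set G)) ?_ ?_ n ?_
      · rintro x ⟨y, hy, rfl⟩
        have : y = 1 := by simpa using hy
        rw [this]; rfl
      · rintro i c hc hsm hgc ⟨y, hy, rfl⟩
        have hcP := hQP hc
        obtain ⟨x, hx, hxe⟩ := h _ (hQP hc) hsm g (hQP hgc)
        have h1 : y⁻¹ ∈ Subgroup.upperCentralSeries ↥(P : Subgroup G) (i + 1) := inv_mem hy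
        have h2 := (Subgroup.mem_upperCentralSeries_succ_iff).1 h1 ⟨x, hx⟩
        refine ⟨_, h2, ?_⟩
        rw [hxe]
        show (y : G)⁻¹ * x * ((y : G)⁻¹)⁻¹ * x⁻¹ = (y : G)⁻¹ * (x * (y : G) * x⁻¹)
        group
      · intro c hc _
        refine ⟨⟨c, hQP hc⟩, ?_, rfl⟩
        rw [SetLike.mem_coe, hn]; trivial
    intro Q hQ g hg hgo
    obtain ⟨T, hT⟩ := hQ.exists_le_sylow
    obtain ⟨x, hx⟩ := MulAction.exists_smul_eq G T P
    have hxT : Agent.H6.cj x (T : Subgroup G) = P := by
      rw [← hx]; rfl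
    have h1 := main (Agent.H6.cj x Q) (by rw [← hxT]; exact Agent.H6.cj_mono hT) (x * g * x⁻¹)
      (by rw [← Agent.H6.cj_normalizer]; exact Agent.H6.conj_mem_cj hg)
      (by
        have : orderOf (x * g * x⁻¹) = orderOf g := orderOf_injective (MulAut.conj x).toMonoidHom (MulAut.conj x).injective g
        rw [this]; exact hgo)
    rw [← Agent.H6.cj_centralizer, Agent.H6.mem_cj] at h1
    have e : x⁻¹ * (x * g * x⁻¹) * x = g := by group
    rwa [e] at h1

end Cfsg.Agent.S1946
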