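import Cfsg.Statements.S1956
import Cfsg.Agent.H6.PMin2

set_option autoImplicit false
open Cfsg

namespace Cfsg.Agent.S1956

open Subgroup Agent.H6 in
theorem main {G : Type*} [Group G] [Finite G] {p : ℕ} [Fact p.Prime] (P : Sylow p G)
    (hcen : ∀ a ∈ (P : Subgroup G), (a ^ p = 1 ∨ (p = 2 ∧ a ^ 4 = 1)) → ∀ y ∈ (P : Subgroup G), a * y = y * a) :
    ∀ a ∈ (P : Subgroup G), (a ^ p = 1 ∨ (p = 2 ∧ a ^ 4 = 1)) → ∀ g : G, g * a * g⁻¹ ∈ (P : Subgroup G) →
      ∃ n ∈ Subgroup.normalizer ((P : Subgroup G) : Set G), ∃ c : G, c * a = a * c ∧ g = n * c := by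
  intro a ha ho g hg
  have hb : (g * a * g⁻¹) ^ p = 1 ∨ (p = 2 ∧ (g * a * g⁻¹) ^ 4 = 1) := by
    rcases ho with h | ⟨h1, h2⟩
    · left; rw [conj_pow, h]; group
    · right; refine ⟨h1, ?_⟩; rw [conj_pow, h2]; group
  obtain ⟨b, hbd⟩ : ∃ b, b = g * a * g⁻¹ := ⟨_, rfl⟩
  rw [← hbd] at hg hb
  have h1 : (P : Subgroup G) ≤ centralizer ({b} : Set G) := fun y hy =>
    mem_centralizer_singleton_iff.2 (hcen b hg hb y hy).symm
  have h2 : cj g (P : Subgroup G) ≤ centralizer ({b} : Set G) := by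
    rintro _ ⟨y, hy, rfl⟩
    rw [mem_centralizer_singleton_iff, hbd]
    show g * y * g⁻¹ * (g * a * g⁻¹) = g * a * g⁻¹ * (g * y * g⁻¹)
    have := hcen a ha ho y hy
    calc g * y * g⁻¹ * (g * a * g⁻¹) = g * (y * a) * g⁻¹ := by group
      _ = g * (a * y) * g⁻¹ := by rw [this]
      _ = _ := by group
  have h3 : SylIn p (P : Subgroup G) (centralizer ({b} : Set G)) := (sylow_sylIn_top P).of_le h1 le_top
  have h4 : SylIn p (cj g (P : Subgroup G)) (centralizer ({b} : Set G)) := by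
    have h5 := (sylow_sylIn_top P).cj g
    rw [cj_of_mem (mem_top g)] at h5
    exact h5.of_le h2 le_top
  obtain ⟨c, hc, e⟩ := h4.conj h3
  rw [mem_centralizer_singleton_iff] at hc
  refine ⟨c * g, by rw [mem_norm, cj_mul]; exact e, (c * g)⁻¹ * g, ?_, by group⟩
  have e1 : (c * g)⁻¹ * g * a = g⁻¹ * (c⁻¹ * b) * g := by rw [hbd]; group
  have e2 : a * ((c * g)⁻¹ * g) = g⁻¹ * (b * c⁻¹) * g := by rw [hbd]; group
  have e3 : c⁻¹ * b = b * c⁻¹ := by
    rw [inv_mul_eq_iff_eq_mul, ← mul_assoc, hc]; group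
  rw [e1, e2, e3]

/-- Let P be a Sylow p-subgroup of the finite group G such that every element of P of order dividing p (dividing 4 when p = 2) is central in P. Then the fusion of these elements is controlled by N_G(P): if such an element a of P has g a g⁻¹ in P, then g = n c with n normalizing P and c commuting with a. -/
theorem result {G : Type*} [Group G] [Finite G] {p : ℕ} [Fact p.Prime] (P : Sylow p G)
    (hcen : ∀ a ∈ (P : Subgroup G), (a ^ p = 1 ∨ (p = 2 ∧ a ^ 4 = 1)) → ∀ y ∈ (P : Subgroup G), a * y = y * a) :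
    ∀ a ∈ (P : Subgroup G), (a ^ p = 1 ∨ (p = 2 ∧ a ^ 4 = 1)) → ∀ g : G, g * a * g⁻¹ ∈ (P : Subgroup G) →
      ∃ n ∈ Subgroup.normalizer ((P : Subgroup G) : Set G), ∃ c : G, c * a = a * c ∧ g = n * c := by
  exact main P hcen

end Cfsg.Agent.S1956
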