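import Cfsg.Statements.S1966
import Cfsg.Agent.H6.Control

set_option autoImplicit false
open Cfsg

namespace Cfsg.Agent.S1966

/-- Let p be a prime, G a finite group with Sylow p-subgroup S and 𝓕 a conjugation family for S in G. Then the members of 𝓕 containing O_p(G) still form a conjugation family for S in G. -/
theorem result {G : Type*} [Group G] [Finite G] {p : ℕ} [Fact p.Prime] (S : Sylow p G) (𝓕 : Set (Subgroup G)) (h : Cfsg.IsConjugationFamily 𝓕 (S : Subgroup G)) : Cfsg.IsConjugationFamily {T : Subgroup G | T ∈ 𝓕 ∧ Cfsg.pCore p G ≤ T} (S : Subgroup G) := by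
  rw [H6.isConjugationFamily_iff] at h ⊢
  refine ⟨fun T hT => h.1 T hT.1, ?_⟩
  intro A g hA hAS hg
  have hP : pCore p G ≤ (S : Subgroup G) := L0.pCore_le_sylow S
  have hrc : ∀ (x : G) (B : Set G), ((pCore p G : Subgroup G) : Set G) ⊆ B →
      ((pCore p G : Subgroup G) : Set G) ⊆ H6.rc x B := by
    intro x B hB y hy
    rw [H6.mem_rc]
    exact hB ((inferInstance : (pCore p G).Normal).conj_mem y hy x)
  have h1 := h.2 (A ∪ (pCore p G : Subgroup G)) g (hA.mono Set.subset_union_left)
    (Set.union_subset hAS hP) (by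
      rintro _ ⟨a, ha | ha, rfl⟩
      · exact hg ⟨a, ha, rfl⟩
      · have := (inferInstance : (pCore p G).Normal).conj_mem a ha g⁻¹
        rw [inv_inv] at this
        exact hP this)
  have key : ∀ B x, H6.Ch (H6.FStep 𝓕) B x → ((pCore p G : Subgroup G) : Set G) ⊆ B →
      H6.Ch (H6.FStep {T : Subgroup G | T ∈ 𝓕 ∧ pCore p G ≤ T}) B x := by
    intro B x hch
    induction hch with
    | nil B => intro _; exact H6.Ch.nil _
    | @cons B x g hs _ ih =>
      intro hB
      obtain ⟨T, hT, hBT, hx⟩ := hs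
      exact H6.Ch.cons ⟨T, ⟨hT, hB.trans hBT⟩, hBT, hx⟩ (ih (hrc x B hB))
  exact (key _ _ h1 Set.subset_union_right).mono H6.FStep.mono Set.subset_union_left

end Cfsg.Agent.S1966
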