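import Cfsg.Statements.S2007
import Cfsg.Agent.H6.PMin2
import Cfsg.Agent.H6.Fus6

set_option autoImplicit false
open Cfsg

namespace Cfsg.Agent.S2007

open Subgroup Agent.H6 in
theorem main {G : Type*} [Group G] [Finite G] {p : ℕ} [hp : Fact p.Prime] (S : Sylow p G) (T : Subgroup G) (hTS : T ≤ (S : Subgroup G)) (hTn : (S : Subgroup G) ≤ Subgroup.normalizer ((T : Subgroup G) : Set G)) (hC : (S : Subgroup G) ⊓ Subgroup.centralizer ((T : Subgroup G) : Set G) ≤ T) (hN : ∀ g ∈ Subgroup.normalizer ((T : Subgroup G) : Set G), (orderOf g).Coprime p → g ∈ Subgroup.centralizer ((T : Subgroup G) : Set G)) : Cfsg.HasNormalPComplement p ↥(Subgroup.normalizer ((T : Subgroup G) : Set G)) := by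
  obtain ⟨Y, hY⟩ : ∃ Y, Y = normalizer (T : Set G) := ⟨_, rfl⟩
  rw [← hY] at hTn hN ⊢
  have hCY : centralizer (T : Set G) ≤ Y := by rw [hY]; exact centralizer_le_norm T
  have hYC : Y ≤ normalizer ((centralizer (T : Set G) : Subgroup G) : Set G) := by rw [hY]; exact norm_cent le_rfl
  have h1 : SylIn p ((S : Subgroup G) ⊓ centralizer (T : Set G)) (centralizer (T : Set G)) :=
    sylIn_inf_normal ((sylow_sylIn_top S).of_le hTn le_top) hCY hYC
  have h2 : (S : Subgroup G) ⊓ centralizer (T : Set G) = T ⊓ centralizer (T : Set G) :=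
    le_antisymm (le_inf hC inf_le_right) (inf_le_inf_right _ hTS)
  rw [h2] at h1
  obtain ⟨hcop, -⟩ := centric_split (S.2.to_le hTS) h1
  obtain ⟨D, hD⟩ : ∃ D, D = opR p (centralizer (T : Set G)) := ⟨_, rfl⟩
  rw [← hD] at hcop
  have hDC : D ≤ centralizer (T : Set G) := by rw [hD]; exact opR_le p _
  have hYD : Y ≤ normalizer (D : Set G) := by
    intro g hg
    rw [mem_norm, hD, opR_cj, cj_of_mem_norm (hYC hg)]
  have hDY : D ≤ Y := hDC.trans hCY
  haveI hDn : (D.subgroupOf Y).Normal := by rw [Subgroup.normal_subgroupOf_iff_le_normalizer hDY]; exact hYD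
  rw [H1.hasNormalPComplement_iff]
  refine ⟨D.subgroupOf Y, hDn, ?_, ?_⟩
  · rw [Nat.card_congr (Subgroup.subgroupOfEquivOfLe hDY).toEquiv]; exact hcop
  · have h3 : IsPGroup p (↥Y ⧸ D.subgroupOf Y) := by
      intro q
      obtain ⟨x, rfl⟩ := QuotientGroup.mk'_surjective (D.subgroupOf Y) q
      obtain ⟨a, m, hm, hab⟩ := Nat.exists_eq_pow_mul_and_not_dvd (orderOf_pos (x : G)).ne' p hp.out.ne_one
      refine ⟨a, ?_⟩
      rw [← map_pow, ← MonoidHom.mem_ker, QuotientGroup.ker_mk']
      show ((x ^ p ^ a : ↥Y) : G) ∈ D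
      have h4 : orderOf ((x : G) ^ p ^ a) ∣ m := by
        apply orderOf_dvd_of_pow_eq_one
        rw [← pow_mul, ← hab, pow_orderOf_eq_one]
      have h5 : (orderOf ((x : G) ^ p ^ a)).Coprime p :=
        Nat.Coprime.coprime_dvd_left h4 ((Nat.Prime.coprime_iff_not_dvd hp.out).2 hm).symm
      rw [hD]
      exact mem_opR (hN _ (pow_mem x.2 _) h5) h5
    obtain ⟨k, hk⟩ := IsPGroup.iff_card.1 h3
    exact ⟨k, by rw [Subgroup.index_eq_card]; exact hk⟩

/-- Let p be a prime, G a finite group with Sylow p-subgroup S, and T a normal subgroup of S containing C_S(T). If N_G(T)/C_G(T) is a p-group (every element of N_G(T) of order prime to p centralizes T), then N_G(T) has a normal p-complement. -/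
theorem result {G : Type*} [Group G] [Finite G] {p : ℕ} [Fact p.Prime] (S : Sylow p G) (T : Subgroup G) (hTS : T ≤ (S : Subgroup G)) (hTn : (S : Subgroup G) ≤ Subgroup.normalizer ((T : Subgroup G) : Set G)) (hC : (S : Subgroup G) ⊓ Subgroup.centralizer ((T : Subgroup G) : Set G) ≤ T) (hN : ∀ g ∈ Subgroup.normalizer ((T : Subgroup G) : Set G), (orderOf g).Coprime p → g ∈ Subgroup.centralizer ((T : Subgroup G) : Set G)) : Cfsg.HasNormalPComplement p ↥(Subgroup.normalizer ((T : Subgroup G) : Set G)) := by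
  exact main S T hTS hTn hC hN

end Cfsg.Agent.S2007
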