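import Cfsg.Statements.S2009
import Cfsg.Agent.H6.PMin2

set_option autoImplicit false
open Cfsg

namespace Cfsg.Agent.S2009

open Subgroup Agent.H6 in
theorem ab_case {H : Type*} [Group H] [Finite H] (z : H) (hz : orderOf z = 2) (hN : ∀ N : Subgroup H, N.Normal → N ≠ ⊤ → N ⊓ Subgroup.centralizer ({z} : Set H) = ⊥) (E : Subgroup H) (hE : IsKleinFour ↥E) (hzE : z ∈ E) (hc : ∀ e ∈ E, e ≠ 1 → IsConj z e) (N : Subgroup H) (hNn : N.Normal) (hab : ∀ a ∈ N, ∀ b ∈ N, a * b = b * a) : N = ⊥ := by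
  have hz1 : z ≠ 1 := fun h => by rw [h, orderOf_one] at hz; omega
  -- another involution
  obtain ⟨e, heE, he1, hez⟩ : ∃ e ∈ E, e ≠ 1 ∧ e ≠ z := by
    by_contra hcon
    push Not at hcon
    have h1 : Nat.card ↥E ≤ 2 := by
      have h2 : (E : Set H) ⊆ {1, z} := by
        intro x hx
        by_cases h : x = 1
        · simp [h]
        · simp [hcon x hx h]
      have h3 : (E : Set H).ncard ≤ ({1, z} : Set H).ncard := Set.ncard_le_ncard h2 (Set.toFinite _)
      have h4 : ({1, z} : Set H).ncard ≤ 2 := (Set.ncard_insert_le 1 {z}).trans (by simp)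
      have h5 : Nat.card ↥E = (E : Set H).ncard := rfl
      omega
    have := hE.card_four
    omega
  have hNt : N ≠ ⊤ := by
    intro h
    obtain ⟨g, hg⟩ := isConj_iff.1 (hc e heE he1)
    apply hez
    rw [← hg, hab g (h ▸ mem_top g) z (h ▸ mem_top z)]; group
  have hinv : ∀ f ∈ E, f ≠ 1 → ∀ n ∈ N, f * n * f⁻¹ = n⁻¹ := by
    intro f hf hf1 n hn
    obtain ⟨g, hg⟩ := isConj_iff.1 (hc f hf hf1)
    have hff : f * f = 1 := by
      rw [← hg]
      have : g * z * g⁻¹ * (g * z * g⁻¹) = g * (z * z) * g⁻¹ := by group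
      rw [this, ← pow_two, ← hz, pow_orderOf_eq_one]; group
    have hfi : f⁻¹ = f := inv_eq_of_mul_eq_one_left hff
    have h1 : f * n * f⁻¹ ∈ N := hNn.conj_mem n hn f
    have h2 : n * (f * n * f⁻¹) ∈ N := mul_mem hn h1
    have h3 : f * (n * (f * n * f⁻¹)) = (n * (f * n * f⁻¹)) * f := by
      have e1 : f * (n * (f * n * f⁻¹)) = (f * n * f⁻¹) * ((f * f) * n * f⁻¹) := by group
      rw [e1, hff, one_mul, hab _ hn _ h1, hfi]
      have e2 : f * n * f * n * f = (f * n * f) * (n * f) := by group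
      rw [e2]
    have h4 : g⁻¹ * (n * (f * n * f⁻¹)) * g ∈ N ⊓ centralizer ({z} : Set H) := by
      refine mem_inf.2 ⟨?_, ?_⟩
      · have := hNn.conj_mem _ h2 g⁻¹
        simpa using this
      · rw [mem_centralizer_singleton_iff]
        have e3 : z = g⁻¹ * f * g := by rw [← hg]; group
        have e4 : g⁻¹ * (n * (f * n * f⁻¹)) * g * (g⁻¹ * f * g) = g⁻¹ * ((n * (f * n * f⁻¹)) * f) * g := by group
        have e5 : (g⁻¹ * f * g) * (g⁻¹ * (n * (f * n * f⁻¹)) * g) = g⁻¹ * (f * (n * (f * n * f⁻¹))) * g := by group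
        rw [e3, e4, e5, h3]
    rw [hN N hNn hNt, mem_bot] at h4
    have h5 : n * (f * n * f⁻¹) = 1 := by
      have : n * (f * n * f⁻¹) = g * (g⁻¹ * (n * (f * n * f⁻¹)) * g) * g⁻¹ := by group
      rw [this, h4]; group
    exact eq_inv_of_mul_eq_one_right h5
  rw [eq_bot_iff]
  intro n hn
  have hze : z * e ≠ 1 := by
    intro h
    apply hez
    have hzz : z * z = 1 := by rw [← pow_two, ← hz, pow_orderOf_eq_one]
    calc e = (z * z) * e := by rw [hzz, one_mul]
      _ = z * (z * e) := by group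
      _ = z := by rw [h, mul_one]
  have h1 := hinv (z * e) (mul_mem hzE heE) hze n hn
  have h2 : z * e * n * (z * e)⁻¹ = z * (e * n * e⁻¹) * z⁻¹ := by group
  rw [h2, hinv e heE he1 n hn, hinv z hzE hz1 n⁻¹ (inv_mem hn), inv_inv] at h1
  have h3 : z * n = n * z := by
    have := hinv z hzE hz1 n hn
    rw [← h1] at this
    rw [mul_inv_eq_iff_eq_mul] at this
    exact this
  have h4 : n ∈ N ⊓ centralizer ({z} : Set H) := ⟨hn, mem_centralizer_singleton_iff.2 h3.symm⟩
  rw [hN N hNn hNt] at h4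
  exact h4

open Subgroup Agent.H6 in
theorem fpf_ab {H : Type*} [Group H] [Finite H] (z : H) (hz : orderOf z = 2) (N : Subgroup H) (hNn : N.Normal) (hC : N ⊓ Subgroup.centralizer ({z} : Set H) = ⊥) :
    ∀ a ∈ N, ∀ b ∈ N, a * b = b * a := by
  have hzz : z * z = 1 := by rw [← pow_two, ← hz, pow_orderOf_eq_one]
  have hzi : z⁻¹ = z := inv_eq_of_mul_eq_one_left hzz
  let f : ↥N → ↥N := fun n => ⟨(n : H)⁻¹ * (z * n * z⁻¹), mul_mem (inv_mem n.2) (hNn.conj_mem n n.2 z)⟩
  have hf : Function.Injective f := by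
    intro a b hab
    have h1 : (a : H)⁻¹ * (z * a * z⁻¹) = (b : H)⁻¹ * (z * b * z⁻¹) := congrArg Subtype.val hab
    have h2 : (b : H) * (a : H)⁻¹ ∈ N ⊓ centralizer ({z} : Set H) := by
      refine mem_inf.2 ⟨mul_mem b.2 (inv_mem a.2), ?_⟩
      rw [mem_centralizer_singleton_iff]
      have h3 : (b : H) * (a : H)⁻¹ = (z * b * z⁻¹) * (z * a * z⁻¹)⁻¹ := by
        have e1 : (b : H) * (a : H)⁻¹ = b * ((a : H)⁻¹ * (z * a * z⁻¹)) * (z * a * z⁻¹)⁻¹ := by group
        rw [e1, h1]; group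
      have h4 : (b : H) * (a : H)⁻¹ = z * (b * (a : H)⁻¹) * z⁻¹ := by
        conv_lhs => rw [h3]
        group
      conv_lhs => rw [h4]
      group
    rw [hC, mem_bot] at h2
    exact Subtype.ext (mul_inv_eq_one.1 h2).symm
  have hs : Function.Surjective f := Finite.surjective_of_injective hf
  have hinv : ∀ n ∈ N, z * n * z⁻¹ = n⁻¹ := by
    intro n hn
    obtain ⟨a, ha⟩ := hs ⟨n, hn⟩
    have h1 : (a : H)⁻¹ * (z * a * z⁻¹) = n := congrArg Subtype.val ha
    rw [← h1]
    have e : z * ((a : H)⁻¹ * (z * a * z⁻¹)) * z⁻¹ = (z * (a : H)⁻¹ * z⁻¹) * ((z * z) * a * (z * z)⁻¹) := by group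
    rw [e, hzz]; group
  intro a ha b hb
  have h1 := hinv (a * b) (mul_mem ha hb)
  have h2 : z * (a * b) * z⁻¹ = (z * a * z⁻¹) * (z * b * z⁻¹) := by group
  rw [h2, hinv a ha, hinv b hb] at h1
  have h3 := congrArg (fun x => x⁻¹) h1
  simp only [mul_inv_rev, inv_inv] at h3
  exact h3.symm

/-- Let H be a finite group and z an involution such that every proper normal subgroup of H meets the centralizer of z trivially, and suppose z lies in a Klein four-subgroup E of H all three of whose involutions are conjugate to z in H. Then H is simple. -/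
theorem result {H : Type*} [Group H] [Finite H] (z : H) (hz : orderOf z = 2) (hN : ∀ N : Subgroup H, N.Normal → N ≠ ⊤ → N ⊓ Subgroup.centralizer ({z} : Set H) = ⊥) (E : Subgroup H) (hE : IsKleinFour ↥E) (hzE : z ∈ E) (hc : ∀ e ∈ E, e ≠ 1 → IsConj z e) : IsSimpleGroup H := by
  have hz1 : z ≠ 1 := fun h => by rw [h, orderOf_one] at hz; omega
  haveI : Nontrivial H := ⟨z, 1, hz1⟩
  refine ⟨fun N hNn => ?_⟩
  by_cases h : N = ⊤
  · exact Or.inr h
  · exact Or.inl (ab_case z hz hN E hE hzE hc N hNn (fpf_ab z hz N hNn (hN N hNn h)))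

end Cfsg.Agent.S2009
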