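import Cfsg.Statements.S2063
import Cfsg.Agent.H9.Out2
import Cfsg.Agent.H9.Mathieu

set_option autoImplicit false
open Cfsg

namespace Cfsg.Agent.S2063

/-- The outer automorphism group of the Mathieu group M₂₃ (the stabiliser of a point in the automorphism group of the length-24 binary code) is trivial: every automorphism is inner. -/
theorem result : Nat.card (Cfsg.Out ↥Cfsg.Spor.M23) = 1 := by
  have : ∀ G : Subgroup (Equiv.Perm GolayPt), G = H9.Hc 1 → Nat.card (Cfsg.Out ↥G) = 1 := by
    rintro G rfl; exact H9.out_Hc1
  exact this _ H9.M23_eq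

end Cfsg.Agent.S2063
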