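import Cfsg.Statements.S2247
import Mathlib
import Cfsg.Agent.H8.SzN
open Cfsg.Agent.H8.Suz
open scoped Pointwise

set_option autoImplicit false
open Cfsg

namespace Cfsg.Agent.S2247



/-- In the Suzuki group with q = 2^(2m+1), m ≥ 1 (realised as the stabiliser in SL₄ of the Suzuki–Tits ovoid), the normalizer of a Sylow 2-subgroup P is a maximal subgroup and is the only maximal subgroup containing P. -/
theorem result {F : Type*} [Field F] [Fintype F] {m : ℕ} (hm : 1 ≤ m) (hF : Fintype.card F = 2 ^ (2 * m + 1)) (P : Sylow 2 ↥(Cfsg.Sz F m)) :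
    IsCoatom (Subgroup.normalizer ((P : Subgroup ↥(Cfsg.Sz F m)) : Set ↥(Cfsg.Sz F m))) ∧
    ∀ M : Subgroup ↥(Cfsg.Sz F m), IsCoatom M → (P : Subgroup ↥(Cfsg.Sz F m)) ≤ M → M = Subgroup.normalizer ((P : Subgroup ↥(Cfsg.Sz F m)) : Set ↥(Cfsg.Sz F m)) := by
  haveI : Cfsg.Agent.H8.Suz.Hyp F m := ⟨hm, hF⟩
  obtain ⟨x, hx⟩ := sylow_conj m P
  have hN : Subgroup.normalizer ((P : Subgroup ↥(Cfsg.Sz F m)) : Set ↥(Cfsg.Sz F m)) = cj x (B F m) := by
    rw [hx, ← normalizer_Q]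
    exact (Subgroup.map_equiv_normalizer_eq (Q F m) (MulAut.conj x)).symm
  rw [hN, hx]
  let e : Subgroup ↥(Cfsg.Sz F m) ≃o Subgroup ↥(Cfsg.Sz F m) := (MulAut.conj x).mapSubgroup
  have he : ∀ A, e A = cj x A := fun A => rfl
  have hcc : ∀ A : Subgroup ↥(Cfsg.Sz F m), e (e.symm A) = A := fun A => e.apply_symm_apply A
  refine ⟨?_, ?_⟩
  · rw [← he, OrderIso.isCoatom_iff]
    exact B_coatom m
  · intro M hM hle
    have hM' : IsCoatom (e.symm M) := by
      rw [← OrderIso.isCoatom_iff e, hcc]; exact hM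
    have h1 : Q F m ≤ e.symm M := by
      rw [← e.le_iff_le, hcc, he]
      exact hle
    rw [← he, ← B_unique m hM' h1, hcc]

end Cfsg.Agent.S2247
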