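import Cfsg.Statements.S2459
import Mathlib

set_option autoImplicit false
open Cfsg

namespace Cfsg.Agent.S2459

open Matrix

abbrev M3 (F : Type*) := Matrix (Fin 3) (Fin 3) F

/-- eigenvalues distinct implies diagonalizable -/
theorem diag_of {F : Type*} [Field F] (M : M3 F) (μ : Fin 3 → F) (hμ : Function.Injective μ)
    (h : ∀ i, (M - Matrix.scalar (Fin 3) (μ i)).det = 0) :
    ∃ P : M3 F, P.det ≠ 0 ∧ M * P = P * Matrix.diagonal μ := by
  classical
  have h1 : ∀ i, ∃ v : Fin 3 → F, v ≠ 0 ∧ (M - Matrix.scalar (Fin 3) (μ i)) *ᵥ v = 0 := fun i =>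
    Matrix.exists_mulVec_eq_zero_iff.2 (h i)
  choose v hv0 hv using h1
  have hv' : ∀ i, M *ᵥ v i = μ i • v i := by
    intro i
    have := hv i
    rw [Matrix.sub_mulVec, sub_eq_zero] at this
    rw [this]
    funext k
    simp [Matrix.scalar_apply, Matrix.mulVec_diagonal]
  have hli : LinearIndependent F v := by
    apply Module.End.eigenvectors_linearIndependent' (Matrix.mulVecLin M) μ hμ
    intro i
    refine ⟨?_, hv0 i⟩
    rw [Module.End.mem_eigenspace_iff]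
    exact hv' i
  let P : M3 F := Matrix.of (fun i j => v j i)
  have hP : IsUnit P := by
    rw [← Matrix.linearIndependent_cols_iff_isUnit]
    exact hli
  refine ⟨P, ?_, ?_⟩
  · exact ((Matrix.isUnit_iff_isUnit_det P).1 hP).ne_zero
  · ext i j
    rw [Matrix.mul_diagonal]
    have := congrFun (hv' j) i
    simp only [Pi.smul_apply, smul_eq_mul] at this
    rw [mul_comm (P i j)]
    exact this

theorem asm {F : Type*} [Field F] (X : Matrix.SpecialLinearGroup (Fin 3) F)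
    (hX : ∀ d : F, d ≠ 0 → ∃ Z : M3 F, Z.det = d ∧ (X : M3 F) * Z = Z * (X : M3 F))
    (A : Matrix.SpecialLinearGroup (Fin 3) F) (P Q1 Q2 B C : M3 F) (hP : P.det ≠ 0)
    (hQ1 : Q1.det ≠ 0) (hQ2 : Q2.det ≠ 0) (h : (A : M3 F) * P = P * (B * C))
    (hB : B * Q1 = Q1 * (X : M3 F)) (hC : C * Q2 = Q2 * (X : M3 F)) :
    ∃ u v : Matrix.SpecialLinearGroup (Fin 3) F, A = (u * X * u⁻¹) * (v * X * v⁻¹) := by
  obtain ⟨Z1, hZ1, hZ1'⟩ := hX (P * Q1).det⁻¹ (by
    rw [Matrix.det_mul]; exact inv_ne_zero (mul_ne_zero hP hQ1))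
  obtain ⟨Z2, hZ2, hZ2'⟩ := hX (P * Q2).det⁻¹ (by
    rw [Matrix.det_mul]; exact inv_ne_zero (mul_ne_zero hP hQ2))
  have d1 : (P * Q1 * Z1).det = 1 := by
    rw [Matrix.det_mul, hZ1]; exact mul_inv_cancel₀ (by rw [Matrix.det_mul]; exact mul_ne_zero hP hQ1)
  have d2 : (P * Q2 * Z2).det = 1 := by
    rw [Matrix.det_mul, hZ2]; exact mul_inv_cancel₀ (by rw [Matrix.det_mul]; exact mul_ne_zero hP hQ2)
  let u : Matrix.SpecialLinearGroup (Fin 3) F := ⟨P * Q1 * Z1, d1⟩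
  let v : Matrix.SpecialLinearGroup (Fin 3) F := ⟨P * Q2 * Z2, d2⟩
  refine ⟨u, v, ?_⟩
  have hPi : P⁻¹ * P = 1 := Matrix.nonsing_inv_mul P (isUnit_iff_ne_zero.2 hP)
  have hPi' : P * P⁻¹ = 1 := Matrix.mul_nonsing_inv P (isUnit_iff_ne_zero.2 hP)
  have e1 : (P * B * P⁻¹) * (u : M3 F) = (u : M3 F) * (X : M3 F) := by
    show (P * B * P⁻¹) * (P * Q1 * Z1) = P * Q1 * Z1 * (X : M3 F)
    calc (P * B * P⁻¹) * (P * Q1 * Z1) = P * B * (P⁻¹ * P) * Q1 * Z1 := by noncomm_ring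
      _ = P * (B * Q1) * Z1 := by rw [hPi]; noncomm_ring
      _ = P * Q1 * ((X : M3 F) * Z1) := by rw [hB]; noncomm_ring
      _ = P * Q1 * Z1 * (X : M3 F) := by rw [hZ1']; noncomm_ring
  have e2 : (P * C * P⁻¹) * (v : M3 F) = (v : M3 F) * (X : M3 F) := by
    show (P * C * P⁻¹) * (P * Q2 * Z2) = P * Q2 * Z2 * (X : M3 F)
    calc (P * C * P⁻¹) * (P * Q2 * Z2) = P * C * (P⁻¹ * P) * Q2 * Z2 := by noncomm_ring
      _ = P * (C * Q2) * Z2 := by rw [hPi]; noncomm_ring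
      _ = P * Q2 * ((X : M3 F) * Z2) := by rw [hC]; noncomm_ring
      _ = P * Q2 * Z2 * (X : M3 F) := by rw [hZ2']; noncomm_ring
  have f1 : (P * B * P⁻¹) = ((u * X * u⁻¹ : Matrix.SpecialLinearGroup (Fin 3) F) : M3 F) := by
    have hu : (u : M3 F) * ((u⁻¹ : Matrix.SpecialLinearGroup (Fin 3) F) : M3 F) = 1 := by
      rw [← Matrix.SpecialLinearGroup.coe_mul, mul_inv_cancel, Matrix.SpecialLinearGroup.coe_one]
    rw [Matrix.SpecialLinearGroup.coe_mul, Matrix.SpecialLinearGroup.coe_mul, ← e1]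
    exact (mul_one _).symm.trans ((congrArg (fun z => (P * B * P⁻¹) * z) hu.symm).trans
      (mul_assoc _ _ _).symm)
  have f2 : (P * C * P⁻¹) = ((v * X * v⁻¹ : Matrix.SpecialLinearGroup (Fin 3) F) : M3 F) := by
    have hu : (v : M3 F) * ((v⁻¹ : Matrix.SpecialLinearGroup (Fin 3) F) : M3 F) = 1 := by
      rw [← Matrix.SpecialLinearGroup.coe_mul, mul_inv_cancel, Matrix.SpecialLinearGroup.coe_one]
    rw [Matrix.SpecialLinearGroup.coe_mul, Matrix.SpecialLinearGroup.coe_mul, ← e2]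
    exact (mul_one _).symm.trans ((congrArg (fun z => (P * C * P⁻¹) * z) hu.symm).trans
      (mul_assoc _ _ _).symm)
  apply Subtype.ext
  rw [Matrix.SpecialLinearGroup.coe_mul, ← f1, ← f2]
  calc (A : M3 F) = (A : M3 F) * (P * P⁻¹) := by rw [hPi', mul_one]
    _ = P * (B * C) * P⁻¹ := by rw [← mul_assoc, h]
    _ = P * B * (P⁻¹ * P) * C * P⁻¹ := by rw [hPi]; noncomm_ring
    _ = P * B * P⁻¹ * (P * C * P⁻¹) := by noncomm_ring

/-- normal form of a nonscalar matrix -/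
theorem nf {F : Type*} [Field F] (A : M3 F) (hA : ∀ r : F, A ≠ Matrix.scalar (Fin 3) r) :
    ∃ (P : M3 F) (r2 r3 a b c d : F), P.det ≠ 0 ∧ A * P = P * !![1, r2, r3; 1, a, b; 0, c, d] := by
  classical
  have h1 : ∃ v : Fin 3 → F, crossProduct v (A *ᵥ v) ≠ 0 := by
    by_contra hcon
    push Not at hcon
    have e0 := hcon ![1, 0, 0]
    have e1 := hcon ![0, 1, 0]
    have e2 := hcon ![0, 0, 1]
    have e3 := hcon ![1, 1, 1]
    simp only [cross_apply, Matrix.mulVec, dotProduct, Fin.sum_univ_three, Matrix.cons_val_zero,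
      Matrix.cons_val_one, Matrix.cons_val_two, Matrix.head_cons, Matrix.tail_cons, Matrix.cons_val,
      mul_zero, mul_one, zero_mul, one_mul, add_zero, zero_add, sub_zero, zero_sub,
      funext_iff, Fin.forall_fin_succ, Pi.zero_apply, Fin.succ_zero_eq_one, Fin.succ_one_eq_two,
      IsEmpty.forall_iff, and_true] at e0 e1 e2 e3
    apply hA (A 0 0)
    have k1 : A 1 1 = A 0 0 := by linear_combination e3.2.2 - e0.2.2 + e2.1 - e1.2.2 + e2.2
    have k2 : A 2 2 = A 0 0 := by linear_combination -e3.2.1 - e1.2.2 + e2.2 + e0.2.1 - e1.1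
    ext i j
    fin_cases i <;> fin_cases j <;> simp_all [Matrix.scalar_apply]
  obtain ⟨v, hv⟩ := h1
  have h2 : ∃ k, crossProduct v (A *ᵥ v) k ≠ 0 := by
    by_contra hcon
    push Not at hcon
    exact hv (funext hcon)
  obtain ⟨k, hk⟩ := h2
  let P : M3 F := Matrix.of (fun i j => ![v i, (A *ᵥ v) i - v i, (Pi.single k (1 : F) : Fin 3 → F) i] j)
  have hP : P.det ≠ 0 := by
    have : P.det = crossProduct v (A *ᵥ v) k := by
      rw [Matrix.det_fin_three]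
      fin_cases k <;> simp [P, cross_apply] <;> ring
    rw [this]; exact hk
  have hu : IsUnit P.det := isUnit_iff_ne_zero.2 hP
  have h0 : ∀ i, (P⁻¹ * (A * P)) i 0 = ![1, 1, 0] i := by
    have e1 : A *ᵥ v = P *ᵥ ![1, 1, 0] := by
      funext i
      simp [P, Matrix.mulVec, dotProduct, Fin.sum_univ_three]
    have e2 : (P⁻¹ * (A * P)) *ᵥ (Pi.single 0 1) = ![1, 1, 0] := by
      rw [← Matrix.mulVec_mulVec, ← Matrix.mulVec_mulVec]
      have e3 : P *ᵥ (Pi.single 0 1) = v := by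
        funext i
        simp [P]
      rw [e3, e1, Matrix.mulVec_mulVec, Matrix.nonsing_inv_mul P hu, Matrix.one_mulVec]
    intro i
    have := congrFun e2 i
    simpa using this
  refine ⟨P, (P⁻¹ * (A * P)) 0 1, (P⁻¹ * (A * P)) 0 2, (P⁻¹ * (A * P)) 1 1, (P⁻¹ * (A * P)) 1 2,
    (P⁻¹ * (A * P)) 2 1, (P⁻¹ * (A * P)) 2 2, hP, ?_⟩
  have e : !![1, (P⁻¹ * (A * P)) 0 1, (P⁻¹ * (A * P)) 0 2; 1, (P⁻¹ * (A * P)) 1 1,
      (P⁻¹ * (A * P)) 1 2; 0, (P⁻¹ * (A * P)) 2 1, (P⁻¹ * (A * P)) 2 2] = P⁻¹ * (A * P) := by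
    ext i j
    have g0 := h0 0
    have g1 := h0 1
    have g2 := h0 2
    fin_cases i <;> fin_cases j <;> simp_all
  rw [e, ← mul_assoc, Matrix.mul_nonsing_inv P hu, one_mul]

theorem detC {F : Type*} [Field F] (r2 r3 p q u v μ : F) :
    ((!![1, r2, r3; 0, p, q; 0, u, v] : M3 F) - Matrix.scalar (Fin 3) μ).det =
      (1 - μ) * ((p - μ) * (v - μ) - q * u) := by
  rw [Matrix.det_fin_three]
  simp [Matrix.scalar_apply, -mul_eq_mul_left_iff, -mul_eq_mul_right_iff, -mul_eq_zero]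
  ring

theorem detB1 {F : Type*} [Field F] (t s β μ : F) :
    ((!![1, 0, 0; 1, t, β; 0, 0, s] : M3 F) - Matrix.scalar (Fin 3) μ).det =
      (1 - μ) * (t - μ) * (s - μ) := by
  rw [Matrix.det_fin_three]
  simp [Matrix.scalar_apply, -mul_eq_mul_left_iff, -mul_eq_mul_right_iff, -mul_eq_zero]

theorem detB2 {F : Type*} [Field F] (t s β μ : F) :
    ((!![1, 0, 0; 1, t, 0; 0, β, s] : M3 F) - Matrix.scalar (Fin 3) μ).det =
      (1 - μ) * (t - μ) * (s - μ) := by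
  rw [Matrix.det_fin_three]
  simp [Matrix.scalar_apply, -mul_eq_mul_left_iff, -mul_eq_mul_right_iff, -mul_eq_zero]

theorem det3 {F : Type*} [Field F] (r2 r3 a b c d : F) :
    (!![1, r2, r3; 1, a, b; 0, c, d] : M3 F).det = (a - r2) * d - (b - r3) * c := by
  rw [Matrix.det_fin_three]
  simp [-mul_eq_mul_left_iff, -mul_eq_mul_right_iff, -mul_eq_zero]
  ring

/-- the case of at least four elements, `c ≠ 0` -/
theorem big1 {F : Type*} [Field F] (t : F) (ht : t ≠ 0) (r2 r3 a b c d : F)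
    (hdet : (!![1, r2, r3; 1, a, b; 0, c, d] : M3 F).det = 1) (hc : c ≠ 0) :
    ∃ B C : M3 F, !![1, r2, r3; 1, a, b; 0, c, d] = B * C ∧
      (∀ μ : F, (μ - 1) * (μ - t) * (μ - t⁻¹) = 0 → (B - Matrix.scalar (Fin 3) μ).det = 0) ∧
      (∀ μ : F, (μ - 1) * (μ - t) * (μ - t⁻¹) = 0 → (C - Matrix.scalar (Fin 3) μ).det = 0) := by
  rw [det3] at hdet
  have htt : t * t⁻¹ = 1 := mul_inv_cancel₀ ht
  obtain ⟨β, hβ⟩ : ∃ β, β * c = t⁻¹ * (a - r2) + t * d - t - t⁻¹ :=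
    ⟨_ / c, div_mul_cancel₀ _ hc⟩
  refine ⟨!![1, 0, 0; 1, t, β; 0, 0, t⁻¹],
    !![1, r2, r3; 0, t⁻¹ * (a - r2) - β * c, t⁻¹ * (b - r3) - β * d; 0, t * c, t * d], ?_, ?_, ?_⟩
  · ext i j
    fin_cases i <;> fin_cases j <;>
      simp [Matrix.mul_apply, Fin.sum_univ_three, -mul_eq_mul_left_iff, -mul_eq_mul_right_iff] <;>
      field_simp <;> ring
  · intro μ hμ
    rw [detB1]
    linear_combination (-1 : F) * hμ
  · intro μ hμ
    rw [detC]
    linear_combination (-1 : F) * hμ + (1 - μ) * hdet + (1 - μ) * μ * hβ + (1 - μ) * (μ ^ 2 * 0 + ((a - r2) * d - (b - r3) * c) - 1) * htt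

/-- the case of at least four elements, upper entry nonzero -/
theorem big2 {F : Type*} [Field F] (t : F) (ht : t ≠ 0) (r2 r3 a b c d : F)
    (hdet : (!![1, r2, r3; 1, a, b; 0, c, d] : M3 F).det = 1) (hc : b - r3 ≠ 0) :
    ∃ B C : M3 F, !![1, r2, r3; 1, a, b; 0, c, d] = B * C ∧
      (∀ μ : F, (μ - 1) * (μ - t) * (μ - t⁻¹) = 0 → (B - Matrix.scalar (Fin 3) μ).det = 0) ∧
      (∀ μ : F, (μ - 1) * (μ - t) * (μ - t⁻¹) = 0 → (C - Matrix.scalar (Fin 3) μ).det = 0) := by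
  rw [det3] at hdet
  have htt : t * t⁻¹ = 1 := mul_inv_cancel₀ ht
  obtain ⟨β, hβ⟩ : ∃ β, β * (b - r3) = t⁻¹ * (a - r2) + t * d - t - t⁻¹ :=
    ⟨_ / (b - r3), div_mul_cancel₀ _ hc⟩
  refine ⟨!![1, 0, 0; 1, t, 0; 0, β, t⁻¹],
    !![1, r2, r3; 0, t⁻¹ * (a - r2), t⁻¹ * (b - r3); 0, -β * (a - r2) + t * c,
      -β * (b - r3) + t * d], ?_, ?_, ?_⟩
  · ext i j
    fin_cases i <;> fin_cases j <;>
      simp [Matrix.mul_apply, Fin.sum_univ_three, -mul_eq_mul_left_iff, -mul_eq_mul_right_iff] <;>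
      field_simp <;> ring
  · intro μ hμ
    rw [detB2]
    linear_combination (-1 : F) * hμ
  · intro μ hμ
    rw [detC]
    linear_combination (-1 : F) * hμ + (1 - μ) * hdet + (1 - μ) * μ * hβ + (1 - μ) * (((a - r2) * d - (b - r3) * c) - 1) * htt

theorem big {F : Type*} [Field F] (t : F) (ht : t ≠ 0) (r2 r3 a b c d : F)
    (hdet : (!![1, r2, r3; 1, a, b; 0, c, d] : M3 F).det = 1) :
    ∃ P B C : M3 F, P.det ≠ 0 ∧ !![1, r2, r3; 1, a, b; 0, c, d] * P = P * (B * C) ∧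
      (∀ μ : F, (μ - 1) * (μ - t) * (μ - t⁻¹) = 0 → (B - Matrix.scalar (Fin 3) μ).det = 0) ∧
      (∀ μ : F, (μ - 1) * (μ - t) * (μ - t⁻¹) = 0 → (C - Matrix.scalar (Fin 3) μ).det = 0) := by
  by_cases hc : c = 0
  · by_cases hb : b - r3 = 0
    · have hd : d ≠ 0 := by
        rintro rfl
        rw [det3, hc] at hdet
        simp at hdet
      have hdet' : (!![1, r2, r3 + (1 - d); 1, a, b + 1; 0, c, d] : M3 F).det = 1 := by
        rw [det3] at hdet ⊢
        rw [← hdet, hc]; ring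
      obtain ⟨B, C, h1, h2, h3⟩ := big2 t ht r2 (r3 + (1 - d)) a (b + 1) c d hdet' (by
        intro h; apply hd; linear_combination h - hb)
      refine ⟨!![1, 0, 1; 0, 1, 0; 0, 0, 1], B, C, ?_, ?_, h2, h3⟩
      · rw [Matrix.det_fin_three]; simp
      · rw [← h1, hc]
        ext i j
        fin_cases i <;> fin_cases j <;>
          simp [Matrix.mul_apply, Fin.sum_univ_three] <;> ring
    · obtain ⟨B, C, h1, h2, h3⟩ := big2 t ht r2 r3 a b c d hdet hb
      exact ⟨1, B, C, by simp, by rw [h1, mul_one, one_mul], h2, h3⟩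
  · obtain ⟨B, C, h1, h2, h3⟩ := big1 t ht r2 r3 a b c d hdet hc
    exact ⟨1, B, C, by simp, by rw [h1, mul_one, one_mul], h2, h3⟩

/-- the case of at least four elements -/
theorem caseBig {F : Type*} [Field F] (t : F) (ht : t ≠ 0) (ht1 : t ≠ 1) (ht2 : t ≠ t⁻¹) :
    ∃ X : Matrix.SpecialLinearGroup (Fin 3) F, (X : M3 F) = Matrix.diagonal ![1, t, t⁻¹] ∧
      ∀ A : Matrix.SpecialLinearGroup (Fin 3) F, (∀ r : F, (A : M3 F) ≠ Matrix.scalar (Fin 3) r) →
        ∃ u v : Matrix.SpecialLinearGroup (Fin 3) F, A = (u * X * u⁻¹) * (v * X * v⁻¹) := by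
  have hX : (Matrix.diagonal ![1, t, t⁻¹] : M3 F).det = 1 := by
    rw [Matrix.det_diagonal, Fin.prod_univ_three]
    simp [ht]
  refine ⟨⟨Matrix.diagonal ![1, t, t⁻¹], hX⟩, rfl, ?_⟩
  intro A hA
  obtain ⟨P, r2, r3, a, b, c, d, hP, hPA⟩ := nf (A : M3 F) hA
  have hdet : (!![1, r2, r3; 1, a, b; 0, c, d] : M3 F).det = 1 := by
    have := congrArg Matrix.det hPA
    rw [Matrix.det_mul, Matrix.det_mul, A.2, one_mul] at this
    exact (mul_right_eq_self₀.1 this.symm).resolve_right hP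
  obtain ⟨P', B, C, hP', h1, h2, h3⟩ := big t ht r2 r3 a b c d hdet
  have ht1' : t⁻¹ ≠ 1 := by
    intro h; exact ht1 (by rw [← inv_inv t, h, inv_one])
  have hinj : Function.Injective ![1, t, t⁻¹] := by
    intro i j hij
    fin_cases i <;> fin_cases j
    · rfl
    · exact absurd hij.symm ht1
    · exact absurd hij.symm ht1'
    · exact absurd hij ht1
    · rfl
    · exact absurd hij ht2
    · exact absurd hij ht1'
    · exact absurd hij.symm ht2
    · rfl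
  have hroot : ∀ i, ((![1, t, t⁻¹] : Fin 3 → F) i - 1) * ((![1, t, t⁻¹] : Fin 3 → F) i - t) *
      ((![1, t, t⁻¹] : Fin 3 → F) i - t⁻¹) = 0 := by
    intro i
    fin_cases i <;> simp
  obtain ⟨Q1, hQ1, hQ1'⟩ := diag_of B ![1, t, t⁻¹] hinj (fun i => h2 _ (hroot i))
  obtain ⟨Q2, hQ2, hQ2'⟩ := diag_of C ![1, t, t⁻¹] hinj (fun i => h3 _ (hroot i))
  refine asm _ ?_ A (P * P') Q1 Q2 B C (by rw [Matrix.det_mul]; exact mul_ne_zero hP hP') hQ1 hQ2
    ?_ hQ1' hQ2'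
  · intro δ hδ
    refine ⟨Matrix.diagonal ![δ, 1, 1], ?_, ?_⟩
    · rw [Matrix.det_diagonal, Fin.prod_univ_three]
      simp
    · show Matrix.diagonal ![1, t, t⁻¹] * _ = _ * Matrix.diagonal ![1, t, t⁻¹]
      rw [Matrix.diagonal_mul_diagonal, Matrix.diagonal_mul_diagonal]
      congr 1
      funext i
      exact mul_comm _ _
  · rw [← mul_assoc, hPA, mul_assoc, h1, mul_assoc]

/-! the case of three elements -/

def TT : ℕ := 0x5582f24cfddfea72c3d30f04c74efb6537052c19b359b1bc68e5162285a705af3fab1356e9b928cb46bad43b783e23ac25ce17552ceed739636a046dfdfe103663b4083d9934cc5a7d11223602f9bab4b9a3b4664d4b73180712f4b7fa21699c2700c7f7853ad9047cc0aaa0b9febfd227a9a65b916be9a52f4d64edf0f2ae1d13dc30d06ee5bc346c9fa388696600db5f2518e2b172a3f60e47e6a6409511336bbd2778d95467be3565d9a487ef943d217ee9acfd682a75e212cb6e99e49203d80118ef54136dc2d6d736b27376e26b928df4e6bd2f9b31f9749e9039b4858ece28c2480a77bc39efb0a39dead594bb52456b78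a4591e32ecc59749bf81c0d92e82c867da1fe0422816f01455f02d25f2d69d267bf598200565e5e42b3e319fd17aea96ad58349315bfb632bd0966897983fa3184aaae1f32fb5f30366bddc4004d4e75d5f165de00274efe8d41aab8b2d1e5b3dd73c4f3134ecd32225f023e3b7fd31bb36fc2aee71d7ccb109e855f1152ec3943b8a5e502ba61cbe7498b6df4c17996cd53eb6ee9f18a16396b9503b2581831ea2bdfae7d2244f57acbf1966869931233e8de4eabb98aff7612279666b3132b0dbc62d3ff98712bacd606b0d13b84de30dc79bb520792a982d807ee5fd8b0f66dd55c366d6eca931b37d63e6160cad7deccdc3e5aff2c119a6ec4974e3e5d45dec7c6d45984db26454b827e812b138566ef8c7e71b3cea3f74a2fcb40ec09fa20ad215ea55bbc2f34ee2e1faa319b173c128a7ad2787d4a12a9339a35a1ab617baf3bcdf3e2f07950d6c328fe3e626d3ac4a83271855c09620b655376cb19bcbabb83c0f33b770c2e036966877641ec4caadfc136633935b1dd22f3d053bd96c724a412b2b9a66fd6a75faccdf967847feb3c69d9f0070ff4678826d97671d569e2fc4cd7c5f9a70846ef6719a3cfdc63fc686e8134755ec809fff5620668653cb3244918edc58409df22abc7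76623b2270eef6ae3458e65a2ac2407bbd35049e948ea3d6e0f3b2acd7ca6fd9fb4aae677c195e346088c52918c943daf36362b3a37a11ff7cc9fd14b65f5a2579f741c7977fe12bf1db4374dc15c6a67d5aec77093c48e628d65bfd77a661307cef86a5969fe76d104180e39b4994520dfaa33c6e2e22b81443577898d576bc131b0b9b2b5ea63e1182046f48fc531ec89ddd187d88648b9f7dca9ef66fe796bcdc205dfe950057bb224e02339e1b929845212d17f1062ac62efc143c3939ec3a6a0f1681bba0fc75a6dd45fc582efcb1ad7b8a4378ac0ae08b360f7121dd08badfe5442a67fe38712699931b9a353f1794d56a66623721b7deea424fc086e3a721902636d76b00c0f8d214eee64301f534401da075c6e54b791742b68f201131fc115b3b96950e263887ec951c4ce8ecb105ba8e6667b738de3f6e5e30452b073b4924ace976de6d58f0be56199f2147dd0e96c4c407425ec0b4b2bf732233594aaeca65978a14a972bec39acc1b1bd37bdd95c893149be8e2b5b992de265de591a51361c65113aeb14728a5c7722a0380391055322b236479986d66ccd98ff3dcc413f287c7070298b0b8de0b3f63dc4136803291f082ccb912aca0d8e2f0c7dca8a2459637ed20dd4c441e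9fc0926629d10a335219b574f24e9d91df80911e90bcf769e614bb5e3501d40c4155a643d8f948d7f1010893b729c0b1f6d88e490ef702ccab311946fd34a935aaa617265d4ab6538e1a693f13ca67f6625a17ef0f68dc683e00c8ad7aec906c279d2c72ad63b84e9b7ebbf63a85c89dafaa2156fb76eb65ae68d986facb6062863c770e4b8b90d068afb0925c1a875ab25debf4ae0bc89c46b909e427fafe147c97d1655afcf6a02d13b9796c499e7af1fabf17a66ab64ada9403c14be8553376a0f728437215938509f2b4a450e16121033af5c7104ae42ade6c4a85eaa45cf851717abd7ef8e0f81036fa22bd47cd8db2bc7272bfe5708d63c1fc333dee72a148ffcc558e4625440277c66d555750ed4d6aee28e85e8a315f5fe9b827f52f4f45174abcc934d6cc32bcab088b339ba64e902b22ca8cef6feb6b0f1f8b6360b96d9a7ddd52b208a2733e2b833f3b93a47e9568c8164fa11dcb2ebc8ae5f098327bdb752052396c7491c077e570479891ba391b15a46a2f2ab4dde013e7aba97655f0109e8bb823785e7c6ef3143c7626799a5ff86873180567e68d51360c3fa6444d54e7b7dbe1e61e5769a09cdd6c01034fd7ebe409a9bc33ff2771e72ea046dc49e0aea543306f8216541e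693968d1842112d40f7f472828d9a20c9a56947b52d31a36491bf3224280fe8f3dce56f5a6c1f69bc388ece9a7651b767ce89b0762a59ce41131da6166ea5e2bb525badf3e8a08d1c41eaa9575db0899ef0855991fa5a6a85500efea87ee2bf8b51cbd9d89c2227c01ab16ab09b619ef8dba966326727b390814db76102f80d11d58ebb8ff1a1ae34789718d90c3c386611a4e76d9b70c80bd3380b94e93add181f2e87d1224b41c723f39a858a1c983398fbbe06572937fd7811efb12aa4f26287798033867432096ebb8a24c71b45ac5e4f4016ab35df3689a3883aa2b28eb0132e9116634bdf8b4d6da092ae6087a4cb7d1b1f65b53d26f3a00bc2c6b66aa7d2ce239257e369306b3d5d465357ebeace03aaf25b2ab3120b1905d02ef2e048135c7d9d4a9068ee626b37dd4e97b77255caa9895d73bc4b1000e92b37cf2ea50737c41ee3a97eeb04c857e9a2e02a53e4dba2f4b009381f48abbd545f9c9fd83776c7ec151530de083f74b844cbcd7942c275b032e686e2827f1d0ee2a4b3e3ff16d31370277224adafe66ca98dedd4824c65f88ad81bf28e77d4b48ec88c78dc92b1d7ad3602399d77320ac6c3bb1fe871d83383bfbebaa5b6b4e607b013cc284f59d5049b58aa25522e9f0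115a7e4fb927fc03c45c72195341ed8de6dcb095fae265f214f172e404ebab5ea99402bbeb5edc6e6899cdc10527036c91408bc398011dc86b7242f01b0be51881033fb9e29d0e48e6fd6ba3f1f5de47203a255042d7bbbd11e9e27fcca11308591dbf0d8e853b56b7ec7c41cd9a88b2983bec3991b9573f3583d58f7c39e6c249d2f0d480e4ef41d30af37312a52c282f2caa8c88785f25452c5b36b34430e52cd2a92eb99fffedc6c80c31bfba035116a6502908a7190c56aa8606e5b86bb71a16ea60f8188feb327a8590b7a134f2fa7847759a86c8c084aa98d57f40f8ab1dbac2c1ef45d65c482d3f3efb12d4643ea592b55256e24006a55c39d1282289a19f07935a988a770e135bdf2920d0ca1badc7db2f89a9c07be7c3d900c75130272c8af4c6dba1e530db3f9a029b2c7a3464f5e013a668374b98b1bbfd0e5ccd9aff8a8fbeebaf6367b54be2258b1c94148e38a50ec8f3db85b0ba5171a3c71e1cd26dbbfd39ec80c63e9dcfbb8ea1e8bfeeb9110e368069a32d07239dc170a3d19b52d61644865d9fa8cff31bd93a59214000019c8f1574da2d436201910b3801a401f51aba4d2fde3828b0bab75e749011c47a2565ed9df9e1d0cff874150cc21e9925593aed7491e5813ba10d7dfebbe7d783c5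

def dg (n : ℕ) (k : ℕ) : Fin 3 := ⟨n / 3 ^ k % 3, Nat.mod_lt _ (by decide)⟩

def mk9 (n : ℕ) : Fin 3 → Fin 3 → Fin 3 := fun i j => dg n (3 * i.1 + j.1)

def mm (A B : Fin 3 → Fin 3 → Fin 3) : Fin 3 → Fin 3 → Fin 3 := fun i j =>
  A i 0 * B 0 j + A i 1 * B 1 j + A i 2 * B 2 j

def dd (A : Fin 3 → Fin 3 → Fin 3) : Fin 3 :=
  A 0 0 * A 1 1 * A 2 2 - A 0 0 * A 1 2 * A 2 1 - A 0 1 * A 1 0 * A 2 2 + A 0 1 * A 1 2 * A 2 0 +
    A 0 2 * A 1 0 * A 2 1 - A 0 2 * A 1 1 * A 2 0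

def xx : Fin 3 → Fin 3 → Fin 3 := mk9 (1 * 3 ^ 2 + 1 * 3 ^ 4 + 2 * 3 ^ 6)

def aa (r2 r3 a b c d : Fin 3) : Fin 3 → Fin 3 → Fin 3 :=
  mk9 (1 + r2.1 * 3 + r3.1 * 3 ^ 2 + 3 ^ 3 + a.1 * 3 ^ 4 + b.1 * 3 ^ 5 + c.1 * 3 ^ 7 + d.1 * 3 ^ 8)

def entry (r2 r3 a b c d : Fin 3) : ℕ :=
  TT / 3 ^ (18 * (((((r2.1 * 3 + r3.1) * 3 + a.1) * 3 + b.1) * 3 + c.1) * 3 + d.1)) % 3 ^ 18

def chk (r2 r3 a b c d : Fin 3) : Bool :=
  let e := entry r2 r3 a b c d
  let U := mk9 (e % 3 ^ 9)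
  let W := mk9 (e / 3 ^ 9)
  let A := aa r2 r3 a b c d
  (dd A != 1) || ((dd U == 1) && (dd W == 1) &&
    (List.finRange 3).all fun i => (List.finRange 3).all fun j =>
      mm A (mm U W) i j == mm U (mm (mm xx W) xx) i j)

theorem chk_all : ∀ r2 r3 a b c d : Fin 3, chk r2 r3 a b c d = true := by
  decide +kernel

def toM (f : Fin 3 → Fin 3 → Fin 3) : M3 (ZMod 3) := Matrix.of f

theorem mm_eq (f g : Fin 3 → Fin 3 → Fin 3) : toM (mm f g) = toM f * toM g := by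
  ext i j
  rw [Matrix.mul_apply, Fin.sum_univ_three]
  rfl

theorem dd_eq (f : Fin 3 → Fin 3 → Fin 3) : (toM f).det = dd f := by
  rw [Matrix.det_fin_three]
  rfl

theorem aa_eq : ∀ (r2 r3 a b c d : Fin 3) (i j : Fin 3),
    aa r2 r3 a b c d i j = (![![1, r2, r3], ![1, a, b], ![0, c, d]] : Fin 3 → Fin 3 → Fin 3) i j := by
  decide +kernel

theorem ddxx : dd xx = 1 := by decide +kernel

theorem xx4 : ∀ i j, mm (mm xx xx) (mm xx xx) i j = (if i = j then 1 else 0 : Fin 3) := by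
  decide +kernel

def X3 : Matrix.SpecialLinearGroup (Fin 3) (ZMod 3) := ⟨toM xx, by rw [dd_eq]; exact ddxx⟩

theorem X3_pow : X3 ^ 4 = 1 := by
  apply Subtype.ext
  have h : (X3 ^ 4 : Matrix.SpecialLinearGroup (Fin 3) (ZMod 3)) = (X3 * X3) * (X3 * X3) := by
    rw [show 4 = 2 + 2 from rfl, pow_add, pow_two]
  rw [h]
  show (toM xx * toM xx) * (toM xx * toM xx) = 1
  rw [← mm_eq, ← mm_eq]
  ext i j
  have := xx4 i j
  show mm (mm xx xx) (mm xx xx) i j = (1 : M3 (ZMod 3)) i j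
  rw [this, Matrix.one_apply]
  rfl

theorem case3 (A : Matrix.SpecialLinearGroup (Fin 3) (ZMod 3))
    (hA : ∀ r : ZMod 3, (A : M3 (ZMod 3)) ≠ Matrix.scalar (Fin 3) r) :
    ∃ u v : Matrix.SpecialLinearGroup (Fin 3) (ZMod 3), A = (u * X3 * u⁻¹) * (v * X3 * v⁻¹) := by
  haveI : Fact (Nat.Prime 3) := ⟨Nat.prime_three⟩
  obtain ⟨P, r2, r3, a, b, c, d, hP, hPA⟩ := nf (A : M3 (ZMod 3)) hA
  have hdet : (!![1, r2, r3; 1, a, b; 0, c, d] : M3 (ZMod 3)).det = 1 := by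
    have := congrArg Matrix.det hPA
    rw [Matrix.det_mul, Matrix.det_mul, A.2, one_mul] at this
    exact (mul_right_eq_self₀.1 this.symm).resolve_right hP
  have haa : toM (aa r2 r3 a b c d) = !![1, r2, r3; 1, a, b; 0, c, d] := by
    ext i j
    have := aa_eq r2 r3 a b c d i j
    exact this
  have hchk := chk_all r2 r3 a b c d
  unfold chk at hchk
  set e := entry r2 r3 a b c d
  have hdd : dd (aa r2 r3 a b c d) = 1 := by
    rw [← dd_eq, haa]; exact hdet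
  simp only [hdd, bne_self_eq_false, Bool.false_or, Bool.and_eq_true, beq_iff_eq,
    List.all_eq_true, List.mem_finRange, forall_true_left] at hchk
  obtain ⟨⟨hU, hW⟩, hE⟩ := hchk
  let u : Matrix.SpecialLinearGroup (Fin 3) (ZMod 3) := ⟨toM (mk9 (e % 3 ^ 9)), by
    rw [dd_eq]; exact hU⟩
  let w : Matrix.SpecialLinearGroup (Fin 3) (ZMod 3) := ⟨toM (mk9 (e / 3 ^ 9)), by
    rw [dd_eq]; exact hW⟩
  let A' : Matrix.SpecialLinearGroup (Fin 3) (ZMod 3) := ⟨!![1, r2, r3; 1, a, b; 0, c, d], hdet⟩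
  have hE' : A' * (u * w) = u * (X3 * w * X3) := by
    apply Subtype.ext
    show !![1, r2, r3; 1, a, b; 0, c, d] * (toM (mk9 (e % 3 ^ 9)) * toM (mk9 (e / 3 ^ 9))) =
      toM (mk9 (e % 3 ^ 9)) * (toM xx * toM (mk9 (e / 3 ^ 9)) * toM xx)
    rw [← haa, ← mm_eq, ← mm_eq, ← mm_eq, ← mm_eq, ← mm_eq]
    ext i j
    exact hE i j
  have hA' : A' = (u * X3 * u⁻¹) * ((u * w) * X3 * (u * w)⁻¹) := by
    have : A' = A' * (u * w) * (u * w)⁻¹ := by group
    rw [this, hE']; group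
  have inv1 : ∀ z : Matrix.SpecialLinearGroup (Fin 3) (ZMod 3), (z : M3 (ZMod 3)).det ≠ 0 := by
    intro z; rw [z.2]; exact one_ne_zero
  have cj : ∀ z : Matrix.SpecialLinearGroup (Fin 3) (ZMod 3),
      ((z * X3 * z⁻¹ : Matrix.SpecialLinearGroup (Fin 3) (ZMod 3)) : M3 (ZMod 3)) *
        (z : M3 (ZMod 3)) = (z : M3 (ZMod 3)) * (X3 : M3 (ZMod 3)) := by
    intro z
    rw [← Matrix.SpecialLinearGroup.coe_mul, ← Matrix.SpecialLinearGroup.coe_mul,
      inv_mul_cancel_right]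
  refine asm X3 ?_ A P (u : M3 (ZMod 3)) ((u * w : Matrix.SpecialLinearGroup (Fin 3) (ZMod 3)) :
    M3 (ZMod 3)) ((u * X3 * u⁻¹ : Matrix.SpecialLinearGroup (Fin 3) (ZMod 3)) : M3 (ZMod 3))
    (((u * w) * X3 * (u * w)⁻¹ : Matrix.SpecialLinearGroup (Fin 3) (ZMod 3)) : M3 (ZMod 3))
    hP (inv1 _) (inv1 _) ?_ (cj _) (cj _)
  · intro δ hδ
    refine ⟨Matrix.scalar (Fin 3) δ, ?_, ?_⟩
    · rw [Matrix.scalar_apply, Matrix.det_diagonal, Fin.prod_univ_three]
      have : ∀ δ : Fin 3, δ * δ * δ = δ := by decide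
      exact this δ
    · exact (Matrix.scalar_commute δ (fun r => mul_comm _ _) _).eq.symm
  · rw [← Matrix.SpecialLinearGroup.coe_mul, ← hA', hPA]

theorem core {F : Type*} [Field F] [Fintype F] (p : ℕ) [Fact p.Prime] [CharP F p]
    (h3 : 3 ≤ Fintype.card F) :
    ∃ (X : Matrix.SpecialLinearGroup (Fin 3) F) (m : ℕ), ¬ p ∣ m ∧ X ^ m = 1 ∧
      ∀ A : Matrix.SpecialLinearGroup (Fin 3) F, (∀ r : F, (A : M3 F) ≠ Matrix.scalar (Fin 3) r) →
        ∃ u v : Matrix.SpecialLinearGroup (Fin 3) F, A = (u * X * u⁻¹) * (v * X * v⁻¹) := by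
  classical
  have hpd : p ∣ Fintype.card F := by
    obtain ⟨n, -, hn⟩ := FiniteField.card F p
    rw [hn]; exact dvd_pow_self _ n.ne_zero
  rcases Nat.lt_or_ge 3 (Fintype.card F) with h | h
  · obtain ⟨t, ht⟩ : ∃ t : F, t ∉ ({0, 1, -1} : Finset F) := by
      by_contra hcon
      push Not at hcon
      have h1 : (Finset.univ : Finset F) ⊆ {0, 1, -1} := fun t _ => hcon t
      have h2 := Finset.card_le_card h1
      have h4 : ({0, 1, -1} : Finset F).card ≤ 3 := Finset.card_le_three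
      rw [Finset.card_univ] at h2
      omega
    simp only [Finset.mem_insert, Finset.mem_singleton, not_or] at ht
    obtain ⟨t0, t1, t2⟩ := ht
    obtain ⟨X, hX, hX'⟩ := caseBig t t0 t1 (by
      intro h
      have h5 : t * t = 1 := by
        nth_rw 2 [h]; exact mul_inv_cancel₀ t0
      rcases mul_self_eq_one_iff.1 h5 with h6 | h6
      · exact t1 h6
      · exact t2 h6)
    refine ⟨X, Fintype.card F - 1, ?_, ?_, hX'⟩
    · intro hd
      have := (Nat.dvd_sub hpd hd)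
      rw [Nat.sub_sub_self (by omega)] at this
      exact (Fact.out : p.Prime).one_lt.ne' (Nat.dvd_one.1 this)
    · apply Subtype.ext
      rw [Matrix.SpecialLinearGroup.coe_pow, hX, Matrix.diagonal_pow,
        Matrix.SpecialLinearGroup.coe_one, ← Matrix.diagonal_one]
      congr 1
      funext i
      fin_cases i
      · exact one_pow _
      · exact FiniteField.pow_card_sub_one_eq_one t t0
      · exact FiniteField.pow_card_sub_one_eq_one t⁻¹ (inv_ne_zero t0)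
  · have hc : Fintype.card F = 3 := le_antisymm h h3
    have hp3 : p = 3 := (Nat.prime_dvd_prime_iff_eq Fact.out Nat.prime_three).1 (hc ▸ hpd)
    let e : ZMod 3 ≃+* F := ZMod.ringEquivOfPrime F Nat.prime_three hc
    let f : Matrix.SpecialLinearGroup (Fin 3) (ZMod 3) →* Matrix.SpecialLinearGroup (Fin 3) F :=
      Matrix.SpecialLinearGroup.map (e : ZMod 3 →+* F)
    refine ⟨f X3, 4, by rw [hp3]; decide, by rw [← map_pow, X3_pow, map_one], ?_⟩
    intro A hA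
    let A0 : Matrix.SpecialLinearGroup (Fin 3) (ZMod 3) :=
      Matrix.SpecialLinearGroup.map (e.symm : F →+* ZMod 3) A
    have hf : f A0 = A := by
      apply Subtype.ext
      ext i j
      show e (e.symm ((A : M3 F) i j)) = (A : M3 F) i j
      exact e.apply_symm_apply _
    obtain ⟨u, v, huv⟩ := case3 A0 (by
      intro r hr
      apply hA (e r)
      have h7 : (A : M3 F) = ((f A0 : Matrix.SpecialLinearGroup (Fin 3) F) : M3 F) := by rw [hf]
      have h8 : ((f A0 : Matrix.SpecialLinearGroup (Fin 3) F) : M3 F) =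
        (A0 : M3 (ZMod 3)).map e := rfl
      rw [h7, h8, hr]
      ext i j
      simp only [Matrix.map_apply, Matrix.scalar_apply, Matrix.diagonal_apply]
      split_ifs <;> simp)
    exact ⟨f u, f v, by rw [← hf, huv]; simp only [map_mul, map_inv]⟩

/-- A form of Thompson's conjecture for PSL(3,q), q > 2 (covering the non-identity elements), with a semisimple class: for F a finite field of characteristic p with more than 2 elements there is an element x of PSL(3,F) of order prime to p such that every non-identity element of PSL(3,F) is a product of two conjugates of x. -/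
theorem result {F : Type*} [Field F] [Fintype F] (p : ℕ) [Fact p.Prime] [CharP F p] (h3 : 3 ≤ Fintype.card F) :
    ∃ x : Matrix.ProjectiveSpecialLinearGroup (Fin 3) F, ¬ p ∣ orderOf x ∧ ∀ g : Matrix.ProjectiveSpecialLinearGroup (Fin 3) F, g ≠ 1 → ∃ u v : Matrix.ProjectiveSpecialLinearGroup (Fin 3) F, g = (u * x * u⁻¹) * (v * x * v⁻¹) := by
  obtain ⟨X, m, hm, hXm, hX⟩ := core (F := F) p h3
  refine ⟨QuotientGroup.mk X, ?_, ?_⟩
  · intro hd
    apply hm
    refine hd.trans (orderOf_dvd_of_pow_eq_one ?_)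
    rw [← QuotientGroup.mk_pow, hXm]; rfl
  · intro g hg
    obtain ⟨A, rfl⟩ := QuotientGroup.mk_surjective g
    obtain ⟨u, v, huv⟩ := hX A (by
      intro r hr
      apply hg
      rw [QuotientGroup.eq_one_iff, Matrix.SpecialLinearGroup.mem_center_iff]
      refine ⟨r, ?_, hr.symm⟩
      have := A.2
      rw [hr, Matrix.scalar_apply, Matrix.det_diagonal, Finset.prod_const, Finset.card_univ] at this
      exact this)
    exact ⟨QuotientGroup.mk u, QuotientGroup.mk v, by rw [huv]; rfl⟩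

end Cfsg.Agent.S2459
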