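import Cfsg.Statements.S2477
import Mathlib
import Cfsg.Agent.H8.Alt

set_option autoImplicit false
open Cfsg

namespace Cfsg.Agent.S2477



/-- The set of element orders of the alternating group of degree 10 is {1, 2, 3, 4, 5, 6, 7, 8, 9, 10, 12, 15, 21}. -/
theorem result : Set.range (orderOf : alternatingGroup (Fin 10) → ℕ) = {1, 2, 3, 4, 5, 6, 7, 8, 9, 10, 12, 15, 21} := by
  apply Set.Subset.antisymm
  · rintro m ⟨σ, rfl⟩
    obtain ⟨l, hl, -, hord, hsg⟩ := Cfsg.Agent.H8.exists_list_type (σ : Equiv.Perm (Fin 10))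
    have h1 : Equiv.Perm.sign (σ : Equiv.Perm (Fin 10)) = 1 := Equiv.Perm.mem_alternatingGroup.1 σ.2
    have key : ∀ l ∈ Cfsg.Agent.H8.enumParts 10 10 10, (-1 : ℤˣ) ^ (l.sum + l.length) = 1 →
        l.foldr Nat.lcm 1 ∈ [1, 2, 3, 4, 5, 6, 7, 8, 9, 10, 12, 15, 21] := by decide +kernel
    have h2 := key l hl (by rw [← hsg, h1])
    rw [← hord, Subgroup.orderOf_coe] at h2
    simpa using h2
  · intro m hm
    simp only [Set.mem_insert_iff, Set.mem_singleton_iff] at hm
    rcases hm with rfl | rfl | rfl | rfl | rfl | rfl | rfl | rfl | rfl | rfl | rfl | rfl | rfl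
    · exact Cfsg.Agent.H8.exists_alt_of_list (n := 10) [] (by decide) (by decide) (by decide)
    · exact Cfsg.Agent.H8.exists_alt_of_list (n := 10) [2, 2] (by decide) (by decide) (by decide)
    · exact Cfsg.Agent.H8.exists_alt_of_list (n := 10) [3] (by decide) (by decide) (by decide)
    · exact Cfsg.Agent.H8.exists_alt_of_list (n := 10) [4, 2] (by decide) (by decide) (by decide)
    · exact Cfsg.Agent.H8.exists_alt_of_list (n := 10) [5] (by decide) (by decide) (by decide)
    · exact Cfsg.Agent.H8.exists_alt_of_list (n := 10) [3, 2, 2] (by decide) (by decide) (by decide)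
    · exact Cfsg.Agent.H8.exists_alt_of_list (n := 10) [7] (by decide) (by decide) (by decide)
    · exact Cfsg.Agent.H8.exists_alt_of_list (n := 10) [8, 2] (by decide) (by decide) (by decide)
    · exact Cfsg.Agent.H8.exists_alt_of_list (n := 10) [9] (by decide) (by decide) (by decide)
    · exact Cfsg.Agent.H8.exists_alt_of_list (n := 10) [5, 2, 2] (by decide) (by decide) (by decide)
    · exact Cfsg.Agent.H8.exists_alt_of_list (n := 10) [4, 3, 2] (by decide) (by decide) (by decide)
    · exact Cfsg.Agent.H8.exists_alt_of_list (n := 10) [5, 3] (by decide) (by decide) (by decide)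
    · exact Cfsg.Agent.H8.exists_alt_of_list (n := 10) [7, 3] (by decide) (by decide) (by decide)

end Cfsg.Agent.S2477
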