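import Cfsg.Statements.S2809
import Cfsg.Agent.H6.PMin2

set_option autoImplicit false
open Cfsg

namespace Cfsg.Agent.S2809

open Subgroup Agent.H6 in
theorem main {H : Type*} [Group H] [Finite H] {p : ℕ} [hp : Fact p.Prime] (R : Subgroup H) (hR : IsPGroup p ↥R) (hC : Subgroup.centralizer (R : Set H) ≤ R) (L : Subgroup H) (hL : L ≤ Subgroup.normalizer (R : Set H)) (hnil : ∃ n : ℕ, Cfsg.iterCommutator R L n = ⊥) : IsPGroup p ↥L := by
  obtain ⟨n, hn⟩ := hnil
  have key : ∀ x ∈ L, (orderOf x).Coprime p → x = 1 := by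
    intro x hx hxo
    have hcop : (Nat.card ↥(zpowers x)).Coprime (Nat.card ↥R) := by
      rw [Nat.card_zpowers]
      obtain ⟨k, hk⟩ := IsPGroup.iff_card.1 hR
      rw [hk]; exact hxo.pow_right k
    have hxL : zpowers x ≤ L := by rw [zpowers_le]; exact hx
    have h1 := L0.commutator_commutator_eq (hxL.trans hL) hcop (Or.inr (by haveI := hR.isNilpotent; infer_instance))
    have h2 : ∀ m, ⁅R, zpowers x⁆ ≤ iterCommutator R L (m + 1) := by
      intro m
      induction m with
      | zero => exact commutator_mono le_rfl hxL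
      | succ m ih =>
        rw [← h1]
        exact commutator_mono ih hxL
    have h3 : ⁅R, zpowers x⁆ = ⊥ := by
      rw [eq_bot_iff]
      refine (h2 n).trans ?_
      show ⁅iterCommutator R L n, L⁆ ≤ ⊥
      rw [hn, commutator_bot_left]
    rw [commutator_comm, commutator_eq_bot_iff_le_centralizer] at h3
    have h4 : x ∈ R := hC (h3 (mem_zpowers x))
    obtain ⟨k, hk⟩ := hR ⟨x, h4⟩
    have hk' : x ^ p ^ k = 1 := congrArg Subtype.val hk
    have := mem_of_pow_pow (M := ⊥) (k := x) (hxo.pow_right k) (by rw [pow_orderOf_eq_one]; exact one_mem _) (by rw [hk']; exact one_mem _)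
    exact mem_bot.1 this
  refine isPGroup_of_primes fun q hq hqd => ?_
  by_contra hne
  haveI : Fact q.Prime := ⟨hq⟩
  obtain ⟨x, hx⟩ := exists_prime_orderOf_dvd_card' q hqd
  have h1 := key x x.2 (by rw [Subgroup.orderOf_coe, hx]; exact (Nat.coprime_primes hq hp.out).2 hne)
  have h2 : x = 1 := Subtype.ext h1
  rw [h2, orderOf_one] at hx
  exact hq.one_lt.ne hx

/-- Let H be a finite group, p a prime, R a p-subgroup of H with C_H(R) ≤ R, and L a subgroup of N_H(R) acting nilpotently on R (some iterated commutator [R, L, …, L] is trivial). Then L is a p-group. -/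
theorem result {H : Type*} [Group H] [Finite H] {p : ℕ} [Fact p.Prime] (R : Subgroup H) (hR : IsPGroup p ↥R) (hC : Subgroup.centralizer (R : Set H) ≤ R) (L : Subgroup H) (hL : L ≤ Subgroup.normalizer (R : Set H)) (hnil : ∃ n : ℕ, Cfsg.iterCommutator R L n = ⊥) : IsPGroup p ↥L := by
  exact main R hR hC L hL hnil

end Cfsg.Agent.S2809
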