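import Cfsg.Statements.S2819
import Cfsg.Agent.H6.CopFrat

set_option autoImplicit false
open Cfsg

namespace Cfsg.Agent.S2819

open scoped commutatorElement
theorem nc_le {G : Type*} [Group G] {H Y T : Subgroup G} (hYH : Y ≤ H) (hYT : Y ≤ T)
    (hT : ∀ h ∈ H, ∀ t ∈ T, h * t * h⁻¹ ∈ T) :
    (Subgroup.normalClosure ((Y.subgroupOf H : Subgroup ↥H) : Set ↥H)).map H.subtype ≤ T := by
  rw [Subgroup.map_le_iff_le_comap]
  have hn : (T.comap H.subtype).Normal := by
    refine ⟨fun t ht h => ?_⟩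
    exact hT h h.2 t ht
  refine Subgroup.normalClosure_le_normal ?_
  intro y hy
  exact hYT hy

/-- Let P be a finite p-subgroup of a group G, H a subgroup of N_G(P), and Y a subgroup of H centralizing the derived subgroup P' such that [P, Y] is elementary abelian. Then O^p(⟨Y^H⟩), the subgroup of the normal closure of Y in H generated by its elements of order prime to p, centralizes the Frattini subgroup of P. -/
theorem result {G : Type*} [Group G] [Finite G] {p : ℕ} [Fact p.Prime] (P : Subgroup G) (hP : IsPGroup p ↥P) (H : Subgroup G) (hH : H ≤ Subgroup.normalizer (P : Set G)) (Y : Subgroup G) (hYH : Y ≤ H) (hYc : Y ≤ Subgroup.centralizer ((⁅P, P⁆ : Subgroup G) : Set G)) (hel : Cfsg.IsElementaryAbelian p ⁅P, Y⁆) (NY : Subgroup G) (hNY : NY = (Subgroup.normalClosure ((Y.subgroupOf H : Subgroup ↥H) : Set ↥H)).map H.subtype) : (Cfsg.pResidual p ↥NY).map NY.subtype ≤ Subgroup.centralizer (((frattini ↥P).map P.subtype : Subgroup G) : Set G) := by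
  subst hNY
  obtain ⟨D, hD⟩ : ∃ D, D = ⁅P, P⁆ := ⟨_, rfl⟩
  have hHD : H ≤ Subgroup.normalizer (D : Set G) := by
    rw [hD]; exact Agent.H6.le_norm_comm hH hH
  have hHF : H ≤ Subgroup.normalizer ((Agent.H6.Fr P : Subgroup G) : Set G) := Agent.H6.norm_Fr hH
  obtain ⟨NY, hNY⟩ : ∃ NY, NY = (Subgroup.normalClosure ((Y.subgroupOf H : Subgroup ↥H) : Set ↥H)).map H.subtype := ⟨_, rfl⟩
  rw [← hNY]
  have hNYH : NY ≤ H := by rw [hNY]; exact Subgroup.map_subtype_le _
  have h1 : NY ≤ Subgroup.centralizer (D : Set G) := by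
    rw [hNY]
    refine nc_le hYH (hD ▸ hYc) ?_
    intro h hh t ht
    have h2 : h ∈ Subgroup.normalizer ((Subgroup.centralizer (D : Set G) : Subgroup G) : Set G) := Agent.H6.le_norm_centralizer hHD hh
    exact (Subgroup.mem_normalizer_iff.1 h2 t).1 ht
  have h2 : ∀ x ∈ NY, ∀ d ∈ Agent.H6.Fr P, x * d * x⁻¹ * d⁻¹ ∈ D := by
    let T : Subgroup G :=
      { carrier := {x | x ∈ H ∧ ∀ d ∈ Agent.H6.Fr P, x * d * x⁻¹ * d⁻¹ ∈ D}
        one_mem' := ⟨one_mem _, fun d _ => by simp⟩
        mul_mem' := by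
          rintro x y ⟨hx1, hx3⟩ ⟨hy1, hy3⟩
          refine ⟨mul_mem hx1 hy1, fun d hd => ?_⟩
          have h1 := (Subgroup.mem_normalizer_iff.1 (hHD hx1) _).1 (hy3 d hd)
          have h2 := hx3 d hd
          have e : x * y * d * (x * y)⁻¹ * d⁻¹ = (x * (y * d * y⁻¹ * d⁻¹) * x⁻¹) * (x * d * x⁻¹ * d⁻¹) := by group
          rw [e]; exact mul_mem h1 h2
        inv_mem' := by
          rintro x ⟨hx1, hx3⟩
          refine ⟨inv_mem hx1, fun d hd => ?_⟩
          have h0 : x⁻¹ * d * x ∈ Agent.H6.Fr P := by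
            have := (Subgroup.mem_normalizer_iff.1 (inv_mem (hHF hx1)) d).1 hd
            simpa using this
          have h1 := hx3 _ h0
          have h2 := inv_mem h1
          have e : x⁻¹ * d * x⁻¹⁻¹ * d⁻¹ = (x * (x⁻¹ * d * x) * x⁻¹ * (x⁻¹ * d * x)⁻¹)⁻¹ := by group
          rw [e]; exact h2 }
    have hle : NY ≤ T := by
      rw [hNY]
      refine nc_le hYH ?_ ?_
      · intro y hy
        refine ⟨hYH hy, fun d hd => ?_⟩
        have h3 := Agent.H6.comm_Fr_le (hYH.trans hH) hel.2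
        have h4 : ⁅y, d⁆ ∈ ⁅Y, Agent.H6.Fr P⁆ := Subgroup.commutator_mem_commutator hy hd
        rw [Subgroup.commutator_comm] at h4
        rw [hD]
        exact h3 h4
      · rintro n hn x ⟨hx1, hx3⟩
        refine ⟨mul_mem (mul_mem hn hx1) (inv_mem hn), fun d hd => ?_⟩
        have h0 : n⁻¹ * d * n ∈ Agent.H6.Fr P := by
          have := (Subgroup.mem_normalizer_iff.1 (inv_mem (hHF hn)) d).1 hd
          simpa using this
        have h1 := (Subgroup.mem_normalizer_iff.1 (hHD hn) _).1 (hx3 _ h0)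
        have e : n * x * n⁻¹ * d * (n * x * n⁻¹)⁻¹ * d⁻¹ = n * (x * (n⁻¹ * d * n) * x⁻¹ * (n⁻¹ * d * n)⁻¹) * n⁻¹ := by group
        rw [e]; exact h1
    exact fun x hx => (hle hx).2
  have hFp : IsPGroup p ↥(Agent.H6.Fr P) := hP.to_le (Agent.H6.Fr_le P)
  rw [Subgroup.map_le_iff_le_comap]
  unfold Cfsg.pResidual
  rw [Subgroup.closure_le]
  intro g hg
  have hgo : (orderOf (g : G)).Coprime p := by
    have h3 : (orderOf g).Coprime p := hg
    rwa [← Subgroup.orderOf_coe] at h3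
  show (g : G) ∈ Subgroup.centralizer ((Agent.H6.Fr P : Subgroup G) : Set G)
  have hgN : Subgroup.zpowers (g : G) ≤ Subgroup.normalizer ((Agent.H6.Fr P : Subgroup G) : Set G) := by
    rw [Subgroup.zpowers_le]; exact hHF (hNYH g.2)
  have hzN : Subgroup.zpowers (g : G) ≤ NY := by rw [Subgroup.zpowers_le]; exact g.2
  have h5 : ⁅Agent.H6.Fr P, Subgroup.zpowers (g : G)⁆ = ⊥ := by
    refine Agent.L0.commutator_eq_bot_of_series (M := D) hgN ?_ (Or.inl inferInstance) ?_ ?_
    · obtain ⟨n, hn⟩ := IsPGroup.iff_card.1 hFp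
      rw [hn, Nat.card_zpowers]
      exact hgo.pow_right n
    · rw [Subgroup.commutator_comm, Subgroup.commutator_le]
      intro x hx d hd
      exact h2 x (hzN hx) d hd
    · rw [Subgroup.commutator_comm, Subgroup.commutator_eq_bot_iff_le_centralizer]
      exact hzN.trans h1
  rw [Subgroup.commutator_comm, Subgroup.commutator_eq_bot_iff_le_centralizer, Subgroup.zpowers_le] at h5
  exact h5

end Cfsg.Agent.S2819
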