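import Cfsg.Statements.S2822
import Cfsg.Agent.H6.PMin2
import Cfsg.Agent.H6.PRed5

set_option autoImplicit false
open Cfsg

namespace Cfsg.Agent.S2822

open Subgroup Agent.H6 in
theorem main {H : Type*} [Group H] [Finite H] {p : ℕ} [Fact p.Prime] (T : Sylow p H) (L M : Subgroup H) (hTL : (T : Subgroup H) ≤ L) (hTM : (T : Subgroup H) ≤ M)
    (hLM : L ⊔ Subgroup.centralizer (((Cfsg.largestPReducedOf p M) : Subgroup H) : Set H) = M ⊔ Subgroup.centralizer (((Cfsg.largestPReducedOf p M) : Subgroup H) : Set H)) : (Cfsg.largestPReducedOf p M) ≤ (Cfsg.largestPReducedOf p L) := by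
  obtain ⟨Y, hY⟩ : ∃ Y, Y = largestPReducedOf p M := ⟨_, rfl⟩
  obtain ⟨C, hC⟩ : ∃ C, C = centralizer (Y : Set H) := ⟨_, rfl⟩
  have hPR : PR p M Y := hY ▸ pr_largestOf M
  rw [← hY, ← hC] at hLM
  rw [← hY]
  have hCY : C ≤ normalizer (Y : Set H) := by rw [hC]; exact centralizer_le_norm Y
  have hLY : L ≤ normalizer (Y : Set H) := by
    have h1 : L ≤ M ⊔ C := hLM ▸ le_sup_left
    exact h1.trans (sup_le hPR.2.1 hCY)
  have hLC : L ≤ normalizer (C : Set H) := by rw [hC]; exact norm_cent hLY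
  have hMC : M ≤ normalizer (C : Set H) := by rw [hC]; exact norm_cent hPR.2.1
  have hYL : Y ≤ L := by
    refine le_trans ?_ hTL
    exact hPR.le_core.trans (pCoreOf_le_sylIn ((sylow_sylIn_top T).of_le hTM le_top))
  refine le_largestOf ⟨hYL, hLY, hPR.2.2.1, fun K hKL hLK hK => ?_⟩
  rw [← hC] at hK ⊢
  have hKC : K ≤ normalizer (C : Set H) := hKL.trans hLC
  have hn : M ≤ normalizer ((K ⊔ C : Subgroup H) : Set H) := by
    have h1 : L ⊔ C ≤ normalizer ((K ⊔ C : Subgroup H) : Set H) := sup_le (norm_sup' hLK hLC) (le_sup_right.trans le_normalizer)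
    exact (hLM ▸ le_sup_left : M ≤ L ⊔ C).trans h1
  have hpow : ∀ x ∈ K ⊔ C, ∃ n : ℕ, x ^ p ^ n ∈ C := by
    intro x hx
    rw [sup_comm] at hx
    obtain ⟨k, hk, c, hc, rfl⟩ := (L0.mem_sup_of_normalizes' hKC).1 hx
    obtain ⟨n, hn⟩ := hK k hk
    refine ⟨n, ?_⟩
    have key : ∀ m : ℕ, ∃ c' ∈ C, (k * c) ^ m = k ^ m * c' := by
      intro m
      induction m with
      | zero => exact ⟨1, one_mem _, by simp⟩
      | succ m ih =>
        obtain ⟨c', hc', e⟩ := ih
        have h2 : k⁻¹ * c' * k ∈ C := by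
          have := le_norm_iff.1 hKC k⁻¹ (inv_mem hk) c' hc'
          simpa using this
        refine ⟨k⁻¹ * c' * k * c, mul_mem h2 hc, ?_⟩
        rw [pow_succ, e, pow_succ]; group
    obtain ⟨c', hc', e⟩ := key (p ^ n)
    rw [e]; exact mul_mem hn hc'
  have h1 : M ⊓ (K ⊔ C) ≤ C := by
    rw [hC]
    rw [hC] at hpow hn
    exact hPR.2.2.2 _ inf_le_left (norm_inf' le_normalizer hn) fun k hk => hpow k hk.2
  intro k hk
  have h2 : k ∈ M ⊔ C := hLM ▸ mem_sup_left (hKL hk)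
  rw [sup_comm] at h2
  obtain ⟨m, hm, c, hc, e⟩ := (L0.mem_sup_of_normalizes' hMC).1 h2
  have h3 : m ∈ K ⊔ C := by
    have : m = k * c⁻¹ := by rw [← e]; group
    rw [this]; exact mul_mem (mem_sup_left hk) (mem_sup_right (inv_mem hc))
  rw [← e]
  exact mul_mem (h1 ⟨hm, h3⟩) hc

/-- Let H be a finite group, p a prime, T a Sylow p-subgroup, and L, M subgroups of characteristic p containing T, with largest p-reduced normal subgroups Y_L, Y_M. If L·C_H(Y_M) = M·C_H(Y_M), then Y_M ≤ Y_L. -/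
theorem result {H : Type*} [Group H] [Finite H] {p : ℕ} [Fact p.Prime] (T : Sylow p H) (L M : Subgroup H) (hTL : (T : Subgroup H) ≤ L) (hTM : (T : Subgroup H) ≤ M) (hL : Subgroup.centralizer (Cfsg.pCore p ↥L : Set ↥L) ≤ Cfsg.pCore p ↥L) (hM : Subgroup.centralizer (Cfsg.pCore p ↥M : Set ↥M) ≤ Cfsg.pCore p ↥M) : L ⊔ Subgroup.centralizer (((Cfsg.largestPReducedOf p M) : Subgroup H) : Set H) = M ⊔ Subgroup.centralizer (((Cfsg.largestPReducedOf p M) : Subgroup H) : Set H) → (Cfsg.largestPReducedOf p M) ≤ (Cfsg.largestPReducedOf p L) := by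
  exact main T L M hTL hTM

end Cfsg.Agent.S2822
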