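import Cfsg.Statements.S2827
import Cfsg.Agent.H6.PMin2

set_option autoImplicit false
open Cfsg

namespace Cfsg.Agent.S2827

open Subgroup Agent.H6 in
theorem ncl {H : Type*} [Group H] [Finite H] {p : ℕ} [Fact p.Prime] (hH : Cfsg.IsPIrreducible p H) (T : Sylow p H) : Subgroup.normalClosure ((T : Subgroup H) : Set H) = ⊤ := by
  obtain ⟨N, hN⟩ : ∃ N, N = normalClosure ((T : Subgroup H) : Set H) := ⟨_, rfl⟩
  have hNn : N.Normal := by rw [hN]; infer_instance
  have hTN : (T : Subgroup H) ≤ N := by rw [hN]; exact le_normalClosure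
  rw [← hN]
  have h1 : ¬ IsPClosed p ↥N := by
    intro hc
    obtain ⟨P, hP⟩ := ((sylow_sylIn_top T).of_le hTN le_top).exists_sylow
    have h2 := hc P
    have h3 : (P : Subgroup ↥N) = pCore p ↥N := by
      haveI := h2
      exact le_antisymm (L0.le_pCore P.2) (L0.pCore_le_sylow P)
    have h4 : (T : Subgroup H) = pCoreOf p N := by
      unfold pCoreOf
      rw [← h3, hP, Subgroup.map_subgroupOf_eq_of_le hTN]
    have h5 : (T : Subgroup H).Normal := by
      rw [← normalizer_eq_top_iff, eq_top_iff, ← normalizer_eq_top_iff.2 hNn, h4]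
      exact norm_le_norm_pCoreOf _
    apply hH.1
    intro P'
    obtain ⟨g, hg⟩ := MulAction.exists_smul_eq H T P'
    have hg' : cj g (T : Subgroup H) = (P' : Subgroup H) := by rw [← hg]; rfl
    rw [← hg', cj_of_mem_norm ((normalizer_eq_top_iff.2 h5).ge (mem_top g))]
    exact h5
  rw [eq_top_iff, ← sup_res T]
  exact sup_le hTN (hH.2 N hNn h1)

open Subgroup Agent.H6 in
theorem res_le_of {H : Type*} [Group H] [Finite H] {p : ℕ} [Fact p.Prime] {N Q : Subgroup H} (hN : N.Normal) (hQ : IsPGroup p ↥Q) (h : N ⊔ Q = ⊤) :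
    Cfsg.pResidual p H ≤ N := by
  haveI := hN
  refine H1.pResidual_le_of_isPGroup_quotient N ?_
  intro x
  obtain ⟨g, rfl⟩ := QuotientGroup.mk'_surjective N x
  have hg : g ∈ N ⊔ Q := by rw [h]; exact mem_top g
  obtain ⟨w, hw, s, hs, rfl⟩ := mem_sup_of_normal_left.1 hg
  obtain ⟨k, hk⟩ := hQ ⟨s, hs⟩
  have hk' : s ^ p ^ k = 1 := congrArg Subtype.val hk
  refine ⟨k, ?_⟩
  have h2 : QuotientGroup.mk' N w = 1 := by rw [← MonoidHom.mem_ker, QuotientGroup.ker_mk']; exact hw
  rw [map_mul, h2, one_mul, ← map_pow, hk', map_one]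

open Subgroup Agent.H6 in
open scoped commutatorElement in
theorem main {H : Type*} [Group H] [Finite H] {p : ℕ} [Fact p.Prime] (hH : Cfsg.IsPIrreducible p H) (T : Sylow p H) : Subgroup.normalClosure ((T : Subgroup H) : Set H) = ⊤ ∧ commutator H ⊔ (T : Subgroup H) = ⊤ ∧ Cfsg.pResidual p H ≤ commutator H ∧ ∀ Y : Subgroup H, Y ≤ (T : Subgroup H) → (T : Subgroup H) ≤ Subgroup.normalizer (Y : Set H) → ¬ Y ≤ Cfsg.pCore p H → ⁅Cfsg.pResidual p H, Y⁆ = Cfsg.pResidual p H ∧ Cfsg.pResidual p H ≤ Subgroup.normalClosure (Y : Set H) := by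
  have h1 := ncl hH T
  have h2 : commutator H ⊔ (T : Subgroup H) = ⊤ := by
    have h3 : (commutator H ⊔ (T : Subgroup H)).Normal := by
      refine ⟨fun x hx g => ?_⟩
      have e1 : g * x * g⁻¹ = ⁅g, x⁆ * x := by rw [commutatorElement_def]; group
      rw [e1]
      refine mul_mem (mem_sup_left ?_) hx
      rw [_root_.commutator_def]
      exact commutator_mem_commutator (mem_top _) (mem_top _)
    rw [eq_top_iff, ← h1]
    haveI := h3
    exact normalClosure_le_normal (fun x hx => mem_sup_right hx)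
  refine ⟨h1, h2, res_le_of inferInstance T.2 h2, ?_⟩
  intro Y hYT hTY hYO
  obtain ⟨R, hR⟩ : ∃ R, R = pResidual p H := ⟨_, rfl⟩
  have hRn : R.Normal := by rw [hR]; infer_instance
  have hRt := normalizer_eq_top_iff.2 hRn
  obtain ⟨N, hN⟩ : ∃ N, N = normalClosure (Y : Set H) := ⟨_, rfl⟩
  have hNn : N.Normal := by rw [hN]; infer_instance
  have hYN : Y ≤ N := by rw [hN]; exact le_normalClosure
  have hYp : IsPGroup p ↥Y := T.2.to_le hYT
  have hRN : R ≤ N := by
    rw [hR]
    refine hH.2 N hNn fun hc => hYO ?_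
    obtain ⟨P, hP⟩ := (SylIn.inf_subnormal (sylow_sylIn_top T) hNn.isSubnormal).exists_sylow
    have h3 : (P : Subgroup ↥N) = pCore p ↥N := by
      haveI := hc P
      exact le_antisymm (L0.le_pCore P.2) (L0.pCore_le_sylow P)
    have h4 : (T : Subgroup H) ⊓ N = pCoreOf p N := by
      unfold pCoreOf
      rw [← h3, hP, Subgroup.map_subgroupOf_eq_of_le inf_le_right]
    have h5 : ((T : Subgroup H) ⊓ N).Normal := by
      rw [← normalizer_eq_top_iff, eq_top_iff, ← normalizer_eq_top_iff.2 hNn, h4]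
      exact norm_le_norm_pCoreOf _
    haveI := h5
    exact (le_inf hYT hYN).trans (L0.le_pCore (T.2.to_le inf_le_left))
  rw [← hR, ← hN]
  refine ⟨le_antisymm ?_ ?_, hRN⟩
  · haveI := hRn; exact commutator_le_left _ _
  · -- `[R, Y]` is normal
    obtain ⟨C, hC⟩ : ∃ C, C = ⁅R, Y⁆ := ⟨_, rfl⟩
    have hCn : C.Normal := by
      rw [← normalizer_eq_top_iff, eq_top_iff, ← sup_res T, ← hR, hC]
      refine sup_le (norm_comm (le_top.trans hRt.ge) hTY) ?_
      rw [commutator_comm]
      exact Subgroup.normalizer_commutator_ge_right _ _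
    rw [← hC]
    have h5 : N ≤ C ⊔ Y := by
      have h6 : (C ⊔ Y).Normal := by
        rw [← normalizer_eq_top_iff, eq_top_iff, ← sup_res T, ← hR]
        refine sup_le (norm_sup' (le_top.trans (normalizer_eq_top_iff.2 hCn).ge) hTY) ?_
        rw [← comm_le_iff_norm]
        refine comm_sup_le ?_ ?_ ?_ ?_
        · exact le_sup_left.trans le_normalizer
        · exact le_sup_right.trans le_normalizer
        · exact (comm_le_iff_norm.2 (le_top.trans (normalizer_eq_top_iff.2 hCn).ge)).trans le_sup_left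
        · rw [commutator_comm, ← hC]; exact le_sup_left
      rw [hN]
      haveI := h6
      exact normalClosure_le_normal (fun x hx => mem_sup_right hx)
    rw [hR]
    refine res_le_of hCn T.2 ?_
    rw [eq_top_iff, ← sup_res T, ← hR]
    exact sup_le le_sup_right (hRN.trans (h5.trans (sup_le le_sup_left (hYT.trans le_sup_right))))

/-- Let H be a finite p-irreducible group (not p-closed, and O^p(H) lies in every normal subgroup that is not p-closed) and T a Sylow p-subgroup. Then H is generated by the conjugates of T and H = H'·T; O^p(H) ≤ H'; and for every normal subgroup Y of T not contained in O_p(H), O^p(H) = [O^p(H), Y] and O^p(H) is contained in the normal closure of Y in H. -/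
theorem result {H : Type*} [Group H] [Finite H] {p : ℕ} [Fact p.Prime] (hH : Cfsg.IsPIrreducible p H) (T : Sylow p H) : Subgroup.normalClosure ((T : Subgroup H) : Set H) = ⊤ ∧ commutator H ⊔ (T : Subgroup H) = ⊤ ∧ Cfsg.pResidual p H ≤ commutator H ∧ ∀ Y : Subgroup H, Y ≤ (T : Subgroup H) → (T : Subgroup H) ≤ Subgroup.normalizer (Y : Set H) → ¬ Y ≤ Cfsg.pCore p H → ⁅Cfsg.pResidual p H, Y⁆ = Cfsg.pResidual p H ∧ Cfsg.pResidual p H ≤ Subgroup.normalClosure (Y : Set H) := by
  exact main hH T

end Cfsg.Agent.S2827
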