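import Cfsg.Statements.S2830
import Cfsg.Agent.H6.PMin2
import Cfsg.Agent.S2827

set_option autoImplicit false
open Cfsg

namespace Cfsg.Agent.S2830

open Subgroup Agent.H6 in
theorem core_of_pclosed {H : Type*} [Group H] [Finite H] {p : ℕ} [Fact p.Prime] (T : Sylow p H) {N : Subgroup H} (hNn : N.Normal) (hc : IsPClosed p ↥N) :
    (T : Subgroup H) ⊓ N ≤ pCore p H := by
  obtain ⟨P, hP⟩ := (SylIn.inf_subnormal (sylow_sylIn_top T) hNn.isSubnormal).exists_sylow
  have h3 : (P : Subgroup ↥N) = pCore p ↥N := by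
    haveI := hc P
    exact le_antisymm (L0.le_pCore P.2) (L0.pCore_le_sylow P)
  have h4 : (T : Subgroup H) ⊓ N = pCoreOf p N := by
    unfold pCoreOf
    rw [← h3, hP, Subgroup.map_subgroupOf_eq_of_le inf_le_right]
  have h5 : ((T : Subgroup H) ⊓ N).Normal := by
    rw [← normalizer_eq_top_iff, eq_top_iff, ← normalizer_eq_top_iff.2 hNn, h4]
    exact norm_le_norm_pCoreOf _
  haveI := h5
  exact L0.le_pCore (T.2.to_le inf_le_left)

open Subgroup Agent.H6 in
theorem core_bot {H : Type*} [Group H] [Finite H] {p : ℕ} [Fact p.Prime] (hH : Cfsg.IsPIrreducible p H) {C : Subgroup H} [hCn : C.Normal] (hres : ¬ pResidual p H ≤ C)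
    (hOC : pCore p H ≤ C) : pCore p (H ⧸ C) = ⊥ := by
  obtain ⟨π, hπ⟩ : ∃ π : H →* H ⧸ C, π = QuotientGroup.mk' C := ⟨_, rfl⟩
  have hπs : Function.Surjective π := by rw [hπ]; exact QuotientGroup.mk'_surjective _
  obtain ⟨W, hW⟩ : ∃ W, W = (pCore p (H ⧸ C)).comap π := ⟨_, rfl⟩
  have hWn : W.Normal := by rw [hW]; exact (inferInstance : (pCore p (H ⧸ C)).Normal).comap π
  have hWm : W.map π = pCore p (H ⧸ C) := by rw [hW]; exact Subgroup.map_comap_eq_self_of_surjective hπs _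
  have hWp : IsPGroup p ↥(W.map π) := by rw [hWm]; exact L0.pCore_isPGroup p _
  obtain ⟨S⟩ := (inferInstance : Nonempty (Sylow p H))
  have hWSC : W ≤ C ⊔ ((S : Subgroup H) ⊓ W) := by
    have h1 := (SylIn.inf_subnormal (sylow_sylIn_top S) hWn.isSubnormal)
    have h2 := h1.map_hom π
    have h3 := h2.eq_of_le hWp le_rfl h2.le
    have h4 := Subgroup.comap_mono (f := π) h3.ge
    rw [Subgroup.comap_map_eq, Subgroup.comap_map_eq, hπ, QuotientGroup.ker_mk'] at h4
    exact le_sup_left.trans (h4.trans (by rw [sup_comm]))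
  by_cases hWcl : IsPClosed p ↥W
  · have h1 := core_of_pclosed S hWn hWcl
    have h3 : W ≤ C := hWSC.trans (sup_le le_rfl (h1.trans hOC))
    rw [← hWm, hπ, Subgroup.map_eq_bot_iff, QuotientGroup.ker_mk']
    exact h3
  · exfalso
    apply hres
    have h1 := hH.2 W hWn hWcl
    refine Agent.S2827.res_le_of hCn S.2 ?_
    rw [eq_top_iff, ← sup_res S]
    exact sup_le le_sup_right (h1.trans (hWSC.trans (sup_le le_sup_left (inf_le_left.trans le_sup_right))))

open Subgroup Agent.H6 in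
theorem main {G : Type*} [Group G] [Finite G] {p : ℕ} [Fact p.Prime] (V H : Subgroup G) (hHV : H ≤ Subgroup.normalizer (V : Set G)) (hH : Cfsg.IsPIrreducible p ↥H) (hnc : ¬ (Cfsg.pResidual p ↥H).map H.subtype ≤ Subgroup.centralizer (V : Set G)) [hn : ((Subgroup.centralizer (V : Set G)).subgroupOf H).Normal] : Cfsg.IsPClosed p ↥(H ⊓ Subgroup.centralizer (V : Set G)) ∧ (∀ T : Subgroup G, T ≤ H → IsPGroup p ↥T → T ⊓ Subgroup.centralizer (V : Set G) ≤ Cfsg.pCoreOf p H) ∧ (Cfsg.pCoreOf p H ≤ Subgroup.centralizer (V : Set G) → (∀ T : Subgroup G, T ≤ H → IsPGroup p ↥T → T ⊓ Subgroup.centralizer (V : Set G) = T ⊓ Cfsg.pCoreOf p H) ∧ Cfsg.pCore p (↥H ⧸ (Subgroup.centralizer (V : Set G)).subgroupOf H) = ⊥) := by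
  obtain ⟨C, hC⟩ : ∃ C, C = (centralizer (V : Set G)).subgroupOf H := ⟨_, rfl⟩
  have hCn : C.Normal := by rw [hC]; exact hn
  have hres : ¬ pResidual p ↥H ≤ C := by
    intro h
    apply hnc
    have := Subgroup.map_mono (f := H.subtype) h
    rw [hC, Subgroup.subgroupOf_map_subtype] at this
    exact this.trans inf_le_left
  have hCcl : IsPClosed p ↥C := by
    by_contra h
    exact hres (hH.2 C hCn h)
  have hb : ∀ T : Subgroup G, T ≤ H → IsPGroup p ↥T → T ⊓ Subgroup.centralizer (V : Set G) ≤ Cfsg.pCoreOf p H := by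
    intro T hTH hT
    have h1 : IsPGroup p ↥(T.subgroupOf H) := hT.comap_of_injective _ H.subtype_injective
    obtain ⟨S, hS⟩ := h1.exists_le_sylow
    have h2 := core_of_pclosed S hCn hCcl
    rintro x ⟨hx1, hx2⟩
    refine ⟨⟨x, hTH hx1⟩, h2 ⟨hS hx1, ?_⟩, rfl⟩
    rw [hC]; exact hx2
  refine ⟨?_, hb, fun hOV => ⟨fun T hTH hT => le_antisymm (le_inf inf_le_left (hb T hTH hT)) (inf_le_inf_left _ hOV), ?_⟩⟩
  · intro P
    have hHC : H ≤ normalizer ((H ⊓ centralizer (V : Set G) : Subgroup G) : Set G) := norm_inf' le_normalizer (norm_cent hHV)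
    have h1 := sylow_sylIn P
    have h2 := hb _ (h1.le.trans inf_le_left) h1.isPGroup
    rw [inf_eq_left.2 (h1.le.trans inf_le_right)] at h2
    -- P = pCoreOf H ⊓ C
    have h3 : (P : Subgroup ↥(H ⊓ centralizer (V : Set G))).map (H ⊓ centralizer (V : Set G)).subtype = pCoreOf p H ⊓ centralizer (V : Set G) := by
      refine h1.eq_of_le ((pCoreOf_isPGroup H).to_le inf_le_left) (inf_le_inf_right _ (pCoreOf_le H)) (le_inf h2 (h1.le.trans inf_le_right))
    have h4 : H ≤ normalizer ((pCoreOf p H ⊓ centralizer (V : Set G) : Subgroup G) : Set G) :=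
      norm_inf' (le_norm_pCoreOf H) (norm_cent hHV)
    have h5 : (P : Subgroup ↥(H ⊓ centralizer (V : Set G))) = (pCoreOf p H ⊓ centralizer (V : Set G)).subgroupOf (H ⊓ centralizer (V : Set G)) := by
      rw [← h3, Subgroup.subgroupOf, Subgroup.comap_map_eq_self_of_injective (Subgroup.subtype_injective _)]
    rw [h5, Subgroup.normal_subgroupOf_iff_le_normalizer (inf_le_inf_right _ (pCoreOf_le H))]
    exact inf_le_left.trans h4
  · refine core_bot hH (fun h => hres (hC ▸ h)) ?_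
    intro x hx
    exact hOV ⟨x, hx, rfl⟩

/-- Let H act by conjugation on the elementary abelian p-subgroup V of a finite group G (H ≤ N(V)), with H p-irreducible and O^p(H) not centralizing V. Then C_H(V) is p-closed and C_T(V) ≤ O_p(H) for every p-subgroup T of H. If in addition O_p(H) centralizes V, then C_T(V) = T ∩ O_p(H) for every p-subgroup T of H, and V is p-reduced for H: O_p(H/C_H(V)) = 1. -/
theorem result {G : Type*} [Group G] [Finite G] {p : ℕ} [Fact p.Prime] (V H : Subgroup G) (hV : Cfsg.IsElementaryAbelian p V) (hHV : H ≤ Subgroup.normalizer (V : Set G)) (hH : Cfsg.IsPIrreducible p ↥H) (hnc : ¬ (Cfsg.pResidual p ↥H).map H.subtype ≤ Subgroup.centralizer (V : Set G)) [hn : ((Subgroup.centralizer (V : Set G)).subgroupOf H).Normal] : Cfsg.IsPClosed p ↥(H ⊓ Subgroup.centralizer (V : Set G)) ∧ (∀ T : Subgroup G, T ≤ H → IsPGroup p ↥T → T ⊓ Subgroup.centralizer (V : Set G) ≤ Cfsg.pCoreOf p H) ∧ (Cfsg.pCoreOf p H ≤ Subgroup.centralizer (V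 : Set G) → (∀ T : Subgroup G, T ≤ H → IsPGroup p ↥T → T ⊓ Subgroup.centralizer (V : Set G) = T ⊓ Cfsg.pCoreOf p H) ∧ Cfsg.pCore p (↥H ⧸ (Subgroup.centralizer (V : Set G)).subgroupOf H) = ⊥) := by
  exact main V H hHV hH hnc

end Cfsg.Agent.S2830
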