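import Cfsg.Statements.S2831
import Cfsg.Agent.H6.PMin2

set_option autoImplicit false
open Cfsg

namespace Cfsg.Agent.S2831

open Subgroup Agent.H6 in
theorem main {H : Type*} [Group H] [Finite H] {p : ℕ} [Fact p.Prime] (T : Sylow p H) (hmin : Cfsg.IsMinimalOver (T : Subgroup H)) : Cfsg.IsPIrreducible p H := by
  obtain ⟨M, ⟨hM, hTM⟩, -⟩ := hmin.2
  have h := ym_of hM hTM hmin
  refine ⟨fun hc => ?_, fun N hN hNc => ?_⟩
  · have h1 := h.not_normal (hc T) le_rfl
    rw [h1] at hTM
    exact hM.1 (top_le_iff.1 hTM)
  · refine (h.normal_cases hN).resolve_right fun h1 => hNc ?_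
    exact (h.nil (T := (T : Subgroup H)) le_rfl ((sylow_sylIn_top T).of_le hTM le_top) hN (h1.trans (normalCore_le _))).1

/-- Let H be a finite group with Sylow p-subgroup T such that H is T-minimal (H is generated by the conjugates of T and T lies in exactly one maximal subgroup of H). Then H is p-irreducible: H is not p-closed and O^p(H) lies in every normal subgroup of H that is not p-closed. -/
theorem result {H : Type*} [Group H] [Finite H] {p : ℕ} [Fact p.Prime] (T : Sylow p H) (hmin : Cfsg.IsMinimalOver (T : Subgroup H)) : Cfsg.IsPIrreducible p H := by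
  exact main T hmin

end Cfsg.Agent.S2831
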