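import Cfsg.Statements.S2832
import Cfsg.Agent.H6.PMin2

set_option autoImplicit false
open Cfsg

namespace Cfsg.Agent.S2832

open Subgroup Agent.H6 in
theorem main {H : Type*} [Group H] [Finite H] {p : ℕ} [Fact p.Prime] (T : Sylow p H) (hmin : Cfsg.IsMinimalOver (T : Subgroup H)) (N : Subgroup H) [hN : N.Normal] : IsPGroup p (H ⧸ N) ∨ Cfsg.IsMinimalOver ((T : Subgroup H).map (QuotientGroup.mk' N)) := by
  obtain ⟨M, ⟨hM, hTM⟩, -⟩ := hmin.2
  have h := ym_of hM hTM hmin
  obtain ⟨π, hπ⟩ : ∃ π : H →* H ⧸ N, π = QuotientGroup.mk' N := ⟨_, rfl⟩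
  have hπs : Function.Surjective π := by rw [hπ]; exact QuotientGroup.mk'_surjective _
  have hcm : ∀ A : Subgroup H, (A.map π).comap π = A ⊔ N := by
    intro A; rw [hπ, Subgroup.comap_map_eq, QuotientGroup.ker_mk']
  by_cases hTN : (T : Subgroup H) ⊔ N = ⊤
  · left
    intro x
    obtain ⟨g, rfl⟩ := QuotientGroup.mk'_surjective N x
    have hg : g ∈ (T : Subgroup H) ⊔ N := by rw [hTN]; exact mem_top g
    obtain ⟨s, hs, n, hn, rfl⟩ := mem_sup_of_normal_right.1 hg
    obtain ⟨k, hk⟩ := T.2 ⟨s, hs⟩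
    have hk' : s ^ p ^ k = 1 := congrArg Subtype.val hk
    refine ⟨k, ?_⟩
    have h2 : QuotientGroup.mk' N n = 1 := by rw [← MonoidHom.mem_ker, QuotientGroup.ker_mk']; exact hn
    rw [map_mul, h2, mul_one, ← map_pow, hk', map_one]
  · right
    rw [← hπ]
    have hNM : N ≤ M := le_sup_right.trans (h.2.2.2 _ le_sup_left hTN)
    have hMM : (M.map π).comap π = M := by rw [hcm]; exact sup_eq_left.2 hNM
    have hMne : M.map π ≠ ⊤ := by
      intro h1
      apply hM.1
      rw [← hMM, h1, Subgroup.comap_top]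
    have hmax : ∀ X : Subgroup (H ⧸ N), (T : Subgroup H).map π ≤ X → X ≠ ⊤ → X ≤ M.map π := by
      intro X hX hXne
      have h1 : X.comap π ≤ M := by
        refine h.2.2.2 _ (Subgroup.map_le_iff_le_comap.1 hX) fun h2 => hXne ?_
        rw [← Subgroup.map_comap_eq_self_of_surjective hπs X, h2, ← MonoidHom.range_eq_map, MonoidHom.range_eq_top.2 hπs]
      have h2 := Subgroup.map_mono (f := π) h1
      rwa [Subgroup.map_comap_eq_self_of_surjective hπs] at h2
    refine ⟨?_, M.map π, ⟨⟨hMne, fun X hX => ?_⟩, Subgroup.map_mono hTM⟩, ?_⟩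
    · obtain ⟨C, hC⟩ : ∃ C, C = normalClosure (((T : Subgroup H).map π : Subgroup (H ⧸ N)) : Set (H ⧸ N)) := ⟨_, rfl⟩
      have hCn : C.Normal := by rw [hC]; infer_instance
      have h1 : (T : Subgroup H) ≤ C.comap π := by
        rw [← Subgroup.map_le_iff_le_comap, hC]; exact le_normalClosure
      have h2 := h.not_normal (hCn.comap π) h1
      rw [← hC, ← Subgroup.map_comap_eq_self_of_surjective hπs C, h2, ← MonoidHom.range_eq_map, MonoidHom.range_eq_top.2 hπs]
    · by_contra hne
      exact absurd (hmax X ((Subgroup.map_mono hTM).trans hX.le) hne) (not_le_of_gt hX)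
    · rintro X ⟨hX, hTX⟩
      rcases hX.le_iff.1 (hmax X hTX hX.1) with h2 | h2
      · exact absurd h2 hMne
      · exact h2.symm

/-- Let H be a finite group with Sylow p-subgroup T such that H is T-minimal (generated by the conjugates of T, with T in exactly one maximal subgroup), and let N be a normal subgroup of H. Then either H/N is a p-group or H/N is minimal over the image of T in the same sense. -/
theorem result {H : Type*} [Group H] [Finite H] {p : ℕ} [Fact p.Prime] (T : Sylow p H) (hmin : Cfsg.IsMinimalOver (T : Subgroup H)) (N : Subgroup H) [N.Normal] : IsPGroup p (H ⧸ N) ∨ Cfsg.IsMinimalOver ((T : Subgroup H).map (QuotientGroup.mk' N)) := by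
  exact main T hmin N

end Cfsg.Agent.S2832
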