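import Cfsg.Statements.S2839
import Cfsg.Agent.H6.Large3
import Cfsg.Agent.H6.SnJoin
import Cfsg.Agent.H1.Transfer

set_option autoImplicit false
open Cfsg

namespace Cfsg.Agent.S2839

/-- Let Q be a nontrivial p-subgroup of the finite group H that is a weakly closed subgroup, K a subgroup containing Q and N a normal subgroup of H. Then Q is a weakly closed subgroup of K; every H-conjugate of Q contained in K is a K-conjugate of Q; N_K(Q) contains a Sylow p-subgroup of K; N = N_N(Q)·O^p(N); and QN/N is a weakly closed subgroup of H/N. -/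
theorem result {H : Type*} [Group H] [Finite H] {p : ℕ} [Fact p.Prime] (Q : Subgroup H) (hQp : IsPGroup p ↥Q) (hQ1 : Q ≠ ⊥) (hwc : Cfsg.IsWeaklyClosedSubgroup p Q) (K : Subgroup H) (hQK : Q ≤ K) (N' : Subgroup H) [N'.Normal] : Cfsg.IsWeaklyClosedSubgroup p (Q.subgroupOf K) ∧ (∀ g : H, ((Q : Subgroup H).map (MulAut.conj (g : H)).toMonoidHom) ≤ K → ∃ k ∈ K, ((Q : Subgroup H).map (MulAut.conj (g : H)).toMonoidHom) = ((Q : Subgroup H).map (MulAut.conj (k : H)).toMonoidHom)) ∧ Cfsg.IsParabolic p ((Subgroup.normalizer ((Q : Subgroup H) : Set H)).subgroupOf K) ∧ (N' ⊓ Subgroup.normalizer ((Q : Subgroup H) : Set H)) ⊔ (Cfsg.pResidual p ↥N').map N'.subtype = N' ∧ Cfsg.IsWeaklyClosedSubgroup p (Q.map (QuotientGroup.mk' N')) := by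
  obtain ⟨T, hT1, hT2, hT3⟩ := Agent.H6.wc_sub hQp hwc hQK
  obtain ⟨S, hQS⟩ := hQp.exists_le_sylow
  have hSN : (S : Subgroup H) ≤ Subgroup.normalizer (Q : Set H) := Subgroup.le_normalizer.trans (Agent.H6.wc_norm hwc S.2 hQS)
  refine ⟨⟨T, hT1, hT2⟩, fun g hg => Agent.H6.wc_conj_in hQp hwc hQK hg, ⟨T, ?_⟩, ?_, ?_⟩
  · intro x hx
    exact hT3 ⟨x, hx, rfl⟩
  · have h1 : Agent.H6.SylIn p ((S : Subgroup H) ⊓ N') N' :=
      Agent.H6.SylIn.inf_subnormal (Agent.H6.sylow_sylIn_top S) (inferInstance : N'.Normal).isSubnormal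
    obtain ⟨P, hP⟩ := h1.exists_sylow
    have h2 := Agent.H1.sylow_sup_pResidual P
    have h3 := congrArg (Subgroup.map N'.subtype) h2
    rw [Subgroup.map_sup, hP, Subgroup.map_subgroupOf_eq_of_le inf_le_right, ← MonoidHom.range_eq_map, Subgroup.range_subtype] at h3
    refine le_antisymm (sup_le inf_le_left (Subgroup.map_subtype_le _)) ?_
    refine h3.ge.trans ?_
    exact sup_le_sup_right (le_inf inf_le_right (inf_le_left.trans hSN)) _
  · obtain ⟨π, hπ⟩ : ∃ π, π = QuotientGroup.mk' N' := ⟨_, rfl⟩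
    have hπs : Function.Surjective π := hπ ▸ QuotientGroup.mk'_surjective _
    have hker : π.ker = N' := by rw [hπ]; exact QuotientGroup.ker_mk' _
    rw [← hπ]
    refine ⟨S.mapSurjective hπs, ?_, ?_⟩
    · rw [Sylow.coe_mapSurjective]; exact Subgroup.map_mono hQS
    · intro g' hg'
      obtain ⟨g, rfl⟩ := hπs g'
      rw [Sylow.coe_mapSurjective] at hg'
      have h1 : Agent.H6.cj (π g) (Q.map π) ≤ (S : Subgroup H).map π := hg'
      rw [← Agent.H6.map_cj, Subgroup.map_le_iff_le_comap, Subgroup.comap_map_eq, hker] at h1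
      obtain ⟨k, hk, e⟩ := Agent.H6.wc_conj_in hQp hwc (hQS.trans le_sup_left) h1
      rw [sup_comm] at hk
      obtain ⟨n, hn, t, ht, rfl⟩ := Subgroup.mem_sup_of_normal_left.1 hk
      show Agent.H6.cj (π g) (Q.map π) = Q.map π
      rw [← Agent.H6.map_cj, e, Agent.H6.cj_mul, Agent.H6.cj_of_mem_norm (hSN ht), Agent.H6.map_cj]
      have h2 : π n = 1 := by rw [← MonoidHom.mem_ker, hker]; exact hn
      rw [h2, Agent.H6.cj_one]

end Cfsg.Agent.S2839
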