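import Cfsg.Statements.S2848
import Cfsg.Agent.H6.PMin2
import Cfsg.Agent.H6.PRed5
import Cfsg.Agent.H6.Large3

set_option autoImplicit false
open Cfsg

namespace Cfsg.Agent.S2848

open Subgroup Agent.H6 in
theorem main {G : Type*} [Group G] [Finite G] {p : ℕ} [Fact p.Prime] (S : Sylow p G) (M : Subgroup G) (hSM : (S : Subgroup G) ≤ M) (hM : Cfsg.IsInFrakM p M) : Cfsg.IsWeaklyClosedSubgroup p (((Cfsg.pCoreOf p M)).subgroupOf (M ⊔ Subgroup.centralizer (((Cfsg.largestPReducedOf p M) : Subgroup G) : Set G))) := by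
  obtain ⟨Y, hY⟩ : ∃ Y, Y = largestPReducedOf p M := ⟨_, rfl⟩
  obtain ⟨C, hC⟩ : ∃ C, C = centralizer (Y : Set G) := ⟨_, rfl⟩
  have hPR : PR p M Y := hY ▸ pr_largestOf M
  have hcl := hM.2.2.2.2.1
  rw [← hY, ← hC] at hcl ⊢
  have hMC : M ≤ normalizer (C : Set G) := by rw [hC]; exact norm_cent hPR.2.1
  have hSM' : SylIn p (S : Subgroup G) M := (sylow_sylIn_top S).of_le hSM le_top
  have hSC : SylIn p ((S : Subgroup G) ⊓ (M ⊓ C)) (M ⊓ C) := sylIn_inf_normal hSM' inf_le_left (norm_inf' le_normalizer hMC)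
  have hSC' : (S : Subgroup G) ⊓ (M ⊓ C) = (S : Subgroup G) ⊓ C := by rw [← inf_assoc, inf_eq_left.2 hSM]
  have hcore : pCoreOf p M = (S : Subgroup G) ⊓ C := by
    refine le_antisymm (le_inf (pCoreOf_le_sylIn hSM') (by rw [hC]; exact hPR.core)) ?_
    obtain ⟨P, hP⟩ := hSC.exists_sylow
    have h1 : (S : Subgroup G) ⊓ C = pCoreOf p (M ⊓ C) := by
      haveI := hcl P
      have h2 : pCore p ↥(M ⊓ C) = (P : Subgroup _) := le_antisymm (L0.pCore_le_sylow P) (L0.le_pCore P.2)
      unfold pCoreOf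
      rw [h2, hP, Subgroup.map_subgroupOf_eq_of_le hSC.le, hSC']
    rw [h1]
    exact pCoreOf_mono_normal inf_le_left (norm_inf' le_normalizer hMC)
  have hSD : SylIn p (S : Subgroup G) (M ⊔ C) := (sylow_sylIn_top S).of_le (hSM.trans le_sup_left) le_top
  obtain ⟨T, hT⟩ := hSD.exists_sylow
  have hDC : M ⊔ C ≤ normalizer (C : Set G) := sup_le hMC le_normalizer
  have hQD : pCoreOf p M ≤ M ⊔ C := by rw [hcore]; exact inf_le_right.trans le_sup_right
  refine ⟨T, ?_, fun g hg => ?_⟩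
  · rw [hT, hcore]; exact Subgroup.comap_mono inf_le_left
  · have e := cj_subgroupOf hQD g
    have e' : ((pCoreOf p M).subgroupOf (M ⊔ C)).map (MulAut.conj g).toMonoidHom = (cj (g : G) (pCoreOf p M)).subgroupOf (M ⊔ C) := e
    rw [e'] at hg ⊢
    rw [hT] at hg
    have h1 : cj (g : G) (pCoreOf p M) ≤ M ⊔ C := by
      have := cj_mono (g := (g : G)) hQD
      rwa [cj_of_mem g.2] at this
    have h2 : cj (g : G) (pCoreOf p M) ≤ (S : Subgroup G) := by
      intro y hy
      exact hg (show (⟨y, h1 hy⟩ : ↥(M ⊔ C)) ∈ _ from hy)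
    have h3 : cj (g : G) (pCoreOf p M) ≤ C := by
      have := cj_mono (g := (g : G)) (hcore ▸ inf_le_right : pCoreOf p M ≤ C)
      rwa [cj_of_mem_norm (hDC g.2)] at this
    have h4 : cj (g : G) (pCoreOf p M) = pCoreOf p M := by
      refine eq_of_le_of_card_ge ?_ (by rw [card_cj])
      conv_rhs => rw [hcore]
      exact le_inf h2 h3
    rw [h4]

/-- Standing hypotheses: G a finite group, S a Sylow p-subgroup, Q a nontrivial large p-subgroup of G contained in S (C_G(Q) ≤ Q and N_G(U) ≤ N_G(Q) for all nontrivial U ≤ C_G(Q)), and M a subgroup containing S with the basic property (M ∈ 𝔐_G(S)); Y_M denotes the largest p-reduced normal subgroup of M and M† = M·C_G(Y_M). Then O_p(M) is a weakly closed subgroup of M† (for p): it is the only M†-conjugate of itself inside some Sylow p-subgroup of M† containing it. -/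
theorem result {G : Type*} [Group G] [Finite G] {p : ℕ} [Fact p.Prime] (S : Sylow p G) (Q : Subgroup G) (hQp : IsPGroup p ↥Q) (hQ1 : Q ≠ ⊥) (hQS : Q ≤ (S : Subgroup G)) (hQ : Cfsg.IsLarge Q) (M : Subgroup G) (hSM : (S : Subgroup G) ≤ M) (hM : Cfsg.IsInFrakM p M) : Cfsg.IsWeaklyClosedSubgroup p (((Cfsg.pCoreOf p M)).subgroupOf (M ⊔ Subgroup.centralizer (((Cfsg.largestPReducedOf p M) : Subgroup G) : Set G))) := by
  exact main S M hSM hM

end Cfsg.Agent.S2848
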