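import Cfsg.Statements.S2849
import Cfsg.Agent.H6.PMin2
import Cfsg.Agent.H6.PRed5

set_option autoImplicit false
open Cfsg

namespace Cfsg.Agent.S2849

open Subgroup Agent.H6 in
theorem iSup_elab {G : Type*} [Group G] [Finite G] {p : ℕ} [Fact p.Prime] {ι : Type*} (f : ι → Subgroup G) (h1 : ∀ i, IsElementaryAbelian p (f i))
    (h2 : ∀ i j, ⁅f i, f j⁆ = ⊥) : IsElementaryAbelian p (⨆ i, f i) := by
  have hc : ∀ i j, f i ≤ centralizer (f j : Set G) := fun i j => commutator_eq_bot_iff_le_centralizer.1 (h2 i j)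
  have h3 : (⨆ i, f i) ≤ centralizer ((⨆ i, f i : Subgroup G) : Set G) := by
    refine iSup_le fun i => ?_
    rw [le_centralizer_iff]
    exact iSup_le fun j => hc j i
  rw [elab_iff]
  have hab : ∀ a ∈ ⨆ i, f i, ∀ b ∈ ⨆ i, f i, a * b = b * a := fun a ha b hb => mem_centralizer_iff.1 (h3 hb) a ha
  refine ⟨hab, fun a ha => ?_⟩
  have ha' := ha
  rw [iSup_eq_closure] at ha'
  suffices a ∈ (⨆ i, f i) ∧ a ^ p = 1 from this.2
  clear ha
  induction ha' using closure_induction with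
  | mem x hx =>
    obtain ⟨i, hi⟩ := Set.mem_iUnion.1 hx
    exact ⟨mem_iSup_of_mem i hi, (h1 i).2 x hi⟩
  | one => exact ⟨one_mem _, one_pow _⟩
  | mul x y _ _ hx hy =>
    refine ⟨mul_mem hx.1 hy.1, ?_⟩
    rw [(show Commute x y from hab x hx.1 y hy.1).mul_pow, hx.2, hy.2, one_mul]
  | inv x _ hx => exact ⟨inv_mem hx.1, by rw [inv_pow, hx.2, inv_one]⟩

open Subgroup Agent.H6 in
theorem main {G : Type*} [Group G] [Finite G] {p : ℕ} [Fact p.Prime] (M : Subgroup G) (hasym : ¬ Cfsg.IsSymmetricIn (Cfsg.largestPReducedOf p M)) (R : Subgroup G) (hYR : (Cfsg.largestPReducedOf p M) ≤ R) (hRM : R ≤ (M ⊔ Subgroup.centralizer (((Cfsg.largestPReducedOf p M) : Subgroup G) : Set G))) : Cfsg.IsElementaryAbelian p ((Subgroup.normalClosure ((((Cfsg.largestPReducedOf p M)).subgroupOf (Subgroup.normalizer ((R : Subgroup G) : Set G)) : Subgroup ↥(Subgroup.normalizer ((R : Subgroup G) : Set G))) : Set ↥(Subgroup.normalizer ((R : Subgroup G) : Set G)))).map (Subgroup.normalizer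 ((R : Subgroup G) : Set G)).subtype) := by
  obtain ⟨Y, hY⟩ : ∃ Y, Y = largestPReducedOf p M := ⟨_, rfl⟩
  have hPR : PR p M Y := hY ▸ pr_largestOf M
  rw [← hY] at hasym hYR hRM ⊢
  obtain ⟨N, hN⟩ : ∃ N, N = normalizer (R : Set G) := ⟨_, rfl⟩
  rw [← hN]
  have hRN : R ≤ N := by rw [hN]; exact le_normalizer
  have hRY : R ≤ normalizer (Y : Set G) := hRM.trans (sup_le hPR.2.1 (centralizer_le_norm Y))
  have hcR : ∀ g ∈ N, cj g R = R := fun g hg => cj_of_mem_norm (hN ▸ hg)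
  have key : ∀ g ∈ N, ⁅Y, cj g Y⁆ = ⊥ := by
    intro g hg
    by_contra hne
    apply hasym
    have h1 : cj g Y ≤ R := by rw [← hcR g hg]; exact cj_mono hYR
    have h2 : Y ≤ normalizer ((cj g Y : Subgroup G) : Set G) := by
      have := cj_mono (g := g) hRY
      rw [hcR g hg, cj_normalizer] at this
      exact hYR.trans this
    refine ⟨g, hne, le_inf ?_ ?_⟩
    · exact comm_le_iff_norm.2 (h1.trans hRY)
    · rw [commutator_comm]; exact comm_le_iff_norm.2 h2
  have h3 : IsElementaryAbelian p (⨆ g : ↥N, cj (g : G) Y) := by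
    refine iSup_elab _ (fun g => ?_) (fun g h => ?_)
    · have := hPR.2.2.1
      rw [elab_iff] at this ⊢
      refine ⟨?_, ?_⟩
      · rintro _ ⟨a, ha, rfl⟩ _ ⟨b, hb, rfl⟩
        rw [← map_mul, ← map_mul, this.1 a ha b hb]
      · rintro _ ⟨a, ha, rfl⟩
        rw [← map_pow, this.2 a ha, map_one]
    · have h4 := key (g⁻¹ * h) (mul_mem (inv_mem g.2) h.2)
      have h5 := congrArg (cj (g : G)) h4
      rw [cj_commutator, ← cj_mul] at h5
      have e : (g : G) * (((g⁻¹ : ↥N) : G) * (h : G)) = h := by simp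
      rw [e] at h5
      rw [h5]; exact cj_eq_bot.2 rfl
  refine elab_mono h3 ?_
  rw [Subgroup.map_le_iff_le_comap]
  unfold normalClosure
  rw [closure_le]
  intro x hx
  obtain ⟨y, hy, hxy⟩ := Group.mem_conjugatesOfSet_iff.1 hx
  obtain ⟨g, rfl⟩ := isConj_iff.1 hxy
  have h5 : (g : G) * y * (g : G)⁻¹ ∈ cj (g : G) Y := ⟨y, hy, rfl⟩
  exact (le_iSup (fun g : ↥N => cj (g : G) Y) g) h5

/-- Standing hypotheses: G a finite group, S a Sylow p-subgroup, Q a nontrivial large p-subgroup of G contained in S (C_G(Q) ≤ Q and N_G(U) ≤ N_G(Q) for all nontrivial U ≤ C_G(Q)), and M a subgroup containing S with the basic property (M ∈ 𝔐_G(S)); Y_M denotes the largest p-reduced normal subgroup of M and M† = M·C_G(Y_M). Suppose Y_M is asymmetric in G. Then for every subgroup R with Y_M ≤ R ≤ M†, the normal closure of Y_M in N_G(R) is elementary abelian. -/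
theorem result {G : Type*} [Group G] [Finite G] {p : ℕ} [Fact p.Prime] (S : Sylow p G) (Q : Subgroup G) (hQp : IsPGroup p ↥Q) (hQ1 : Q ≠ ⊥) (hQS : Q ≤ (S : Subgroup G)) (hQ : Cfsg.IsLarge Q) (M : Subgroup G) (hSM : (S : Subgroup G) ≤ M) (hM : Cfsg.IsInFrakM p M) (hasym : ¬ Cfsg.IsSymmetricIn (Cfsg.largestPReducedOf p M)) (R : Subgroup G) (hYR : (Cfsg.largestPReducedOf p M) ≤ R) (hRM : R ≤ (M ⊔ Subgroup.centralizer (((Cfsg.largestPReducedOf p M) : Subgroup G) : Set G))) : Cfsg.IsElementaryAbelian p ((Subgroup.normalClosure ((((Cfsg.largestPReducedOf p M)).subgroupOf (Subgroup.normalizer ((R : Subgroup G) : Set G)) : Subgroup ↥(Subgroup.normalizer ((R : Subgroup G) : Set G))) : Set ↥(Subgroup.normalizer ((R : Subgroup G) : Set G)))).map (Subgroup.normalizer ((R : Subgroup G) : Set G)).subtype) := by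
  exact main M hasym R hYR hRM

end Cfsg.Agent.S2849
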