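import Cfsg.Statements.S2872
import Cfsg.Agent.H6.ThTr

set_option autoImplicit false
open Cfsg

namespace Cfsg.Agent.S2872

theorem cyc2 {A : Type*} [Group A] [Finite A] [IsCyclic A] {t a : A} (ht : t ≠ 1) (ht2 : t * t = 1) (ha : a * a = 1) : a = 1 ∨ a = t := by
  classical
  by_contra hcon
  push Not at hcon
  letI : Fintype A := Fintype.ofFinite A
  have h1 := IsCyclic.card_pow_eq_one_le (α := A) (n := 2) (by norm_num)
  have h2 : ({1, t, a} : Finset A) ⊆ Finset.univ.filter fun x : A => x ^ 2 = 1 := by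
    intro x hx
    simp only [Finset.mem_insert, Finset.mem_singleton] at hx
    simp only [Finset.mem_filter, Finset.mem_univ, true_and, pow_two]
    rcases hx with rfl | rfl | rfl
    · simp
    · exact ht2
    · exact ha
  have h3 : ({1, t, a} : Finset A).card = 3 := by
    rw [Finset.card_insert_of_notMem, Finset.card_insert_of_notMem, Finset.card_singleton]
    · simp only [Finset.mem_singleton]; exact fun h => hcon.2 h.symm
    · simp only [Finset.mem_insert, Finset.mem_singleton, not_or]; exact ⟨ht.symm, hcon.1.symm⟩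
  have h4 := Finset.card_le_card h2
  omega

/-- Let S be a Sylow 2-subgroup of the finite group G. Then G has a proper normal subgroup of 2-power index (O²(G) ≠ G), or Ω₁(Z(S)) is contained in the Frattini subgroup of S, or N_G(S) acts nontrivially on Ω₁(Z(S)) by conjugation. -/
theorem result {G : Type*} [Group G] [Finite G] (S : Sylow 2 G) : Cfsg.pResidual 2 G ≠ ⊤ ∨ Cfsg.omegaOne 2 ((S : Subgroup G) ⊓ Subgroup.centralizer ((S : Subgroup G) : Set G)) ≤ (frattini ↥(S : Subgroup G)).map (S : Subgroup G).subtype ∨ ∃ g ∈ Subgroup.normalizer ((S : Subgroup G) : Set G), ∃ z ∈ Cfsg.omegaOne 2 ((S : Subgroup G) ⊓ Subgroup.centralizer ((S : Subgroup G) : Set G)), g * z * g⁻¹ ≠ z := by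
  classical
  by_cases hres : Cfsg.pResidual 2 G = ⊤
  swap
  · exact Or.inl hres
  right
  by_cases hΦ : Cfsg.omegaOne 2 ((S : Subgroup G) ⊓ Subgroup.centralizer ((S : Subgroup G) : Set G)) ≤ (frattini ↥(S : Subgroup G)).map (S : Subgroup G).subtype
  · exact Or.inl hΦ
  right
  have hex : ∃ y : G, (y ∈ (S : Subgroup G) ⊓ Subgroup.centralizer ((S : Subgroup G) : Set G) ∧ y ^ 2 = 1) ∧
      y ∉ (frattini ↥(S : Subgroup G)).map (S : Subgroup G).subtype := by
    by_contra hall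
    push Not at hall
    apply hΦ
    unfold Cfsg.omegaOne
    rw [Subgroup.closure_le]
    intro y hy
    exact hall y hy
  obtain ⟨y, ⟨hyZ, hy2⟩, hyΦ⟩ := hex
  obtain ⟨hyS, hyC⟩ := Subgroup.mem_inf.1 hyZ
  have hyf : (⟨y, hyS⟩ : ↥(S : Subgroup G)) ∉ frattini ↥(S : Subgroup G) := fun h => hyΦ ⟨_, h, rfl⟩
  obtain ⟨K, hK, hyK⟩ : ∃ K : Subgroup ↥(S : Subgroup G), IsCoatom K ∧ (⟨y, hyS⟩ : ↥(S : Subgroup G)) ∉ K := by
    by_contra hall
    push Not at hall
    apply hyf
    unfold frattini Order.radical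
    simp only [Subgroup.mem_iInf]
    intro K hK
    exact hall K hK
  have hnil : Group.IsNilpotent ↥(S : Subgroup G) := S.2.isNilpotent
  haveI hKn : K.Normal := Subgroup.NormalizerCondition.normal_of_coatom K (Group.normalizerCondition_of_isNilpotent) hK
  have hcyc : IsCyclic (↥(S : Subgroup G) ⧸ K) := by
    refine ⟨⟨QuotientGroup.mk' K ⟨y, hyS⟩, fun z => ?_⟩⟩
    obtain ⟨w, rfl⟩ := QuotientGroup.mk'_surjective K z
    have htop : K ⊔ Subgroup.zpowers (⟨y, hyS⟩ : ↥(S : Subgroup G)) = ⊤ := by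
      refine hK.2 _ (lt_of_le_of_ne le_sup_left fun h => hyK ?_)
      rw [h]
      exact Subgroup.mem_sup_right (Subgroup.mem_zpowers _)
    have hw : w ∈ K ⊔ Subgroup.zpowers (⟨y, hyS⟩ : ↥(S : Subgroup G)) := by rw [htop]; trivial
    obtain ⟨k, hk, v, ⟨n, hn⟩, rfl⟩ := (Subgroup.mem_sup_of_normal_left).1 hw
    refine ⟨n, ?_⟩
    have hn' : (⟨y, hyS⟩ : ↥(S : Subgroup G)) ^ n = v := hn
    show (QuotientGroup.mk' K ⟨y, hyS⟩) ^ n = _
    rw [← map_zpow, hn', map_mul]
    have : QuotientGroup.mk' K k = 1 := (QuotientGroup.eq_one_iff _).2 hk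
    rw [this, one_mul]
  letI cg : CommGroup (↥(S : Subgroup G) ⧸ K) := IsCyclic.commGroup
  let ϕ : ↥(S : Subgroup G) →* (↥(S : Subgroup G) ⧸ K) := QuotientGroup.mk' _
  have hyy : y * y = 1 := by rw [← pow_two, hy2]
  have ht : ϕ ⟨y, hyS⟩ ≠ 1 := by
    intro h
    have := (QuotientGroup.eq_one_iff _).1 h
    exact hyK this
  have ht2 : ϕ ⟨y, hyS⟩ * ϕ ⟨y, hyS⟩ = 1 := by
    rw [← map_mul]
    have : (⟨y, hyS⟩ : ↥(S : Subgroup G)) * ⟨y, hyS⟩ = 1 := Subtype.ext hyy
    rw [this, map_one]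
  have hval : ∀ s : ↥(S : Subgroup G), s * s = 1 → ϕ s = 1 ∨ ϕ s = ϕ ⟨y, hyS⟩ := by
    intro s hs
    exact cyc2 ht ht2 (by rw [← map_mul, hs, map_one])
  have hQp : IsPGroup 2 (↥(S : Subgroup G) ⧸ K) := S.2.to_quotient K
  have htr : ϕ.transfer y = 1 := by
    have h1 := Agent.H1.pResidual_le_ker hQp (ϕ.transfer)
    rw [hres] at h1
    exact h1 (Subgroup.mem_top y)
  obtain ⟨g, h1, h2, h3⟩ := Agent.H6.exists_extremal S ϕ y hyy _ ht ht2 hval htr
  have hSC : (S : Subgroup G) ⊓ Subgroup.centralizer {y} = (S : Subgroup G) := by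
    refine inf_eq_left.2 fun s hs => ?_
    rw [Subgroup.mem_centralizer_singleton_iff]
    exact (Subgroup.mem_centralizer_iff.1 hyC s hs)
  rw [hSC] at h3
  have hgN : g ∈ Subgroup.normalizer ((S : Subgroup G) : Set G) := by
    rw [Agent.H6.mem_norm]
    exact Subgroup.eq_of_le_of_card_ge (h3.trans inf_le_left) (Agent.H6.card_cj _ _).ge
  refine ⟨g, hgN, y, ?_, ?_⟩
  · exact Subgroup.subset_closure ⟨hyZ, hy2⟩
  · intro he
    obtain ⟨z, hz, hz2⟩ := h1
    rw [he] at hz2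
    have : z ∈ K := (QuotientGroup.eq_one_iff _).1 hz
    apply hyK
    have e : z = ⟨y, hyS⟩ := Subtype.ext hz2
    rw [← e]; exact this

end Cfsg.Agent.S2872
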