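import Cfsg.Statements.S2880
import Cfsg.Agent.H6.ExtraSplit

set_option autoImplicit false
open Cfsg

namespace Cfsg.Agent.S2880

open Cfsg.Agent.H6 in
theorem sum_flip {E : Type*} [Group E] (B : Subgroup E) [Fintype ↥B] (f : E → ℤ) {b₀ : E} (hb₀ : b₀ ∈ B)
    (h : ∀ b ∈ B, f (b * b₀) = - f b) : ∑ b : ↥B, f b = 0 := by
  have h1 : ∑ b : ↥B, f b = ∑ b : ↥B, f ((b : E) * b₀) := by
    exact (Equiv.sum_comp (Equiv.mulRight (⟨b₀, hb₀⟩ : ↥B)) (fun b : ↥B => f b)).symm
  have h2 : ∑ b : ↥B, f ((b : E) * b₀) = - ∑ b : ↥B, f b := by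
    rw [← Finset.sum_neg_distrib]
    exact Finset.sum_congr rfl fun b _ => h b b.2
  rw [h2] at h1
  omega

open Cfsg.Agent.H6 in
theorem comm_flip {E : Type*} [Group E] {z : E} (h : EData z) {x b b₀ : E} (hb : ¬ x * b₀ = b₀ * x) :
    x * (b * b₀) = b * b₀ * x ↔ ¬ x * b = b * x := by
  have h0 : x * b₀ = z * (b₀ * x) := (h.comm x b₀).resolve_left hb
  constructor
  · intro h1 h2
    apply hb
    have : b * (x * b₀) = b * (b₀ * x) := by
      calc b * (x * b₀) = (b * x) * b₀ := by group
        _ = x * b * b₀ := by rw [h2]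
        _ = x * (b * b₀) := by group
        _ = b * (b₀ * x) := by rw [h1]; group
    exact mul_left_cancel this
  · intro h1
    have h2 : x * b = z * (b * x) := (h.comm x b).resolve_left h1
    calc x * (b * b₀) = (x * b) * b₀ := by group
      _ = z * b * (x * b₀) := by rw [h2]; group
      _ = z * b * (z * (b₀ * x)) := by rw [h0]
      _ = z * (b * z) * (b₀ * x) := by group
      _ = z * (z * b) * (b₀ * x) := by rw [h.central b]
      _ = (z * z) * (b * b₀ * x) := by group
      _ = b * b₀ * x := by rw [h.zz, one_mul]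

/-- Let E be an extraspecial 2-group of order 2^(2m+1) of plus type, that is, containing an elementary abelian subgroup of order 2^(m+1) (equivalently, a central product of m dihedral groups of order 8). Then E has exactly 2^(2m) − 2^m elements of order 4. -/
theorem result {E : Type*} [Group E] [Finite E] (m : ℕ) (hm : 1 ≤ m) (hE : Cfsg.IsExtraspecial 2 E) (hcard : Nat.card E = 2 ^ (2 * m + 1)) (hplus : ∃ A : Subgroup E, Cfsg.IsElementaryAbelian 2 A ∧ Nat.card A = 2 ^ (m + 1)) : Nat.card {x : E // orderOf x = 4} = 2 ^ (2 * m) - 2 ^ m := by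
  classical
  obtain ⟨z, h⟩ := Agent.H6.edata_of_extraspecial hE
  obtain ⟨A, hA, hAc⟩ := hplus
  letI : Fintype E := Fintype.ofFinite E
  let sg : E → E → ℤ := fun x b => if x * b = b * x then 1 else -1
  have hsg : ∀ x b, sg x b = if x * b = b * x then 1 else -1 := fun _ _ => rfl
  have hflip : ∀ x b b₀ : E, ¬ x * b₀ = b₀ * x → sg x (b * b₀) = - sg x b := by
    intro x b b₀ hb
    rw [hsg, hsg]
    by_cases h1 : x * b = b * x
    · rw [if_neg (fun h2 => (comm_flip h hb).1 h2 h1), if_pos h1]
    · rw [if_pos ((comm_flip h hb).2 h1), if_neg h1]; norm_num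
  have hsym : ∀ x b, sg x b = sg b x := by
    intro x b
    rw [hsg, hsg]
    by_cases h1 : x * b = b * x
    · rw [if_pos h1, if_pos h1.symm]
    · rw [if_neg h1, if_neg (fun h2 => h1 h2.symm)]
  -- `|C_E(A)| ≤ |A|`
  have hCA : ∀ x : E, (∀ a ∈ A, x * a = a * x) → x ∈ A := by
    have hcomm : A ≤ Subgroup.centralizer (A : Set E) := Subgroup.le_centralizer_iff_isMulCommutative.2 hA.1
    have e1 : ∑ x : E, ∑ a : ↥A, sg x a = (Nat.card (Subgroup.centralizer (A : Set E)) : ℤ) * Nat.card A := by
      have : ∀ x : E, ∑ a : ↥A, sg x a = if x ∈ Subgroup.centralizer (A : Set E) then (Nat.card A : ℤ) else 0 := by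
        intro x
        by_cases hx : x ∈ Subgroup.centralizer (A : Set E)
        · rw [if_pos hx]
          have : ∀ a : ↥A, sg x a = 1 := fun a => if_pos (Subgroup.mem_centralizer_iff.1 hx a a.2).symm
          rw [Finset.sum_congr rfl fun a _ => this a]
          simp
        · rw [if_neg hx]
          rw [Subgroup.mem_centralizer_iff] at hx
          push Not at hx
          obtain ⟨a₀, ha₀, hne⟩ := hx
          exact sum_flip A (sg x) ha₀ fun b _ => hflip x b a₀ (fun h2 => hne h2.symm)
      rw [Finset.sum_congr rfl fun x _ => this x, Finset.sum_ite, Finset.sum_const, Finset.sum_const_zero, add_zero,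
        nsmul_eq_mul]
      congr 1
      rw [Nat.card_eq_fintype_card, Fintype.card_subtype]
    have e2 : ∑ x : E, ∑ a : ↥A, sg x a ≤ 2 * Nat.card E := by
      rw [Finset.sum_comm]
      have : ∀ a : ↥A, ∑ x : E, sg x a = if (a : E) = 1 ∨ (a : E) = z then (Nat.card E : ℤ) else 0 := by
        intro a
        by_cases ha : (a : E) = 1 ∨ (a : E) = z
        · rw [if_pos ha]
          have : ∀ x : E, sg x a = 1 := by
            intro x
            refine if_pos ?_
            rcases ha with ha | ha
            · rw [ha]; simp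
            · rw [ha]; exact h.central x
          rw [Finset.sum_congr rfl fun a _ => this a]
          simp
        · rw [if_neg ha]
          have hx : ∃ b₀ : E, ¬ (a : E) * b₀ = b₀ * a := by
            by_contra hall
            push Not at hall
            exact ha (h.cen a fun y => hall y)
          obtain ⟨b₀, hb₀⟩ := hx
          have h5 : ∑ x : E, sg x a = ∑ x : ↥(⊤ : Subgroup E), sg a x := by
            rw [← Equiv.sum_comp (Subgroup.topEquiv (G := E)).toEquiv]
            exact Finset.sum_congr rfl fun x _ => hsym _ _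
          rw [h5]
          exact sum_flip ⊤ (sg a) (Subgroup.mem_top b₀) fun b _ => hflip a b b₀ hb₀
      rw [Finset.sum_congr rfl fun x _ => this x, Finset.sum_ite, Finset.sum_const, Finset.sum_const_zero, add_zero,
        nsmul_eq_mul]
      have hc2 : (Finset.univ.filter fun a : ↥A => (a : E) = 1 ∨ (a : E) = z).card ≤ 2 := by
        have : (Finset.univ.filter fun a : ↥A => (a : E) = 1 ∨ (a : E) = z).map (Function.Embedding.subtype _) ⊆ ({1, z} : Finset E) := by
          intro y hy
          simp only [Finset.mem_map, Finset.mem_filter, Finset.mem_univ, true_and] at hy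
          obtain ⟨a, ha, rfl⟩ := hy
          simpa using ha
        have := Finset.card_le_card this
        rw [Finset.card_map] at this
        exact this.trans (Finset.card_le_two)
      have : (0 : ℤ) ≤ (Nat.card E : ℤ) := Int.natCast_nonneg _
      exact mul_le_mul_of_nonneg_right (by exact_mod_cast hc2) this
    rw [e1] at e2
    have e3 : Nat.card (Subgroup.centralizer (A : Set E)) * Nat.card A ≤ 2 * Nat.card E := by exact_mod_cast e2
    rw [hAc, hcard] at e3
    have e4 : Nat.card (Subgroup.centralizer (A : Set E)) ≤ Nat.card A := by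
      rw [hAc]
      have : (2 : ℕ) * 2 ^ (2 * m + 1) = 2 ^ (m + 1) * 2 ^ (m + 1) := by ring
      rw [this] at e3
      exact Nat.le_of_mul_le_mul_right e3 (by positivity)
    have e5 : A = Subgroup.centralizer (A : Set E) := Subgroup.eq_of_le_of_card_ge hcomm e4
    intro x hx
    rw [e5, Subgroup.mem_centralizer_iff]
    intro a ha
    exact (hx a ha).symm
  -- the sign of the square
  let f : E → ℤ := fun x => if x * x = 1 then 1 else -1
  have hf : ∀ x, f x = if x * x = 1 then 1 else -1 := fun _ => rfl
  have hsum : ∑ x : E, f x = 2 ^ (m + 1) := by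
    have e1 : ∑ x : E, ∑ a : ↥A, f (x * a) = (Nat.card A : ℤ) * ∑ x : E, f x := by
      rw [Finset.sum_comm]
      have : ∀ a : ↥A, ∑ x : E, f (x * a) = ∑ x : E, f x := fun a => Equiv.sum_comp (Equiv.mulRight (a : E)) f
      rw [Finset.sum_congr rfl fun a _ => this a, Finset.sum_const, nsmul_eq_mul]
      simp
    have e2 : ∀ x : E, ∑ a : ↥A, f (x * a) = if x ∈ A then (Nat.card A : ℤ) else 0 := by
      intro x
      by_cases hx : x ∈ A
      · rw [if_pos hx]
        have : ∀ a : ↥A, f (x * a) = 1 := by
          intro a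
          refine if_pos ?_
          have := hA.2 _ (mul_mem hx a.2)
          rwa [pow_two] at this
        rw [Finset.sum_congr rfl fun a _ => this a]
        simp
      · rw [if_neg hx]
        have hex : ∃ a₀ ∈ A, ¬ x * a₀ = a₀ * x := by
          by_contra hall
          push Not at hall
          exact hx (hCA x hall)
        obtain ⟨a₀, ha₀, hne⟩ := hex
        refine sum_flip A (fun a => f (x * a)) ha₀ ?_
        intro b hb
        -- (x b a₀)² = z (x b)²
        have ha₀2 : a₀ * a₀ = 1 := by have := hA.2 a₀ ha₀; rwa [pow_two] at this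
        have hba : b * a₀ = a₀ * b := by
          have := hA.1.is_comm.comm (⟨b, hb⟩ : A) ⟨a₀, ha₀⟩
          exact congrArg Subtype.val this
        have h1 : x * a₀ = z * (a₀ * x) := (h.comm x a₀).resolve_left hne
        have h2 : (x * (b * a₀)) * (x * (b * a₀)) = z * ((x * b) * (x * b)) := by
          calc (x * (b * a₀)) * (x * (b * a₀)) = x * (b * a₀) * (x * (a₀ * b)) := by rw [← hba]
            _ = x * b * a₀ * (x * a₀) * b := by group
            _ = x * b * a₀ * (z * (a₀ * x)) * b := by rw [h1]
            _ = x * b * (a₀ * z) * a₀ * x * b := by group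
            _ = x * b * (z * a₀) * a₀ * x * b := by rw [h.central a₀]
            _ = x * b * z * (a₀ * a₀) * x * b := by group
            _ = (x * b) * z * (x * b) := by rw [ha₀2]; group
            _ = z * (x * b) * (x * b) := by rw [h.central (x * b)]
            _ = _ := by group
        show f (x * (b * a₀)) = - f (x * b)
        rw [hf, hf, h2]
        rcases h.sq (x * b) with h3 | h3
        · rw [h3, if_neg (by rw [mul_one]; exact h.ne), if_pos rfl]
        · rw [h3, if_pos h.zz, if_neg h.ne]; norm_num
    rw [Finset.sum_congr rfl fun x _ => e2 x, Finset.sum_ite, Finset.sum_const, Finset.sum_const_zero, add_zero,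
      nsmul_eq_mul] at e1
    have e3 : ((Finset.univ.filter fun x : E => x ∈ A).card : ℤ) = (Nat.card A : ℤ) := by
      congr 1
      rw [Nat.card_eq_fintype_card, Fintype.card_subtype]
    rw [e3] at e1
    have hne : (Nat.card A : ℤ) ≠ 0 := by
      have : Nat.card A ≠ 0 := Nat.card_pos.ne'
      exact_mod_cast this
    have e4 := mul_left_cancel₀ hne e1
    rw [← e4, hAc]; norm_num
  -- elements of order four
  have hord : ∀ x : E, orderOf x = 4 ↔ ¬ x * x = 1 := by
    intro x
    constructor
    · intro h4 h2
      have : orderOf x ∣ 2 := orderOf_dvd_of_pow_eq_one (by rw [pow_two, h2])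
      rw [h4] at this
      omega
    · intro h2
      have h3 : x * x = z := (h.sq x).resolve_left h2
      have h4 : orderOf x = 2 ^ (1 + 1) := by
        refine orderOf_eq_prime_pow (hp := ⟨Nat.prime_two⟩) ?_ ?_
        · rw [pow_one, pow_two]; exact h2
        · have : x ^ 2 ^ (1 + 1) = (x * x) * (x * x) := by
            rw [show (2 : ℕ) ^ (1 + 1) = 2 * 2 from rfl, pow_mul, pow_two, pow_two]
          rw [this, h3, h.zz]
      rw [h4]; norm_num
  have hcount : Nat.card {x : E // orderOf x = 4} = (Finset.univ.filter fun x : E => ¬ x * x = 1).card := by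
    rw [Nat.card_eq_fintype_card, Fintype.card_subtype]
    congr 1
    ext x
    simp [hord x]
  have hsum2 : ∑ x : E, f x = ((Finset.univ.filter fun x : E => x * x = 1).card : ℤ) - (Finset.univ.filter fun x : E => ¬ x * x = 1).card := by
    rw [Finset.sum_congr rfl fun x _ => hf x, Finset.sum_ite]
    simp
    ring
  have htot : (Finset.univ.filter fun x : E => x * x = 1).card + (Finset.univ.filter fun x : E => ¬ x * x = 1).card = 2 ^ (2 * m + 1) := by
    rw [Finset.card_filter_add_card_filter_not, Finset.card_univ, ← Nat.card_eq_fintype_card, hcard]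
  rw [hcount]
  rw [hsum] at hsum2
  generalize (Finset.univ.filter fun x : E => x * x = 1).card = N₁ at *
  generalize (Finset.univ.filter fun x : E => ¬ x * x = 1).card = N₂ at *
  have h6 : (2 : ℤ) ^ (m + 1) = 2 * 2 ^ m := by ring
  have h7 : (2 : ℕ) ^ (2 * m + 1) = 2 * 2 ^ (2 * m) := by ring
  have h8 : (2 : ℕ) ^ m ≤ 2 ^ (2 * m) := Nat.pow_le_pow_right (by norm_num) (by omega)
  rw [h6] at hsum2
  rw [h7] at htot
  have h9 : ((2 : ℕ) ^ m : ℤ) = (2 : ℤ) ^ m := by norm_num
  zify [h8] at *
  linarith

end Cfsg.Agent.S2880
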