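import Cfsg.Statements.S2910
import Cfsg.Agent.S1946
import Cfsg.Agent.H1.Transfer

set_option autoImplicit false
open Cfsg

namespace Cfsg.Agent.S2910

/-- Let p be an odd prime dividing the order of the finite group G and P a Sylow p-subgroup of G. If Ω₁(P) (generated by the elements of order dividing p) is contained in the centre of G, then G has a normal p-complement. In particular, if G is quasisimple then Ω₁(P) is not central in G. -/
theorem result {G : Type*} [Group G] [Finite G] {p : ℕ} [Fact p.Prime] (hp : p ≠ 2) (hdiv : p ∣ Nat.card G) (P : Sylow p G) (hZ : Cfsg.omegaOne p (P : Subgroup G) ≤ Subgroup.center G) : Cfsg.HasNormalPComplement p G ∧ ¬ Cfsg.IsQuasisimple G := by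
  have hnp : Cfsg.HasNormalPComplement p G := by
    refine (Agent.S1946.result P).2 ?_
    intro a ha hap g _
    have h1 : a ^ p = 1 := hap.resolve_right fun h => hp h.1
    have h2 : a ∈ Subgroup.center G := hZ (Subgroup.subset_closure ⟨ha, h1⟩)
    refine ⟨1, one_mem _, ?_⟩
    rw [← (Subgroup.mem_center_iff.1 h2 g).symm]
    group
    done
  refine ⟨hnp, ?_⟩
  rintro ⟨hperf, -⟩
  obtain ⟨N, hN, hNc, k, hk⟩ := Agent.H1.hasNormalPComplement_iff.1 hnp
  have hq : IsPGroup p (G ⧸ N) := IsPGroup.of_card (n := k) (by rw [← Subgroup.index_eq_card]; exact hk)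
  haveI hnil : Group.IsNilpotent (G ⧸ N) := hq.isNilpotent
  haveI hsol : Group.IsSolvable (G ⧸ N) := by infer_instance
  have htriv : N = ⊤ := by
    by_contra hne
    haveI : Nontrivial (G ⧸ N) := QuotientGroup.nontrivial_iff.2 hne
    have h1 := Group.IsSolvable.commutator_lt_top_of_nontrivial (G ⧸ N)
    refine h1.ne ?_
    have h2 : _root_.commutator G = ⊤ := hperf.commutator_eq_top
    have h3 := Subgroup.map_commutator (⊤ : Subgroup G) ⊤ (QuotientGroup.mk' N)
    rw [Subgroup.map_top_of_surjective _ (QuotientGroup.mk'_surjective N)] at h3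
    rw [_root_.commutator_def, ← h3, ← _root_.commutator_def, h2]
    exact Subgroup.map_top_of_surjective _ (QuotientGroup.mk'_surjective N)
  rw [htriv, Subgroup.card_top] at hNc
  exact (Nat.Prime.coprime_iff_not_dvd Fact.out).1 hNc.symm hdiv

end Cfsg.Agent.S2910
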