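import Cfsg.Statements.S2940
import Cfsg.Agent.H6.PMin2

set_option autoImplicit false
open Cfsg

namespace Cfsg.Agent.S2940

open Subgroup Agent.H6 in
theorem main {G : Type*} [Group G] [Finite G] {p : ℕ} [Fact p.Prime] (S : Sylow p G) (G₁ G₂ : Subgroup G) (h1 : (S : Subgroup G) ≤ G₁) (h2 : (S : Subgroup G) ≤ G₂) (hfact : ∀ g : G, ∃ g₁ ∈ G₁, ∃ g₂ ∈ G₂, g = g₁ * g₂) (g : G) : ∃ U : Sylow p G, (S : Subgroup G) ⊓ cj g⁻¹ (S : Subgroup G) ≤ (U : Subgroup G) ∧ (U : Subgroup G) ≤ G₁ ⊓ cj g⁻¹ G₂ := by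
  obtain ⟨g₁, hg₁, g₂, hg₂, e⟩ := hfact g⁻¹
  have e1 : cj g⁻¹ G₂ = cj g₁ G₂ := by rw [e, cj_mul, cj_of_mem hg₂]
  have h3 : cj g₁ (S : Subgroup G) ≤ G₁ ⊓ cj g⁻¹ G₂ := by
    rw [e1]
    refine le_inf ?_ (cj_mono h2)
    have := cj_mono (g := g₁) h1
    rwa [cj_of_mem hg₁] at this
  have h4 : SylIn p (cj g₁ (S : Subgroup G)) (⊤ : Subgroup G) := by
    have := (sylow_sylIn_top S).cj g₁
    rwa [cj_of_mem (mem_top g₁)] at this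
  have h5 : SylIn p (cj g₁ (S : Subgroup G)) (G₁ ⊓ cj g⁻¹ G₂) := h4.of_le h3 le_top
  have h6 : (S : Subgroup G) ⊓ cj g⁻¹ (S : Subgroup G) ≤ G₁ ⊓ cj g⁻¹ G₂ := inf_le_inf h1 (cj_mono h2)
  have h7 : IsPGroup p ↥(((S : Subgroup G) ⊓ cj g⁻¹ (S : Subgroup G)).subgroupOf (G₁ ⊓ cj g⁻¹ G₂)) :=
    (S.2.to_le inf_le_left).comap_of_injective _ (Subgroup.subtype_injective _)
  obtain ⟨U, hU⟩ := h7.exists_le_sylow
  obtain ⟨x, -, hx⟩ := h5.conj (sylow_sylIn U)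
  have h8 : SylIn p ((U : Subgroup ↥(G₁ ⊓ cj g⁻¹ G₂)).map (G₁ ⊓ cj g⁻¹ G₂).subtype) (⊤ : Subgroup G) := by
    rw [← hx]
    have := h4.cj x
    rwa [cj_of_mem (mem_top x)] at this
  obtain ⟨U', hU'⟩ : ∃ U' : Sylow p G, (U' : Subgroup G) = (U : Subgroup ↥(G₁ ⊓ cj g⁻¹ G₂)).map (G₁ ⊓ cj g⁻¹ G₂).subtype :=
    ⟨h8.isPGroup.toSylow (by rw [← relIndex_top_right]; exact h8.2.2), rfl⟩
  refine ⟨U', ?_, ?_⟩
  · rw [hU', ← Subgroup.map_subgroupOf_eq_of_le h6]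
    exact Subgroup.map_mono hU
  · rw [hU']; exact Subgroup.map_subtype_le _

/-- Let S be a Sylow p-subgroup of the finite group G and G₁, G₂ subgroups containing S with G = G₁G₂. Then for every g ∈ G there is a Sylow p-subgroup U of G with S ∩ S^g ≤ U ≤ G₁ ∩ G₂^g (conjugates taken as X^g = g⁻¹Xg). -/
theorem result {G : Type*} [Group G] [Finite G] {p : ℕ} [Fact p.Prime] (S : Sylow p G) (G₁ G₂ : Subgroup G) (h1 : (S : Subgroup G) ≤ G₁) (h2 : (S : Subgroup G) ≤ G₂) (hfact : ∀ g : G, ∃ g₁ ∈ G₁, ∃ g₂ ∈ G₂, g = g₁ * g₂) (g : G) : ∃ U : Sylow p G, (S : Subgroup G) ⊓ Cfsg.subgroupConjRight g (S : Subgroup G) ≤ (U : Subgroup G) ∧ (U : Subgroup G) ≤ G₁ ⊓ Cfsg.subgroupConjRight g G₂ := by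
  exact main S G₁ G₂ h1 h2 hfact g

end Cfsg.Agent.S2940
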