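import Cfsg.Statements.S2968
import Cfsg.Agent.S1939
-- import your own Cfsg.Agent.* helpers here

set_option autoImplicit false
open Cfsg

namespace Cfsg.Agent.S2968

/-- Let G be a finite group, p a prime, P a Sylow p-subgroup of G and x ∈ P an element of p-power order which is isolated in G (the only conjugate of x commuting with x is x itself). Then x lies in the centre of P, and the subgroup generated by x is both strongly closed and weakly closed in P with respect to G. -/
theorem result {G : Type*} [Group G] [Finite G] {p : ℕ} [Fact p.Prime] (P : Sylow p G) (x : G) (hxP : x ∈ (P : Subgroup G)) (hx : ∃ k : ℕ, orderOf x = p ^ k) (hiso : Cfsg.IsIsolated x) : x ∈ (P : Subgroup G) ⊓ Subgroup.centralizer ((P : Subgroup G) : Set G) ∧ Cfsg.IsStronglyClosed (Subgroup.zpowers x) (P : Subgroup G) ∧ Cfsg.IsWeaklyClosed (Subgroup.zpowers x) (P : Subgroup G) := by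
  classical
  have hcen : ∀ y ∈ (P : Subgroup G), y * x = x * y := by
    obtain ⟨Q, hQ⟩ : ∃ Q : Subgroup ↥(P : Subgroup G), Q = Subgroup.centralizer {(⟨x, hxP⟩ : ↥(P : Subgroup G))} := ⟨_, rfl⟩
    have hQm : ∀ y : ↥(P : Subgroup G), y ∈ Q ↔ y * ⟨x, hxP⟩ = ⟨x, hxP⟩ * y := by
      intro y
      rw [hQ, Subgroup.mem_centralizer_singleton_iff]
    have hQt : Q = ⊤ := by
      by_contra hne
      haveI : Group.IsNilpotent ↥(P : Subgroup G) := P.isPGroup'.isNilpotent
      have h1 := Group.normalizerCondition_of_isNilpotent (G := ↥(P : Subgroup G)) Q (lt_top_iff_ne_top.mpr hne)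
      obtain ⟨g, hg, hgQ⟩ := SetLike.exists_of_lt h1
      apply hgQ
      have h2 := (Subgroup.mem_set_normalizer_iff.mp hg ⟨x, hxP⟩).mp (by
        change (⟨x, hxP⟩ : ↥(P : Subgroup G)) ∈ Q
        rw [hQm])
      have h3 : (g * ⟨x, hxP⟩ * g⁻¹ : ↥(P : Subgroup G)) * ⟨x, hxP⟩ = ⟨x, hxP⟩ * (g * ⟨x, hxP⟩ * g⁻¹) := (hQm _).mp h2
      have h4 := congrArg Subtype.val h3
      have h5 := hiso (g : G) h4.symm
      rw [hQm]
      apply Subtype.ext
      change (g : G) * x = x * g
      calc (g : G) * x = ((g : G) * x * (g : G)⁻¹) * g := by group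
        _ = x * g := by rw [h5]
    intro y hy
    have : (⟨y, hy⟩ : ↥(P : Subgroup G)) ∈ Q := by rw [hQt]; exact Subgroup.mem_top _
    exact congrArg Subtype.val ((hQm _).mp this)
  have hwc : ∀ g : G, g * x * g⁻¹ ∈ (P : Subgroup G) → g * x * g⁻¹ = x := fun g hg => hiso g (hcen _ hg).symm
  have hpow := Cfsg.Agent.S1939.result P x hxP hwc
  have hzP : Subgroup.zpowers x ≤ (P : Subgroup G) := by rw [Subgroup.zpowers_le]; exact hxP
  have hstr : ∀ y ∈ Subgroup.zpowers x, ∀ g : G, g * y * g⁻¹ ∈ (P : Subgroup G) → g * y * g⁻¹ = y := by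
    intro y hy g hg
    obtain ⟨n, rfl⟩ := (Submonoid.mem_powers_iff _ _).mp (mem_powers_iff_mem_zpowers.mpr hy)
    exact hpow n g hg
  refine ⟨Subgroup.mem_inf.mpr ⟨hxP, ?_⟩, ⟨hzP, ?_⟩, ⟨hzP, ?_⟩⟩
  · rw [Subgroup.mem_centralizer_iff]
    intro y hy
    exact hcen y hy
  · intro y hy g hg
    rw [hstr y hy g hg]; exact hy
  · intro g hg
    have h1 : g * x * g⁻¹ = x := hwc g (hg ⟨x, Subgroup.mem_zpowers x, rfl⟩)
    rw [MonoidHom.map_zpowers]
    congr 1

end Cfsg.Agent.S2968
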