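import Cfsg.Statements.S2969
import Cfsg.Agent.H6.PMin2

set_option autoImplicit false
open Cfsg

namespace Cfsg.Agent.S2969

open Subgroup Agent.H6 in
theorem m1 {G : Type*} [Group G] [Finite G] {p : ℕ} [Fact p.Prime] (x : G) (hiso : Cfsg.IsIsolated x) (R : Subgroup G) (hR : IsPGroup p ↥R) (hxR : x ∈ R) : Subgroup.normalizer (R : Set G) ≤ Subgroup.centralizer ({x} : Set G) := by
  have h1 : R ≤ centralizer ({x} : Set G) := by
    by_contra hcon
    have hlt : R ⊓ centralizer ({x} : Set G) < R := lt_of_le_of_ne inf_le_left fun h => hcon (inf_eq_left.1 h)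
    obtain ⟨g, hg, hgC⟩ := SetLike.exists_of_lt (lt_inf_normalizer hR hlt)
    have h2 : g * x * g⁻¹ ∈ R ⊓ centralizer ({x} : Set G) :=
      le_norm_iff.1 (inf_le_right : R ⊓ normalizer ((R ⊓ centralizer ({x} : Set G) : Subgroup G) : Set G) ≤ _) g hg x
        ⟨hxR, mem_centralizer_singleton_iff.2 rfl⟩
    have h3 := hiso g (mem_centralizer_singleton_iff.1 h2.2).symm
    apply hgC
    refine mem_inf.2 ⟨hg.1, ?_⟩
    rw [mem_centralizer_singleton_iff]
    rw [mul_inv_eq_iff_eq_mul] at h3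
    exact h3
  intro g hg
  have h2 : g * x * g⁻¹ ∈ R := le_norm_iff.1 le_rfl g hg x hxR
  have h3 := hiso g (mem_centralizer_singleton_iff.1 (h1 h2)).symm
  rw [mem_centralizer_singleton_iff]
  rw [mul_inv_eq_iff_eq_mul] at h3
  exact h3

open Subgroup Agent.H6 in
theorem m2 {G : Type*} [Group G] [Finite G] {p : ℕ} [Fact p.Prime] (x : G) (hx : ∃ k : ℕ, orderOf x = p ^ k) (hiso : Cfsg.IsIsolated x) (H N : Subgroup G) (hNH : N ≤ H) (hHN : H ≤ Subgroup.normalizer (N : Set G)) (hxN : x ∈ N) : N ⊔ (H ⊓ Subgroup.centralizer ({x} : Set G)) = H := by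
  refine le_antisymm (sup_le hNH inf_le_left) fun h hh => ?_
  obtain ⟨k, hk⟩ := hx
  have hzp : IsPGroup p ↥(zpowers x) := IsPGroup.of_card (n := k) (by rw [Nat.card_zpowers, hk])
  obtain ⟨P, hP, hxP⟩ := exists_sylIn_ge hzp (by rw [zpowers_le]; exact hxN)
  rw [zpowers_le] at hxP
  have h1 := hP.cj h
  rw [cj_of_mem_norm (hHN hh)] at h1
  obtain ⟨n, hn, e⟩ := h1.conj hP
  have h2 : n * h ∈ normalizer (P : Set G) := by rw [mem_norm, cj_mul]; exact e
  have h3 := m1 x hiso P hP.isPGroup hxP h2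
  have e2 : h = n⁻¹ * (n * h) := by group
  rw [e2]
  exact mul_mem (mem_sup_left (inv_mem hn)) (mem_sup_right ⟨mul_mem (hNH hn) hh, h3⟩)

/-- Let G be a finite group, p a prime and x ∈ G an element of p-power order which is isolated in G. If R is a p-subgroup of G containing x, then N_G(R) ≤ C_G(x); in particular x lies in the centre of R. Moreover, if x lies in a normal subgroup N of a subgroup H of G, then H = N·C_H(x). -/
theorem result {G : Type*} [Group G] [Finite G] {p : ℕ} [Fact p.Prime] (x : G) (hx : ∃ k : ℕ, orderOf x = p ^ k) (hiso : Cfsg.IsIsolated x) : (∀ R : Subgroup G, IsPGroup p ↥R → x ∈ R → Subgroup.normalizer (R : Set G) ≤ Subgroup.centralizer ({x} : Set G)) ∧ (∀ H N : Subgroup G, N ≤ H → H ≤ Subgroup.normalizer (N : Set G) → x ∈ N → N ⊔ (H ⊓ Subgroup.centralizer ({x} : Set G)) = H) := by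
  exact ⟨fun R hR hxR => m1 x hiso R hR hxR, fun H N hNH hHN hxN => m2 x hx hiso H N hNH hHN hxN⟩

end Cfsg.Agent.S2969
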