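import Cfsg.Statements.S2970
import Cfsg.Agent.S2969
import Cfsg.Agent.H6.PNil4
import Cfsg.Agent.H1.Rank1
import Cfsg.Agent.H1.Transfer
import Cfsg.Agent.L0.Coprime2

set_option autoImplicit false
open Cfsg

namespace Cfsg.Agent.S2970

open Subgroup Agent.H6 in
theorem n1 {G : Type*} [Group G] [Finite G] {p : ℕ} [Fact p.Prime] (x : G) (hx : ∃ k : ℕ, orderOf x = p ^ k) (hiso : Cfsg.IsIsolated x) (N : Subgroup G) [hN : N.Normal] : Cfsg.IsIsolated (QuotientGroup.mk x : G ⧸ N) := by
  intro gb hc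
  obtain ⟨g, rfl⟩ := QuotientGroup.mk_surjective gb
  have hord : orderOf (g * x * g⁻¹) = orderOf x := by
    have := orderOf_injective (MulAut.conj g).toMonoidHom (MulAut.conj g).injective x
    rw [← this]; simp [MulAut.conj_apply]
  obtain ⟨k, hk⟩ := hx
  have hzp : ∀ y : G, orderOf y = orderOf x → IsPGroup p ↥(zpowers y) := fun y hy =>
    IsPGroup.of_card (n := k) (by rw [Nat.card_zpowers, hy, hk])
  set f := QuotientGroup.mk' N
  have hc' : f x * f (g * x * g⁻¹) = f (g * x * g⁻¹) * f x := hc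
  set K := (Subgroup.centralizer {f (g * x * g⁻¹)}).comap f with hK
  have hxK : x ∈ K := by
    rw [hK, mem_comap, mem_centralizer_singleton_iff]; exact hc'
  have hyK : g * x * g⁻¹ ∈ K := by
    rw [hK, mem_comap, mem_centralizer_singleton_iff]
  obtain ⟨R, hR, hxR⟩ := exists_sylIn_ge (hzp x rfl) (by rw [zpowers_le]; exact hxK)
  rw [zpowers_le] at hxR
  obtain ⟨l, hl, hle⟩ := hR.exists_conj_le (hzp _ hord) (by rw [zpowers_le]; exact hyK)
  have h1 : l * (g * x * g⁻¹) * l⁻¹ ∈ R := hle (mem_cj.2 (by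
    have : l⁻¹ * (l * (g * x * g⁻¹) * l⁻¹) * l = g * x * g⁻¹ := by group
    rw [this]; exact mem_zpowers _))
  have h2 : l * (g * x * g⁻¹) * l⁻¹ = (l * g) * x * (l * g)⁻¹ := by group
  have h3 := mem_centralizer_singleton_iff.1 (S2969.m1 x hiso R hR.isPGroup hxR (le_normalizer h1))
  rw [h2] at h3
  have h4 := hiso (l * g) h3.symm
  rw [← h2] at h4
  have h5 : f (g * x * g⁻¹) = f x := by
    rw [hK, mem_comap, mem_centralizer_singleton_iff] at hl
    have h6 := congrArg f h4
    generalize g * x * g⁻¹ = y at *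
    rw [map_mul, map_mul, map_inv, hl, mul_inv_cancel_right] at h6
    exact h6
  exact h5

open Subgroup Agent.H6 in
theorem n2 {G : Type*} [Group G] [Finite G] {p : ℕ} [Fact p.Prime] (x : G) (hx : ∃ k : ℕ, orderOf x = p ^ k) (hiso : Cfsg.IsIsolated x) (hx1 : x ≠ 1) (hcyc : ∀ P : Sylow p G, IsCyclic ↥(P : Subgroup G)) : Cfsg.HasNormalPComplement p G := by
  obtain ⟨k, hk⟩ := hx
  have hzp : IsPGroup p ↥(zpowers x) := IsPGroup.of_card (n := k) (by rw [Nat.card_zpowers, hk])
  obtain ⟨P, hxP⟩ := hzp.exists_le_sylow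
  rw [zpowers_le] at hxP
  have hP := hcyc P
  have hab : ∀ a ∈ (P : Subgroup G), ∀ b ∈ (P : Subgroup G), a * b = b * a := by
    intro a ha b hb
    have := (IsCyclic.commGroup (α := ↥(P : Subgroup G))).mul_comm ⟨a, ha⟩ ⟨b, hb⟩
    exact congrArg Subtype.val this
  have hNC := S2969.m1 x hiso P P.2 hxP
  apply H1.hasNormalPComplement_of_normalizer_le_centralizer P
  have key : ∀ g ∈ Subgroup.normalizer ((P : Subgroup G) : Set G), (orderOf g).Coprime p → g ∈ Subgroup.centralizer ((P : Subgroup G) : Set G) := by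
    intro g hg hgo
    have hA : zpowers g ≤ Subgroup.normalizer ((P : Subgroup G) : Set G) := by rw [zpowers_le]; exact hg
    have hcop : (Nat.card ↥(zpowers g)).Coprime (Nat.card ↥(P : Subgroup G)) := by
      rw [Nat.card_zpowers]
      obtain ⟨m, hm⟩ := IsPGroup.iff_card.1 P.2
      rw [hm]
      exact Nat.Coprime.pow_right m hgo
    have h1 := L0.centralizer_inf_commutator_of_abelian hA hcop hab
    have hxC : x ∈ (P : Subgroup G) ⊓ Subgroup.centralizer (zpowers g : Set G) := by
      refine mem_inf.2 ⟨hxP, ?_⟩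
      exact mem_centralizer_iff.2 fun h hh => mem_centralizer_singleton_iff.1 ((zpowers_le.2 (hNC hg)) hh)
    have hcomm : ⁅(P : Subgroup G), zpowers g⁆ ≤ (P : Subgroup G) := by
      rw [commutator_le]
      intro a ha b hb
      rw [commutatorElement_def]
      have e : a * b * a⁻¹ * b⁻¹ = a * (b * a⁻¹ * b⁻¹) := by group
      rw [e]
      exact mul_mem ha (le_norm_iff.1 hA b hb _ (inv_mem ha))
    have h2 : ⁅(P : Subgroup G), zpowers g⁆ = ⊥ := by
      rcases H1.cyclic_pgroup_total hP P.2 (inf_le_left : (P : Subgroup G) ⊓ Subgroup.centralizer (zpowers g : Set G) ≤ P) hcomm with h | h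
      · exfalso
        have h3 := mem_inf.2 ⟨hxC, h hxC⟩
        rw [h1, mem_bot] at h3
        exact hx1 h3
      · rw [← h1, inf_eq_right.2 h]
    rw [commutator_comm, commutator_eq_bot_iff_le_centralizer, zpowers_le] at h2
    exact h2
  intro n hn
  have hPN : (P : Subgroup G) ≤ Subgroup.normalizer ((P : Subgroup G) : Set G) := le_normalizer
  have htop := top_le_opR_sup (P.subtype hPN)
  have hle : opR p (⊤ : Subgroup ↥(Subgroup.normalizer ((P : Subgroup G) : Set G))) ⊔ (P.subtype hPN : Subgroup ↥(Subgroup.normalizer ((P : Subgroup G) : Set G))) ≤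
      (Subgroup.centralizer ((P : Subgroup G) : Set G)).subgroupOf (Subgroup.normalizer ((P : Subgroup G) : Set G)) := by
    refine sup_le ?_ ?_
    · refine (Subgroup.closure_le _).2 ?_
      rintro y ⟨-, hy⟩
      rw [SetLike.mem_coe, mem_subgroupOf]
      exact key y y.2 (by rwa [Subgroup.orderOf_coe])
    · intro y hy
      rw [mem_subgroupOf]
      have hy' : (y : G) ∈ (P : Subgroup G) := hy
      rw [mem_centralizer_iff]
      intro b hb
      exact hab b hb y hy'
  have h5 := hle (htop (mem_top (⟨n, hn⟩ : ↥(Subgroup.normalizer ((P : Subgroup G) : Set G)))))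
  exact mem_subgroupOf.1 h5

/-- Let G be a finite group, p a prime and x ∈ G an element of p-power order which is isolated in G. Then the image of x in any quotient G ⧸ N is isolated in G ⧸ N; and if x ≠ 1 and the Sylow p-subgroups of G are cyclic, then G has a normal p-complement. -/
theorem result {G : Type*} [Group G] [Finite G] {p : ℕ} [Fact p.Prime] (x : G) (hx : ∃ k : ℕ, orderOf x = p ^ k) (hiso : Cfsg.IsIsolated x) : (∀ (N : Subgroup G) [N.Normal], Cfsg.IsIsolated (QuotientGroup.mk x : G ⧸ N)) ∧ (x ≠ 1 → (∀ P : Sylow p G, IsCyclic ↥(P : Subgroup G)) → Cfsg.HasNormalPComplement p G) := by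
  exact ⟨fun N _ => n1 x hx hiso N, fun hx1 hcyc => n2 x hx hiso hx1 hcyc⟩

end Cfsg.Agent.S2970
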