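import Cfsg.Statements.S2971
import Cfsg.Agent.H6.Omega2
import Cfsg.Agent.H6.CD
import Cfsg.Agent.L0.Coprime
import Cfsg.Agent.L0.Core

set_option autoImplicit false
open Cfsg

namespace Cfsg.Agent.S2971

theorem uniq {G : Type*} [Group G] [Finite G] {p : ℕ} [Fact p.Prime] (hrk : Cfsg.PRankLE p 1 G) {Q : Subgroup G}
    (hQ : IsPGroup p ↥Q) {a b : G} (ha : a ∈ Q) (hb : b ∈ Q) (hap : orderOf a = p) (hbp : orderOf b = p) :
    b ∈ Subgroup.zpowers a := by
  have hnt : Nontrivial ↥Q := by
    refine ⟨⟨⟨a, ha⟩, 1, fun h => ?_⟩⟩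
    have : a = 1 := congrArg Subtype.val h
    rw [this, orderOf_one] at hap
    exact (Fact.out : p.Prime).ne_one hap.symm
  have hcn := hQ.center_nontrivial
  have hdvd : p ∣ Nat.card (Subgroup.center ↥Q) := by
    obtain ⟨n, hn⟩ := IsPGroup.iff_card.1 (hQ.to_subgroup (Subgroup.center ↥Q))
    rw [hn]
    refine dvd_pow_self p ?_
    rintro rfl
    rw [pow_zero] at hn
    have := Finite.one_lt_card (α := Subgroup.center ↥Q)
    omega
  obtain ⟨z, hz⟩ := exists_prime_orderOf_dvd_card' p hdvd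
  have hzo : orderOf ((z : ↥Q) : G) = p := by
    rw [Subgroup.orderOf_coe, Subgroup.orderOf_coe, hz]
  have key : ∀ c ∈ Q, orderOf c = p → c ∈ Subgroup.zpowers ((z : ↥Q) : G) := by
    intro c hc hcp
    have hcom : Commute ((z : ↥Q) : G) c := by
      have := Subgroup.mem_center_iff.1 z.2 ⟨c, hc⟩
      exact (congrArg Subtype.val this).symm
    have hcom1 : Subgroup.zpowers ((z : ↥Q) : G) ≤ Subgroup.centralizer (Subgroup.zpowers c : Set G) := by
      rw [Subgroup.zpowers_le, Subgroup.mem_centralizer_iff]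
      rintro _ ⟨k, rfl⟩
      exact (hcom.zpow_right k).eq.symm
    have hA : IsMulCommutative ↥(Subgroup.zpowers ((z : ↥Q) : G) ⊔ Subgroup.zpowers c) :=
      Agent.H6.CD.comm_sup inferInstance inferInstance hcom1
    have h1 := hrk (Subgroup.zpowers ((z : ↥Q) : G) ⊔ Subgroup.zpowers c) hA (by
      intro x hx
      have hn : Subgroup.zpowers c ≤ Subgroup.normalizer ((Subgroup.zpowers ((z : ↥Q) : G) : Subgroup G) : Set G) :=
        (Subgroup.le_centralizer_iff.1 hcom1).trans (Subgroup.centralizer_le_normalizer _)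
      obtain ⟨y, hy, w, hw, rfl⟩ := (Agent.L0.mem_sup_of_normalizes hn).1 hx
      obtain ⟨i, rfl⟩ := hy
      obtain ⟨j, rfl⟩ := hw
      have hc1 : Commute (((z : ↥Q) : G) ^ i) (c ^ j) := hcom.zpow_zpow i j
      show ((((z : ↥Q) : G) ^ i) * (c ^ j)) ^ p = 1
      rw [hc1.mul_pow, ← zpow_natCast, ← zpow_natCast, ← zpow_mul, ← zpow_mul, mul_comm i, mul_comm j, zpow_mul, zpow_mul,
        zpow_natCast, zpow_natCast]
      have e1 : ((z : ↥Q) : G) ^ p = 1 := by rw [← hzo, pow_orderOf_eq_one]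
      have e2 : c ^ p = 1 := by rw [← hcp, pow_orderOf_eq_one]
      rw [e1, e2, one_zpow, one_zpow, one_mul])
    rw [pow_one] at h1
    have h2 : Subgroup.zpowers ((z : ↥Q) : G) = Subgroup.zpowers ((z : ↥Q) : G) ⊔ Subgroup.zpowers c := by
      refine Subgroup.eq_of_le_of_card_ge le_sup_left ?_
      rw [Nat.card_zpowers, hzo]; exact h1
    rw [h2]; exact Subgroup.mem_sup_right (Subgroup.mem_zpowers c)
  have h3 : Subgroup.zpowers a = Subgroup.zpowers ((z : ↥Q) : G) := by
    refine Subgroup.eq_of_le_of_card_ge ?_ ?_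
    · rw [Subgroup.zpowers_le]; exact key a ha hap
    · rw [Nat.card_zpowers, Nat.card_zpowers, hzo, hap]
  rw [h3]; exact key b hb hbp

/-- Let G be a finite group and p an odd prime such that G has p-rank at most 1 (no elementary abelian subgroup of order p²). If x ∈ G is an isolated element of order p, then x is central modulo the largest normal subgroup of G of order prime to p. -/
theorem result {G : Type*} [Group G] [Finite G] {p : ℕ} [Fact p.Prime] (hp : p ≠ 2) (hrk : Cfsg.PRankLE p 1 G) (x : G) (hx : orderOf x = p) (hiso : Cfsg.IsIsolated x) : Cfsg.InZStar p x := by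
  have hx1 : IsPGroup p ↥(Subgroup.zpowers x) := IsPGroup.of_card (n := 1) (by rw [Nat.card_zpowers, pow_one, hx])
  obtain ⟨P, hP⟩ := hx1.exists_le_sylow
  have hxP : x ∈ (P : Subgroup G) := hP (Subgroup.mem_zpowers x)
  -- an element normalizing ⟨x⟩ centralizes x
  have hnc : ∀ g : G, g * x * g⁻¹ ∈ Subgroup.zpowers x → g * x * g⁻¹ = x := by
    intro g hg
    apply hiso
    obtain ⟨k, hk⟩ := hg
    have hk' : x ^ k = g * x * g⁻¹ := hk
    rw [← hk']
    exact (Commute.refl x).zpow_right k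
  have hcrit : Cfsg.HasNormalPComplement p G := by
    refine Agent.H1.frobenius_criterion ?_
    intro Q hQ g hg hgo
    refine Agent.H6.cent_of_chain hQ hg hgo (fun i => {c : G | i = 0 → c = 1}) ?_ ?_ 1 ?_
    · intro c hc; exact hc rfl
    · intro i c hc hsm hgc _
      show i = 0 → c⁻¹ * (g * c * g⁻¹) = 1
      intro _
      rcases hsm with hcp | ⟨h2, -⟩
      swap
      · exact absurd h2 hp
      by_cases hc1 : c = 1
      · rw [hc1]; simp
      have hco : orderOf c = p := orderOf_eq_prime hcp hc1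
      -- conjugate Q into P
      obtain ⟨T, hT⟩ := hQ.exists_le_sylow
      obtain ⟨u, hu⟩ := MulAction.exists_smul_eq G T P
      have huT : Agent.H6.cj u (T : Subgroup G) = P := by rw [← hu]; rfl
      have hucP : u * c * u⁻¹ ∈ (P : Subgroup G) := by
        rw [← huT]; exact Agent.H6.conj_mem_cj (hT hc)
      have huo : orderOf (u * c * u⁻¹) = p := by
        rw [← hco]; exact orderOf_injective (MulAut.conj u).toMonoidHom (MulAut.conj u).injective c
      have hgo' : orderOf (g * c * g⁻¹) = p := by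
        rw [← hco]; exact orderOf_injective (MulAut.conj g).toMonoidHom (MulAut.conj g).injective c
      have h1 : x ∈ Subgroup.zpowers (u * c * u⁻¹) := uniq hrk P.2 hucP hxP huo hx
      have h2 : g * c * g⁻¹ ∈ Subgroup.zpowers c := uniq hrk hQ hc hgc hco hgo'
      have h3 : u * c * u⁻¹ ∈ Subgroup.zpowers x := uniq hrk P.2 hxP hucP hx huo
      obtain ⟨x', hx'⟩ : ∃ x', x' = u⁻¹ * x * u := ⟨_, rfl⟩
      have hiso' : ∀ h : G, Commute x' (h * x' * h⁻¹) → h * x' * h⁻¹ = x' := by
        intro h hcm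
        have h5 : Commute x ((u * h * u⁻¹) * x * (u * h * u⁻¹)⁻¹) := by
          have h6 := hcm.map (MulAut.conj u).toMonoidHom
          have e1 : (MulAut.conj u).toMonoidHom x' = x := by
            show u * x' * u⁻¹ = x
            rw [hx']; group
          have e2 : (MulAut.conj u).toMonoidHom (h * x' * h⁻¹) = (u * h * u⁻¹) * x * (u * h * u⁻¹)⁻¹ := by
            show u * (h * x' * h⁻¹) * u⁻¹ = _
            rw [hx']; group
          rwa [e1, e2] at h6
        have h6 := hiso _ h5
        calc h * x' * h⁻¹ = u⁻¹ * ((u * h * u⁻¹) * x * (u * h * u⁻¹)⁻¹) * u := by rw [hx']; group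
          _ = x' := by rw [h6, hx']
      obtain ⟨k, hk⟩ := h3
      have hk' : x ^ k = u * c * u⁻¹ := hk
      have hc' : c = x' ^ k := by
        have e := conj_zpow (i := k) (a := u⁻¹) (b := x)
        rw [inv_inv] at e
        rw [hx', e, hk']; group
      obtain ⟨m, hm⟩ := h1
      have hm' : (u * c * u⁻¹) ^ m = x := hm
      have hxc : x' = c ^ m := by
        rw [hx', ← hm', conj_zpow]; group
      obtain ⟨j, hj⟩ := h2
      have hj' : c ^ j = g * c * g⁻¹ := hj
      have h7 : g * x' * g⁻¹ = x' := by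
        apply hiso'
        have e2 : g * x' * g⁻¹ = (g * c * g⁻¹) ^ m := by rw [conj_zpow, ← hxc]
        rw [e2, ← hj', hc', ← zpow_mul, ← zpow_mul]
        exact (Commute.refl x').zpow_right _
      have h8 : g * c * g⁻¹ = c := by
        rw [hc', ← conj_zpow, h7]
      rw [h8, inv_mul_cancel]
    · intro c _ _
      show 1 = 0 → c = 1
      intro h; omega
  obtain ⟨N, hN, hNc, k, hk⟩ := Agent.H1.hasNormalPComplement_iff.1 hcrit
  have hsup : (P : Subgroup G) ⊔ N = ⊤ := by
    rw [← Subgroup.index_eq_one]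
    have h1 : ((P : Subgroup G) ⊔ N).index ∣ (P : Subgroup G).index := Subgroup.index_dvd_of_le le_sup_left
    have h2 : ((P : Subgroup G) ⊔ N).index ∣ p ^ k := hk ▸ Subgroup.index_dvd_of_le le_sup_right
    have h3 : Nat.Coprime (P : Subgroup G).index (p ^ k) :=
      (((Nat.Prime.coprime_iff_not_dvd Fact.out).2 P.not_dvd_index).symm).pow_right k
    exact Nat.eq_one_of_dvd_coprimes h3 h1 h2
  intro g
  have hg' : g ∈ N ⊔ (P : Subgroup G) := by rw [sup_comm, hsup]; trivial
  obtain ⟨n, hn, u, hu, rfl⟩ := (Subgroup.mem_sup_of_normal_left).1 hg'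
  have huo : orderOf (u * x * u⁻¹) = p := by
    rw [← hx]; exact orderOf_injective (MulAut.conj u).toMonoidHom (MulAut.conj u).injective x
  have hux : u * x * u⁻¹ = x :=
    hnc u (uniq hrk P.2 hxP (mul_mem (mul_mem hu hxP) (inv_mem hu)) hx huo)
  have hle : N ≤ Cfsg.pPrimeCore p G := Agent.L0.le_pPrimeCore hNc
  apply hle
  have e : n * u * x * (n * u)⁻¹ * x⁻¹ = n * (x * n⁻¹ * x⁻¹) := by
    calc n * u * x * (n * u)⁻¹ * x⁻¹ = n * (u * x * u⁻¹) * n⁻¹ * x⁻¹ := by group
      _ = n * (x * n⁻¹ * x⁻¹) := by rw [hux]; group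
  rw [e]
  exact mul_mem hn (hN.conj_mem _ (inv_mem hn) _)

end Cfsg.Agent.S2971
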