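import Cfsg.Statements.S2998
import Cfsg.Agent.H6.PMin2

set_option autoImplicit false
open Cfsg

namespace Cfsg.Agent.S2998

open Subgroup Agent.H6 in
theorem m1 {G : Type*} [Group G] [Finite G] {p : ℕ} [Fact p.Prime] (P : Sylow p G) (x : G) (hxP : x ∈ (P : Subgroup G)) (hlc : ∀ R : Subgroup G, R ≤ (P : Subgroup G) → R ≠ ⊥ → Subgroup.normalizer (R : Set G) ≤ Subgroup.centralizer ({x} : Set G)) : (P : Subgroup G) ≤ Subgroup.centralizer ({x} : Set G) := by
  by_cases hP : (P : Subgroup G) = ⊥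
  · rw [hP]; exact bot_le
  · exact le_normalizer.trans (hlc _ le_rfl hP)

open Subgroup Agent.H6 in
theorem m2 {G : Type*} [Group G] [Finite G] {p : ℕ} [Fact p.Prime] (P : Sylow p G) (x : G) (hxP : x ∈ (P : Subgroup G)) (hlc : ∀ R : Subgroup G, R ≤ (P : Subgroup G) → R ≠ ⊥ → Subgroup.normalizer (R : Set G) ≤ Subgroup.centralizer ({x} : Set G)) (g : G) (hg : g * x * g⁻¹ ∈ (P : Subgroup G)) : g * x * g⁻¹ = x := by
  by_cases hx1 : x = 1
  · rw [hx1]; group
  have hPx := m1 P x hxP hlc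
  obtain ⟨y, hy⟩ : ∃ y, y = g * x * g⁻¹ := ⟨_, rfl⟩
  rw [← hy] at hg ⊢
  have hy1 : y ≠ 1 := by
    intro h
    apply hx1
    rw [h] at hy
    have : x = g⁻¹ * (g * x * g⁻¹) * g := by group
    rw [this, ← hy]; group
  have h1 : centralizer ({y} : Set G) ≤ centralizer ({x} : Set G) := by
    refine le_trans ?_ (hlc (zpowers y) (by rw [zpowers_le]; exact hg) (by rw [Ne, zpowers_eq_bot]; exact hy1))
    refine le_trans ?_ (centralizer_le_norm (zpowers y))
    intro c hc
    rw [mem_centralizer_iff]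
    rintro _ ⟨k, rfl⟩
    exact ((show Commute c y from mem_centralizer_singleton_iff.1 hc).zpow_right k).symm
  have h2 : cj g (centralizer ({x} : Set G)) = centralizer ({y} : Set G) := by rw [hy]; exact cj_centralizer_sing g x
  have h3 : centralizer ({y} : Set G) = centralizer ({x} : Set G) := by
    refine eq_of_le_of_card_ge h1 ?_
    rw [← h2, card_cj]
  have hPy : (P : Subgroup G) ≤ centralizer ({y} : Set G) := by rw [h3]; exact hPx
  have h4 : SylIn p (P : Subgroup G) (centralizer ({y} : Set G)) := (sylow_sylIn_top P).of_le hPy le_top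
  have h5 : SylIn p (cj g (P : Subgroup G)) (centralizer ({y} : Set G)) := by
    have := ((sylow_sylIn_top P).of_le hPx le_top).cj g
    rwa [h2] at this
  obtain ⟨c, hc, e⟩ := h5.conj h4
  have h6 : c * g ∈ centralizer ({x} : Set G) := by
    have hPne : (P : Subgroup G) ≠ ⊥ := fun h => hx1 (by rw [h] at hxP; exact mem_bot.1 hxP)
    refine hlc _ le_rfl hPne ?_
    rw [mem_norm, cj_mul]; exact e
  rw [mem_centralizer_singleton_iff] at h6 hc
  have e1 : y = c⁻¹ * (c * g * x) * (c * g)⁻¹ * c := by rw [hy]; group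
  rw [e1, h6]
  have e2 : c⁻¹ * (x * (c * g)) * (c * g)⁻¹ * c = c⁻¹ * x * c := by group
  rw [e2]
  have hcx : c ∈ centralizer ({x} : Set G) := by rw [← h3]; exact mem_centralizer_singleton_iff.2 hc
  rw [mem_centralizer_singleton_iff] at hcx
  rw [mul_assoc, ← hcx]; group

open Subgroup Agent.H6 in
theorem m3 {G : Type*} [Group G] [Finite G] {p : ℕ} [Fact p.Prime] (P : Sylow p G) (x : G) (hxP : x ∈ (P : Subgroup G)) (hlc : ∀ R : Subgroup G, R ≤ (P : Subgroup G) → R ≠ ⊥ → Subgroup.normalizer (R : Set G) ≤ Subgroup.centralizer ({x} : Set G))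
    (N : Subgroup G) [hN : N.Normal] (R : Subgroup (G ⧸ N)) (hR : R ≤ (P : Subgroup G).map (QuotientGroup.mk' N)) (hR1 : R ≠ ⊥) : Subgroup.normalizer (R : Set (G ⧸ N)) ≤ Subgroup.centralizer ({(QuotientGroup.mk x : G ⧸ N)} : Set (G ⧸ N)) := by
  obtain ⟨π, hπ⟩ : ∃ π : G →* G ⧸ N, π = QuotientGroup.mk' N := ⟨_, rfl⟩
  have hπs : Function.Surjective π := by rw [hπ]; exact QuotientGroup.mk'_surjective _
  have hx' : (QuotientGroup.mk x : G ⧸ N) = π x := by rw [hπ]; rfl
  rw [hx']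
  rw [← hπ] at hR
  obtain ⟨R₀, hR₀⟩ : ∃ R₀, R₀ = (P : Subgroup G) ⊓ R.comap π := ⟨_, rfl⟩
  have hR₀m : R₀.map π = R := by
    refine le_antisymm ?_ ?_
    · rw [hR₀]; rintro _ ⟨y, hy, rfl⟩; exact hy.2
    · intro r hr
      obtain ⟨y, hy, rfl⟩ := hR hr
      exact ⟨y, hR₀ ▸ mem_inf.2 ⟨hy, hr⟩, rfl⟩
  have hR₀1 : R₀ ≠ ⊥ := fun h => hR1 (by rw [← hR₀m, h, Subgroup.map_bot])
  have hR₀P : R₀ ≤ (P : Subgroup G) := hR₀ ▸ inf_le_left
  have hPR : (P : Subgroup G) ⊓ R.comap π = R₀ := hR₀.symm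
  have hcomap : R.comap π ≤ R₀ ⊔ N := by
    have h1 : (R₀.map π).comap π = R₀ ⊔ N := by rw [hπ, Subgroup.comap_map_eq, QuotientGroup.ker_mk']
    rw [← h1, hR₀m]
  have hPx := m1 P x hxP hlc
  intro y hy
  obtain ⟨g, rfl⟩ := hπs y
  -- Sylow in R.comap π
  have hnorm : g ∈ normalizer ((R.comap π : Subgroup G) : Set G) := by
    rw [mem_norm]
    ext a
    rw [mem_cj]
    have h2 : π a ∈ cj (π g) R ↔ π a ∈ R := by rw [mem_norm.1 hy]
    rw [mem_cj] at h2
    show π (g⁻¹ * a * g) ∈ R ↔ π a ∈ R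
    rw [map_mul, map_mul, map_inv]
    exact h2
  have hPN : SylIn p ((P : Subgroup G) ⊓ N) N := SylIn.inf_subnormal (sylow_sylIn_top P) hN.isSubnormal
  have hS : SylIn p R₀ (R.comap π) := by
    refine ⟨hR₀ ▸ inf_le_right, P.2.to_le hR₀P, ?_⟩
    have h3 : R.comap π = N ⊔ R₀ := by
      refine le_antisymm (hcomap.trans (by rw [sup_comm])) (sup_le ?_ (hR₀ ▸ inf_le_right))
      intro n hn
      have : π n = 1 := by rw [hπ, ← MonoidHom.mem_ker, QuotientGroup.ker_mk']; exact hn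
      show π n ∈ R
      rw [this]; exact one_mem _
    rw [h3, relIndex_sup_left ((normalizer_eq_top_iff.2 hN).ge.trans' le_top)]
    have h4 : R₀ ⊓ N = (P : Subgroup G) ⊓ N := by
      refine le_antisymm (inf_le_inf_right _ hR₀P) (le_inf ?_ inf_le_right)
      rw [hR₀]
      refine le_inf inf_le_left (inf_le_right.trans ?_)
      rw [h3]; exact le_sup_left
    rw [← Subgroup.inf_relIndex_right, h4]
    exact hPN.2.2
  have h5 := hS.cj g
  rw [cj_of_mem_norm hnorm] at h5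
  obtain ⟨h, hh, e⟩ := h5.conj hS
  have h6 : h * g ∈ centralizer ({x} : Set G) := hlc R₀ hR₀P hR₀1 (by rw [mem_norm, cj_mul]; exact e)
  have h7 : π h ∈ centralizer ({π x} : Set (G ⧸ N)) := by
    have h8 : π h ∈ R := hh
    rw [← hR₀m] at h8
    obtain ⟨r, hr, e2⟩ := h8
    rw [← e2, mem_centralizer_singleton_iff, ← map_mul, ← map_mul, mem_centralizer_singleton_iff.1 (hPx (hR₀P hr))]
  have h9 : π (h * g) ∈ centralizer ({π x} : Set (G ⧸ N)) := by
    rw [mem_centralizer_singleton_iff, ← map_mul, ← map_mul, mem_centralizer_singleton_iff.1 h6]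
  have e3 : π g = (π h)⁻¹ * π (h * g) := by rw [map_mul]; group
  rw [e3]
  exact mul_mem (inv_mem h7) h9

/-- Let G be a finite group, p a prime, P a Sylow p-subgroup of G and x ∈ P an element such that N_G(R) ≤ C_G(x) for every nontrivial subgroup R of P. Then P ≤ C_G(x); every G-conjugate of x lying in P equals x (so g ∈ C_G(x) whenever g x g⁻¹ ∈ P); and for every normal subgroup N of G, the image of x in G ⧸ N has the same property with respect to the image of P: the normalizer of every nontrivial subgroup of the image of P centralizes the image of x. -/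
theorem result {G : Type*} [Group G] [Finite G] {p : ℕ} [Fact p.Prime] (P : Sylow p G) (x : G) (hxP : x ∈ (P : Subgroup G)) (hlc : ∀ R : Subgroup G, R ≤ (P : Subgroup G) → R ≠ ⊥ → Subgroup.normalizer (R : Set G) ≤ Subgroup.centralizer ({x} : Set G)) : (P : Subgroup G) ≤ Subgroup.centralizer ({x} : Set G) ∧ (∀ g : G, g * x * g⁻¹ ∈ (P : Subgroup G) → g * x * g⁻¹ = x) ∧ ∀ (N : Subgroup G) [N.Normal], ∀ R : Subgroup (G ⧸ N), R ≤ (P : Subgroup G).map (QuotientGroup.mk' N) → R ≠ ⊥ → Subgroup.normalizer (R : Set (G ⧸ N)) ≤ Subgroup.centralizer ({(QuotientGroup.mk x : G ⧸ N)} : Set (G ⧸ N)) := by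
  exact ⟨m1 P x hxP hlc, m2 P x hxP hlc, fun N hN R hR hR1 => m3 P x hxP hlc N R hR hR1⟩

end Cfsg.Agent.S2998
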