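import Cfsg.Statements.S3012
import Cfsg.Agent.H6.PMin2

set_option autoImplicit false
open Cfsg

namespace Cfsg.Agent.S3012

open Subgroup Agent.H6 in
theorem main {G : Type*} [Group G] [Finite G] (V K : Subgroup G) [K.Normal] (hV : Cfsg.IsElementaryAbelian 2 V) (hS : Cfsg.IsSidkiPair V) (hVK : V ⊓ K = ⊥) : Cfsg.IsSidkiPair (V.map (QuotientGroup.mk' K)) := by
  obtain ⟨π, hπ⟩ : ∃ π : G →* G ⧸ K, π = QuotientGroup.mk' K := ⟨_, rfl⟩
  have hπs : Function.Surjective π := by rw [hπ]; exact QuotientGroup.mk'_surjective _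
  have hk : ∀ x, π x = 1 ↔ x ∈ K := fun x => by rw [hπ, ← MonoidHom.mem_ker, QuotientGroup.ker_mk']
  rw [← hπ]
  rintro hb _ ⟨v, hv, rfl⟩ hodd hinv
  obtain ⟨m, hm⟩ := hodd
  -- square root of `hb`
  have hsq : (hb ^ (m + 1)) ^ 2 = hb := by
    have h1 := pow_orderOf_eq_one hb
    rw [hm] at h1
    rw [← pow_mul, show (m + 1) * 2 = (2 * m + 1) + 1 by ring, pow_succ, h1, one_mul]
  obtain ⟨h₁, hh₁⟩ := hπs (hb ^ (m + 1))
  have hv2 : v * v = 1 := by rw [← pow_two]; exact hV.2 v hv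
  have hvi : v⁻¹ = v := inv_eq_of_mul_eq_one_left hv2
  obtain ⟨y, hy⟩ : ∃ y, y = v * h₁⁻¹ * v⁻¹ * h₁ := ⟨_, rfl⟩
  have hyinv : v * y * v⁻¹ = y⁻¹ := by
    rw [hy]
    have : v * (v * h₁⁻¹ * v⁻¹ * h₁) * v⁻¹ = (v * v) * h₁⁻¹ * v⁻¹ * h₁ * v⁻¹ := by group
    rw [this, hv2, hvi]
    have e : (v * h₁⁻¹ * v * h₁)⁻¹ = h₁⁻¹ * v⁻¹ * h₁ * v⁻¹ := by group
    rw [e, hvi]; group
  have hyπ : π y = hb := by
    have hpw : π v * (hb ^ (m + 1)) * (π v)⁻¹ = (hb ^ (m + 1))⁻¹ := by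
      rw [← conj_pow, hinv, inv_pow]
    have e : π y = (π v * (hb ^ (m + 1)) * (π v)⁻¹)⁻¹ * hb ^ (m + 1) := by
      rw [hy, map_mul, map_mul, map_mul, map_inv, map_inv, hh₁]; group
    rw [e, hpw, inv_inv, ← pow_two, hsq]
  -- odd part of `y`
  obtain ⟨a, b, hbodd, hab⟩ := Nat.exists_eq_two_pow_mul_odd (orderOf_pos y).ne'
  have hcop : Nat.Coprime (2 ^ a) b := (Nat.Coprime.pow_left a (Nat.coprime_two_left.2 hbodd))
  obtain ⟨s, hs1, hs2⟩ := Nat.chineseRemainder hcop 0 1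
  have hord : orderOf hb ∣ b := by
    have h1 : orderOf hb ∣ orderOf y := by rw [← hyπ]; exact orderOf_map_dvd π y
    rw [hab] at h1
    have h2 : Nat.Coprime (orderOf hb) (2 ^ a) := by
      apply Nat.Coprime.pow_right
      rw [Nat.coprime_comm]
      exact Nat.coprime_two_left.2 ⟨m, hm⟩
    exact h2.dvd_of_dvd_mul_left h1
  have hys : π (y ^ s) = hb := by
    rw [map_pow, hyπ]
    have h1 : s ≡ 1 [MOD orderOf hb] := hs2.of_dvd hord
    rw [(pow_eq_pow_iff_modEq).2 h1, pow_one]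
  have hyo : Odd (orderOf (y ^ s)) := by
    have h1 : (y ^ s) ^ b = 1 := by
      rw [← pow_mul]
      apply orderOf_dvd_iff_pow_eq_one.1
      rw [hab]
      exact Nat.mul_dvd_mul_right (Nat.modEq_zero_iff_dvd.1 hs1) b
    exact hbodd.of_dvd_nat (orderOf_dvd_of_pow_eq_one h1)
  obtain ⟨w, hw, hw1, hwc⟩ := hS (y ^ s) v hv hyo (by rw [← conj_pow, hyinv, inv_pow])
  refine ⟨π w, mem_map_of_mem π hw, fun h => hw1 ?_, ?_⟩
  · have : w ∈ V ⊓ K := ⟨hw, (hk w).1 h⟩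
    rw [hVK] at this
    exact mem_bot.1 this
  · rw [← hys, ← map_mul, hwc, map_mul]

/-- Let G be a finite group, V a nontrivial elementary abelian 2-subgroup of G satisfying the Sidki pair condition (every odd-order element inverted by an element of V commutes with a nontrivial element of V), and K a normal subgroup of G with V ∩ K = 1. Then the image of V in G/K satisfies the Sidki pair condition in G/K. -/
theorem result {G : Type*} [Group G] [Finite G] (V K : Subgroup G) [K.Normal] (hV : Cfsg.IsElementaryAbelian 2 V) (hV1 : V ≠ ⊥) (hS : Cfsg.IsSidkiPair V) (hVK : V ⊓ K = ⊥) : Cfsg.IsSidkiPair (V.map (QuotientGroup.mk' K)) := by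
  exact main V K hV hS hVK

end Cfsg.Agent.S3012
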