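import Cfsg.Statements.S3013
import Cfsg.Agent.H6.PMin2

set_option autoImplicit false
open Cfsg

namespace Cfsg.Agent.S3013

open Subgroup Agent.H6 in
theorem main {G : Type*} [Group G] [Finite G] (V : Subgroup G) (hV : Cfsg.IsElementaryAbelian 2 V) (hS : Cfsg.IsSidkiPair V) (v x : G) (hv : v ∈ V) (hx : Odd (orderOf x)) (hinv : v * x * v⁻¹ = x⁻¹) (C : Subgroup G) (hC : C = Subgroup.centralizer ({v} : Set G) ⊓ Subgroup.centralizer ({x} : Set G)) : C ⊓ V ≠ ⊥ ∧ Cfsg.IsSidkiPair ((C ⊓ V).subgroupOf C) := by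
  have hab : ∀ a ∈ V, ∀ b ∈ V, a * b = b * a := fun a ha b hb => congrArg Subtype.val (hV.1.is_comm.comm ⟨a, ha⟩ ⟨b, hb⟩)
  have hmem : ∀ w, w ∈ V → w * x = x * w → w ∈ C := by
    intro w hw hwx
    rw [hC]
    exact ⟨mem_centralizer_singleton_iff.2 (hab w hw v hv), mem_centralizer_singleton_iff.2 hwx⟩
  refine ⟨?_, ?_⟩
  · obtain ⟨w, hw, hw1, hwx⟩ := hS x v hv hx hinv
    intro h
    have : w ∈ C ⊓ V := ⟨hmem w hw hwx, hw⟩
    rw [h] at this
    exact hw1 (mem_bot.1 this)
  · rintro ⟨h, hhC⟩ ⟨u, huC⟩ hu hodd hinv'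
    have huV : u ∈ V := hu.2
    have ho : Odd (orderOf h) := by rwa [Subgroup.orderOf_mk] at hodd
    have hi : u * h * u⁻¹ = h⁻¹ := congrArg Subtype.val hinv'
    have hhC' := hhC
    have huC' := huC
    rw [hC] at hhC' huC'
    have c1 : h * v = v * h := mem_centralizer_singleton_iff.1 hhC'.1
    have c2 : Commute h x := mem_centralizer_singleton_iff.1 hhC'.2
    have c4 : u * x = x * u := mem_centralizer_singleton_iff.1 huC'.2
    have i1 : (u * v) * (x * h) * (u * v)⁻¹ = (x * h)⁻¹ := by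
      have e : (u * v) * (x * h) * (u * v)⁻¹ = u * (v * x * v⁻¹) * (v * h * v⁻¹) * u⁻¹ := by group
      rw [e, hinv, ← c1]
      have e2 : u * x⁻¹ * (h * v * v⁻¹) * u⁻¹ = (u * x * u⁻¹)⁻¹ * (u * h * u⁻¹) := by group
      rw [e2, hi, c4]
      have e3 : (x * u * u⁻¹)⁻¹ * h⁻¹ = (h * x)⁻¹ := by group
      rw [e3, c2.eq]
    have hodd2 : Odd (orderOf (x * h)) := by
      have h1 : orderOf (x * h) ∣ orderOf x * orderOf h := c2.symm.orderOf_mul_dvd_mul_orderOf
      exact (hx.mul ho).of_dvd_nat h1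
    obtain ⟨w, hw, hw1, hwc⟩ := hS (x * h) (u * v) (mul_mem huV hv) hodd2 i1
    -- `w` commutes with `x⁻¹ h`
    have hwv := hab w hw v hv
    have hwc2 : w * (x⁻¹ * h) = (x⁻¹ * h) * w := by
      have e : x⁻¹ * h = v * (x * h) * v⁻¹ := by
        have : v * (x * h) * v⁻¹ = (v * x * v⁻¹) * (v * h * v⁻¹) := by group
        rw [this, hinv, ← c1]; group
      rw [e]
      calc w * (v * (x * h) * v⁻¹) = (w * v) * (x * h) * v⁻¹ := by group
        _ = v * (w * (x * h)) * v⁻¹ := by rw [hwv]; group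
        _ = v * (x * h) * (w * v⁻¹) := by rw [hwc]; group
        _ = v * (x * h) * v⁻¹ * w := by
          have : w * v⁻¹ = v⁻¹ * w := by
            rw [eq_inv_mul_iff_mul_eq, ← mul_assoc, ← hwv]; group
          rw [this]; group
    have hh2 : w * (h * h) = (h * h) * w := by
      have e : h * h = (x * h) * (x⁻¹ * h) := by
        have : (x * h) * (x⁻¹ * h) = x * (h * x⁻¹) * h := by group
        rw [this, (c2.inv_right).eq]; group
      rw [e, ← mul_assoc, hwc, mul_assoc, hwc2, ← mul_assoc]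
    have hcw : w * h = h * w := by
      obtain ⟨m, hm⟩ := ho
      have e : h = (h * h) ^ (m + 1) := by
        rw [← pow_two, ← pow_mul, show 2 * (m + 1) = (2 * m + 1) + 1 by ring, pow_succ, ← hm, pow_orderOf_eq_one, one_mul]
      rw [e]
      exact (show Commute w (h * h) from hh2).pow_right (m + 1)
    have hxw : w * x = x * w := by
      have e : x = (x * h) * h⁻¹ := by group
      rw [e]
      exact ((show Commute w (x * h) from hwc).mul_right ((show Commute w h from hcw).inv_right))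
    have hwC := hmem w hw hxw
    exact ⟨⟨w, hwC⟩, ⟨hwC, hw⟩, fun e => hw1 (congrArg Subtype.val e), Subtype.ext hcw⟩

/-- Let G be a finite group and V a nontrivial elementary abelian 2-subgroup of G satisfying the Sidki pair condition. Let v ∈ V and let x be an element of odd order inverted by v, and put C = C_G(v) ∩ C_G(x), the centralizer of the dihedral subgroup generated by v and x. Then C ∩ V is nontrivial and satisfies the Sidki pair condition inside C: every odd-order element of C inverted by an element of C ∩ V commutes with a nontrivial element of C ∩ V. -/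
theorem result {G : Type*} [Group G] [Finite G] (V : Subgroup G) (hV : Cfsg.IsElementaryAbelian 2 V) (hV1 : V ≠ ⊥) (hS : Cfsg.IsSidkiPair V) (v x : G) (hv : v ∈ V) (hx : Odd (orderOf x)) (hinv : v * x * v⁻¹ = x⁻¹) (C : Subgroup G) (hC : C = Subgroup.centralizer ({v} : Set G) ⊓ Subgroup.centralizer ({x} : Set G)) : C ⊓ V ≠ ⊥ ∧ Cfsg.IsSidkiPair ((C ⊓ V).subgroupOf C) := by
  exact main V hV hS v x hv hx hinv C hC

end Cfsg.Agent.S3013
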