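import Cfsg.Statements.S3021
import Cfsg.Agent.H6.PMin2

set_option autoImplicit false
open Cfsg

namespace Cfsg.Agent.S3021

open Subgroup Agent.H6 in
theorem m1 {G : Type*} [Group G] [Finite G] {p : ℕ} [Fact p.Prime] (H : Subgroup G) (hcl : Cfsg.IsExtremelyClosed H) (Q : Subgroup G) (hQ : IsPGroup p Q) (hHQ : H ≤ Q) : Subgroup.normalizer (Q : Set G) ≤ Subgroup.normalizer (H : Set G) := by
  intro g hg
  refine mem_norm_of_map_le ?_
  have h1 : cj g H ≤ Q := by
    have := cj_mono (g := g) hHQ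
    rwa [cj_of_mem_norm hg] at this
  have h2 : IsPGroup p ↥(H ⊔ cj g H) := hQ.to_le (sup_le hHQ h1)
  have h3 : H = H ⊔ cj g H := by
    by_contra hne
    have h4 := lt_inf_normalizer h2 (lt_of_le_of_ne le_sup_left hne)
    have h5 : (H ⊔ cj g H) ⊓ normalizer (H : Set G) = H := hcl g
    rw [h5] at h4
    exact lt_irrefl _ h4
  show cj g H ≤ H
  exact le_sup_right.trans h3.ge

/-- Let G be a finite group, p a prime and H a p-subgroup of G that is extremely closed (for every g, the subgroup generated by H and g H g⁻¹ meets N_G(H) exactly in H). Then every p-subgroup Q of G containing H has N_G(Q) ≤ N_G(H); in particular every Sylow p-subgroup P of G containing H normalizes H, and H is strongly closed in P with respect to G. -/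
theorem result {G : Type*} [Group G] [Finite G] {p : ℕ} [Fact p.Prime] (H : Subgroup G) (hHp : IsPGroup p H) (hcl : Cfsg.IsExtremelyClosed H) : (∀ Q : Subgroup G, IsPGroup p Q → H ≤ Q → Subgroup.normalizer (Q : Set G) ≤ Subgroup.normalizer (H : Set G)) ∧ ∀ P : Sylow p G, H ≤ (P : Subgroup G) → (P : Subgroup G) ≤ Subgroup.normalizer (H : Set G) ∧ Cfsg.IsStronglyClosed H (P : Subgroup G) := by
  refine ⟨fun Q hQ hHQ => m1 H hcl Q hQ hHQ, fun P hHP => ?_⟩
  have h1 := m1 H hcl (P : Subgroup G) P.2 hHP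
  have h2 : (P : Subgroup G) ≤ Subgroup.normalizer (H : Set G) := Subgroup.le_normalizer.trans h1
  refine ⟨h2, hHP, fun x hx g hg => ?_⟩
  have h3 := hcl g
  rw [← h3]
  exact ⟨Subgroup.mem_sup_right ⟨x, hx, rfl⟩, h2 hg⟩

end Cfsg.Agent.S3021
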