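import Cfsg.Statements.S3032
import Mathlib
import Cfsg.Agent.H3.SSol
import Cfsg.Agent.S0528

set_option autoImplicit false
open Cfsg

namespace Cfsg.Agent.S3032

open Cfsg.Agent.H3 Cfsg.Agent.H1 Subgroup

theorem HS_of_map {G : Type*} [Group G] {E : Subgroup G} {F : Subgroup E} (h : HS (F.map E.subtype)) : HS F := by
  intro g x hx
  obtain ⟨⟨y, hy, rfl⟩, hx2⟩ := hx
  have h1 : (E.subtype (g * y * g⁻¹)) ∈ F.map E.subtype := by
    refine h (g : G) ⟨⟨y, ⟨y, hy, rfl⟩, rfl⟩, ?_⟩
    apply Subgroup.le_normalizer_map E.subtype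
    exact ⟨_, hx2, rfl⟩
  obtain ⟨z, hz, he⟩ := h1
  have : z = g * y * g⁻¹ := Subtype.ext he
  rw [this] at hz
  exact hz

theorem HS.normal_in {G : Type*} [Group G] [Finite G] {p : ℕ} [hp : Fact p.Prime] {E P M : Subgroup G} (h : HS E)
    (hP : IsPGroup p P) (hEP : E ≤ P) (hM : M ≤ normalizer (P : Set G)) : M ≤ normalizer (E : Set G) := by
  intro g hg
  apply Subgroup.mem_normalizer_fintype
  intro y hy
  exact h.closed hP hEP hy ((Subgroup.mem_normalizer_iff.mp (hM hg) y).mp (hEP hy))

theorem schain_of_cyclic {G : Type*} [Group G] (N : Subgroup G) [hN : N.Normal] (hc : IsCyclic N) : SChain N := by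
  obtain ⟨g, hg⟩ := hc.exists_generator
  refine SChain.step ⊥ N g SChain.bot hN ?_
  rw [bot_sup_eq]
  apply le_antisymm
  · intro x hx
    obtain ⟨k, hk⟩ := Subgroup.mem_zpowers_iff.mp (hg ⟨x, hx⟩)
    exact Subgroup.mem_zpowers_iff.mpr ⟨k, by rw [← Subgroup.coe_zpow, hk]⟩
  · rw [Subgroup.zpowers_le]; exact g.2

theorem key {G : Type*} [Group G] [Finite G] : ∀ (n : ℕ) (E : Subgroup G) [E.Normal], Nat.card E = n →
    IsSupersolvable (G ⧸ E) →
    (∀ (p : ℕ), p.Prime → ∀ P : Subgroup G, P ≤ E → IsPGroup p P → ¬ p ∣ P.relIndex E → ¬ IsCyclic ↥P → ∃ D : Subgroup G, D ≤ P ∧ 1 < Nat.card D ∧ Nat.card D < Nat.card P ∧ ∀ F : Subgroup G, F ≤ P → (Nat.card F = Nat.card D ∨ (Nat.card D = 2 ∧ Nat.card F = 4)) → HS F) →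
    IsSupersolvable G := by
  intro n
  induction n using Nat.strong_induction_on with
  | _ n ih =>
  intro E hEn hn hGE h
  by_cases hbot : E = ⊥
  · subst hbot
    exact Cfsg.Agent.S0528.result ⊥ hGE
  have hcE : Nat.card E ≠ 1 := fun h1 => hbot (Subgroup.card_eq_one.mp h1)
  set p := (Nat.card E).minFac with hpdef
  have hpp : p.Prime := Nat.minFac_prime hcE
  haveI hp : Fact p.Prime := ⟨hpp⟩
  have hmin : ∀ q : ℕ, q.Prime → q ∣ Nat.card E → p ≤ q := fun q hq hd => Nat.minFac_le_of_dvd hq.two_le hd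
  set P : Sylow p E := default with hP
  set P0 := (P : Subgroup E).map E.subtype with hP0
  have hP0E : P0 ≤ E := Subgroup.map_subtype_le _
  have hP0p : IsPGroup p P0 := P.2.map _
  have hsub : P0.subgroupOf E = (P : Subgroup E) := by
    rw [hP0, Subgroup.subgroupOf, Subgroup.comap_map_eq_self_of_injective E.subtype_injective]
  have hP0i : ¬ p ∣ P0.relIndex E := by
    rw [Subgroup.relIndex, hsub]; exact P.not_dvd_index
  let e0 : (P : Subgroup E) ≃* P0 := (P : Subgroup E).equivMapOfInjective E.subtype E.subtype_injective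
  have hcard0 : ∀ F : Subgroup E, Nat.card (F.map E.subtype) = Nat.card F := fun F =>
    Subgroup.card_map_of_injective E.subtype_injective
  have hcase : IsCyclic P0 ∨ ∃ m, 1 ≤ m ∧ p ^ m < Nat.card P0 ∧ ∀ F : Subgroup G, F ≤ P0 → (Nat.card F = p ^ m ∨ (p ^ m = 2 ∧ Nat.card F = 4)) → HS F := by
    by_cases hc : IsCyclic P0
    · exact Or.inl hc
    · obtain ⟨D, hDP, h1, h2, h3⟩ := h p hpp P0 hP0E hP0p hP0i hc
      obtain ⟨m, hm⟩ := IsPGroup.iff_card.mp (hP0p.to_le hDP)
      refine Or.inr ⟨m, ?_, by rw [← hm]; exact h2, by rw [← hm]; exact h3⟩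
      rcases Nat.eq_zero_or_pos m with h0 | h0
      · rw [hm, h0, pow_zero] at h1; exact absurd h1 (lt_irrefl 1)
      · exact h0
  have hnpc : HasNormalPComplement p E := by
    rcases hcase with hc | ⟨m, hm, hPm, hF⟩
    · exact npc_of_cyclic P hmin (isCyclic_of_surjective e0.symm.toMonoidHom e0.symm.surjective)
    · refine npc_of_HS P hmin hm (by rw [← hcard0]; exact hPm) ?_
      intro F hFP hFc
      exact HS_of_map (hF _ (Subgroup.map_mono hFP) (by rw [hcard0]; exact hFc))
  obtain ⟨K0, hK0n, hK0c, k, hK0i⟩ := H1.hasNormalPComplement_iff.mp hnpc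
  set K := K0.map E.subtype with hK
  have hKE : K ≤ E := Subgroup.map_subtype_le _
  have hKc : (Nat.card K).Coprime p := by rw [hK, hcard0]; exact hK0c
  have hKmem : ∀ x, x ∈ K ↔ x ∈ E ∧ (orderOf x).Coprime p := by
    intro x
    constructor
    · intro hx
      refine ⟨hKE hx, ?_⟩
      have : orderOf x ∣ Nat.card K := by
        rw [← Subgroup.orderOf_mk x hx]; exact orderOf_dvd_natCard _
      exact Nat.Coprime.coprime_dvd_left this hKc
    · rintro ⟨hx, hxo⟩
      refine ⟨⟨x, hx⟩, ?_, rfl⟩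
      rw [SetLike.mem_coe, ← QuotientGroup.eq_one_iff, ← orderOf_eq_one_iff]
      have h1 : orderOf ((⟨x, hx⟩ : E) : E ⧸ K0) ∣ orderOf x := by
        have := orderOf_map_dvd (QuotientGroup.mk' K0) ⟨x, hx⟩
        rwa [Subgroup.orderOf_mk] at this
      have h2 : orderOf ((⟨x, hx⟩ : E) : E ⧸ K0) ∣ p ^ k := by
        rw [← hK0i]; exact orderOf_dvd_natCard _
      exact Nat.eq_one_of_dvd_coprimes (hxo.pow_right k) h1 h2
  haveI hKn : K.Normal := by
    refine ⟨fun x hx g => ?_⟩
    rw [hKmem] at hx ⊢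
    refine ⟨hEn.conj_mem x hx.1 g, ?_⟩
    rw [show g * x * g⁻¹ = MulAut.conj g x from rfl, MulEquiv.orderOf_eq]
    exact hx.2
  have hKP : K ⊔ P0 = E := by
    have h1 : K0 ⊔ (P : Subgroup E) = ⊤ := by
      have h2 : K0.index.Coprime (P : Subgroup E).index := by
        rw [hK0i]
        apply Nat.Coprime.pow_left
        rw [Nat.Prime.coprime_iff_not_dvd hpp]
        exact P.not_dvd_index
      rw [← Subgroup.index_eq_one]
      exact Nat.eq_one_of_dvd_coprimes h2 (Subgroup.index_dvd_of_le le_sup_left) (Subgroup.index_dvd_of_le le_sup_right)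
    have h2 := congrArg (Subgroup.map E.subtype) h1
    rw [Subgroup.map_sup, ← MonoidHom.range_eq_map, Subgroup.range_subtype] at h2
    exact h2
  set M := normalizer (P0 : Set G) with hM
  have hP0M : P0 ≤ M := Subgroup.le_normalizer
  have hfrat : K ⊔ M = ⊤ := by
    have h1 := Sylow.normalizer_sup_eq_top P
    rw [eq_top_iff, ← h1]
    refine sup_le le_sup_right ?_
    conv_lhs => rw [← hKP]
    exact sup_le_sup_left hP0M _
  -- chain of P0 in M
  set P1 := P0.subgroupOf M with hP1
  haveI hP1n : P1.Normal := Subgroup.normal_in_normalizer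
  let e1 : P1 ≃* P0 := Subgroup.subgroupOfEquivOfLe hP0M
  have hP1p : IsPGroup p P1 := hP0p.of_equiv e1.symm
  have hch : SChain P1 := by
    rcases hcase with hc | ⟨m, hm, hPm, hF⟩
    · exact schain_of_cyclic P1 (isCyclic_of_surjective e1.symm.toMonoidHom e1.symm.surjective)
    · refine SChain.of_star (p := p) _ M rfl P1 hP1n hP1p ?_
      intro x hx hxo
      refine centralizes_of_normal_subs hP1p hx hxo hm (by rw [Nat.card_congr e1.toEquiv]; exact hPm) ?_
      intro F hFP hFc
      have hFc' : Nat.card (F.map M.subtype) = Nat.card F := Subgroup.card_map_of_injective M.subtype_injective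
      have hFP' : F.map M.subtype ≤ P0 := by
        rintro _ ⟨y, hy, rfl⟩
        exact hFP hy
      have h1 := HS.normal_in (M := M) (hF _ hFP' (by rw [hFc']; exact hFc)) hP0p hFP' le_rfl
      have h2 : (F.map M.subtype).subgroupOf M = F := by
        rw [Subgroup.subgroupOf, Subgroup.comap_map_eq_self_of_injective M.subtype_injective]
      rw [← h2]
      exact (Subgroup.normal_subgroupOf_iff_le_normalizer (Subgroup.map_subtype_le _)).mpr h1
  -- transport to G/K
  let f : M →* G ⧸ K := (QuotientGroup.mk' K).comp M.subtype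
  have hf : Function.Surjective f := by
    intro y
    obtain ⟨g, rfl⟩ := QuotientGroup.mk'_surjective K y
    have hg : g ∈ K ⊔ M := by rw [hfrat]; trivial
    obtain ⟨a, ha, b, hb, rfl⟩ := Subgroup.mem_sup_of_normal_left.mp hg
    refine ⟨⟨b, hb⟩, ?_⟩
    show QuotientGroup.mk' K b = QuotientGroup.mk' K (a * b)
    rw [map_mul]
    have : QuotientGroup.mk' K a = 1 := (QuotientGroup.eq_one_iff a).mpr ha
    rw [this, one_mul]
  have hmap : P1.map f = E.map (QuotientGroup.mk' K) := by
    have h1 : P1.map f = P0.map (QuotientGroup.mk' K) := by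
      rw [← Subgroup.map_map]
      congr 1
      rw [hP1, Subgroup.subgroupOf_map_subtype, inf_eq_left.mpr hP0M]
    rw [h1, ← hKP, Subgroup.map_sup]
    have h2 : K.map (QuotientGroup.mk' K) = ⊥ := by
      rw [Subgroup.map_eq_bot_iff, QuotientGroup.ker_mk']
    rw [h2, bot_sup_eq]
  have hch2 : SChain (E.map (QuotientGroup.mk' K)) := by
    rw [← hmap]; exact hch.map f hf
  have hGK : IsSupersolvable (G ⧸ K) := by
    rw [isSupersolvable_iff] at hGE ⊢
    let f2 : G ⧸ K →* G ⧸ E := QuotientGroup.map K E (MonoidHom.id G) hKE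
    have hf2 : Function.Surjective f2 := by
      intro y
      obtain ⟨g, rfl⟩ := QuotientGroup.mk'_surjective E y
      exact ⟨QuotientGroup.mk' K g, rfl⟩
    have hker : f2.ker = E.map (QuotientGroup.mk' K) := by
      ext y
      obtain ⟨g, rfl⟩ := QuotientGroup.mk'_surjective K y
      constructor
      · intro hy
        exact ⟨g, (QuotientGroup.eq_one_iff g).mp hy, rfl⟩
      · rintro ⟨z, hz, he⟩
        rw [← he]
        exact (QuotientGroup.eq_one_iff z).mpr hz
    have h3 := SChain.comap_of_ker f2 hf2 (by rw [hker]; exact hch2) hGE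
    rwa [Subgroup.comap_top] at h3
  have hlt : Nat.card K < n := by
    rw [← hn]
    refine lt_of_le_of_ne (Subgroup.card_le_of_le hKE) ?_
    intro he
    rw [he] at hKc
    have : p ∣ Nat.card E := Nat.minFac_dvd _
    exact (Nat.Prime.coprime_iff_not_dvd hpp).mp hKc.symm this
  refine ih _ hlt K rfl hGK ?_
  intro q hq R hRK hR hRi hRc
  refine h q hq R (hRK.trans hKE) hR ?_ hRc
  rw [← Subgroup.relIndex_mul_relIndex R K E hRK hKE]
  intro hd
  rcases (Nat.Prime.dvd_mul hq).mp hd with h1 | h1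
  · exact hRi h1
  · have h2 : K.relIndex E = p ^ k := by
      rw [Subgroup.relIndex, hK, Subgroup.subgroupOf, Subgroup.comap_map_eq_self_of_injective E.subtype_injective, hK0i]
    rw [h2] at h1
    have h3 : q = p := (Nat.prime_dvd_prime_iff_eq hq hpp).mp (hq.dvd_of_dvd_pow h1)
    rw [h3] at hR
    obtain ⟨j, hj⟩ := IsPGroup.iff_card.mp hR
    rcases Nat.eq_zero_or_pos j with h0 | h0
    · apply hRc
      rw [h0, pow_zero] at hj
      haveI : Subsingleton R := (Nat.card_eq_one_iff_unique.mp hj).1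
      exact isCyclic_of_subsingleton
    · have h4 : p ∣ Nat.card K := (by rw [hj]; exact dvd_pow_self p h0.ne' : p ∣ Nat.card R).trans (Subgroup.card_dvd_of_le hRK)
      exact (Nat.Prime.coprime_iff_not_dvd hpp).mp hKc.symm h4

/-- Let G be a finite group and E a normal subgroup with G/E supersolvable. Suppose that for every prime p and every non-cyclic Sylow p-subgroup P of E there is a subgroup D of P with 1 < |D| < |P| such that every subgroup F of P of order |D|, and also every subgroup F of P of order 4 when |D| = 2, satisfies g F g⁻¹ ∩ N_G(F) ≤ F for all g ∈ G. Then G is supersolvable. -/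
theorem result {G : Type*} [Group G] [Finite G] (E : Subgroup G) [E.Normal] (hGE : Cfsg.IsSupersolvable (G ⧸ E))
    (h : ∀ (p : ℕ), p.Prime → ∀ P : Subgroup G, P ≤ E → IsPGroup p P → ¬ p ∣ P.relIndex E → ¬ IsCyclic ↥P →
      ∃ D : Subgroup G, D ≤ P ∧ 1 < Nat.card D ∧ Nat.card D < Nat.card P ∧
        ∀ F : Subgroup G, F ≤ P → (Nat.card F = Nat.card D ∨ (Nat.card D = 2 ∧ Nat.card F = 4)) →
          ∀ g : G, F.map (MulAut.conj g).toMonoidHom ⊓ Subgroup.normalizer (F : Set G) ≤ F) :
    Cfsg.IsSupersolvable G := by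
  exact key _ E rfl hGE h

end Cfsg.Agent.S3032
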