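import Cfsg.Statements.S3064
import Cfsg.Agent.H6.Iso

set_option autoImplicit false
open Cfsg

namespace Cfsg.Agent.S3064

/-- Let S be a Sylow p-subgroup of the finite group G and x an element of S such that (i) x is the only G-conjugate of x lying in S, and (ii) x centralizes every subgroup of order prime to p that it normalizes. Then x lies in the centre of G. -/
theorem result {G : Type*} [Group G] [Finite G] {p : ℕ} [Fact p.Prime]
    (S : Sylow p G) (x : G) (hx : x ∈ S)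
    (hU : ∀ g : G, g⁻¹ * x * g ∈ S → g⁻¹ * x * g = x)
    (hb : ∀ H : Subgroup G, (Nat.card H).Coprime p → (∀ h ∈ H, x * h * x⁻¹ ∈ H) → ∀ h ∈ H, x * h = h * x) :
    x ∈ Subgroup.center G := by
  have hp : IsPGroup p ↥(Subgroup.zpowers x) := S.2.to_le (by rwa [Subgroup.zpowers_le])
  refine Agent.H6.iso_central _ G rfl x hp ?_ hb
  intro T hT hxT g hg
  obtain ⟨S', hS'⟩ := hT.exists_le_sylow
  obtain ⟨h, hh⟩ := MulAction.exists_smul_eq G S' S
  have h1 : ∀ t ∈ T, h * t * h⁻¹ ∈ (S : Subgroup G) := by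
    intro t ht
    rw [← hh, Sylow.coe_subgroup_smul, Subgroup.mem_pointwise_smul_iff_inv_smul_mem]
    have : (MulAut.conj h)⁻¹ • (h * t * h⁻¹) = t := by
      simp [MulAut.smul_def, ← map_inv, mul_assoc]
    rw [this]; exact hS' ht
  have h2 : h * x * h⁻¹ = x := by
    have := hU h⁻¹ (by rw [inv_inv]; exact h1 x hxT)
    simpa using this
  have h3 : h * (g⁻¹ * x * g) * h⁻¹ = x := by
    have e : (g * h⁻¹)⁻¹ * x * (g * h⁻¹) = h * (g⁻¹ * x * g) * h⁻¹ := by group
    have := hU (g * h⁻¹) (by rw [e]; exact h1 _ hg)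
    rwa [e] at this
  have h4 : g⁻¹ * x * g = h⁻¹ * x * h := by
    calc g⁻¹ * x * g = h⁻¹ * (h * (g⁻¹ * x * g) * h⁻¹) * h := by group
      _ = h⁻¹ * x * h := by rw [h3]
  rw [h4]
  calc h⁻¹ * x * h = h⁻¹ * (h * x * h⁻¹) * h := by rw [h2]
    _ = x := by group

end Cfsg.Agent.S3064
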