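import Cfsg.Statements.S3087
import Cfsg.Agent.H6.PMin2

set_option autoImplicit false
open Cfsg

namespace Cfsg.Agent.S3087

theorem main {G V : Type*} [Group G] [Finite G] [AddCommGroup V] [Finite V] (p : ℕ) [Fact p.Prime] [Module (ZMod p) V]
    (ρ : Representation (ZMod p) G V) (W : Submodule (ZMod p) V)
    (A B : Subgroup G) (hBA : B ≤ A) (h0 : Nat.card ↥B * Nat.card {v : V // ∀ b ∈ B, ρ b v = v} ≤ Nat.card ↥A * Nat.card {v : V // ∀ a ∈ A, ρ a v = v}) :
    Nat.card ↥B * Nat.card {w : W // ∀ b ∈ B, ρ b w = w} ≤ Nat.card ↥A * Nat.card {w : W // ∀ a ∈ A, ρ a w = w} := by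
  let CV : Subgroup G → AddSubgroup V := fun X =>
    { carrier := {v | ∀ b ∈ X, ρ b v = v}, zero_mem' := fun b _ => map_zero _, add_mem' := fun {x y} hx hy b hb => by rw [map_add, hx b hb, hy b hb], neg_mem' := fun {x} hx b hb => by rw [map_neg, hx b hb] }
  let CW : Subgroup G → AddSubgroup V := fun X => CV X ⊓ W.toAddSubgroup
  have hCV : ∀ X, Nat.card {v : V // ∀ b ∈ X, ρ b v = v} = Nat.card ↥(CV X) := fun X => rfl
  have hCW : ∀ X : Subgroup G, Nat.card {w : W // ∀ b ∈ X, ρ b w = w} = Nat.card ↥(CW X) := by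
    intro X
    refine Nat.card_congr ⟨fun w => ⟨w.1.1, w.2, w.1.2⟩, fun w => ⟨⟨w.1, w.2.2⟩, w.2.1⟩, fun w => rfl, fun w => rfl⟩
  rw [hCW, hCW]
  rw [hCV, hCV] at h0
  let φ : ↥(CV A) × ↥(CW B) →+ ↥(CV B) :=
    { toFun := fun x => ⟨(x.1 : V) + x.2, fun b hb => by rw [map_add, x.1.2 b (hBA hb), x.2.2.1 b hb]⟩
      map_zero' := by ext; simp
      map_add' := fun x y => by ext; simp [add_add_add_comm] }
  have h1 : Nat.card (↥(CV A) × ↥(CW B)) = Nat.card φ.ker * Nat.card φ.range := by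
    rw [← AddSubgroup.index_ker, AddSubgroup.card_mul_index]
  have h2 : Nat.card φ.ker ≤ Nat.card ↥(CW A) := by
    let ψ : φ.ker → ↥(CW A) := fun x => ⟨(x.1.1 : V), x.1.1.2, by
      have h3 : (x.1.1 : V) + x.1.2 = 0 := congrArg Subtype.val x.2
      have h4 : (x.1.1 : V) = -(x.1.2 : V) := eq_neg_of_add_eq_zero_left h3
      rw [h4]
      exact W.neg_mem x.1.2.2.2⟩
    refine Nat.card_le_card_of_injective ψ fun x y hxy => ?_
    have h5 : (x.1.1 : V) = y.1.1 := congrArg (fun z : ↥(CW A) => (z : V)) hxy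
    have h3 : (x.1.1 : V) + x.1.2 = 0 := congrArg Subtype.val x.2
    have h4 : (y.1.1 : V) + y.1.2 = 0 := congrArg Subtype.val y.2
    have h6 : (x.1.2 : V) = y.1.2 := by
      rw [h5] at h3
      exact add_left_cancel (h3.trans h4.symm)
    exact Subtype.ext (Prod.ext (Subtype.ext h5) (Subtype.ext h6))
  have h3 : Nat.card φ.range ≤ Nat.card ↥(CV B) := Nat.card_le_card_of_injective _ Subtype.val_injective
  rw [Nat.card_prod] at h1
  have h4 : Nat.card ↥(CV A) * Nat.card ↥(CW B) ≤ Nat.card ↥(CW A) * Nat.card ↥(CV B) := by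
    rw [h1]; exact Nat.mul_le_mul h2 h3
  have hpos : 0 < Nat.card ↥(CV A) := Nat.card_pos
  refine Nat.le_of_mul_le_mul_left ?_ hpos
  calc Nat.card ↥(CV A) * (Nat.card ↥B * Nat.card ↥(CW B)) = Nat.card ↥B * (Nat.card ↥(CV A) * Nat.card ↥(CW B)) := by ring
    _ ≤ Nat.card ↥B * (Nat.card ↥(CW A) * Nat.card ↥(CV B)) := Nat.mul_le_mul_left _ h4
    _ = (Nat.card ↥B * Nat.card ↥(CV B)) * Nat.card ↥(CW A) := by ring
    _ ≤ (Nat.card ↥A * Nat.card ↥(CV A)) * Nat.card ↥(CW A) := Nat.mul_le_mul_right _ h0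
    _ = _ := by ring

/-- Let p be a prime, G a finite group acting linearly on a finite vector space V over the field with p elements, W a G-invariant subspace, and A a subgroup of G with |A|·|C_V(A)| ≥ |B|·|C_V(B)| for every subgroup B of A. Then |A|·|C_W(A)| ≥ |B|·|C_W(B)| for every subgroup B of A that contains C_A(W); that is, the image of A in the group induced on W satisfies the same maximality condition. -/
theorem result {G V : Type*} [Group G] [Finite G] [AddCommGroup V] [Finite V] (p : ℕ) [Fact p.Prime] [Module (ZMod p) V]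
    (ρ : Representation (ZMod p) G V) (W : Submodule (ZMod p) V) (hW : ∀ g : G, ∀ w ∈ W, ρ g w ∈ W)
    (A : Subgroup G)
    (hP : ∀ B : Subgroup G, B ≤ A →
      Nat.card ↥B * Nat.card {v : V // ∀ b ∈ B, ρ b v = v} ≤ Nat.card ↥A * Nat.card {v : V // ∀ a ∈ A, ρ a v = v})
    (B : Subgroup G) (hBA : B ≤ A) (hCB : ∀ a ∈ A, (∀ w ∈ W, ρ a w = w) → a ∈ B) :
    Nat.card ↥B * Nat.card {w : W // ∀ b ∈ B, ρ b w = w} ≤ Nat.card ↥A * Nat.card {w : W // ∀ a ∈ A, ρ a w = w} := by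
  exact main p ρ W A B hBA (hP B hBA)

end Cfsg.Agent.S3087
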