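import Cfsg.Statements.S3116
import Mathlib
import Cfsg.Agent.H1.DS4
import Cfsg.Agent.H1.QD6

set_option autoImplicit false
open Cfsg

namespace Cfsg.Agent.S3116

open scoped commutatorElement Pointwise


/-- The automorphism group of a dihedral 2-group of order at least 8, or of a quasi-dihedral (semidihedral) 2-group of order at least 16, is a 2-group. -/
theorem result {X : Type*} [Group X] [Finite X] (h2 : IsPGroup 2 X)
    (h : (∃ n : ℕ, 4 ≤ n ∧ Nonempty (X ≃* DihedralGroup n)) ∨ Cfsg.IsQuasiDihedral X) : IsPGroup 2 (MulAut X) := by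
  have key : ∀ hX : ¬ IsPGroup 2 (MulAut X), ¬ IsPGroup 2 (MulAut (⊤ : Subgroup X)) := fun hX h3 => hX (h3.of_equiv (MulAut.congr Subgroup.topEquiv))
  have card_top : Nat.card (⊤ : Subgroup X) = Nat.card X := Nat.card_congr Subgroup.topEquiv.toEquiv
  by_contra hX
  rcases h with ⟨n, hn, ⟨e⟩⟩ | h
  · haveI : NeZero n := ⟨by omega⟩
    obtain ⟨k, x, y, hm, -, hd⟩ := H1.dd_data h2 (by omega) e
    have h3 := (hd.bad h2 (key hX)).card_four
    rw [card_top, Nat.card_congr e.toEquiv, Nat.card_eq_fintype_card, DihedralGroup.card] at h3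
    omega
  · obtain ⟨n, x, y, hn, hcard, hd⟩ := H1.qd_data h
    obtain ⟨k, rfl⟩ : ∃ k, n = k + 3 := ⟨n - 3, by omega⟩
    have h16 : 16 ≤ Nat.card X := by
      rw [hcard]
      have : 2 ^ 0 ≤ 2 ^ k := Nat.pow_le_pow_right (by norm_num) (by omega)
      have e : 2 ^ (k + 3 + 1) = 16 * 2 ^ k := by ring
      omega
    rcases hd.bad h2 (key hX) with h3 | ⟨⟨e⟩⟩
    · have h4 := h3.card_four
      rw [card_top] at h4; omega
    · have h4 : Nat.card (⊤ : Subgroup X) = 8 := by rw [Nat.card_congr e.toEquiv, Nat.card_eq_fintype_card, QuaternionGroup.card]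
      rw [card_top] at h4; omega

end Cfsg.Agent.S3116
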