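import Cfsg.Statements.S3556
import Mathlib
import Cfsg.Agent.H3.MinNormal
import Cfsg.Agent.H3.Syl2

set_option autoImplicit false
open Cfsg

namespace Cfsg.Agent.S3556

open Subgroup

theorem normal_transitive {G : Type*} [Group G] {Ω : Type*} [MulAction G Ω]
    [FaithfulSMul G Ω] (hprim : MulAction.IsPreprimitive G Ω) (M : Subgroup G) [M.Normal] (hM : M ≠ ⊥) :
    MulAction.IsPretransitive M Ω := by
  haveI := hprim
  have hfix : MulAction.fixedPoints M Ω ≠ Set.univ := by
    intro h
    apply hM
    rw [eq_bot_iff]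
    intro m hm
    rw [Subgroup.mem_bot]
    apply eq_of_smul_eq_smul (α := Ω)
    intro x
    have h1 : x ∈ MulAction.fixedPoints M Ω := by rw [h]; trivial
    rw [one_smul]
    exact h1 ⟨m, hm⟩
  exact MulAction.IsQuasiPreprimitive.isPretransitive_of_normal hfix

/-- a subgroup centralized by a transitive subgroup is semiregular -/
theorem semiregular_of_centralizes {G : Type*} [Group G] {Ω : Type*} [MulAction G Ω]
    [FaithfulSMul G Ω] (M : Subgroup G) [ht : MulAction.IsPretransitive M Ω] (g : G) (hg : ∀ m ∈ M, m * g = g * m)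
    (ω : Ω) (hω : g • ω = ω) : g = 1 := by
  apply eq_of_smul_eq_smul (α := Ω)
  intro x
  obtain ⟨n, rfl⟩ := MulAction.exists_smul_eq M ω x
  rw [one_smul]
  show g • (n : G) • ω = (n : G) • ω
  rw [← mul_smul, ← hg n n.2, mul_smul, hω]

/-- Let G act faithfully and primitively on a finite set with at least two points, and suppose that for some fixed prime p every element of G fixing no point has order a power of p. Then G is of affine type (it has a regular normal subgroup that is an elementary abelian r-group for some prime r) or almost simple (it has a non-abelian simple normal subgroup with trivial centralizer). -/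
theorem result {G Ω : Type*} [Group G] [Finite G] [MulAction G Ω] [FaithfulSMul G Ω] [Finite Ω]
    (hprim : MulAction.IsPreprimitive G Ω) (hΩ : 2 ≤ Nat.card Ω) (p : ℕ) (hp : p.Prime)
    (hder : ∀ g : G, (∀ ω : Ω, g • ω ≠ ω) → ∃ k : ℕ, orderOf g = p ^ k) :
    (∃ (N : Subgroup G) (r : ℕ), r.Prime ∧ N.Normal ∧ Cfsg.IsElementaryAbelian r N ∧
      MulAction.IsPretransitive N Ω ∧ ∀ a : Ω, MulAction.stabilizer N a = ⊥) ∨
    (∃ T : Subgroup G, T.Normal ∧ IsSimpleGroup ↥T ∧ ¬ IsMulCommutative ↥T ∧
      Subgroup.centralizer (T : Set G) = ⊥) := by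
  have hΩne : Nonempty Ω := by
    have : 0 < Nat.card Ω := by omega
    exact (Nat.card_pos_iff.mp this).1
  haveI : Fact p.Prime := ⟨hp⟩
  haveI hG : Nontrivial G := by
    by_contra h
    rw [not_nontrivial_iff_subsingleton] at h
    haveI := hprim
    obtain ⟨a, b, hab⟩ : ∃ a b : Ω, a ≠ b := by
      have : 1 < Nat.card Ω := by omega
      haveI := Finite.one_lt_card_iff_nontrivial.mp this
      exact exists_pair_ne Ω
    obtain ⟨g, hg⟩ := MulAction.exists_smul_eq G a b
    rw [Subsingleton.elim g 1, one_smul] at hg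
    exact hab hg
  obtain ⟨N, hN, hNb, hmin⟩ := H1.exists_minimal_normal (G := G)
  haveI := hN
  haveI htr := normal_transitive hprim N hNb
  by_cases hab : IsMulCommutative N
  · left
    -- elementary abelian
    have h1 : Nat.card N ≠ 1 := fun h => hNb (Subgroup.card_eq_one.mp h)
    obtain ⟨r, hr, hrN⟩ := Nat.exists_prime_and_dvd h1
    haveI : Fact r.Prime := ⟨hr⟩
    refine ⟨N, r, hr, hN, ⟨hab, ?_⟩, htr, ?_⟩
    · let K : Subgroup N :=
        { carrier := {x | x ^ r = 1}
          one_mem' := one_pow r
          mul_mem' := by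
            intro a b ha hb
            have : Commute a b := mul_comm' a b
            show (a * b) ^ r = 1
            rw [this.mul_pow, show a ^ r = 1 from ha, show b ^ r = 1 from hb, one_mul]
          inv_mem' := by
            intro a ha
            show (a⁻¹) ^ r = 1
            rw [inv_pow, show a ^ r = 1 from ha, inv_one] }
      haveI : K.Characteristic := by
        rw [Subgroup.characteristic_iff_le_comap]
        intro φ x hx
        show (φ x) ^ r = 1
        rw [← map_pow, show x ^ r = 1 from hx, map_one]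
      rcases H3.char_of_minimal N hmin K with h | h
      · exfalso
        obtain ⟨x, hx⟩ := exists_prime_orderOf_dvd_card' r hrN
        have : x ∈ K := by show x ^ r = 1; rw [← hx]; exact pow_orderOf_eq_one x
        rw [h, Subgroup.mem_bot] at this
        rw [this, orderOf_one] at hx
        exact hr.one_lt.ne hx
      · intro a ha
        have : (⟨a, ha⟩ : N) ∈ K := by rw [h]; trivial
        exact congrArg Subtype.val this
    · intro a
      rw [eq_bot_iff]
      intro m hm
      rw [Subgroup.mem_bot]
      apply Subtype.ext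
      exact semiregular_of_centralizes N (m : G) (fun n hn => congrArg Subtype.val (mul_comm' (⟨n, hn⟩ : N) m)) a hm
  right
  -- elements of N of order s ≠ p that are derangements are impossible
  obtain ⟨ω⟩ := hΩne
  rcases H3.simple_or_split N hNb hmin hab with hs | ⟨T, hTn, hTb, hTt, hTC, hTC2, hTmin⟩
  · refine ⟨N, hN, hs, hab, ?_⟩
    by_contra hC
    haveI : (Subgroup.centralizer (N : Set G)).Normal := Subgroup.normal_centralizer
    haveI htC := normal_transitive hprim (Subgroup.centralizer (N : Set G)) hC
    have hNp : IsPGroup p N := by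
      intro x
      by_cases hx : x = 1
      · exact ⟨0, by rw [hx, one_pow]⟩
      obtain ⟨k, hk⟩ := hder x (by
        intro ν hν
        apply hx
        apply Subtype.ext
        exact semiregular_of_centralizes (Subgroup.centralizer (N : Set G)) (x : G)
          (fun m hm => (Subgroup.mem_centralizer_iff.mp hm x x.2).symm) ν hν)
      refine ⟨k, ?_⟩
      rw [← hk, Subgroup.orderOf_coe, pow_orderOf_eq_one]
    have h1 : (⊤ : Subgroup N) = ⊥ := by
      apply H3.pgroup_eq_bot_of_minimal N hmin hab p
      exact hNp.to_subgroup ⊤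
    exact hNb (by
      rw [eq_bot_iff]
      intro x hx
      have : (⟨x, hx⟩ : N) ∈ (⊤ : Subgroup N) := trivial
      rw [h1, Subgroup.mem_bot] at this
      exact congrArg Subtype.val this)
  · exfalso
    have hCn : (Subgroup.centralizer (T : Set N)).Normal := Subgroup.normal_centralizer
    set C := Subgroup.centralizer (T : Set N) with hC
    have hCb : C ≠ ⊥ := by
      intro h
      rw [h, sup_bot_eq] at hTC2
      exact hTt hTC2
    -- element of C of prime order s ≠ p
    obtain ⟨c, hcC, s, hs, hsp, hcs⟩ : ∃ c ∈ C, ∃ s : ℕ, s.Prime ∧ s ≠ p ∧ orderOf c = s := by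
      by_contra hcon
      push Not at hcon
      apply hCb
      apply H3.pgroup_eq_bot_of_minimal N hmin hab p C
      have hcard : ∀ s : ℕ, s.Prime → s ∣ Nat.card C → s = p := by
        intro s hs hsC
        haveI : Fact s.Prime := ⟨hs⟩
        obtain ⟨y, hy⟩ := exists_prime_orderOf_dvd_card' s hsC
        by_contra hne
        exact hcon y y.2 s hs hne (by rw [Subgroup.orderOf_coe]; exact hy)
      rw [IsPGroup.iff_card]
      refine ⟨(Nat.card C).primeFactorsList.length, ?_⟩
      apply Nat.eq_prime_pow_of_unique_prime_dvd Nat.card_pos.ne'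
      intro d hd hdC
      exact hcard d hd hdC
    haveI hcomm : ∀ t ∈ T, ∀ c ∈ C, t * c = c * t := fun t ht c hc => Subgroup.mem_centralizer_iff.mp hc t ht
    by_cases hK : MulAction.stabilizer N ω ⊔ C = ⊤
    · -- T is semiregular
      have hTω : T ⊓ MulAction.stabilizer N ω = ⊥ := by
        have hn : (T ⊓ MulAction.stabilizer N ω).Normal := by
          refine ⟨fun x hx g => ?_⟩
          have hg : g ∈ MulAction.stabilizer N ω ⊔ C := by rw [hK]; trivial
          obtain ⟨h, hh, c, hc, rfl⟩ := Subgroup.mem_sup_of_normal_right.mp hg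
          have e1 : h * c * x * (h * c)⁻¹ = h * x * h⁻¹ := by
            have := hcomm x hx.1 c hc
            calc h * c * x * (h * c)⁻¹ = h * (c * x) * c⁻¹ * h⁻¹ := by group
              _ = h * (x * c) * c⁻¹ * h⁻¹ := by rw [this]
              _ = _ := by group
          rw [e1]
          exact ⟨hTn.conj_mem x hx.1 h, Subgroup.mul_mem _ (Subgroup.mul_mem _ hh hx.2) (Subgroup.inv_mem _ hh)⟩
        rw [eq_bot_iff]
        intro x hx
        rw [Subgroup.mem_bot]
        apply Subtype.ext
        apply eq_of_smul_eq_smul (α := Ω)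
        intro ν
        obtain ⟨n, rfl⟩ := MulAction.exists_smul_eq N ω ν
        have h1 := (hn.conj_mem x hx n⁻¹).2
        have h2 : (n⁻¹ * x * n⁻¹⁻¹) • ω = ω := h1
        have h3 : x • n • ω = n • ω := by
          calc x • n • ω = n • (n⁻¹ * x * n⁻¹⁻¹) • ω := by
                rw [← mul_smul, ← mul_smul]; congr 1; group
            _ = n • ω := by rw [h2]
        rw [OneMemClass.coe_one, one_smul]
        exact h3
      apply hTb
      apply H3.pgroup_eq_bot_of_minimal N hmin hab p T
      intro x
      by_cases hx : x = 1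
      · exact ⟨0, by rw [hx, one_pow]⟩
      obtain ⟨k, hk⟩ := hder ((x : N) : G) (by
        intro ν hν
        apply hx
        obtain ⟨n, rfl⟩ := MulAction.exists_smul_eq N ω ν
        have h1 : n⁻¹ * (x : N) * n⁻¹⁻¹ ∈ T ⊓ MulAction.stabilizer N ω := by
          refine ⟨hTn.conj_mem x x.2 n⁻¹, ?_⟩
          show (n⁻¹ * (x : N) * n⁻¹⁻¹) • ω = ω
          have h3 : (x : N) • n • ω = n • ω := hν
          rw [mul_smul, mul_smul, inv_inv, h3, inv_smul_smul]
        rw [hTω, Subgroup.mem_bot] at h1
        apply Subtype.ext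
        have : (x : N) = n * (n⁻¹ * (x : N) * n⁻¹⁻¹) * n⁻¹ := by group
        rw [this, h1]; simp)
      refine ⟨k, ?_⟩
      rw [← hk, Subgroup.orderOf_coe, Subgroup.orderOf_coe, pow_orderOf_eq_one]
    · obtain ⟨x, hx⟩ := H3.exists_not_mem_conj _ hK
      have hxTC : x ∈ T ⊔ C := by rw [hTC2]; trivial
      obtain ⟨x1, hx1, c1, hc1, rfl⟩ := Subgroup.mem_sup_of_normal_right.mp hxTC
      -- the element x1 * c
      have hnot : ∀ g : N, g⁻¹ * (x1 * c) * g ∉ MulAction.stabilizer N ω ⊔ C := by
        intro g hg
        apply hx g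
        have h1 : g⁻¹ * (x1 * c1) * g = (g⁻¹ * (x1 * c) * g) * (g⁻¹ * (c⁻¹ * c1) * g) := by group
        rw [h1]
        apply mul_mem hg
        apply Subgroup.mem_sup_right
        have := hCn.conj_mem (c⁻¹ * c1) (mul_mem (inv_mem hcC) hc1) g⁻¹
        rwa [inv_inv] at this
      obtain ⟨k, hk⟩ := hder ((x1 * c : N) : G) (by
        intro ν hν
        obtain ⟨n, rfl⟩ := MulAction.exists_smul_eq N ω ν
        apply hnot n
        apply Subgroup.mem_sup_left
        show (n⁻¹ * (x1 * c) * n) • ω = ω
        have h3 : (x1 * c : N) • n • ω = n • ω := hν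
        rw [mul_smul, mul_smul, h3, inv_smul_smul])
      have h4 : (x1 * c) ^ p ^ k = 1 := by
        rw [← hk, Subgroup.orderOf_coe, pow_orderOf_eq_one]
      have h5 : Commute x1 c := hcomm x1 hx1 c hcC
      rw [h5.mul_pow] at h4
      have h6 : c ^ p ^ k ∈ T ⊓ C := by
        refine ⟨?_, Subgroup.pow_mem _ hcC _⟩
        have : c ^ p ^ k = (x1 ^ p ^ k)⁻¹ := eq_inv_of_mul_eq_one_right h4
        rw [this]; exact Subgroup.inv_mem _ (Subgroup.pow_mem _ hx1 _)
      rw [hTC, Subgroup.mem_bot] at h6
      have h7 := orderOf_dvd_of_pow_eq_one h6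
      rw [hcs] at h7
      exact hsp ((Nat.prime_dvd_prime_iff_eq hs hp).mp (hs.dvd_of_dvd_pow h7))

end Cfsg.Agent.S3556
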