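import Cfsg.Statements.S3493
import Mathlib
import Cfsg.Agent.H3.MinNormal2
import Cfsg.Agent.H3.PartB
import Cfsg.Agent.S3556

set_option autoImplicit false
open Cfsg

namespace Cfsg.Agent.S3493

open Subgroup MulAction

theorem factor_top {G : Type*} [Group G] (H D : Subgroup G) (hcoat : IsCoatom H)
    (hDH : ∀ h ∈ H, ∀ d ∈ D, h * d * h⁻¹ ∈ D) (hcon : ¬ D ≤ H) (g : G) : ∃ d ∈ D, ∃ h ∈ H, g = d * h := by
  let L : Subgroup G :=
    { carrier := {g | ∃ d ∈ D, ∃ h ∈ H, g = d * h}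
      one_mem' := ⟨1, one_mem _, 1, one_mem _, by simp⟩
      mul_mem' := by
        rintro _ _ ⟨d, hd, h, hh, rfl⟩ ⟨d', hd', h', hh', rfl⟩
        exact ⟨d * (h * d' * h⁻¹), mul_mem hd (hDH h hh d' hd'), h * h', mul_mem hh hh', by group⟩
      inv_mem' := by
        rintro _ ⟨d, hd, h, hh, rfl⟩
        refine ⟨h⁻¹ * d⁻¹ * h, ?_, h⁻¹, inv_mem hh, by group⟩
        have := hDH h⁻¹ (inv_mem hh) d⁻¹ (inv_mem hd)
        rwa [inv_inv] at this }
  have hHL : H ≤ L := fun h hh => ⟨1, one_mem _, h, hh, by simp⟩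
  have hDL : D ≤ L := fun d hd => ⟨d, hd, 1, one_mem _, by simp⟩
  have hLt : L = ⊤ := by
    apply hcoat.2
    refine lt_of_le_of_ne hHL ?_
    intro h
    exact hcon (h ▸ hDL)
  have : g ∈ L := by rw [hLt]; trivial
  exact this

theorem partC {G : Type*} [Group G] [Finite G] {Ω : Type*} [Finite Ω] [Nontrivial Ω] [MulAction G Ω] [FaithfulSMul G Ω]
    (hprim : IsPreprimitive G Ω) (ω : Ω)
    (hep : ∀ α : Ω, IsPreprimitive (stabilizer G ω) (orbit (stabilizer G ω) α))
    (N T : Subgroup G) [hNn : N.Normal] (hNtr : IsPretransitive N Ω)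
    (hmin : ∀ L : Subgroup G, L.Normal → L ≤ N → L = ⊥ ∨ L = N)
    (hTN : T ≤ N) (hTb : T ≠ ⊥) (hTt : T ≠ N) (hnorm : ∀ n ∈ N, ∀ s ∈ T, n * s * n⁻¹ ∈ T)
    (hdec : ∀ n ∈ N, ∃ u ∈ T, ∃ c ∈ N, (∀ s ∈ T, c * s = s * c) ∧ n = u * c)
    (hcen : ∀ s ∈ T, (∀ s' ∈ T, s * s' = s' * s) → s = 1)
    (hdich : ∀ g : G, (∀ s ∈ T, g * s * g⁻¹ ∈ T) ∨ (∀ s ∈ T, ∀ s' ∈ T, s * (g * s' * g⁻¹) = (g * s' * g⁻¹) * s))
    (hsimp : IsSimpleGroup T) (hTab : ¬ IsMulCommutative T)
    (hK : ∃ n ∈ N, ∀ x ∈ N, x • ω = ω → ∀ c ∈ N, (∀ s ∈ T, c * s = s * c) → n ≠ x * c) : False := by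
  haveI := hprim
  haveI := hNtr
  set H := stabilizer G ω with hH
  have hcoat : IsCoatom H := (isCoatom_stabilizer_iff_preprimitive G ω).mpr hprim
  have act : ∀ x ∈ H, ∀ s : G, x • s • ω = (x * s * x⁻¹) • ω := by
    intro x hx s
    have h1 : x⁻¹ • ω = ω := by
      have : x⁻¹ ∈ H := inv_mem hx
      exact this
    rw [mul_smul, mul_smul, h1]
  -- C and K
  let C : Subgroup G :=
    { carrier := {c | c ∈ N ∧ ∀ s ∈ T, c * s = s * c}
      one_mem' := ⟨one_mem _, fun s _ => by simp⟩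
      mul_mem' := by
        rintro a b ⟨ha, ha'⟩ ⟨hb, hb'⟩
        exact ⟨mul_mem ha hb, fun s hs => by rw [mul_assoc, hb' s hs, ← mul_assoc, ha' s hs, mul_assoc]⟩
      inv_mem' := by
        rintro a ⟨ha, ha'⟩
        refine ⟨inv_mem ha, fun s hs => ?_⟩
        have := ha' s hs
        calc a⁻¹ * s = a⁻¹ * (s * a) * a⁻¹ := by group
          _ = a⁻¹ * (a * s) * a⁻¹ := by rw [this]
          _ = s * a⁻¹ := by group }
  have hCn : ∀ n ∈ N, ∀ c ∈ C, n * c * n⁻¹ ∈ C := by
    rintro n hn c ⟨hc, hc'⟩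
    refine ⟨mul_mem (mul_mem hn hc) (inv_mem hn), fun s hs => ?_⟩
    have h1 : n⁻¹ * s * n ∈ T := by
      have := hnorm n⁻¹ (inv_mem hn) s hs
      rwa [inv_inv] at this
    calc n * c * n⁻¹ * s = n * (c * (n⁻¹ * s * n)) * n⁻¹ := by group
      _ = n * ((n⁻¹ * s * n) * c) * n⁻¹ := by rw [hc' _ h1]
      _ = _ := by group
  -- K = N_ω C
  let K : Subgroup G :=
    { carrier := {k | ∃ x ∈ N, x • ω = ω ∧ ∃ c ∈ C, k = x * c}
      one_mem' := ⟨1, one_mem _, one_smul _ _, 1, one_mem _, by simp⟩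
      mul_mem' := by
        rintro _ _ ⟨x, hx, hxω, c, hc, rfl⟩ ⟨y, hy, hyω, d, hd, rfl⟩
        refine ⟨x * y, mul_mem hx hy, by rw [mul_smul, hyω, hxω], (y⁻¹ * c * y) * d, ?_, by group⟩
        have := hCn y⁻¹ (inv_mem hy) c hc
        rw [inv_inv] at this
        exact mul_mem this hd
      inv_mem' := by
        rintro _ ⟨x, hx, hxω, c, hc, rfl⟩
        refine ⟨x⁻¹, inv_mem hx, by rw [inv_smul_eq_iff, hxω], x * c⁻¹ * x⁻¹, hCn x hx _ (inv_mem hc), by group⟩ }
  have hKN : K ≤ N := by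
    rintro _ ⟨x, hx, hxω, c, hc, rfl⟩
    exact mul_mem hx hc.1
  have hKne : ¬ N ≤ K := by
    intro h
    obtain ⟨n, hn, hn'⟩ := hK
    obtain ⟨x, hx, hxω, c, hc, hxc⟩ := h hn
    exact hn' x hx hxω c hc.1 hc.2 hxc
  -- D = ⋂ K^h
  let D : Subgroup G :=
    { carrier := {d | ∀ h ∈ H, h⁻¹ * d * h ∈ K}
      one_mem' := fun h _ => by simp
      mul_mem' := by
        intro a b ha hb h hh
        have : h⁻¹ * (a * b) * h = (h⁻¹ * a * h) * (h⁻¹ * b * h) := by group
        rw [this]; exact mul_mem (ha h hh) (hb h hh)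
      inv_mem' := by
        intro a ha h hh
        have : h⁻¹ * a⁻¹ * h = (h⁻¹ * a * h)⁻¹ := by group
        rw [this]; exact inv_mem (ha h hh) }
  have hDK : D ≤ K := by
    intro d hd
    have := hd 1 (one_mem _)
    simpa using this
  have hDH : ∀ h ∈ H, ∀ d ∈ D, h * d * h⁻¹ ∈ D := by
    intro h hh d hd g hg
    have : g⁻¹ * (h * d * h⁻¹) * g = (h⁻¹ * g)⁻¹ * d * (h⁻¹ * g) := by group
    rw [this]
    exact hd _ (mul_mem (inv_mem hh) hg)
  have hNω : ∀ x ∈ N, x ∈ H → x ∈ D := by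
    intro x hx hxH h hh
    have h1 : h⁻¹ * x * h ∈ H := mul_mem (mul_mem (inv_mem hh) hxH) hh
    refine ⟨h⁻¹ * x * h, ?_, h1, 1, one_mem _, by simp⟩
    have := hNn.conj_mem x hx h⁻¹
    rwa [inv_inv] at this
  have hDleH : D ≤ H := by
    by_contra hcon
    apply hKne
    intro n hn
    obtain ⟨d, hd, h, hh, rfl⟩ := factor_top H D hcoat hDH hcon n
    have hdN : d ∈ N := hKN (hDK hd)
    have hhN : h ∈ N := by
      have : h = d⁻¹ * (d * h) := by group
      rw [this]; exact mul_mem (inv_mem hdN) hn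
    exact mul_mem (hDK hd) (hDK (hNω h hhN hh))
  -- claim
  have claim : ∀ t ∈ T, ∀ t' : G, (∀ s ∈ T, s * t' = t' * s) → t' ∈ N → t⁻¹ * t' ∈ H → t ∈ H := by
    intro t ht t' hcomm ht'N hH'
    apply hDleH
    intro h hh
    rcases hdich h⁻¹ with hd | hd
    · -- h⁻¹ T h = T
      have hTeq : ∀ s ∈ T, h * s * h⁻¹ ∈ T := by
        rcases hdich h with h' | h'
        · exact h'
        · intro s hs
          exfalso
          -- T commutes with h T h⁻¹, but T = h T h⁻¹
          have h2 : ∀ a ∈ T, ∀ b ∈ T, a * b = b * a := by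
            intro a ha b hb
            have hb' : h⁻¹ * b * h ∈ T := by
              have := hd b hb; rwa [inv_inv] at this
            have := h' a ha _ hb'
            have e : h * (h⁻¹ * b * h) * h⁻¹ = b := by group
            rwa [e] at this
          exact hTab ⟨⟨fun a b => Subtype.ext (h2 a a.2 b b.2)⟩⟩
      have e1 : h⁻¹ * t * h = (h⁻¹ * (t⁻¹ * t')⁻¹ * h) * (h⁻¹ * t' * h) := by
        have e3 : t = t'⁻¹ * t * t' := by
          calc t = t'⁻¹ * (t' * t) := by group
            _ = t'⁻¹ * (t * t') := by rw [hcomm t ht]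
            _ = _ := by group
        calc h⁻¹ * t * h = h⁻¹ * (t'⁻¹ * t * t') * h := by rw [← e3]
          _ = _ := by group
      rw [e1]
      have m1 : h⁻¹ * (t⁻¹ * t')⁻¹ * h ∈ K := by
        have hx : h⁻¹ * (t⁻¹ * t')⁻¹ * h ∈ H := mul_mem (mul_mem (inv_mem hh) (inv_mem hH')) hh
        refine ⟨_, ?_, hx, 1, one_mem _, by simp⟩
        have := hNn.conj_mem _ (inv_mem (mul_mem (inv_mem (hTN ht)) ht'N)) h⁻¹
        rwa [inv_inv] at this
      have m2 : h⁻¹ * t' * h ∈ K := by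
        refine ⟨1, one_mem _, one_smul _ _, h⁻¹ * t' * h, ⟨?_, ?_⟩, by simp⟩
        · have := hNn.conj_mem _ ht'N h⁻¹
          rwa [inv_inv] at this
        · intro s hs
          have := hcomm _ (hTeq s hs)
          calc h⁻¹ * t' * h * s = h⁻¹ * (t' * (h * s * h⁻¹)) * h := by group
            _ = h⁻¹ * ((h * s * h⁻¹) * t') * h := by rw [this]
            _ = _ := by group
      exact mul_mem m1 m2
    · refine ⟨1, one_mem _, one_smul _ _, h⁻¹ * t * h, ⟨?_, ?_⟩, by simp⟩
      · have := hNn.conj_mem _ (hTN ht) h⁻¹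
        rwa [inv_inv] at this
      · intro s hs
        have := hd s hs t ht
        rw [inv_inv] at this
        exact this.symm
  have Tab : ¬ (∀ a ∈ T, ∀ b ∈ T, a * b = b * a) := fun h2 => hTab ⟨⟨fun a b => Subtype.ext (h2 a a.2 b b.2)⟩⟩
  have hinv : ∀ h : G, (∀ s ∈ T, h * s * h⁻¹ ∈ T) → (∀ s ∈ T, h⁻¹ * s * h ∈ T) := by
    intro h hh
    rcases hdich h⁻¹ with hd | hd
    · intro s hs
      have := hd s hs; rwa [inv_inv] at this
    · exfalso
      apply Tab
      intro a ha b hb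
      have := hd a ha _ (hh b hb)
      have e : h⁻¹ * (h * b * h⁻¹) * h⁻¹⁻¹ = b := by group
      rwa [e] at this
  -- c1
  obtain ⟨t0, ht0, ht0H⟩ : ∃ t ∈ T, t ∉ H := by
    by_contra hcon
    push Not at hcon
    apply hTb
    rw [eq_bot_iff]
    intro t ht
    rw [Subgroup.mem_bot]
    apply eq_of_smul_eq_smul (α := Ω)
    intro β
    obtain ⟨n, rfl⟩ := exists_smul_eq N ω β
    have h1 : (n : G)⁻¹ * t * n ∈ T := by
      have := hnorm (n : G)⁻¹ (inv_mem n.2) t ht
      rwa [inv_inv] at this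
    have h2 : ((n : G)⁻¹ * t * n) • ω = ω := hcon _ h1
    rw [one_smul]
    show t • (n : G) • ω = (n : G) • ω
    calc t • (n : G) • ω = (n : G) • ((n : G)⁻¹ * t * n) • ω := by
          rw [← mul_smul, ← mul_smul]; congr 1; group
      _ = _ := by rw [h2]
  -- c2
  obtain ⟨g0, hg0, hg0T⟩ : ∃ g ∈ H, ¬ (∀ s ∈ T, g * s * g⁻¹ ∈ T) := by
    by_contra hcon
    push Not at hcon
    have hTn : T.Normal := by
      refine ⟨fun s hs g => ?_⟩
      obtain ⟨n, hn⟩ := exists_smul_eq N ω (g • ω)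
      have hn' : (n : G) • ω = g • ω := hn
      have h1 : (n : G)⁻¹ * g ∈ H := by
        show ((n : G)⁻¹ * g) • ω = ω
        rw [mul_smul, ← hn', inv_smul_smul]
      have h2 := hnorm n n.2 _ (hcon _ h1 s hs)
      have e : (n : G) * ((n : G)⁻¹ * g * s * ((n : G)⁻¹ * g)⁻¹) * (n : G)⁻¹ = g * s * g⁻¹ := by group
      rwa [e] at h2
    rcases hmin T hTn hTN with h | h
    · exact hTb h
    · exact hTt h
  -- c3
  have c3 : ∀ t ∈ T, t ∉ H → ∀ h ∈ H, h • t • ω = t • ω → (∀ s ∈ T, h * s * h⁻¹ ∈ T) := by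
    intro t ht htH h hh hfix
    rcases hdich h with hd | hd
    · exact hd
    · exfalso
      apply htH
      apply claim t ht (h * t * h⁻¹) (fun s hs => hd s hs t ht) (hNn.conj_mem t (hTN ht) h)
      show (t⁻¹ * (h * t * h⁻¹)) • ω = ω
      rw [act h hh] at hfix
      rw [mul_smul, hfix, inv_smul_smul]
  let HT : Subgroup H :=
    { carrier := {h | (∀ s ∈ T, (h : G) * s * (h : G)⁻¹ ∈ T) ∧ (∀ s ∈ T, (h : G)⁻¹ * s * (h : G) ∈ T)}
      one_mem' := ⟨fun s hs => by simpa using hs, fun s hs => by simpa using hs⟩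
      mul_mem' := by
        rintro a b ⟨ha, ha'⟩ ⟨hb, hb'⟩
        constructor
        · intro s hs
          have e : ((a * b : H) : G) * s * ((a * b : H) : G)⁻¹ = (a : G) * ((b : G) * s * (b : G)⁻¹) * (a : G)⁻¹ := by
            simp [mul_assoc]
          rw [e]; exact ha _ (hb s hs)
        · intro s hs
          have e : ((a * b : H) : G)⁻¹ * s * ((a * b : H) : G) = (b : G)⁻¹ * ((a : G)⁻¹ * s * (a : G)) * (b : G) := by
            simp [mul_assoc]
          rw [e]; exact hb' _ (ha' s hs)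
      inv_mem' := by
        rintro a ⟨ha, ha'⟩
        constructor
        · intro s hs
          have := ha' s hs
          simpa using this
        · intro s hs
          have := ha s hs
          simpa using this }
  have hHTt : HT ≠ ⊤ := by
    intro h
    apply hg0T
    have : (⟨g0, hg0⟩ : H) ∈ HT := by rw [h]; trivial
    exact this.1
  have c4 : ∀ t ∈ T, ∀ h ∈ H, (∀ s ∈ T, h * s * h⁻¹ ∈ T) → h • t • ω = t • ω := by
    intro t ht h hh hhT
    by_cases htH : t ∈ H
    · have h1 : t • ω = ω := htH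
      have h2 : h • ω = ω := hh
      rw [h1, h2]
    haveI := hep (t • ω)
    have hle : stabilizer H (t • ω) ≤ HT := by
      intro k hk
      have hk' : (k : G) • t • ω = t • ω := hk
      have := c3 t ht htH k k.2 hk'
      exact ⟨this, hinv _ this⟩
    have hne : stabilizer H (t • ω) ≠ ⊤ := by
      intro h'
      rw [h', top_le_iff] at hle
      exact hHTt hle
    haveI : Nontrivial (orbit H (t • ω)) := by
      have : ∃ k : H, k • t • ω ≠ t • ω := by
        by_contra hcon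
        push Not at hcon
        apply hne
        rw [eq_top_iff]
        intro k _
        exact hcon k
      obtain ⟨k, hk⟩ := this
      refine ⟨⟨⟨t • ω, mem_orbit_self _⟩, ⟨k • t • ω, ⟨k, rfl⟩⟩, ?_⟩⟩
      intro h'
      exact hk (congrArg Subtype.val h').symm
    have h1 := (isCoatom_stabilizer_iff_preprimitive H (⟨t • ω, mem_orbit_self _⟩ : orbit H (t • ω))).mpr (hep (t • ω))
    have h2 : stabilizer H (⟨t • ω, mem_orbit_self _⟩ : orbit H (t • ω)) = stabilizer H (t • ω) := by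
      ext h
      rw [mem_stabilizer_iff, mem_stabilizer_iff, Subtype.ext_iff]
      rfl
    rw [h2] at h1
    have h3 := (h1.le_iff.mp hle).resolve_left hHTt
    have h4 : (⟨h, hh⟩ : H) ∈ stabilizer H (t • ω) := by
      rw [← h3]; exact ⟨hhT, hinv _ hhT⟩
    exact h4
  -- c6
  have hE : ∀ x ∈ N, x ∈ H → x = 1 := by
    have hEn : (N ⊓ H).Normal := by
      rw [← Subgroup.normalizer_eq_top_iff]
      have hH' : H ≤ Subgroup.normalizer ((N ⊓ H : Subgroup G) : Set G) := by
        intro h hh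
        rw [Subgroup.mem_normalizer_iff]
        intro x
        constructor
        · rintro ⟨h1, h2⟩
          exact ⟨hNn.conj_mem x h1 h, H.mul_mem (H.mul_mem hh h2) (H.inv_mem hh)⟩
        · rintro ⟨h1, h2⟩
          have e : x = h⁻¹ * (h * x * h⁻¹) * h⁻¹⁻¹ := by group
          rw [e]
          exact ⟨hNn.conj_mem _ h1 h⁻¹, H.mul_mem (H.mul_mem (H.inv_mem hh) h2) (by rw [inv_inv]; exact hh)⟩
      have hstep : ∀ t ∈ T, ∀ x ∈ N ⊓ H, t⁻¹ * x * t ∈ N ⊓ H := by
        rintro t ht x ⟨h1, h2⟩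
        refine ⟨?_, ?_⟩
        · have := hNn.conj_mem x h1 t⁻¹
          rwa [inv_inv] at this
        · show (t⁻¹ * x * t) • ω = ω
          have := c4 t ht x h2 (hnorm x h1)
          rw [mul_smul, mul_smul, this, inv_smul_smul]
      have hT' : T ≤ Subgroup.normalizer ((N ⊓ H : Subgroup G) : Set G) := by
        intro t ht
        rw [Subgroup.mem_normalizer_iff]
        intro x
        constructor
        · intro hx
          have := hstep t⁻¹ (inv_mem ht) x hx
          rwa [inv_inv] at this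
        · intro hx
          have := hstep t ht _ hx
          have e : t⁻¹ * (t * x * t⁻¹) * t = x := by group
          rwa [e] at this
      apply hcoat.2
      refine lt_of_le_of_ne hH' ?_
      intro h
      exact ht0H (h ▸ hT' ht0)
    intro x hx hxH
    apply eq_of_smul_eq_smul (α := Ω)
    intro β
    obtain ⟨g, rfl⟩ := exists_smul_eq G ω β
    have h1 := (hEn.conj_mem x ⟨hx, hxH⟩ g⁻¹).2
    have h2 : (g⁻¹ * x * g⁻¹⁻¹) • ω = ω := h1
    rw [one_smul]
    calc x • g • ω = g • (g⁻¹ * x * g⁻¹⁻¹) • ω := by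
          rw [← mul_smul, ← mul_smul]; congr 1; group
      _ = _ := by rw [h2]
  have c7 : ∀ t ∈ T, ∀ h ∈ H, (∀ s ∈ T, h * s * h⁻¹ ∈ T) → h * t * h⁻¹ = t := by
    intro t ht h hh hhT
    have h1 := c4 t ht h hh hhT
    rw [act h hh] at h1
    have h2 : t⁻¹ * (h * t * h⁻¹) = 1 := by
      apply hE
      · exact mul_mem (inv_mem (hTN ht)) (hNn.conj_mem t (hTN ht) h)
      · show (t⁻¹ * (h * t * h⁻¹)) • ω = ω
        rw [mul_smul, h1, inv_smul_smul]
    exact (inv_mul_eq_one.mp h2).symm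
  -- c8
  have ht01 : t0 ≠ 1 := by rintro rfl; exact ht0H (one_mem _)
  let Y : Subgroup G := Subgroup.closure {y | ∃ h ∈ H, y = h * t0 * h⁻¹}
  have hYN : Y ≤ N := by
    rw [Subgroup.closure_le]
    rintro _ ⟨h, hh, rfl⟩
    exact hNn.conj_mem t0 (hTN ht0) h
  have hYH : ∀ h ∈ H, ∀ y ∈ Y, h * y * h⁻¹ ∈ Y := by
    intro h hh y hy
    induction hy using Subgroup.closure_induction with
    | mem y hy =>
      obtain ⟨k, hk, rfl⟩ := hy
      apply Subgroup.subset_closure
      exact ⟨h * k, mul_mem hh hk, by group⟩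
    | one => simp
    | mul a b _ _ ha hb =>
      have e : h * (a * b) * h⁻¹ = (h * a * h⁻¹) * (h * b * h⁻¹) := by group
      rw [e]; exact mul_mem ha hb
    | inv a _ ha =>
      have e : h * a⁻¹ * h⁻¹ = (h * a * h⁻¹)⁻¹ := by group
      rw [e]; exact inv_mem ha
  have ht0Y : t0 ∈ Y := Subgroup.subset_closure ⟨1, one_mem _, by simp⟩
  have hNY : N ≤ Y := by
    intro n hn
    obtain ⟨d, hd, h, hh, e⟩ := factor_top H Y hcoat hYH (fun h => ht0H (h ht0Y)) n
    have h1 : h = 1 := by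
      apply hE _ _ hh
      have : h = d⁻¹ * n := by rw [e]; group
      rw [this]; exact mul_mem (inv_mem (hYN hd)) hn
    rw [e, h1, mul_one]; exact hd
  let Z : Subgroup G :=
    { carrier := {g | ∃ x ∈ Subgroup.zpowers t0, ∃ c ∈ C, g = x * c}
      one_mem' := ⟨1, one_mem _, 1, one_mem _, by simp⟩
      mul_mem' := by
        rintro _ _ ⟨x, hx, c, hc, rfl⟩ ⟨y, hy, d, hd, rfl⟩
        have hyT : y ∈ T := (Subgroup.zpowers_le.mpr ht0) hy
        refine ⟨x * y, mul_mem hx hy, c * d, mul_mem hc hd, ?_⟩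
        calc x * c * (y * d) = x * (c * y) * d := by group
          _ = x * (y * c) * d := by rw [hc.2 y hyT]
          _ = _ := by group
      inv_mem' := by
        rintro _ ⟨x, hx, c, hc, rfl⟩
        have hxT : x⁻¹ ∈ T := inv_mem ((Subgroup.zpowers_le.mpr ht0) hx)
        refine ⟨x⁻¹, inv_mem hx, c⁻¹, inv_mem hc, ?_⟩
        have hc' : c⁻¹ ∈ C := inv_mem hc
        rw [mul_inv_rev, hc'.2 _ hxT] }
  have hYZ : Y ≤ Z := by
    rw [Subgroup.closure_le]
    rintro _ ⟨h, hh, rfl⟩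
    rcases hdich h with hd | hd
    · rw [c7 t0 ht0 h hh hd]
      exact ⟨t0, Subgroup.mem_zpowers _, 1, one_mem _, by simp⟩
    · refine ⟨1, one_mem _, h * t0 * h⁻¹, ⟨hNn.conj_mem t0 (hTN ht0) h, ?_⟩, by simp⟩
      intro s hs
      exact (hd s hs t0 ht0).symm
  have hTz : T ≤ Subgroup.zpowers t0 := by
    intro s hs
    obtain ⟨x, hx, c, hc, e⟩ := hYZ (hNY (hTN hs))
    have hxT : x ∈ T := (Subgroup.zpowers_le.mpr ht0) hx
    have hcT : c ∈ T := by
      have : c = x⁻¹ * s := by rw [e]; group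
      rw [this]; exact mul_mem (inv_mem hxT) hs
    have := hcen c hcT hc.2
    rw [e, this, mul_one]; exact hx
  apply Tab
  intro a ha b hb
  obtain ⟨i, rfl⟩ := Subgroup.mem_zpowers_iff.mp (hTz ha)
  obtain ⟨j, rfl⟩ := Subgroup.mem_zpowers_iff.mp (hTz hb)
  rw [← zpow_add, ← zpow_add, add_comm]

/-- An extremely primitive permutation group is of affine type or almost simple. Let a finite group G act faithfully and primitively on a finite set Ω with at least two points, in such a way that every point stabilizer acts primitively on each of its own orbits in Ω (an orbit of size one counts as primitive). Then either G has a non-trivial abelian normal subgroup whose elements other than the identity fix no point (affine type), or G has a non-abelian simple normal subgroup with trivial centralizer (almost simple). -/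
theorem result {G : Type*} [Group G] [Finite G] {Ω : Type*} [Fintype Ω] [MulAction G Ω] [FaithfulSMul G Ω] (hΩ : 2 ≤ Fintype.card Ω) (hprim : MulAction.IsPreprimitive G Ω) (hep : ∀ (α : Ω) (ω : Ω), MulAction.IsPreprimitive (MulAction.stabilizer G α) (MulAction.orbit (MulAction.stabilizer G α) ω)) :
    (∃ N : Subgroup G, N.Normal ∧ N ≠ ⊥ ∧ IsMulCommutative N ∧ ∀ ω : Ω, MulAction.stabilizer N ω = ⊥) ∨ (∃ T : Subgroup G, T.Normal ∧ IsSimpleGroup T ∧ ¬ IsMulCommutative T ∧ Subgroup.centralizer (T : Set G) = ⊥) := by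
  have hΩne : Nonempty Ω := by
    have : 0 < Fintype.card Ω := by omega
    exact Fintype.card_pos_iff.mp this
  haveI hΩnt : Nontrivial Ω := Fintype.one_lt_card_iff_nontrivial.mp (by omega)
  haveI hG : Nontrivial G := by
    by_contra h
    rw [not_nontrivial_iff_subsingleton] at h
    haveI := hprim
    obtain ⟨a, b, hab⟩ := exists_pair_ne Ω
    obtain ⟨g, hg⟩ := MulAction.exists_smul_eq G a b
    rw [Subsingleton.elim g 1, one_smul] at hg
    exact hab hg
  obtain ⟨N, hN, hNb, hmin⟩ := H1.exists_minimal_normal (G := G)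
  haveI := hN
  haveI htr := S3556.normal_transitive hprim N hNb
  by_cases hab : IsMulCommutative N
  · left
    refine ⟨N, hN, hNb, hab, fun a => ?_⟩
    rw [eq_bot_iff]
    intro m hm
    rw [Subgroup.mem_bot]
    apply Subtype.ext
    exact S3556.semiregular_of_centralizes N (m : G) (fun n hn => congrArg Subtype.val (mul_comm' (⟨n, hn⟩ : N) m)) a hm
  right
  obtain ⟨ω⟩ := hΩne
  have act : ∀ x ∈ MulAction.stabilizer G ω, ∀ s : G, x • s • ω = (x * s * x⁻¹) • ω := by
    intro x hx s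
    have h1 : x⁻¹ • ω = ω := by
      have : x⁻¹ ∈ MulAction.stabilizer G ω := inv_mem hx
      exact this
    rw [mul_smul, mul_smul, h1]
  rcases H3.simple_or_factor N hNb hmin hab with hs | ⟨T, hTN, hTb, hTt, hnorm, hdec, hcen, hdich, hTs, hTab⟩
  · refine ⟨N, hN, hs, hab, ?_⟩
    by_contra hC
    haveI hCn : (Subgroup.centralizer (N : Set G)).Normal := Subgroup.normal_centralizer
    haveI htC := S3556.normal_transitive hprim (Subgroup.centralizer (N : Set G)) hC
    refine H3.partB hprim ω (hep ω) N ((N ⊔ Subgroup.centralizer (N : Set G)) ⊓ MulAction.stabilizer G ω)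
      inf_le_right ?_ ?_ ?_ ?_ hs hab ?_
    · rintro h hh x ⟨hx1, hx2⟩
      have hn : (N ⊔ Subgroup.centralizer (N : Set G)).Normal := Subgroup.sup_normal _ _
      exact ⟨hn.conj_mem x hx1 h, Subgroup.mul_mem _ (Subgroup.mul_mem _ hh hx2) (Subgroup.inv_mem _ hh)⟩
    · rintro x ⟨hx1, hx2⟩
      obtain ⟨n, hn, c, hc, rfl⟩ := Subgroup.mem_sup_of_normal_right.mp hx1
      refine ⟨n, hn, fun s hs => ?_⟩
      have := Subgroup.mem_centralizer_iff.mp hc s hs
      calc n * c * s * (n * c)⁻¹ = n * (c * s) * c⁻¹ * n⁻¹ := by group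
        _ = n * (s * c) * c⁻¹ * n⁻¹ := by rw [this]
        _ = _ := by group
    · intro u hu
      obtain ⟨c, hc⟩ := MulAction.exists_smul_eq (Subgroup.centralizer (N : Set G)) ω (u⁻¹ • ω)
      have hc' : (c : G) • ω = u⁻¹ • ω := hc
      refine ⟨u * c, ⟨mul_mem (Subgroup.mem_sup_left hu) (Subgroup.mem_sup_right c.2), ?_⟩, fun s hs => ?_⟩
      · show (u * (c : G)) • ω = ω
        rw [mul_smul, hc', smul_inv_smul]
      · have := Subgroup.mem_centralizer_iff.mp c.2 s hs
        calc u * c * s * (u * c)⁻¹ = u * (c * s) * (c : G)⁻¹ * u⁻¹ := by group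
          _ = u * (s * c) * (c : G)⁻¹ * u⁻¹ := by rw [this]
          _ = _ := by group
    · intro s hs hsω
      exact S3556.semiregular_of_centralizes (Subgroup.centralizer (N : Set G)) s
        (fun m hm => (Subgroup.mem_centralizer_iff.mp hm s hs).symm) ω hsω
    · intro h hh
      left
      intro s hs
      exact hN.conj_mem s hs h
  · exfalso
    by_cases hK : ∃ n ∈ N, ∀ x ∈ N, x • ω = ω → ∀ c ∈ N, (∀ s ∈ T, c * s = s * c) → n ≠ x * c
    · exact partC hprim ω (hep ω) N T htr hmin hTN hTb hTt hnorm hdec hcen hdich hTs hTab hK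
    push Not at hK
    -- T ∩ H = 1
    have hTω : ∀ s ∈ T, s • ω = ω → s = 1 := by
      have hn : ∀ n ∈ N, ∀ s ∈ T, s • ω = ω → (n * s * n⁻¹) • ω = ω := by
        intro n hn s hs hsω
        obtain ⟨x, hx, hxω, c, hc, hcc, e⟩ := hK n hn
        have e1 : n * s * n⁻¹ = x * s * x⁻¹ := by
          rw [e]
          calc x * c * s * (x * c)⁻¹ = x * (c * s) * c⁻¹ * x⁻¹ := by group
            _ = x * (s * c) * c⁻¹ * x⁻¹ := by rw [hcc s hs]
            _ = _ := by group
        rw [e1, ← act x hxω, hsω, hxω]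
      intro s hs hsω
      apply eq_of_smul_eq_smul (α := Ω)
      intro β
      obtain ⟨n, rfl⟩ := MulAction.exists_smul_eq N ω β
      have h2 := hn (n : G)⁻¹ (inv_mem n.2) s hs hsω
      rw [one_smul]
      show s • (n : G) • ω = (n : G) • ω
      calc s • (n : G) • ω = (n : G) • ((n : G)⁻¹ * s * (n : G)⁻¹⁻¹) • ω := by
            rw [← mul_smul, ← mul_smul]; congr 1; group
        _ = _ := by rw [h2]
    refine H3.partB hprim ω (hep ω) T (N ⊓ MulAction.stabilizer G ω)
      inf_le_right ?_ ?_ ?_ hTω hTs hTab (fun h _ => hdich h)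
    · rintro h hh x ⟨hx1, hx2⟩
      exact ⟨hN.conj_mem x hx1 h, Subgroup.mul_mem _ (Subgroup.mul_mem _ hh hx2) (Subgroup.inv_mem _ hh)⟩
    · rintro x ⟨hx1, hx2⟩
      obtain ⟨u, hu, c, hc, hcc, rfl⟩ := hdec x hx1
      refine ⟨u, hu, fun s hs => ?_⟩
      calc u * c * s * (u * c)⁻¹ = u * (c * s) * c⁻¹ * u⁻¹ := by group
        _ = u * (s * c) * c⁻¹ * u⁻¹ := by rw [hcc s hs]
        _ = _ := by group
    · intro u hu
      obtain ⟨x, hx, hxω, c, hc, hcc, e⟩ := hK u (hTN hu)
      refine ⟨x, ⟨hx, hxω⟩, fun s hs => ?_⟩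
      rw [e]
      symm
      calc x * c * s * (x * c)⁻¹ = x * (c * s) * c⁻¹ * x⁻¹ := by group
        _ = x * (s * c) * c⁻¹ * x⁻¹ := by rw [hcc s hs]
        _ = _ := by group

end Cfsg.Agent.S3493
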