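import Cfsg.Statements.S3554


set_option autoImplicit false
open Cfsg

namespace Cfsg.Agent.S3554

/-- Let G act faithfully and transitively on a finite set and suppose G has a non-trivial cyclic normal subgroup. Then some element of G of prime order fixes no point. -/
theorem result {G Ω : Type*} [Group G] [Finite G] [MulAction G Ω] [FaithfulSMul G Ω] [Finite Ω]
    (htrans : MulAction.IsPretransitive G Ω) (C : Subgroup G) (hC : C.Normal) (hC1 : C ≠ ⊥) (hcyc : IsCyclic ↥C) :
    ∃ g : G, (orderOf g).Prime ∧ ∀ ω : Ω, g • ω ≠ ω := by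
  classical
  have : Finite C := inferInstance
  have hne : Nat.card C ≠ 1 := by
    intro h
    exact hC1 (Subgroup.card_eq_one.mp h)
  obtain ⟨r, hr, hrd⟩ := Nat.exists_prime_and_dvd hne
  have := Fact.mk hr
  obtain ⟨g, hg⟩ := exists_prime_orderOf_dvd_card' r hrd
  refine ⟨g, by rw [Subgroup.orderOf_coe, hg]; exact hr, ?_⟩
  intro ω hω
  have hall : ∀ k : G, (g : G) • (k • ω) = k • ω := by
    intro k
    have hmem : ∀ x : C, k⁻¹ * (x : G) * k ∈ C := fun x => by
      have := hC.conj_mem x x.2 k⁻¹
      simpa using this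
    let σ : C →* C := MonoidHom.mk' (fun x => ⟨k⁻¹ * (x : G) * k, hmem x⟩) (by
      intro a b
      ext
      simp [mul_assoc])
    obtain ⟨m, hm⟩ := MonoidHom.map_cyclic σ
    have h1 : k⁻¹ * (g : G) * k = (g : G) ^ m := by
      have := congrArg (fun z : C => (z : G)) (hm g)
      exact this
    have h2 : (g : G) ^ m • ω = ω := by
      have : (g : G) ^ m ∈ MulAction.stabilizer G ω := Subgroup.zpow_mem _ (by exact hω) m
      exact this
    rw [← h1] at h2
    rw [mul_smul, mul_smul, inv_smul_eq_iff] at h2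
    exact h2
  have hg1 : (g : G) = 1 := by
    apply FaithfulSMul.eq_of_smul_eq_smul (α := Ω)
    intro a
    obtain ⟨k, rfl⟩ := MulAction.exists_smul_eq G ω a
    rw [hall, one_smul]
  rw [← Subgroup.orderOf_coe, hg1, orderOf_one] at hg
  exact hr.one_lt.ne hg

end Cfsg.Agent.S3554
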