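import Cfsg.Statements.S3555
import Mathlib
import Cfsg.Agent.H3.Frob
import Cfsg.Agent.H3.FrobThm

set_option autoImplicit false
open Cfsg

namespace Cfsg.Agent.S3555

open MulAction Finset

section
variable {G Ω : Type*} [Group G] [Fintype G] [MulAction G Ω] [Fintype Ω] [DecidableEq Ω]

def e (g : G) (β : Ω) : ℤ := if g • β = β then 1 else 0

def f (Ω : Type*) [MulAction G Ω] [Fintype Ω] [DecidableEq Ω] (g : G) : ℤ := ∑ β : Ω, e g β

theorem e_conj (u g : G) (β : Ω) : e (u * g * u⁻¹) (u • β) = e g β := by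
  unfold e
  have : (u * g * u⁻¹) • u • β = u • β ↔ g • β = β := by
    rw [smul_smul, inv_mul_cancel_right, mul_smul, smul_left_cancel_iff]
  simp only [this]

theorem f_conj (u g : G) : f Ω (u * g * u⁻¹) = f Ω g := by
  unfold f
  symm
  apply Fintype.sum_equiv (MulAction.toPerm u)
  intro β
  exact (e_conj u g β).symm

theorem sum_f_mul (htrans : IsPretransitive G Ω) (α : Ω) (w : G → ℤ) (hw : ∀ u g : G, w (u * g * u⁻¹) = w g) :
    ∑ g : G, f Ω g * w g = Fintype.card Ω * ∑ g : G, e g α * w g := by
  unfold f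
  simp only [Finset.sum_mul]
  rw [Finset.sum_comm]
  have h1 : ∀ β : Ω, ∑ g : G, e g β * w g = ∑ g : G, e g α * w g := by
    intro β
    obtain ⟨u, rfl⟩ := htrans.exists_smul_eq α β
    symm
    apply Fintype.sum_equiv (MulAut.conj u).toEquiv
    intro g
    show e g α * w g = e (u * g * u⁻¹) (u • α) * w (u * g * u⁻¹)
    rw [e_conj, hw]
  rw [Finset.sum_congr rfl (fun β _ => h1 β)]
  simp

theorem main [FaithfulSMul G Ω] (htrans : IsPretransitive G Ω) (α : Ω)
    (hinv : ∀ g : G, (∀ ω : Ω, g • ω ≠ ω) → g * g = 1) (g : G) (hg : ∃ ω : Ω, g • ω = ω) : f Ω g = 1 ∨ g = 1 := by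
  classical
  have hf0 : ∀ g : G, 0 ≤ f Ω g := fun g => Finset.sum_nonneg (fun β _ => by unfold e; split_ifs <;> norm_num)
  have hfn : ∀ g : G, f Ω g ≤ Fintype.card Ω := by
    intro g
    calc f Ω g ≤ ∑ _β : Ω, (1 : ℤ) := Finset.sum_le_sum (fun β _ => by unfold e; split_ifs <;> norm_num)
      _ = _ := by simp
  have hf1 : ∀ g : G, (∃ ω : Ω, g • ω = ω) → 1 ≤ f Ω g := by
    rintro g ⟨ω, hω⟩
    have h1 : e g ω ≤ f Ω g := Finset.single_le_sum (f := fun β => e g β) (fun β _ => by show 0 ≤ e g β; unfold e; split_ifs <;> norm_num) (Finset.mem_univ ω)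
    have h2 : e g ω = 1 := by unfold e; rw [if_pos hω]
    rwa [h2] at h1
  have hfD : ∀ g : G, (∀ ω : Ω, g • ω ≠ ω) → f Ω g = 0 := by
    intro g hg
    apply Finset.sum_eq_zero
    intro β _
    unfold e; rw [if_neg (hg β)]
  set n : ℤ := (Fintype.card Ω : ℤ) with hn
  -- |G| = n |H|
  have hGH : (Fintype.card G : ℤ) = n * ∑ g : G, e g α := by
    have h1 := MulAction.index_stabilizer_of_transitive (G := G) α
    have h2 := (stabilizer G α).card_mul_index
    have h3 : (Nat.card (stabilizer G α) : ℤ) = ∑ g : G, e g α := by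
      unfold e
      rw [Finset.sum_boole, Nat.card_eq_fintype_card, Fintype.card_subtype]
      rfl
    rw [h1] at h2
    rw [← h3, ← Nat.card_eq_fintype_card, ← h2, hn, ← Nat.card_eq_fintype_card]
    push_cast; ring
  have h1 : ∑ g : G, f Ω g = Fintype.card G := by
    have := sum_f_mul htrans α (fun _ => 1) (fun _ _ => rfl)
    simp only [mul_one] at this
    rw [this, hGH]
  have h2 : ∑ g : G, f Ω g * f Ω g = n * ∑ g : G, e g α * f Ω g := sum_f_mul htrans α (f Ω) f_conj
  set D : Finset G := Finset.univ.filter (fun g => ∀ ω : Ω, g • ω ≠ ω) with hD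
  -- |D| ≤ Σ_{h ∈ H} (f h - 1)
  have h3 : (D.card : ℤ) ≤ ∑ g : G, e g α * (f Ω g - 1) := by
    have h4 : (D.card : ℤ) = ∑ γ ∈ Finset.univ.erase α, ((D.filter (fun g => g • α = γ)).card : ℤ) := by
      rw [← Nat.cast_sum]
      congr 1
      apply Finset.card_eq_sum_card_fiberwise
      intro g hg
      rw [Finset.mem_coe] at hg ⊢
      rw [Finset.mem_erase]
      exact ⟨(Finset.mem_filter.mp hg).2 α, Finset.mem_univ _⟩
    have h5 : ∀ γ ∈ Finset.univ.erase α, ((D.filter (fun g => g • α = γ)).card : ℤ) ≤ ∑ g : G, e g α * e g γ := by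
      intro γ hγ
      have h6 : ∑ g : G, e g α * e g γ = ((Finset.univ.filter (fun g : G => g • α = α ∧ g • γ = γ)).card : ℤ) := by
        rw [← Finset.sum_boole]
        apply Finset.sum_congr rfl
        intro g _
        unfold e
        by_cases ha : g • α = α <;> by_cases hb : g • γ = γ <;> simp [ha, hb]
      rw [h6]
      norm_cast
      rcases (D.filter (fun g => g • α = γ)).eq_empty_or_nonempty with he | ⟨t, ht⟩
      · rw [he]; simp
      · obtain ⟨htD, htα⟩ := Finset.mem_filter.mp ht
        have htt := hinv t (Finset.mem_filter.mp htD).2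
        apply Finset.card_le_card_of_injOn (fun g => t⁻¹ * g)
        · intro g hg
          obtain ⟨hgD, hgα⟩ := Finset.mem_filter.mp hg
          have hgg := hinv g (Finset.mem_filter.mp hgD).2
          have hti : t⁻¹ = t := inv_eq_of_mul_eq_one_left htt
          have hgi : g⁻¹ = g := inv_eq_of_mul_eq_one_left hgg
          rw [Finset.mem_coe, Finset.mem_filter]
          refine ⟨Finset.mem_univ _, ?_, ?_⟩
          · show (t⁻¹ * g) • α = α
            rw [mul_smul, hgα, ← htα, inv_smul_smul]
          · show (t⁻¹ * g) • γ = γ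
            rw [hti, mul_smul]
            have e1 : g • γ = α := by rw [← hgα, smul_smul, hgg, one_smul]
            rw [e1, htα]
        · intro a _ b _ hab
          exact mul_left_cancel hab
    rw [h4]
    calc _ ≤ ∑ γ ∈ Finset.univ.erase α, ∑ g : G, e g α * e g γ := Finset.sum_le_sum h5
      _ = ∑ g : G, e g α * ∑ γ ∈ Finset.univ.erase α, e g γ := by
          rw [Finset.sum_comm]
          apply Finset.sum_congr rfl
          intro g _
          rw [Finset.mul_sum]
      _ = _ := by
          apply Finset.sum_congr rfl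
          intro g _
          by_cases ha : g • α = α
          · have h7 : f Ω g = e g α + ∑ γ ∈ Finset.univ.erase α, e g γ := by
              unfold f
              exact (Finset.add_sum_erase _ _ (Finset.mem_univ α)).symm
            have h8 : e g α = 1 := by unfold e; rw [if_pos ha]
            rw [h7, h8]; ring
          · have h8 : e g α = 0 := by unfold e; rw [if_neg ha]
            rw [h8]; ring
  have h4 : n * D.card ≤ ∑ g : G, (f Ω g - 1) * (f Ω g - n) := by
    have h5 : ∑ g : G, (f Ω g - 1) * (f Ω g - n) = ∑ g : G, f Ω g * f Ω g - ∑ g : G, f Ω g := by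
      have : ∀ g : G, (f Ω g - 1) * (f Ω g - n) = f Ω g * f Ω g - f Ω g - n * (f Ω g) + n := fun g => by ring
      simp only [this]
      rw [Finset.sum_add_distrib, Finset.sum_sub_distrib, Finset.sum_sub_distrib, ← Finset.mul_sum, h1]
      simp; ring
    rw [h5, h2, h1, hGH, ← mul_sub]
    apply mul_le_mul_of_nonneg_left _ (by positivity)
    refine h3.trans (le_of_eq ?_)
    rw [← Finset.sum_sub_distrib]
    apply Finset.sum_congr rfl
    intro g _; ring
  -- split the sum
  have h5 : ∑ g : G, (f Ω g - 1) * (f Ω g - n) = n * D.card + ∑ g ∈ Dᶜ, (f Ω g - 1) * (f Ω g - n) := by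
    rw [← Finset.sum_add_sum_compl D]
    congr 1
    rw [Finset.sum_congr rfl (fun g hg => show (f Ω g - 1) * (f Ω g - n) = n by
      rw [hfD g (Finset.mem_filter.mp hg).2]; ring)]
    simp; ring
  have h6 : ∀ g ∈ Dᶜ, 0 ≤ -((f Ω g - 1) * (f Ω g - n)) := by
    intro g hg
    have hg' : ∃ ω : Ω, g • ω = ω := by
      by_contra hcon
      push Not at hcon
      exact (Finset.mem_compl.mp hg) (Finset.mem_filter.mpr ⟨Finset.mem_univ _, hcon⟩)
    have a1 := hf1 g hg'
    have a2 := hfn g
    nlinarith
  have h7 : ∑ g ∈ Dᶜ, -((f Ω g - 1) * (f Ω g - n)) = 0 := by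
    apply le_antisymm _ (Finset.sum_nonneg h6)
    rw [Finset.sum_neg_distrib]
    linarith
  have h8 := (Finset.sum_eq_zero_iff_of_nonneg h6).mp h7 g (by
    rw [Finset.mem_compl]
    intro hgD
    obtain ⟨ω, hω⟩ := hg
    exact (Finset.mem_filter.mp hgD).2 ω hω)
  rw [neg_eq_zero, mul_eq_zero] at h8
  rcases h8 with h8 | h8
  · left; linarith
  · right
    have h9 : f Ω g = n := by linarith
    apply FaithfulSMul.eq_of_smul_eq_smul (α := Ω)
    intro ω
    rw [one_smul]
    by_contra hne
    have h10 : f Ω g < ∑ _β : Ω, (1 : ℤ) := by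
      apply Finset.sum_lt_sum
      · intro β _; unfold e; split_ifs <;> norm_num
      · refine ⟨ω, Finset.mem_univ _, ?_⟩
        unfold e; rw [if_neg hne]; norm_num
    rw [h9] at h10
    simp [hn] at h10

end

/-- Let G act faithfully and transitively on a finite set and suppose every element of G fixing no point is an involution. Then either G is an elementary abelian 2-group, or G is a Frobenius group whose Frobenius kernel is an elementary abelian 2-group: G has a Frobenius complement H, and the elements lying in no conjugate of H, together with the identity, pairwise commute and square to the identity. -/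
theorem result {G Ω : Type*} [Group G] [Finite G] [MulAction G Ω] [FaithfulSMul G Ω] [Finite Ω]
    (htrans : MulAction.IsPretransitive G Ω) (hinv : ∀ g : G, (∀ ω : Ω, g • ω ≠ ω) → orderOf g = 2) :
    (IsMulCommutative G ∧ ∀ g : G, g ^ 2 = 1) ∨
    (∃ H : Subgroup G, Cfsg.IsFrobeniusComplement H ∧
      (∀ x ∈ Cfsg.frobeniusKernel H, x ^ 2 = 1) ∧
      ∀ x ∈ Cfsg.frobeniusKernel H, ∀ y ∈ Cfsg.frobeniusKernel H, x * y = y * x) := by
  classical
  have := Fintype.ofFinite G
  have := Fintype.ofFinite Ω
  have hinv' : ∀ g : G, (∀ ω : Ω, g • ω ≠ ω) → g * g = 1 := by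
    intro g hg
    have := hinv g hg
    rw [← sq, ← this]; exact pow_orderOf_eq_one g
  rcases isEmpty_or_nonempty Ω with hΩ | ⟨⟨α⟩⟩
  · left
    have h1 : ∀ g : G, g = 1 := fun g => FaithfulSMul.eq_of_smul_eq_smul (α := Ω) (fun ω => (hΩ.false ω).elim)
    exact ⟨⟨⟨fun a b => by rw [h1 a, h1 b]⟩⟩, fun g => by rw [h1 g, one_pow]⟩
  set H := stabilizer G α with hH
  by_cases hHb : H = ⊥
  · left
    have h1 : ∀ g : G, g * g = 1 := by
      intro g
      by_cases hg : ∃ ω : Ω, g • ω = ω
      · obtain ⟨ω, hω⟩ := hg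
        obtain ⟨u, rfl⟩ := htrans.exists_smul_eq α ω
        have h2 : u⁻¹ * g * u ∈ H := by
          rw [hH, mem_stabilizer_iff, mul_smul, mul_smul, hω, inv_smul_smul]
        rw [hHb, Subgroup.mem_bot] at h2
        have h3 : g = 1 := by
          have : g = u * (u⁻¹ * g * u) * u⁻¹ := by group
          rw [this, h2]; group
        rw [h3, mul_one]
      · push Not at hg
        exact hinv' g hg
    refine ⟨⟨⟨fun a b => ?_⟩⟩, fun g => by rw [sq]; exact h1 g⟩
    have h2 := h1 (a * b)
    have ha := inv_eq_of_mul_eq_one_left (h1 a)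
    have hb := inv_eq_of_mul_eq_one_left (h1 b)
    have hab := inv_eq_of_mul_eq_one_left h2
    rw [← hab, mul_inv_rev, ha, hb]
  by_cases hHt : H = ⊤
  · exfalso
    apply hHb
    rw [Subgroup.eq_bot_iff_forall]
    intro g hg
    apply FaithfulSMul.eq_of_smul_eq_smul (α := Ω)
    intro ω
    obtain ⟨u, rfl⟩ := htrans.exists_smul_eq α ω
    have hu : u ∈ H := by rw [hHt]; trivial
    rw [mem_stabilizer_iff] at hu hg
    rw [hu, hg, one_smul]
  right
  have hFC : IsFrobeniusComplement H := by
    rw [H3.isFrobeniusComplement_iff]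
    refine ⟨hHb, hHt, ?_⟩
    intro g hg x hx hgx
    by_contra hx1
    have h1 : x • α = α := hx
    have h2 : x • (g • α) = g • α := by
      have : (g⁻¹ * x * g) • α = α := hgx
      rw [mul_smul, mul_smul, inv_smul_eq_iff] at this
      exact this
    have hne : g • α ≠ α := hg
    rcases main htrans α hinv' x ⟨α, h1⟩ with h3 | h3
    · have h4 : e x α + e x (g • α) ≤ f Ω x := by
        unfold f
        rw [← Finset.sum_pair hne.symm]
        apply Finset.sum_le_sum_of_subset_of_nonneg (Finset.subset_univ _)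
        intro β _ _
        unfold e; split_ifs <;> norm_num
      unfold e at h4
      rw [if_pos h1, if_pos h2, h3] at h4
      norm_num at h4
    · exact hx1 h3
  refine ⟨H, hFC, ?_⟩
  obtain ⟨N, hN1, hN2, hN3⟩ := H3.frobenius_kernel H hFC
  have hsq : ∀ x ∈ frobeniusKernel H, x * x = 1 := by
    intro x hx
    rw [H3.mem_frobeniusKernel_iff] at hx
    rcases hx with rfl | hx
    · rw [mul_one]
    · apply hinv'
      intro ω hω
      obtain ⟨u, rfl⟩ := htrans.exists_smul_eq α ω
      apply hx u
      rw [hH, mem_stabilizer_iff, mul_smul, mul_smul, hω, inv_smul_smul]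
  refine ⟨fun x hx => by rw [sq]; exact hsq x hx, ?_⟩
  intro x hx y hy
  have hxN : x ∈ N := by rw [← SetLike.mem_coe, hN1]; exact hx
  have hyN : y ∈ N := by rw [← SetLike.mem_coe, hN1]; exact hy
  have hxy : x * y ∈ frobeniusKernel H := by rw [← hN1]; exact N.mul_mem hxN hyN
  have ha := inv_eq_of_mul_eq_one_left (hsq x hx)
  have hb := inv_eq_of_mul_eq_one_left (hsq y hy)
  have hab := inv_eq_of_mul_eq_one_left (hsq _ hxy)
  rw [← hab, mul_inv_rev, ha, hb]

end Cfsg.Agent.S3555
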