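import Cfsg.Statements.S3633
import Cfsg.Agent.L0.Misc.ThreePr
-- import your own Cfsg.Agent.* helpers here

set_option autoImplicit false
open Cfsg commutatorElement

namespace Cfsg.Agent.S3633

/-- Let G be a finite group and ρ a set of at least three prime divisors of the order of G that are pairwise non-adjacent in the prime graph (no element of order rs for distinct r, s ∈ ρ). Then at most one prime of ρ divides the order of any given solvable normal subgroup of G; in particular G is not solvable. -/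
theorem result {G : Type*} [Group G] [Finite G] (ρ : Finset ℕ) (hρ : 3 ≤ ρ.card) (hc : ((∀ r ∈ ρ, r.Prime ∧ r ∣ Nat.card G) ∧ (∀ r ∈ ρ, ∀ s ∈ ρ, r ≠ s → ¬ ∃ x : G, orderOf x = r * s)))
    (K : Subgroup G) [K.Normal] (hK : Group.IsSolvable ↥K) :
    (∀ r ∈ ρ, ∀ s ∈ ρ, r ∣ Nat.card ↥K → s ∣ Nat.card ↥K → r = s) ∧ ¬ Group.IsSolvable G := by
  classical
  obtain ⟨hc1, hc2⟩ := hc
  have habs : ∀ (M : Subgroup G), M.Normal → Group.IsSolvable M → ∀ r ∈ ρ, ∀ s ∈ ρ, r ≠ s → r ∣ Nat.card M → s ∣ Nat.card M → False := by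
    intro M0 hM0 hM0s r0 hr0 s0 hs0 hrs0 hrd0 hsd0
    -- minimal M
    have hex : ∃ n, ∃ M : Subgroup G, M.Normal ∧ Group.IsSolvable M ∧ Nat.card M = n ∧ ∃ r ∈ ρ, ∃ s ∈ ρ, r ≠ s ∧ r ∣ Nat.card M ∧ s ∣ Nat.card M :=
      ⟨_, M0, hM0, hM0s, rfl, r0, hr0, s0, hs0, hrs0, hrd0, hsd0⟩
    obtain ⟨M, hMn, hMs, hMc, r, hr, s, hs, hrs, hrd, hsd⟩ := Nat.find_spec hex
    have hmin := fun m (hm : m < Nat.find hex) => Nat.find_min hex hm
    rw [← hMc] at hmin
    haveI := hMn
    haveI := hMs
    have hM1 : M ≠ ⊥ := by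
      rintro rfl
      rw [Subgroup.card_bot] at hrd
      exact (hc1 r hr).1.one_lt.ne' (Nat.dvd_one.mp hrd)
    obtain ⟨D, hD⟩ : ∃ D : Subgroup G, D = ⁅M, M⁆ := ⟨_, rfl⟩
    haveI hDn : D.Normal := by rw [hD]; exact Subgroup.commutator_normal M M
    have hDM : D ≤ M := by rw [hD]; exact Subgroup.commutator_le_right M M
    have hDlt : D < M := by
      refine lt_of_le_of_ne hDM ?_
      intro h
      have h1 : (⁅(⊤ : Subgroup M), (⊤ : Subgroup M)⁆ : Subgroup M) = ⊤ := by
        apply Subgroup.map_injective (Subgroup.subtype_injective M)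
        rw [Subgroup.map_commutator, ← MonoidHom.range_eq_map, Subgroup.range_subtype, ← hD, h]
      haveI : Nontrivial M := (Subgroup.nontrivial_iff_ne_bot M).2 hM1
      have h2 := IsSolvable.commutator_lt_top_of_nontrivial (G := M)
      exact h2.ne h1
    have hDs : Group.IsSolvable D := solvable_of_solvable_injective (f := Subgroup.inclusion hDM) (Subgroup.inclusion_injective hDM)
    have hDc : Nat.card D < Nat.card M := Set.ncard_lt_ncard hDlt (Set.toFinite _)
    have hcardM : Nat.card D * D.relIndex M = Nat.card M := by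
      have h2 := Subgroup.card_mul_index (D.subgroupOf M)
      have h3 := Nat.card_congr (Subgroup.subgroupOfEquivOfLe hDM).toEquiv
      rw [h3] at h2
      exact h2
    have hD2 : ∀ a ∈ ρ, ∀ b ∈ ρ, a ≠ b → a ∣ Nat.card D → b ∣ Nat.card D → False := by
      intro a ha b hb hab had hbd
      exact hmin _ hDc ⟨D, hDn, hDs, rfl, a, ha, b, hb, hab, had, hbd⟩
    have hquot : ∀ a ∈ ρ, ∀ b ∈ ρ, a ≠ b → a ∣ D.relIndex M → b ∣ D.relIndex M → False := by
      intro a ha b hb hab had hbd
      haveI := Fact.mk (hc1 a ha).1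
      haveI := Fact.mk (hc1 b hb).1
      have hDn' : (D.subgroupOf M).Normal := inferInstance
      have e1 : Nat.card (M ⧸ D.subgroupOf M) = D.relIndex M := rfl
      rw [← e1] at had hbd
      obtain ⟨x, hx⟩ := exists_prime_orderOf_dvd_card' a had
      obtain ⟨y, hy⟩ := exists_prime_orderOf_dvd_card' b hbd
      have hcomm : x * y = y * x := by
        obtain ⟨x, rfl⟩ := QuotientGroup.mk'_surjective _ x
        obtain ⟨y, rfl⟩ := QuotientGroup.mk'_surjective _ y
        rw [← commutatorElement_eq_one_iff_mul_comm, ← map_commutatorElement]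
        apply (QuotientGroup.eq_one_iff _).mpr
        rw [Subgroup.mem_subgroupOf, hD]
        exact Subgroup.commutator_mem_commutator x.2 y.2
      have hxy : orderOf (x * y) = a * b := by
        rw [(show Commute x y from hcomm).orderOf_mul_eq_mul_orderOf_of_coprime (by
          rw [hx, hy]; exact (Nat.coprime_primes (hc1 a ha).1 (hc1 b hb).1).mpr hab), hx, hy]
      obtain ⟨z, hz⟩ := QuotientGroup.mk'_surjective _ (x * y)
      have h5 : a * b ∣ orderOf z := by rw [← hxy, ← hz]; exact orderOf_map_dvd _ z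
      obtain ⟨k, hk⟩ := h5
      have hk0 : k ≠ 0 := by
        rintro rfl
        rw [mul_zero] at hk
        exact (orderOf_pos z).ne' hk
      refine hc2 a ha b hb hab ⟨((z ^ k : M) : G), ?_⟩
      rw [Subgroup.orderOf_coe, orderOf_pow_of_dvd hk0 (by rw [hk]; exact Dvd.intro_left _ rfl), hk, Nat.mul_div_cancel _ (Nat.pos_of_ne_zero hk0)]
    -- the third prime
    have key : ∀ a ∈ ρ, ∀ b ∈ ρ, a ≠ b → a ∣ Nat.card D → b ∣ D.relIndex M → False := by
      intro a ha b hb hab had hbd
      obtain ⟨t, ht, hta, htb⟩ : ∃ t ∈ ρ, t ≠ a ∧ t ≠ b := by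
        by_contra hcon
        push Not at hcon
        have h1 : ρ ⊆ {a, b} := by
          intro t ht
          by_cases h : t = a
          · simp [h]
          · simp [hcon t ht h]
        have h2 := Finset.card_le_card h1
        have h3 := Finset.card_le_two (a := a) (b := b)
        omega
      have htM : t ∣ M.index := by
        have h1 := (hc1 t ht).2
        rw [← Subgroup.card_mul_index M] at h1
        rcases (hc1 t ht).1.dvd_mul.mp h1 with h2 | h2
        · exfalso
          rw [← hcardM] at h2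
          rcases (hc1 t ht).1.dvd_mul.mp h2 with h3 | h3
          · exact hD2 t ht a ha hta h3 had
          · exact hquot t ht b hb htb h3 hbd
        · exact h2
      rcases Cfsg.Agent.L0.ThreePr.main D M hDM a b t (hc1 a ha).1 (hc1 b hb).1 (hc1 t ht).1 hab hta.symm htb.symm had hbd htM with h | h | h
      · exact hc2 a ha b hb hab h
      · exact hc2 a ha t ht hta.symm h
      · exact hc2 b hb t ht htb.symm h
    rw [← hcardM] at hrd hsd
    rcases (hc1 r hr).1.dvd_mul.mp hrd with h1 | h1 <;> rcases (hc1 s hs).1.dvd_mul.mp hsd with h2 | h2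
    · exact hD2 r hr s hs hrs h1 h2
    · exact key r hr s hs hrs h1 h2
    · exact key s hs r hr hrs.symm h2 h1
    · exact hquot r hr s hs hrs h1 h2
  refine ⟨?_, ?_⟩
  · intro r hr s hs h1 h2
    by_contra h3
    exact habs K inferInstance hK r hr s hs h3 h1 h2
  · intro hG
    obtain ⟨r, hr, s, hs, hrs⟩ := Finset.one_lt_card.mp (show 1 < ρ.card by omega)
    refine habs ⊤ inferInstance ?_ r hr s hs hrs ?_ ?_
    · infer_instance
    · rw [Subgroup.card_top]; exact (hc1 r hr).2
    · rw [Subgroup.card_top]; exact (hc1 s hs).2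

end Cfsg.Agent.S3633
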