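import Cfsg.Statements.S3768
import Mathlib
import Cfsg.Agent.H3.FrobStr

set_option autoImplicit false
open Cfsg

namespace Cfsg.Agent.S3768

open H3

/-- Let G be a finite Frobenius group with Frobenius complement R and Frobenius kernel K (the identity together with the elements in no conjugate of R), and let N be a normal subgroup of G not containing K. Then G/N is a Frobenius group with Frobenius complement RN/N whose Frobenius kernel is the image of K. -/
theorem result {G : Type*} [Group G] [Finite G] (R : Subgroup G) (hR : Cfsg.IsFrobeniusComplement R) (N : Subgroup G) [N.Normal] (hKN : ¬ Cfsg.frobeniusKernel R ⊆ N) : Cfsg.IsFrobeniusComplement (R.map (QuotientGroup.mk' N)) ∧ Cfsg.frobeniusKernel (R.map (QuotientGroup.mk' N)) = QuotientGroup.mk' N '' Cfsg.frobeniusKernel R := by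
  obtain ⟨K, hK, hKn, hKc⟩ := frobenius_kernel R hR
  have hR' := (isFrobeniusComplement_iff R).mp hR
  rw [← hK] at hKN ⊢
  have hNK : N ≤ K := by
    rcases kernel_dichotomy R hR K hK N with h | h
    · exact absurd h hKN
    · exact h
  haveI : (K.map (QuotientGroup.mk' N)).Normal := hKn.map _ (QuotientGroup.mk'_surjective N)
  have hKR : ∀ x : G, x ∈ K → x ∈ R → x = 1 := by
    intro x h1 h2
    have := hKc.disjoint
    rw [disjoint_iff] at this
    rw [← Subgroup.mem_bot, ← this]
    exact Subgroup.mem_inf.mpr ⟨h1, h2⟩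
  have h1 := frobenius_of_fpf (K.map (QuotientGroup.mk' N)) (R.map (QuotientGroup.mk' N)) ?_ ?_ ?_ ?_ ?_
  · refine ⟨h1.1, ?_⟩
    rw [h1.2]; rfl
  · rw [← Subgroup.map_sup, hKc.sup_eq_top, Subgroup.map_top_of_surjective _ (QuotientGroup.mk'_surjective N)]
  · intro h
    apply hKN
    intro k hk
    have : QuotientGroup.mk' N k ∈ K.map (QuotientGroup.mk' N) := ⟨k, hk, rfl⟩
    rw [h, Subgroup.mem_bot] at this
    exact (QuotientGroup.eq_one_iff k).mp this
  · intro h
    apply hR'.1
    rw [Subgroup.eq_bot_iff_forall]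
    intro r hr
    have : QuotientGroup.mk' N r ∈ R.map (QuotientGroup.mk' N) := ⟨r, hr, rfl⟩
    rw [h, Subgroup.mem_bot] at this
    exact hKR r (hNK ((QuotientGroup.eq_one_iff r).mp this)) hr
  · rintro _ ⟨r, hr, rfl⟩ hr1 _ ⟨k, hk, rfl⟩ hc
    have hr1' : r ≠ 1 := by
      rintro rfl
      exact hr1 (map_one _)
    have hrK : r ∉ K := fun h => hr1' (hKR r h hr)
    rw [← map_mul, ← map_mul] at hc
    have h2 : k * r * k⁻¹ * r⁻¹ ∈ N := by
      have h3 := (QuotientGroup.eq).mp hc
      have e : k * r * k⁻¹ * r⁻¹ = (r * k) * ((r * k)⁻¹ * (k * r)) * (r * k)⁻¹ := by group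
      rw [e]
      exact (inferInstance : N.Normal).conj_mem _ h3 _
    obtain ⟨n, hn, hnn⟩ := exists_comm_of_fpf N r (fun n hn hc => kernel_fpf R hR K hK hrK (hNK hn) hc) _ h2
    have h4 : n * r * n⁻¹ = k * r * k⁻¹ := mul_right_cancel hnn
    have h5 : n⁻¹ * k * r = r * (n⁻¹ * k) := by
      calc n⁻¹ * k * r = n⁻¹ * (k * r * k⁻¹) * k := by group
        _ = n⁻¹ * (n * r * n⁻¹) * k := by rw [h4]
        _ = _ := by group
    have h6 := kernel_fpf R hR K hK hrK (K.mul_mem (K.inv_mem (hNK hn)) hk) h5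
    have h7 : k = n := (inv_mul_eq_one.mp h6).symm
    rw [h7]
    exact (QuotientGroup.eq_one_iff n).mpr hn
  · rw [Subgroup.eq_bot_iff_forall]
    intro x hx
    obtain ⟨⟨k, hk, hkx⟩, ⟨r, hr, hrx⟩⟩ := Subgroup.mem_inf.mp hx
    have h2 : k⁻¹ * r ∈ N := (QuotientGroup.eq).mp (hkx.trans hrx.symm)
    have h3 : r ∈ K := by
      have : r = k * (k⁻¹ * r) := by group
      rw [this]; exact K.mul_mem hk (hNK h2)
    rw [← hrx, hKR r h3 hr, map_one]

end Cfsg.Agent.S3768
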