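import Cfsg.Statements.S3808
import Cfsg.Agent.H1.Basic

set_option autoImplicit false
open Cfsg

namespace Cfsg.Agent.S3808

/-- Let S be a finite p-group with an extraspecial subgroup Q of index p. Then either Z(S) = Z(Q), or S = Q·Z(S) and Z(S) has order p². -/
theorem result {S : Type*} [Group S] [Finite S] (p : ℕ) [Fact p.Prime] (hS : IsPGroup p S) (Q : Subgroup S) (hQ : Cfsg.IsExtraspecial p ↥Q) (hQi : Q.index = p) :
    Subgroup.center S = (Subgroup.center ↥Q).map Q.subtype ∨
      (Q ⊔ Subgroup.center S = ⊤ ∧ Nat.card (Subgroup.center S) = p ^ 2) := by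
  obtain ⟨_, hZc⟩ := hQ
  have hpp : p.Prime := Fact.out
  obtain ⟨n, hn⟩ := hS.exists_card_eq
  have hQn : Q.Normal := by
    have h1 := Subgroup.card_mul_index Q
    have hn0 : n ≠ 0 := by
      rintro rfl
      rw [pow_zero] at hn
      rw [hn, hQi] at h1
      have := Nat.eq_one_of_mul_eq_one_left h1
      exact hpp.one_lt.ne' this
    apply Subgroup.normal_of_index_eq_minFac_card
    rw [hn, hQi, Nat.Prime.pow_minFac hpp hn0]
  -- the centre of Q, as a subgroup of S
  obtain ⟨Z, hZ⟩ : ∃ Z : Subgroup S, Z = (Subgroup.center ↥Q).map Q.subtype := ⟨_, rfl⟩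
  have hZcard : Nat.card Z = p := by
    rw [hZ, ← hZc]
    exact (Nat.card_congr ((Subgroup.center ↥Q).equivMapOfInjective _ Q.subtype_injective).toEquiv).symm
  have hZn : Z.Normal := by
    rw [hZ]
    infer_instance
  have hZle : Z ≤ Subgroup.center S := by
    -- a normal subgroup of prime order in a p-group is central
    have hZp : IsPGroup p Z := hS.to_subgroup Z
    have hnt : Nontrivial Z := by
      rw [← Finite.one_lt_card_iff_nontrivial, hZcard]; exact hpp.one_lt
    have hne : Z ⊓ Subgroup.center S ≠ ⊥ := by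
      have hnil : Group.IsNilpotent S := hS.isNilpotent
      exact Cfsg.Agent.H1.inf_center_ne_bot Z ((Subgroup.nontrivial_iff_ne_bot Z).1 hnt)
    have h1 : Nat.card ↥(Z ⊓ Subgroup.center S : Subgroup S) ∣ p := by
      rw [← hZcard]; exact Subgroup.card_dvd_of_le inf_le_left
    rcases (Nat.dvd_prime hpp).1 h1 with h | h
    · exact absurd (Subgroup.card_eq_one.1 h) hne
    · have : Z ⊓ Subgroup.center S = Z := Subgroup.eq_of_le_of_card_ge inf_le_left (by rw [h, hZcard])
      rw [← this]; exact inf_le_right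
  have hinf : Subgroup.center S ⊓ Q = Z := by
    apply le_antisymm
    · rintro x ⟨hx, hxQ⟩
      rw [hZ]
      refine ⟨⟨x, hxQ⟩, ?_, rfl⟩
      rw [SetLike.mem_coe, Subgroup.mem_center_iff]
      intro y
      exact Subtype.ext (Subgroup.mem_center_iff.1 hx y)
    · refine le_inf hZle ?_
      rw [hZ]
      rintro _ ⟨x, _, rfl⟩; exact x.2
  by_cases hle : Subgroup.center S ≤ Q
  · left
    rw [← hZ, ← hinf, inf_eq_left.2 hle]
  · right
    have htop : Q ⊔ Subgroup.center S = ⊤ := by
      have h1 := Subgroup.relIndex_mul_index (le_sup_left : Q ≤ Q ⊔ Subgroup.center S)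
      rw [hQi] at h1
      rcases (Nat.dvd_prime hpp).1 (Dvd.intro_left _ h1) with h | h
      · exact Subgroup.index_eq_one.1 h
      · exfalso
        rw [h] at h1
        have h2 : Q.relIndex (Q ⊔ Subgroup.center S) = 1 := Nat.eq_of_mul_eq_mul_right hpp.pos (by rw [h1, one_mul])
        rw [Subgroup.relIndex_eq_one] at h2
        exact hle (le_sup_right.trans h2)
    refine ⟨htop, ?_⟩
    have h1 : Q.relIndex (Subgroup.center S) = Q.relIndex (Q ⊔ Subgroup.center S) := by
      rw [sup_comm]; exact (Subgroup.relIndex_sup_right (H := Subgroup.center S) (K := Q)).symm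
    rw [htop, Subgroup.relIndex_top_right, hQi] at h1
    have h2 := Subgroup.card_mul_index (Q.subgroupOf (Subgroup.center S))
    have h3 : (Q.subgroupOf (Subgroup.center S)).index = p := h1
    have h4 : Nat.card (Q.subgroupOf (Subgroup.center S)) = p := by
      rw [← hZcard, ← hinf]
      have e1 : Nat.card (Q.subgroupOf (Subgroup.center S)) = Nat.card ((Q.subgroupOf (Subgroup.center S)).map (Subgroup.center S).subtype) :=
        Nat.card_congr ((Q.subgroupOf (Subgroup.center S)).equivMapOfInjective _ (Subgroup.center S).subtype_injective).toEquiv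
      rw [e1, Subgroup.subgroupOf_map_subtype, inf_comm]
    rw [h3, h4] at h2
    rw [← h2, pow_two]

end Cfsg.Agent.S3808
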