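import Cfsg.Statements.S3809
import Cfsg.Agent.S0095

set_option autoImplicit false
open Cfsg

namespace Cfsg.Agent.S3809

/-- Let S be a finite p-group with an extraspecial subgroup of index p. Then S has order p^(2+2n) for some n ≥ 1, derived length at most 3, and exponent dividing p³. -/
theorem result {S : Type*} [Group S] [Finite S] (p : ℕ) [Fact p.Prime] (hS : IsPGroup p S) (Q : Subgroup S) (hQ : Cfsg.IsExtraspecial p ↥Q) (hQi : Q.index = p) :
    (∃ n : ℕ, 1 ≤ n ∧ Nat.card S = p ^ (2 + 2 * n)) ∧ derivedSeries S 3 = ⊥ ∧ ∀ x : S, x ^ (p ^ 3) = 1 := by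
  have hpp : p.Prime := Fact.out
  obtain ⟨n0, hn0⟩ := hS.exists_card_eq
  have hQn : Q.Normal := by
    have h1 := Subgroup.card_mul_index Q
    have h0 : n0 ≠ 0 := by
      rintro rfl
      rw [pow_zero] at hn0
      rw [hn0, hQi] at h1
      have := Nat.eq_one_of_mul_eq_one_left h1
      exact hpp.one_lt.ne' this
    apply Subgroup.normal_of_index_eq_minFac_card
    rw [hn0, hQi, Nat.Prime.pow_minFac hpp h0]
  have hquot : Nat.card (S ⧸ Q) = p := hQi
  have hpowQ : ∀ x : S, x ^ p ∈ Q := by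
    intro x
    rw [← QuotientGroup.eq_one_iff]
    have : (QuotientGroup.mk (x ^ p) : S ⧸ Q) = (QuotientGroup.mk x) ^ p := rfl
    rw [this, ← hquot]
    exact pow_card_eq_one'
  obtain ⟨⟨hQp, _, hcomm⟩, hZc⟩ := id hQ
  have hzp : ∀ z ∈ Subgroup.center Q, z ^ p = 1 := by
    intro z hz
    have : (⟨z, hz⟩ : Subgroup.center Q) ^ p = 1 := by rw [← hZc]; exact pow_card_eq_one'
    exact congrArg Subtype.val this
  refine ⟨?_, ?_, ?_⟩
  · obtain ⟨n, hn, hc⟩ := Cfsg.Agent.S0095.result hQ
    refine ⟨n, hn, ?_⟩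
    rw [← Subgroup.card_mul_index Q, hQi, hc, ← pow_succ]
    congr 1; ring
  · have h1 : derivedSeries S 1 ≤ Q := by
      have hcyc : IsCyclic (S ⧸ Q) := isCyclic_of_prime_card hquot
      have hc : ∀ a b : S ⧸ Q, a * b = b * a := fun a b => (IsCyclic.isMulCommutative (α := S ⧸ Q)).is_comm.comm a b
      rw [derivedSeries_succ, derivedSeries_zero, Subgroup.commutator_le]
      intro a _ b _
      rw [← QuotientGroup.eq_one_iff]
      show (QuotientGroup.mk (a * b * a⁻¹ * b⁻¹) : S ⧸ Q) = 1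
      have : (QuotientGroup.mk (a * b * a⁻¹ * b⁻¹) : S ⧸ Q) = QuotientGroup.mk a * QuotientGroup.mk b * (QuotientGroup.mk a)⁻¹ * (QuotientGroup.mk b)⁻¹ := rfl
      rw [this, hc (QuotientGroup.mk a) (QuotientGroup.mk b)]
      group
    have h2 : derivedSeries S 2 ≤ (Subgroup.center Q).map Q.subtype := by
      rw [derivedSeries_succ, Subgroup.commutator_le]
      intro a ha b hb
      refine ⟨⟨a, h1 ha⟩ * ⟨b, h1 hb⟩ * (⟨a, h1 ha⟩ : Q)⁻¹ * (⟨b, h1 hb⟩ : Q)⁻¹, ?_, rfl⟩
      rw [← hcomm]
      exact Subgroup.commutator_mem_commutator (Subgroup.mem_top _) (Subgroup.mem_top _)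
    rw [eq_bot_iff, derivedSeries_succ, Subgroup.commutator_le]
    intro a ha b hb
    obtain ⟨u, hu, rfl⟩ := h2 ha
    obtain ⟨v, _, rfl⟩ := h2 hb
    rw [Subgroup.mem_bot]
    have h3 : v * u = u * v := Subgroup.mem_center_iff.1 hu v
    show ((u : S) * v * (u : S)⁻¹ * (v : S)⁻¹) = 1
    have h4 : (v : S) * u = u * v := congrArg Subtype.val h3
    rw [← h4]; group
  · intro x
    have key : ∀ a b : Q, a ^ p * b = b * a ^ p := by
      intro a b
      obtain ⟨z, hz⟩ : ∃ z, z = a * b * a⁻¹ * b⁻¹ := ⟨_, rfl⟩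
      have hzc : z ∈ Subgroup.center Q := by
        rw [← hcomm, hz]
        exact Subgroup.commutator_mem_commutator (Subgroup.mem_top _) (Subgroup.mem_top _)
      have hcz : ∀ w : Q, w * z = z * w := Subgroup.mem_center_iff.1 hzc
      have hab : a * b = z * (b * a) := by rw [hz]; group
      have h1 : ∀ j : ℕ, a ^ j * b = z ^ j * (b * a ^ j) := by
        intro j
        induction j with
        | zero => simp
        | succ j ih =>
          have hczj : a * z ^ j = z ^ j * a := ((show Commute a z from hcz a).pow_right j).eq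
          calc a ^ (j + 1) * b = a * (a ^ j * b) := by rw [pow_succ']; group
            _ = a * (z ^ j * (b * a ^ j)) := by rw [ih]
            _ = (a * z ^ j) * (b * a ^ j) := by simp only [mul_assoc]
            _ = z ^ j * (a * b) * a ^ j := by rw [hczj]; simp only [mul_assoc]
            _ = z ^ j * (z * (b * a)) * a ^ j := by rw [hab]
            _ = z ^ (j + 1) * (b * a ^ (j + 1)) := by rw [pow_succ z, pow_succ' a]; simp only [mul_assoc]
      rw [h1, hzp z hzc, one_mul]
    have h2 : (⟨x ^ p, hpowQ x⟩ : Q) ^ p ∈ Subgroup.center Q := by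
      rw [Subgroup.mem_center_iff]
      intro g
      exact (key _ g).symm
    have h3 := hzp _ h2
    have h4 := congrArg Subtype.val h3
    have e : p ^ 3 = p * p * p := by ring
    rw [e, pow_mul, pow_mul]
    exact h4

end Cfsg.Agent.S3809
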