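import Cfsg.Statements.S3810
import Cfsg.Agent.S0095
import Cfsg.Agent.H1.Basic

set_option autoImplicit false
open Cfsg

namespace Cfsg.Agent.S3810

/-- Let S be a finite p-group with an extraspecial subgroup of index p. Then S has an abelian subgroup of index p if and only if S has order p⁴. -/
theorem result {S : Type*} [Group S] [Finite S] (p : ℕ) [Fact p.Prime] (hS : IsPGroup p S) (Q : Subgroup S) (hQ : Cfsg.IsExtraspecial p ↥Q) (hQi : Q.index = p) :
    (∃ A : Subgroup S, IsMulCommutative ↥A ∧ A.index = p) ↔ Nat.card S = p ^ 4 := by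
  have hpp : p.Prime := Fact.out
  obtain ⟨n0, hn0⟩ := hS.exists_card_eq
  have norm : ∀ H : Subgroup S, H.index = p → H.Normal := by
    intro H hH
    have h1 := Subgroup.card_mul_index H
    have h0 : n0 ≠ 0 := by
      rintro rfl
      rw [pow_zero] at hn0
      rw [hn0, hH] at h1
      have := Nat.eq_one_of_mul_eq_one_left h1
      exact hpp.one_lt.ne' this
    apply Subgroup.normal_of_index_eq_minFac_card
    rw [hn0, hH, Nat.Prime.pow_minFac hpp h0]
  have hQn : Q.Normal := norm Q hQi
  obtain ⟨⟨hQp, _, hcomm⟩, hZc⟩ := id hQ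
  obtain ⟨n, hn1, hQc⟩ := Cfsg.Agent.S0095.result hQ
  have hSc : Nat.card S = p ^ (2 * n + 2) := by
    rw [← Subgroup.card_mul_index Q, hQi, hQc, ← pow_succ]
  have hab : ∀ u v : Q, u * v * u⁻¹ * v⁻¹ ∈ Subgroup.center Q := by
    intro u v
    rw [← hcomm]
    exact Subgroup.commutator_mem_commutator (Subgroup.mem_top _) (Subgroup.mem_top _)
  have hnab : ¬ ∀ u v : Q, u * v = v * u := by
    intro h
    have : Subgroup.center Q = ⊤ := by
      rw [Subgroup.eq_top_iff']
      intro u
      rw [Subgroup.mem_center_iff]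
      exact fun v => h v u
    rw [this, Subgroup.card_top, hQc] at hZc
    have h2 : p ^ (2 * n + 1) = p ^ 1 := by rw [hZc, pow_one]
    have := Nat.pow_right_injective hpp.two_le h2
    omega
  constructor
  · rintro ⟨A, hA, hAi⟩
    have hAc : ∀ a ∈ A, ∀ b ∈ A, a * b = b * a := fun a ha b hb => congrArg Subtype.val (hA.is_comm.comm ⟨a, ha⟩ ⟨b, hb⟩)
    obtain ⟨B, hB⟩ : ∃ B, B = A.subgroupOf Q := ⟨_, rfl⟩
    have hBm : ∀ u : Q, u ∈ B ↔ (u : S) ∈ A := fun u => by rw [hB, Subgroup.mem_subgroupOf]
    have hBi : B.index ∣ p := by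
      have hAn := norm A hAi
      have : A.relIndex Q ∣ A.index := Subgroup.relIndex_dvd_index_of_normal A Q
      rw [hB, ← hAi]; exact this
    obtain ⟨x, hx⟩ : ∃ x : Q, x ∉ B := by
      by_contra hcon
      push Not at hcon
      apply hnab
      intro u v
      exact Subtype.ext (hAc u ((hBm u).1 (hcon u)) v ((hBm v).1 (hcon v)))
    have hBp : B.index = p := by
      rcases (Nat.dvd_prime hpp).1 hBi with h | h
      · exfalso
        rw [Subgroup.index_eq_one] at h
        rw [h] at hx; exact hx trivial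
      · exact h
    let c : B →* Subgroup.center Q :=
      { toFun := fun b => ⟨(b : Q) * x * (b : Q)⁻¹ * x⁻¹, hab b x⟩
        map_one' := Subtype.ext (by simp)
        map_mul' := fun b b' => Subtype.ext (by
          have h1 := Subgroup.mem_center_iff.1 (hab (b' : Q) x) (b : Q)
          show ((b : Q) * b') * x * ((b : Q) * b')⁻¹ * x⁻¹ = ((b : Q) * x * (b : Q)⁻¹ * x⁻¹) * ((b' : Q) * x * (b' : Q)⁻¹ * x⁻¹)
          have h2 := Subgroup.mem_center_iff.1 (hab (b' : Q) x) ((b : Q) * x * (b : Q)⁻¹ * x⁻¹)
          rw [h2]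
          calc ((b : Q) * b') * x * ((b : Q) * b')⁻¹ * x⁻¹ = (b : Q) * ((b' : Q) * x * (b' : Q)⁻¹ * x⁻¹) * x * (b : Q)⁻¹ * x⁻¹ := by group
            _ = ((b' : Q) * x * (b' : Q)⁻¹ * x⁻¹) * b * x * (b : Q)⁻¹ * x⁻¹ := by rw [h1]
            _ = _ := by group) }
    have hker : ∀ b : B, b ∈ c.ker → (b : Q) ∈ Subgroup.center Q := by
      intro b hb
      rw [MonoidHom.mem_ker] at hb
      have h1 : (b : Q) * x * (b : Q)⁻¹ * x⁻¹ = 1 := congrArg Subtype.val hb
      have h2 : (b : Q) * x = x * b := mul_inv_eq_iff_eq_mul.1 (mul_inv_eq_one.1 h1)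
      have hle : B ≤ Subgroup.centralizer ({(b : Q)} : Set Q) := by
        intro u hu
        rw [Subgroup.mem_centralizer_singleton_iff]
        exact Subtype.ext (hAc u ((hBm u).1 hu) b ((hBm b).1 b.2))
      have hxc : x ∈ Subgroup.centralizer ({(b : Q)} : Set Q) := by
        rw [Subgroup.mem_centralizer_singleton_iff]; exact h2.symm
      have htop : Subgroup.centralizer ({(b : Q)} : Set Q) = ⊤ := by
        have h3 := Subgroup.index_dvd_of_le hle
        rw [hBp] at h3
        rcases (Nat.dvd_prime hpp).1 h3 with h | h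
        · exact Subgroup.index_eq_one.1 h
        · exfalso
          have h4 := Subgroup.relIndex_mul_index hle
          rw [h, hBp] at h4
          have h5 : B.relIndex (Subgroup.centralizer ({(b : Q)} : Set Q)) = 1 := Nat.eq_of_mul_eq_mul_right hpp.pos (by rw [h4, one_mul])
          rw [Subgroup.relIndex_eq_one] at h5
          exact hx (h5 hxc)
      rw [Subgroup.mem_center_iff]
      intro g
      have : g ∈ Subgroup.centralizer ({(b : Q)} : Set Q) := by rw [htop]; trivial
      exact Subgroup.mem_centralizer_singleton_iff.1 this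
    have hBle : Nat.card B ≤ p * p := by
      have h1 : Nat.card B = Nat.card c.ker * Nat.card c.range := by
        rw [← Subgroup.card_mul_index c.ker, Subgroup.index_ker]
      have h2 : Nat.card c.ker ≤ p := by
        rw [← hZc]
        exact Nat.card_le_card_of_injective (fun b : c.ker => (⟨((b : B) : Q), hker b b.2⟩ : Subgroup.center Q))
          (fun u v h => by
            have h8 := congrArg (fun w : Subgroup.center Q => (w : Q)) h
            exact Subtype.ext (Subtype.ext h8))
      have h3 : Nat.card c.range ≤ p := by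
        rw [← hZc]; exact Subgroup.card_le_card_group _
      rw [h1]; exact Nat.mul_le_mul h2 h3
    have h5 := Subgroup.card_mul_index B
    rw [hBp, hQc] at h5
    have h6 : p ^ (2 * n + 1) ≤ p ^ 3 := by
      rw [← h5]
      calc Nat.card B * p ≤ (p * p) * p := Nat.mul_le_mul_right _ hBle
        _ = p ^ 3 := by ring
    have h7 : 2 * n + 1 ≤ 3 := (Nat.pow_le_pow_iff_right hpp.one_lt).1 h6
    have : n = 1 := by omega
    rw [hSc, this]
  · intro h4
    obtain ⟨Z, hZ⟩ : ∃ Z : Subgroup S, Z = (Subgroup.center ↥Q).map Q.subtype := ⟨_, rfl⟩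
    have hZcard : Nat.card Z = p := by
      rw [hZ, ← hZc]
      exact (Nat.card_congr ((Subgroup.center ↥Q).equivMapOfInjective _ Q.subtype_injective).toEquiv).symm
    have hZn : Z.Normal := by
      rw [hZ]
      infer_instance
    have hZle : Z ≤ Subgroup.center S := by
      have hnt : Nontrivial Z := by
        rw [← Finite.one_lt_card_iff_nontrivial, hZcard]; exact hpp.one_lt
      have hne : Z ⊓ Subgroup.center S ≠ ⊥ := by
        have hnil : Group.IsNilpotent S := hS.isNilpotent
        exact Cfsg.Agent.H1.inf_center_ne_bot Z ((Subgroup.nontrivial_iff_ne_bot Z).1 hnt)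
      have h1 : Nat.card ↥(Z ⊓ Subgroup.center S : Subgroup S) ∣ p := by
        rw [← hZcard]; exact Subgroup.card_dvd_of_le inf_le_left
      rcases (Nat.dvd_prime hpp).1 h1 with h | h
      · exact absurd (Subgroup.card_eq_one.1 h) hne
      · have : Z ⊓ Subgroup.center S = Z := Subgroup.eq_of_le_of_card_ge inf_le_left (by rw [h, hZcard])
        rw [← this]; exact inf_le_right
    have hnil : Group.IsNilpotent (S ⧸ Z) := (hS.to_quotient Z).isNilpotent
    have hNn : (Q.map (QuotientGroup.mk' Z)).Normal := Subgroup.Normal.map hQn _ (QuotientGroup.mk'_surjective _)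
    have hNne : Q.map (QuotientGroup.mk' Z) ≠ ⊥ := by
      intro h
      have hQZ : ∀ x ∈ Q, x ∈ Z := by
        intro x hx
        have : QuotientGroup.mk' Z x ∈ Q.map (QuotientGroup.mk' Z) := ⟨x, hx, rfl⟩
        rw [h, Subgroup.mem_bot] at this
        exact (QuotientGroup.eq_one_iff x).1 this
      apply hnab
      intro u v
      have := Subgroup.mem_center_iff.1 (hZle (hQZ u u.2)) v
      exact Subtype.ext this.symm
    have hne := Cfsg.Agent.H1.inf_center_ne_bot (Q.map (QuotientGroup.mk' Z)) hNne
    obtain ⟨y, hy1⟩ := Subgroup.ne_bot_iff_exists_ne_one.1 hne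
    obtain ⟨x, hxQ, hxy⟩ := y.2.1
    have hxZ : x ∉ Z := fun h => hy1 (Subtype.ext (by rw [← hxy]; exact (QuotientGroup.eq_one_iff x).2 h))
    have hcx : ∀ s : S, s * x * s⁻¹ * x⁻¹ ∈ Z := by
      intro s
      rw [← QuotientGroup.eq_one_iff]
      have h1 := Subgroup.mem_center_iff.1 y.2.2 (QuotientGroup.mk s)
      rw [← hxy] at h1
      have h1' : (QuotientGroup.mk s : S ⧸ Z) * QuotientGroup.mk x = QuotientGroup.mk x * QuotientGroup.mk s := h1
      show (QuotientGroup.mk s : S ⧸ Z) * QuotientGroup.mk x * (QuotientGroup.mk s)⁻¹ * (QuotientGroup.mk x)⁻¹ = 1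
      rw [h1']; group
    let c : S →* Z :=
      { toFun := fun b => ⟨b * x * b⁻¹ * x⁻¹, hcx b⟩
        map_one' := Subtype.ext (by simp)
        map_mul' := fun b b' => Subtype.ext (by
          have h1 := Subgroup.mem_center_iff.1 (hZle (hcx b')) b
          show (b * b') * x * (b * b')⁻¹ * x⁻¹ = (b * x * b⁻¹ * x⁻¹) * (b' * x * b'⁻¹ * x⁻¹)
          have h2 := Subgroup.mem_center_iff.1 (hZle (hcx b')) (b * x * b⁻¹ * x⁻¹)
          rw [h2]
          calc (b * b') * x * (b * b')⁻¹ * x⁻¹ = b * (b' * x * b'⁻¹ * x⁻¹) * x * b⁻¹ * x⁻¹ := by group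
            _ = (b' * x * b'⁻¹ * x⁻¹) * b * x * b⁻¹ * x⁻¹ := by rw [h1]
            _ = _ := by group) }
    obtain ⟨C, hC⟩ : ∃ C, C = c.ker := ⟨_, rfl⟩
    have hCm : ∀ s, s ∈ C ↔ s * x = x * s := by
      intro s
      rw [hC, MonoidHom.mem_ker]
      constructor
      · intro h
        have h1 : s * x * s⁻¹ * x⁻¹ = 1 := congrArg Subtype.val h
        exact mul_inv_eq_iff_eq_mul.1 (mul_inv_eq_one.1 h1)
      · intro h
        apply Subtype.ext
        show s * x * s⁻¹ * x⁻¹ = 1
        rw [h]; group
    have hCi : C.index = p := by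
      have h1 : C.index ∣ p := by
        rw [hC, Subgroup.index_ker, ← hZcard]; exact Subgroup.card_subgroup_dvd_card _
      rcases (Nat.dvd_prime hpp).1 h1 with h | h
      · exfalso
        rw [Subgroup.index_eq_one] at h
        apply hxZ
        rw [hZ]
        refine ⟨⟨x, hxQ⟩, ?_, rfl⟩
        rw [SetLike.mem_coe, Subgroup.mem_center_iff]
        intro g
        have : (g : S) ∈ C := by rw [h]; trivial
        exact Subtype.ext ((hCm g).1 this)
      · exact h
    refine ⟨C, ?_, hCi⟩
    have hCc : Nat.card C = p ^ 3 := by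
      have h1 := Subgroup.card_mul_index C
      rw [hCi, h4] at h1
      exact Nat.eq_of_mul_eq_mul_right hpp.pos (by rw [h1]; ring)
    obtain ⟨j, hj⟩ := (IsPGroup.to_subgroup (hS.to_subgroup C) (Subgroup.center C)).exists_card_eq
    have hZC : ∀ z ∈ Z, z ∈ C := by
      intro z hz
      rw [hCm]
      exact (Subgroup.mem_center_iff.1 (hZle hz) x).symm
    have hj2 : 2 ≤ j := by
      by_contra hlt
      have h1 : Nat.card (Subgroup.center C) ≤ p := by
        rw [hj]
        calc p ^ j ≤ p ^ 1 := Nat.pow_le_pow_right hpp.pos (by omega)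
          _ = p := pow_one p
      have h2 : Z.subgroupOf C ≤ Subgroup.center C := by
        intro z hz
        rw [Subgroup.mem_center_iff]
        intro g
        exact Subtype.ext (Subgroup.mem_center_iff.1 (hZle (Subgroup.mem_subgroupOf.1 hz)) g)
      have h3 : Nat.card (Z.subgroupOf C) = p := by
        rw [← hZcard]
        exact Nat.card_congr (Subgroup.subgroupOfEquivOfLe (show Z ≤ C from hZC)).toEquiv
      have h5 : Z.subgroupOf C = Subgroup.center C := Subgroup.eq_of_le_of_card_ge h2 (by rw [h3]; exact h1)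
      have hxC : x ∈ C := (hCm x).2 rfl
      have h6 : (⟨x, hxC⟩ : C) ∈ Subgroup.center C := by
        rw [Subgroup.mem_center_iff]
        intro g
        exact Subtype.ext ((hCm g).1 g.2)
      rw [← h5, Subgroup.mem_subgroupOf] at h6
      exact hxZ h6
    have hidx : (Subgroup.center C).index ∣ p := by
      have h1 := Subgroup.card_mul_index (Subgroup.center C)
      rw [hj, hCc] at h1
      have h2 : p ^ 2 * (Subgroup.center C).index ∣ p ^ 2 * p := by
        have e : p ^ 2 * p = p ^ 3 := by ring
        rw [e, ← h1]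
        exact Nat.mul_dvd_mul_right (pow_dvd_pow p hj2) _
      exact Nat.dvd_of_mul_dvd_mul_left (pow_pos hpp.pos 2) h2
    have hcyc : IsCyclic (C ⧸ Subgroup.center C) := by
      rcases (Nat.dvd_prime hpp).1 hidx with h | h
      · have : Subsingleton (C ⧸ Subgroup.center C) := (Nat.card_eq_one_iff_unique.1 h).1
        infer_instance
      · exact isCyclic_of_prime_card (p := p) h
    exact isMulCommutative_of_isCyclic_quotient_center_self C

end Cfsg.Agent.S3810
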