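import Cfsg.Statements.S3869
import Mathlib
import Cfsg.Agent.H3.Irr2

set_option autoImplicit false
open Cfsg

namespace Cfsg.Agent.S3869

/-- Let p and q be distinct primes and G a finite non-abelian group with a normal elementary abelian q-subgroup A that is a minimal normal subgroup of G and has index p. Then A has order q^e with e the multiplicative order of q modulo p, and G is minimal non-p-closed: its Sylow p-subgroups are not normal, while in every proper subgroup and in every proper quotient of G the Sylow p-subgroups are normal. -/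
theorem result {G : Type*} [Group G] [Finite G] {p q : ℕ} [Fact p.Prime] (hq : q.Prime) (hpq : q ≠ p)
    (hna : ¬ IsMulCommutative G) (A : Subgroup G) [A.Normal] (hA : Cfsg.IsElementaryAbelian q A) (hidx : A.index = p)
    (hmin : ∀ B : Subgroup G, B.Normal → B ≤ A → B = ⊥ ∨ B = A) :
    Nat.card ↥A = q ^ orderOf (q : ZMod p) ∧ ¬ Cfsg.IsPClosed p G ∧ (∀ H : Subgroup G, H ≠ ⊤ → Cfsg.IsPClosed p ↥H) ∧
      ∀ (N : Subgroup G) [N.Normal], N ≠ ⊥ → Cfsg.IsPClosed p (G ⧸ N) := by
  have hp := (Fact.out : p.Prime)
  have hAc : ∀ a ∈ A, ∀ b ∈ A, a * b = b * a := fun a ha b hb =>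
    congrArg Subtype.val (hA.1.is_comm.comm (⟨a, ha⟩ : ↥A) ⟨b, hb⟩)
  have hA1 : A ≠ ⊤ := by
    rintro rfl
    rw [Subgroup.index_top] at hidx
    exact hp.one_lt.ne hidx
  -- a Sylow p-subgroup
  have hApow : IsPGroup q ↥A := fun a => ⟨1, Subtype.ext (by rw [pow_one]; exact hA.2 a a.2)⟩
  have hAp : ¬ p ∣ Nat.card ↥A := by
    haveI : Fact q.Prime := ⟨hq⟩
    obtain ⟨k, hk⟩ := hApow.exists_card_eq
    rw [hk]
    intro h
    exact hpq ((Nat.prime_dvd_prime_iff_eq hp hq).1 (hp.dvd_of_dvd_pow h)).symm
  have P : Sylow p G := default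
  have hcard : Nat.card G = p * Nat.card ↥A := by rw [← hidx, A.index_mul_card]
  have hPcard : Nat.card ↥(P : Subgroup G) = p := by
    have h1 := P.card_eq_multiplicity
    rw [hcard, Nat.factorization_mul hp.ne_zero Nat.card_pos.ne', Finsupp.add_apply, hp.factorization_self,
      Nat.factorization_eq_zero_of_not_dvd hAp, add_zero, pow_one] at h1
    exact h1
  have hcop : (Nat.card ↥A).Coprime (Nat.card ↥(P : Subgroup G)) := by
    rw [hPcard]; exact ((Nat.Prime.coprime_iff_not_dvd hp).2 hAp).symm
  have hd : A ⊓ (P : Subgroup G) = ⊥ := L0.inf_eq_bot_of_coprime' hcop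
  have hPn : (P : Subgroup G) ≤ Subgroup.normalizer (A : Set G) := by rw [Subgroup.normalizer_eq_top]; exact le_top
  have htop : A ⊔ (P : Subgroup G) = ⊤ := by
    apply Subgroup.eq_top_of_card_eq
    rw [L0.card_sup_of_normalizes hPn hd, hPcard, hcard, mul_comm]
  obtain ⟨x, hx⟩ : ∃ x, (P : Subgroup G) = Subgroup.zpowers x := by
    have : IsCyclic ↥(P : Subgroup G) := isCyclic_of_prime_card hPcard
    obtain ⟨⟨x, hx⟩, hgen⟩ := this.exists_generator
    refine ⟨x, le_antisymm ?_ (by rw [Subgroup.zpowers_le]; exact hx)⟩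
    intro y hy
    obtain ⟨k, hk⟩ := hgen ⟨y, hy⟩
    exact ⟨k, congrArg Subtype.val hk⟩
  have hxA : x ∉ Subgroup.centralizer (A : Set G) := by
    intro h
    apply hna
    have h1 : ∀ g ∈ A ⊔ (P : Subgroup G), ∀ g' ∈ A ⊔ (P : Subgroup G), g * g' = g' * g := by
      have h2 : A ⊔ (P : Subgroup G) ≤ Subgroup.centralizer ((A ⊔ (P : Subgroup G) : Subgroup G) : Set G) := by
        have h3 : A ≤ Subgroup.centralizer ((A ⊔ (P : Subgroup G) : Subgroup G) : Set G) := by
          rw [Subgroup.le_centralizer_iff, sup_le_iff, hx, Subgroup.zpowers_le]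
          refine ⟨?_, h⟩
          intro a ha
          rw [Subgroup.mem_centralizer_iff]
          intro b hb
          exact hAc b hb a ha
        have h4 : (P : Subgroup G) ≤ Subgroup.centralizer ((A ⊔ (P : Subgroup G) : Subgroup G) : Set G) := by
          rw [Subgroup.le_centralizer_iff, sup_le_iff]
          constructor
          · rw [Subgroup.le_centralizer_iff, hx, Subgroup.zpowers_le]; exact h
          · rw [hx, Subgroup.zpowers_le, Subgroup.mem_centralizer_iff]
            rintro _ ⟨k, rfl⟩
            exact (Commute.zpow_self x k).eq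
        exact sup_le h3 h4
      intro g hg g' hg'
      exact Subgroup.mem_centralizer_iff.1 (h2 hg') g hg
    exact ⟨⟨fun a b => h1 a (htop ▸ Subgroup.mem_top a) b (htop ▸ Subgroup.mem_top b)⟩⟩
  have hA0 : A ≠ ⊥ := by
    rintro rfl
    apply hxA
    rw [Subgroup.mem_centralizer_iff]
    intro y hy
    rw [Subgroup.coe_bot, Set.mem_singleton_iff] at hy
    rw [hy, one_mul, mul_one]
  have hxp : x ^ p = 1 := by
    have : orderOf x = p := by rw [← Nat.card_zpowers, ← hx, hPcard]
    rw [← this]; exact pow_orderOf_eq_one x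
  have hnorm : ∀ B : Subgroup G, B ≤ A → x ∈ Subgroup.normalizer (B : Set G) → B.Normal := by
    intro B hB hxB
    have h1 : (⊤ : Subgroup G) ≤ Subgroup.normalizer (B : Set G) := by
      rw [← htop, sup_le_iff, hx, Subgroup.zpowers_le]
      refine ⟨fun r hr => ?_, hxB⟩
      apply Subgroup.centralizer_le_normalizer
      rw [Subgroup.mem_centralizer_iff]
      intro b hb
      exact hAc b (hB hb) r hr
    exact Subgroup.normalizer_eq_top_iff.1 (top_le_iff.1 h1)
  have hxP : x ∈ (P : Subgroup G) := by rw [hx]; exact Subgroup.mem_zpowers x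
  have hnc : ¬ Cfsg.IsPClosed p G := by
    intro h
    apply hxA
    have h1 : (P : Subgroup G).Normal := h P
    rw [Subgroup.mem_centralizer_iff]
    intro a ha
    have h2 := L0.commute_of_mem_normalizer_of_disjoint hPn hd ha (by rw [Subgroup.normalizer_eq_top]; exact Subgroup.mem_top a)
    exact (Subgroup.mem_centralizer_iff.1 h2 x hxP).symm
  refine ⟨H3.card_irr hq hpq A hA hA0 x (hPn hxP) (by rw [hxp]; exact one_mem _) hxA
    (fun B hB hxB => hmin B (hnorm B hB hxB) hB), hnc, ?_, ?_⟩
  · intro H hH
    -- H ⊓ A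
    by_cases hdv : p ∣ Nat.card ↥H
    · -- H ⊔ A = ⊤
      have h1 : H ⊔ A = ⊤ := by
        have h2 : (H ⊔ A).index ∣ p := by rw [← hidx]; exact Subgroup.index_dvd_of_le le_sup_right
        rcases (Nat.dvd_prime hp).1 h2 with h3 | h3
        · exact Subgroup.index_eq_one.1 h3
        · exfalso
          have h4 : A = H ⊔ A := by
            apply Subgroup.eq_of_le_of_card_ge le_sup_right
            have h5 := (H ⊔ A).index_mul_card
            rw [h3, hcard] at h5
            exact (Nat.eq_of_mul_eq_mul_left hp.pos h5).le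
          apply hAp
          rw [h4]
          exact hdv.trans (Subgroup.card_dvd_of_le le_sup_left)
      have h2 : (H ⊓ A).Normal := by
        have h3 : (⊤ : Subgroup G) ≤ Subgroup.normalizer ((H ⊓ A : Subgroup G) : Set G) := by
          rw [← h1, sup_le_iff]
          constructor
          · intro h hh
            rw [Subgroup.mem_normalizer_iff]
            intro y
            have hAn : A.Normal := inferInstance
            constructor
            · rintro ⟨hy1, hy2⟩
              exact ⟨H.mul_mem (H.mul_mem hh hy1) (H.inv_mem hh), hAn.conj_mem y hy2 h⟩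
            · rintro ⟨hy1, hy2⟩
              have e : y = h⁻¹ * (h * y * h⁻¹) * h⁻¹⁻¹ := by group
              rw [e]
              exact ⟨H.mul_mem (H.mul_mem (H.inv_mem hh) hy1) (H.inv_mem (H.inv_mem hh)), hAn.conj_mem _ hy2 h⁻¹⟩
          · intro a ha
            apply Subgroup.centralizer_le_normalizer
            rw [Subgroup.mem_centralizer_iff]
            rintro b ⟨-, hb⟩
            exact hAc b hb a ha
        exact Subgroup.normalizer_eq_top_iff.1 (top_le_iff.1 h3)
      rcases hmin _ h2 inf_le_right with h3 | h3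
      · -- |H| = p
        have h4 : Nat.card ↥H ∣ p := by
          have h5 := L0.card_sup_of_normalizes (M := A) (A := H) (by rw [Subgroup.normalizer_eq_top]; exact le_top) (by rw [inf_comm]; exact h3)
          rw [sup_comm, h1, Subgroup.card_top, hcard, mul_comm] at h5
          exact ⟨1, by rw [mul_one]; exact Nat.eq_of_mul_eq_mul_left Nat.card_pos h5⟩
        rcases (Nat.dvd_prime hp).1 h4 with h5 | h5
        · rw [h5] at hdv; exact absurd (Nat.dvd_one.1 hdv) hp.one_lt.ne'
        · exact H3.pclosed_of_pgroup (IsPGroup.of_card (n := 1) (by rw [h5, pow_one]))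
      · exfalso
        apply hH
        rw [← h1]
        exact le_antisymm le_sup_left (sup_le le_rfl (h3 ▸ inf_le_left))
    · exact H3.pclosed_of_not_dvd hdv
  · intro N hNn hN0
    have h2 : (N ⊓ A).Normal := inferInstance
    rcases hmin _ h2 inf_le_right with h3 | h3
    · -- N centralizes A; contradiction
      exfalso
      have h1 : N ⊔ A = ⊤ := by
        have h2 : (N ⊔ A).index ∣ p := by rw [← hidx]; exact Subgroup.index_dvd_of_le le_sup_right
        rcases (Nat.dvd_prime hp).1 h2 with h4 | h4
        · exact Subgroup.index_eq_one.1 h4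
        · exfalso
          have h5 : A = N ⊔ A := by
            apply Subgroup.eq_of_le_of_card_ge le_sup_right
            have h5 := (N ⊔ A).index_mul_card
            rw [h4, hcard] at h5
            exact (Nat.eq_of_mul_eq_mul_left hp.pos h5).le
          apply hN0
          rw [← h3]
          exact (inf_eq_left.2 (le_sup_left.trans h5.ge)).symm
      have h4 : Nat.card ↥N = p := by
        have h5 := L0.card_sup_of_normalizes (M := A) (A := N) (by rw [Subgroup.normalizer_eq_top]; exact le_top) (by rw [inf_comm]; exact h3)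
        rw [sup_comm, h1, Subgroup.card_top, hcard, mul_comm] at h5
        exact (Nat.eq_of_mul_eq_mul_left Nat.card_pos h5).symm
      have hNp : IsPGroup p ↥N := IsPGroup.of_card (n := 1) (by rw [h4, pow_one])
      have h5 : ¬ p ∣ N.index := by
        have h6 := N.index_mul_card
        rw [h4, hcard, mul_comm] at h6
        rw [Nat.eq_of_mul_eq_mul_left hp.pos h6]; exact hAp
      exact hnc (H3.pclosed_of_normal (hNp.toSylow h5) hNn)
    · -- A ≤ N
      have hAN : A ≤ N := by rw [← h3]; exact inf_le_left
      have h4 : Nat.card (G ⧸ N) ∣ p := by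
        rw [← Subgroup.index_eq_card, ← hidx]
        exact Subgroup.index_dvd_of_le hAN
      apply H3.pclosed_of_pgroup
      rcases (Nat.dvd_prime hp).1 h4 with h5 | h5
      · exact IsPGroup.of_card (n := 0) (by rw [h5, pow_zero])
      · exact IsPGroup.of_card (n := 1) (by rw [h5, pow_one])

end Cfsg.Agent.S3869
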