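import Cfsg.Statements.S3870
import Mathlib
import Cfsg.Agent.H3.Irr2
import Cfsg.Agent.L0.Core

set_option autoImplicit false
open Cfsg

namespace Cfsg.Agent.S3870

open Subgroup in
/-- a maximal intersection argument -/
theorem ti {G : Type*} [Group G] [Finite G] [IsSimpleGroup G] {p : ℕ} [Fact p.Prime]
    (hnc : ¬ Cfsg.IsPClosed p G) (hsub : ∀ H : Subgroup G, H ≠ ⊤ → Cfsg.IsPClosed p ↥H) :
    ∀ P Q : Sylow p G, P ≠ Q → (P : Subgroup G) ⊓ (Q : Subgroup G) = ⊥ := by
  by_contra hcon
  push Not at hcon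
  obtain ⟨P0, Q0, hne0, hd0⟩ := hcon
  -- choose a pair with maximal intersection
  obtain ⟨⟨P, Q⟩, ⟨hne, hd⟩, hmax⟩ := Set.exists_max_image {t : Sylow p G × Sylow p G | t.1 ≠ t.2 ∧ (t.1 : Subgroup G) ⊓ (t.2 : Subgroup G) ≠ ⊥}
    (fun t => Nat.card ↥((t.1 : Subgroup G) ⊓ (t.2 : Subgroup G))) (Set.toFinite _) ⟨(P0, Q0), hne0, hd0⟩
  simp only at hne hd hmax
  set D := (P : Subgroup G) ⊓ (Q : Subgroup G) with hD
  have hN : normalizer (D : Set G) ≠ ⊤ := by
    intro h
    have hDn : D.Normal := normalizer_eq_top_iff.1 h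
    rcases hDn.eq_bot_or_eq_top with h1 | h1
    · exact hd h1
    · apply hne
      apply Sylow.ext
      rw [eq_top_iff] at h1
      exact le_antisymm (le_top.trans (h1.trans inf_le_right)) (le_top.trans (h1.trans inf_le_left))
  have hcl := hsub _ hN
  -- the normal Sylow subgroup S of N(D)
  have S : Sylow p ↥(normalizer (D : Set G)) := default
  have hSn : (S : Subgroup ↥(normalizer (D : Set G))).Normal := hcl S
  haveI := Sylow.unique_of_normal S hSn
  obtain ⟨R, hR⟩ : ∃ R : Sylow p G, (S : Subgroup ↥(normalizer (D : Set G))).map (normalizer (D : Set G)).subtype ≤ R :=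
    (S.isPGroup'.map _).exists_le_sylow
  have hin : ∀ T : Subgroup G, IsPGroup p ↥T → T ≤ normalizer (D : Set G) → T ≤ (R : Subgroup G) := by
    intro T hT hTN
    have h1 : IsPGroup p ↥(T.subgroupOf (normalizer (D : Set G))) := hT.of_equiv (subgroupOfEquivOfLe hTN).symm
    obtain ⟨S', hS'⟩ := h1.exists_le_sylow
    rw [Subsingleton.elim S' S] at hS'
    have h2 := Subgroup.map_mono (f := (normalizer (D : Set G)).subtype) hS'
    rw [Subgroup.subgroupOf_map_subtype, inf_eq_left.2 hTN] at h2
    exact h2.trans hR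
  have hgrow : ∀ X : Sylow p G, D < (X : Subgroup G) → X = R := by
    intro X hX
    by_contra hXR
    have hnc : D < normalizer (D : Set G) ⊓ (X : Subgroup G) := by
      have hnil : Group.IsNilpotent ↥(X : Subgroup G) := X.isPGroup'.isNilpotent
      have h1 : D.subgroupOf (X : Subgroup G) < ⊤ := by
        rw [lt_top_iff_ne_top]
        intro h
        rw [Subgroup.subgroupOf_eq_top] at h
        exact absurd (lt_of_lt_of_le hX h) (lt_irrefl _)
      have h2 := Group.normalizerCondition_of_isNilpotent (G := ↥(X : Subgroup G)) _ h1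
      obtain ⟨y, hy1, hy2⟩ := SetLike.exists_of_lt h2
      refine lt_of_le_of_ne (le_inf le_normalizer hX.le) ?_
      intro h
      apply hy2
      rw [Subgroup.mem_subgroupOf, h]
      refine ⟨?_, y.2⟩
      refine mem_normalizer_iff.mpr fun z => ?_
      rw [mem_normalizer_iff] at hy1
      constructor
      · intro hz
        exact (hy1 ⟨z, hX.le hz⟩).1 hz
      · intro hz
        have hzX : z ∈ (X : Subgroup G) := by
          have h3 := (X : Subgroup G).mul_mem ((X : Subgroup G).mul_mem ((X : Subgroup G).inv_mem y.2) (hX.le hz)) y.2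
          have e : (y : G)⁻¹ * ((y : G) * z * (y : G)⁻¹) * y = z := by group
          rwa [e] at h3
        exact (hy1 ⟨z, hzX⟩).2 hz
    have h1 : normalizer (D : Set G) ⊓ (X : Subgroup G) ≤ (X : Subgroup G) ⊓ (R : Subgroup G) :=
      le_inf inf_le_right (hin _ (X.isPGroup'.to_le inf_le_right) inf_le_left)
    have h2 : D < (X : Subgroup G) ⊓ (R : Subgroup G) := lt_of_lt_of_le hnc h1
    have h3 : (X : Subgroup G) ⊓ (R : Subgroup G) ≠ ⊥ := by
      intro h
      rw [h] at h2
      exact not_lt_bot h2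
    have h4 := hmax (X, R) ⟨hXR, h3⟩
    simp only at h4
    exact absurd (Subgroup.eq_of_le_of_card_ge h2.le h4) h2.ne
  have hDP : D < (P : Subgroup G) := by
    refine lt_of_le_of_ne inf_le_left fun h => hne ?_
    have h1 : (P : Subgroup G) ≤ (Q : Subgroup G) := by rw [← h]; exact inf_le_right
    exact Sylow.ext (P.is_maximal' Q.isPGroup' h1).symm
  have hDQ : D < (Q : Subgroup G) := by
    refine lt_of_le_of_ne inf_le_right fun h => hne ?_
    have h1 : (Q : Subgroup G) ≤ (P : Subgroup G) := by rw [← h]; exact inf_le_left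
    exact Sylow.ext (Q.is_maximal' P.isPGroup' h1)
  exact hne ((hgrow P hDP).trans (hgrow Q hDQ).symm)

open Subgroup in
open scoped Pointwise in
theorem tiN {G : Type*} [Group G] [Finite G] {p : ℕ} [Fact p.Prime]
    (hti : ∀ P Q : Sylow p G, P ≠ Q → (P : Subgroup G) ⊓ (Q : Subgroup G) = ⊥) (P : Sylow p G) (R : Subgroup G) (hRP : R ≤ P) (hR0 : R ≠ ⊥) :
        Subgroup.normalizer (R : Set G) ≤ Subgroup.normalizer ((P : Subgroup G) : Set G) := by
  intro g hg
  -- g P g⁻¹ ⊓ P ≥ R
  by_contra hgP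
  have hne : P ≠ g • P := by
    intro h
    apply hgP
    rw [L0.mem_normalizer_conj]
    have h1 : ((g • P : Sylow p G) : Subgroup G) = MulAut.conj g • (P : Subgroup G) := rfl
    rw [← h1, ← h]
  have h1 := hti P (g • P) hne
  apply hR0
  rw [eq_bot_iff, ← h1]
  refine le_inf hRP ?_
  intro r hr
  show r ∈ (MulAut.conj g • (P : Subgroup G) : Subgroup G)
  rw [L0.mem_conj_smul]
  apply hRP
  rw [Subgroup.mem_normalizer_iff] at hg
  apply (hg _).2
  have e : g * (g⁻¹ * r * g) * g⁻¹ = r := by group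
  rw [e]; exact hr

/-- Let G be a finite simple group whose Sylow p-subgroups are not normal but such that every proper subgroup of G has a normal Sylow p-subgroup. Then any two distinct Sylow p-subgroups of G intersect trivially, and for every Sylow p-subgroup P the normalizer of every non-identity subgroup of P lies in the normalizer of P. -/
theorem result {G : Type*} [Group G] [Finite G] [IsSimpleGroup G] {p : ℕ} [Fact p.Prime]
    (hnc : ¬ Cfsg.IsPClosed p G) (hsub : ∀ H : Subgroup G, H ≠ ⊤ → Cfsg.IsPClosed p ↥H) :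
    (∀ P Q : Sylow p G, P ≠ Q → (P : Subgroup G) ⊓ (Q : Subgroup G) = ⊥) ∧
      ∀ (P : Sylow p G) (R : Subgroup G), R ≤ P → R ≠ ⊥ →
        Subgroup.normalizer (R : Set G) ≤ Subgroup.normalizer ((P : Subgroup G) : Set G) := by
  exact ⟨ti hnc hsub, tiN (ti hnc hsub)⟩

end Cfsg.Agent.S3870
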