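import Cfsg.Statements.S3873
import Mathlib
import Cfsg.Agent.H3.Irr2

set_option autoImplicit false
open Cfsg

namespace Cfsg.Agent.S3873

/-- Say that a finite group is p-exponent closed when its elements of order dividing p form a subgroup. Let G be a finite group that is not p-exponent closed, but all of whose proper subgroups and proper quotients are, and suppose G is neither simple nor a p-group. Then there is a prime q ≠ p such that G has order p · q^e, where e is the multiplicative order of q modulo p, and G has a normal elementary abelian subgroup of order q^e that is a minimal normal subgroup of G. -/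
theorem result {G : Type*} [Group G] [Finite G] {p : ℕ} [Fact p.Prime]
    (hnc : ¬ (∃ H : Subgroup G, (H : Set G) = {g : G | g ^ p = 1})) (hsub : ∀ K : Subgroup G, K ≠ ⊤ → (∃ H : Subgroup ↥K, (H : Set ↥K) = {g : ↥K | g ^ p = 1}))
    (hquo : ∀ (N : Subgroup G) [N.Normal], N ≠ ⊥ → (∃ H : Subgroup (G ⧸ N), (H : Set (G ⧸ N)) = {g : (G ⧸ N) | g ^ p = 1}))
    (hns : ¬ IsSimpleGroup G) (hnp : ¬ IsPGroup p G) :
    ∃ q : ℕ, q.Prime ∧ q ≠ p ∧ Nat.card G = p * q ^ orderOf (q : ZMod p) ∧
      ∃ A : Subgroup G, A.Normal ∧ Nat.card ↥A = q ^ orderOf (q : ZMod p) ∧ Cfsg.IsElementaryAbelian q A ∧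
        ∀ B : Subgroup G, B.Normal → B ≤ A → B = ⊥ ∨ B = A := by
  have hp := (Fact.out : p.Prime)
  -- quotients have exponent p
  have claim1 : ∀ (N : Subgroup G) [N.Normal], N ≠ ⊥ → ∀ g : G, g ^ p ∈ N := by
    intro N hN hN0
    obtain ⟨H, hH⟩ := hquo N hN0
    have htop : H.comap (QuotientGroup.mk' N) = ⊤ := by
      by_contra hne
      obtain ⟨K, hK⟩ := hsub _ hne
      apply hnc
      refine ⟨K.map (H.comap (QuotientGroup.mk' N)).subtype, ?_⟩
      ext g
      rw [SetLike.mem_coe, Set.mem_setOf_eq]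
      constructor
      · rintro ⟨k, hk, rfl⟩
        have h1 : k ∈ {g : ↥(H.comap (QuotientGroup.mk' N)) | g ^ p = 1} := hK ▸ hk
        exact congrArg Subtype.val h1
      · intro hg
        have h1 : (QuotientGroup.mk' N g) ∈ (H : Set (G ⧸ N)) := by
          rw [hH, Set.mem_setOf_eq, ← map_pow, hg, map_one]
        refine ⟨⟨g, h1⟩, ?_, rfl⟩
        rw [hK]
        exact Subtype.ext hg
    intro g
    have h1 : g ∈ H.comap (QuotientGroup.mk' N) := by rw [htop]; exact Subgroup.mem_top g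
    have h2 : (QuotientGroup.mk' N g) ∈ (H : Set (G ⧸ N)) := h1
    rw [hH, Set.mem_setOf_eq, ← map_pow] at h2
    exact (QuotientGroup.eq_one_iff _).1 h2
  have hnt : Nontrivial G := by
    by_contra h
    rw [not_nontrivial_iff_subsingleton] at h
    apply hnc
    refine ⟨⊤, ?_⟩
    ext g
    simp [Subsingleton.elim g 1]
  obtain ⟨M, hMn, hM0, hM1⟩ : ∃ M : Subgroup G, M.Normal ∧ M ≠ ⊥ ∧ M ≠ ⊤ := by
    by_contra hcon
    push Not at hcon
    exact hns ⟨fun H hH => or_iff_not_imp_left.2 fun h => hcon H hH h⟩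
  obtain ⟨N, hNn, hNM, hN0, hmin⟩ := H1.exists_minimal_normal_le M hM0
  have hN1 : N ≠ ⊤ := fun h => hM1 (top_le_iff.1 (h ▸ hNM))
  have claim2 : ¬ p ∣ Nat.card ↥N := by
    intro hd
    obtain ⟨K, hK⟩ := hsub N hN1
    have hmK : ∀ k : ↥N, k ∈ K ↔ k ^ p = 1 := by
      intro k
      rw [← SetLike.mem_coe, hK]; rfl
    have hKn : (K.map N.subtype).Normal := by
      refine ⟨?_⟩
      rintro _ ⟨k, hk, rfl⟩ g
      have h1 : g * (k : G) * g⁻¹ ∈ N := hNn.conj_mem k k.2 g
      refine ⟨⟨_, h1⟩, ?_, rfl⟩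
      rw [SetLike.mem_coe, hmK]
      apply Subtype.ext
      show (g * (k : G) * g⁻¹) ^ p = 1
      rw [conj_pow, show (k : G) ^ p = 1 from congrArg Subtype.val ((hmK k).1 hk)]
      group
    rcases hmin _ hKn (Subgroup.map_subtype_le K) with h | h
    · obtain ⟨x, hx⟩ := exists_prime_orderOf_dvd_card' p hd
      have h1 : (x : G) ∈ K.map N.subtype := ⟨x, (hmK x).2 (by rw [← hx]; exact pow_orderOf_eq_one x), rfl⟩
      rw [h, Subgroup.mem_bot] at h1
      have h2 : x = 1 := Subtype.ext h1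
      rw [h2, orderOf_one] at hx
      exact hp.one_lt.ne hx
    · apply hnp
      intro g
      refine ⟨2, ?_⟩
      have h1 : g ^ p ∈ K.map N.subtype := by rw [h]; exact claim1 N hN0 g
      obtain ⟨k, hk, hkg⟩ := h1
      rw [sq, pow_mul, ← hkg]
      exact congrArg Subtype.val ((hmK k).1 hk)
  have claim3 : ∀ g : G, (∃ k, g ^ p ^ k = 1) → g ^ p = 1 := by
    rintro g ⟨k, hk⟩
    have h1 := claim1 N hN0 g
    have h2 : orderOf (g ^ p) ∣ Nat.card ↥N := by
      have := _root_.orderOf_dvd_natCard (⟨g ^ p, h1⟩ : ↥N)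
      rwa [Subgroup.orderOf_mk] at this
    have h3 : orderOf (g ^ p) ∣ p ^ k := by
      rw [orderOf_dvd_iff_pow_eq_one, ← pow_mul, mul_comm, pow_mul, hk, one_pow]
    have h4 : orderOf (g ^ p) ∣ 1 := by
      have h5 : (p ^ k).Coprime (Nat.card ↥N) := ((Nat.Prime.coprime_iff_not_dvd hp).2 claim2).pow_left k
      rw [← h5]; exact Nat.dvd_gcd h3 h2
    exact orderOf_eq_one_iff.1 (Nat.dvd_one.1 h4)
  apply H3.minimal_structure
  · intro hcl
    have P : Sylow p G := default
    have hPn : (P : Subgroup G).Normal := hcl P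
    apply hnc
    refine ⟨P, ?_⟩
    ext g
    rw [SetLike.mem_coe, Set.mem_setOf_eq]
    constructor
    · intro hg
      apply claim3
      obtain ⟨k, hk⟩ := P.isPGroup' ⟨g, hg⟩
      exact ⟨k, congrArg Subtype.val hk⟩
    · intro hg
      have h1 : IsPGroup p ↥(Subgroup.zpowers g) := by
        apply IsPGroup.iff_card.2
        rw [Nat.card_zpowers]
        obtain ⟨k, -, hk⟩ := (Nat.dvd_prime_pow hp).1 (show orderOf g ∣ p ^ 1 by rw [pow_one]; exact orderOf_dvd_of_pow_eq_one hg)
        exact ⟨k, hk⟩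
      have h2 : IsPGroup p ↥((P : Subgroup G) ⊔ Subgroup.zpowers g) := P.isPGroup'.to_sup_of_normal_left h1
      have h3 := P.is_maximal' h2 le_sup_left
      rw [← h3]
      exact Subgroup.mem_sup_right (Subgroup.mem_zpowers g)
  · intro H hH S
    obtain ⟨K, hK⟩ := hsub H hH
    have hmK : ∀ k : ↥H, k ∈ K ↔ k ^ p = 1 := by
      intro k
      rw [← SetLike.mem_coe, hK]; rfl
    have hKp : IsPGroup p ↥K := fun k => ⟨1, Subtype.ext (by rw [pow_one]; exact (hmK k).1 k.2)⟩
    have hSK : (S : Subgroup ↥H) ≤ K := by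
      intro s hs
      rw [hmK]
      apply Subtype.ext
      apply claim3
      obtain ⟨k, hk⟩ := S.isPGroup' ⟨s, hs⟩
      exact ⟨k, congrArg (fun z : ↥H => (z : G)) (congrArg Subtype.val hk)⟩
    have hSK' : K = (S : Subgroup ↥H) := S.is_maximal' hKp hSK
    rw [← hSK']
    refine ⟨fun k hk g => ?_⟩
    rw [hmK] at hk ⊢
    rw [conj_pow, hk]; group
  · intro N' hN' hN'0
    apply H3.pclosed_of_pgroup
    intro x
    obtain ⟨g, rfl⟩ := QuotientGroup.mk_surjective x
    refine ⟨1, ?_⟩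
    rw [pow_one, ← QuotientGroup.mk_pow]
    exact (QuotientGroup.eq_one_iff _).2 (claim1 N' hN'0 g)
  · exact hns

end Cfsg.Agent.S3873
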