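import Cfsg.Statements.S3889
import Mathlib

set_option autoImplicit false
open Cfsg

namespace Cfsg.Agent.S3889

/-- A finite abelian group that is the union of a family of proper subgroups any two of which intersect trivially is elementary abelian: its exponent is a prime. -/
theorem result {G : Type*} [CommGroup G] [Finite G] (𝓑 : Set (Subgroup G)) (hprop : ∀ B ∈ 𝓑, B ≠ ⊤)
    (hcov : ∀ g : G, ∃ B ∈ 𝓑, g ∈ B) (hdisj : ∀ B ∈ 𝓑, ∀ C ∈ 𝓑, B ≠ C → B ⊓ C = ⊥) :
    (Monoid.exponent G).Prime := by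
  have hG1 : Nontrivial G := by
    obtain ⟨B, hB, -⟩ := hcov 1
    by_contra h
    rw [not_nontrivial_iff_subsingleton] at h
    exact hprop B hB (Subsingleton.elim _ _)
  -- elements in different components have the same order
  have key : ∀ B ∈ 𝓑, ∀ C ∈ 𝓑, ∀ x ∈ B, ∀ y ∈ C, y ∉ B → x ≠ 1 → orderOf y ≤ orderOf x := by
    intro B hB C hC x hx y hy hyB hx1
    by_contra hlt
    push Not at hlt
    obtain ⟨D, hD, hxyD⟩ := hcov (x * y)
    have hBC : B ≠ C := fun h => hyB (h ▸ hy)
    have h1 : (x * y) ^ orderOf x = y ^ orderOf x := by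
      rw [mul_pow, pow_orderOf_eq_one, one_mul]
    have h2 : y ^ orderOf x ≠ 1 := pow_ne_one_of_lt_orderOf (orderOf_pos x).ne' hlt
    have h3 : D = C := by
      by_contra hne
      have h4 : y ^ orderOf x ∈ D ⊓ C := ⟨h1 ▸ D.pow_mem hxyD _, C.pow_mem hy _⟩
      rw [hdisj D hD C hC hne, Subgroup.mem_bot] at h4
      exact h2 h4
    rw [h3] at hxyD
    have h5 : x ∈ C := by
      have := C.mul_mem hxyD (C.inv_mem hy)
      simpa using this
    have h6 : x ∈ B ⊓ C := ⟨hx, h5⟩
    rw [hdisj B hB C hC hBC, Subgroup.mem_bot] at h6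
    exact hx1 h6
  have hall : ∀ x y : G, x ≠ 1 → y ≠ 1 → orderOf y = orderOf x := by
    have hle : ∀ x y : G, x ≠ 1 → y ≠ 1 → orderOf y ≤ orderOf x := by
      intro x y hx hy
      obtain ⟨B, hB, hxB⟩ := hcov x
      obtain ⟨C, hC, hyC⟩ := hcov y
      by_cases hyB : y ∈ B
      · -- choose z outside B
        obtain ⟨z, hz⟩ : ∃ z, z ∉ B := by
          by_contra hcon
          push Not at hcon
          exact hprop B hB ((Subgroup.eq_top_iff' B).2 hcon)
        obtain ⟨D, hD, hzD⟩ := hcov z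
        have hz1 : z ≠ 1 := fun h => hz (h ▸ B.one_mem)
        have h1 := key B hB D hD x hxB z hzD hz hx
        have hBD : B ≠ D := fun h => hz (h ▸ hzD)
        have hyD : y ∉ D := fun h => by
          have : y ∈ B ⊓ D := ⟨hyB, h⟩
          rw [hdisj B hB D hD hBD, Subgroup.mem_bot] at this
          exact hy this
        exact (key D hD B hB z hzD y hyB hyD hz1).trans h1
      · exact key B hB C hC x hxB y hyC hyB hx
    exact fun x y hx hy => le_antisymm (hle x y hx hy) (hle y x hy hx)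
  -- choose a prime order element
  obtain ⟨p, hp, hpd⟩ := Nat.exists_prime_and_dvd (Finite.one_lt_card (α := G)).ne'
  haveI : Fact p.Prime := ⟨hp⟩
  obtain ⟨x, hx⟩ := exists_prime_orderOf_dvd_card' p hpd
  have hx1 : x ≠ 1 := by
    rintro rfl
    rw [orderOf_one] at hx
    exact hp.one_lt.ne hx
  have h1 : Monoid.exponent G ∣ p := by
    apply Monoid.exponent_dvd_of_forall_pow_eq_one
    intro g
    by_cases hg : g = 1
    · rw [hg, one_pow]
    · rw [← hx, ← hall x g hx1 hg, pow_orderOf_eq_one]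
  rcases (Nat.dvd_prime hp).1 h1 with h2 | h2
  · exfalso
    have h3 := Monoid.order_dvd_exponent x
    rw [h2, hx] at h3
    exact hp.one_lt.ne' (Nat.dvd_one.1 h3)
  · rw [h2]; exact hp

end Cfsg.Agent.S3889
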