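import Cfsg.Statements.S3893
import Mathlib
import Cfsg.Agent.H8.SzP
open Cfsg.Agent.H8.Suz
open scoped Pointwise

set_option autoImplicit false
open Cfsg

namespace Cfsg.Agent.S3893

def IsCov {G : Type*} [Group G] (𝓐 : Finset (Subgroup G)) : Prop := (∀ A ∈ 𝓐, A ≠ ⊤) ∧ (∀ g : G, ∃ A ∈ 𝓐, g ∈ A)

/-- many -/
theorem card_ge_comp {F : Type*} [Field F] [Fintype F] (m : ℕ) [H : Hyp F m] (𝓐 : Finset (Subgroup ↥(Cfsg.Sz F m))) (h : IsCov 𝓐) (hn : ∀ A ∈ 𝓐, Group.IsNilpotent ↥A) :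
    Nat.card {X : Subgroup ↥(Cfsg.Sz F m) // Comp m X} ≤ 𝓐.card := by
  classical
  have h1 : ∀ X : {X : Subgroup ↥(Cfsg.Sz F m) // Comp m X}, ∃ z ∈ X.1, z ≠ 1 := fun X => comp_ne_bot m X.2
  choose z hz hz1 using h1
  have h2 : ∀ X : {X : Subgroup ↥(Cfsg.Sz F m) // Comp m X}, ∃ A ∈ 𝓐, z X ∈ A := fun X => h.2 (z X)
  choose A hA hzA using h2
  let f : {X : Subgroup ↥(Cfsg.Sz F m) // Comp m X} → 𝓐 := fun X => ⟨A X, hA X⟩
  have hf : Function.Injective f := by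
    intro X Y hXY
    have h3 : A X = A Y := congrArg Subtype.val hXY
    apply Subtype.ext
    exact nilp_comp m (hn _ (hA X)) (hzA X) (by rw [h3]; exact hzA Y) (hz1 X) (hz1 Y) X.2 Y.2 (hz X) (hz Y)
  have := Nat.card_le_card_of_injective f hf
  rwa [Nat.card_eq_fintype_card (α := 𝓐), Fintype.card_coe] at this

theorem small_cov {F : Type*} [Field F] [Fintype F] (m : ℕ) [H : Hyp F m] : ∃ 𝓑 : Finset (Subgroup ↥(Cfsg.Sz F m)), IsCov 𝓑 ∧
    𝓑.card < Nat.card {X : Subgroup ↥(Cfsg.Sz F m) // Comp m X} := by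
  classical
  haveI : Fintype {X : Subgroup ↥(Cfsg.Sz F m) // Comp m X} := Fintype.ofFinite _
  let T0 : {X : Subgroup ↥(Cfsg.Sz F m) // Comp m X} := ⟨TT F m, Or.inr (comp2_TT m)⟩
  refine ⟨(Finset.univ.erase T0).image (fun X => Subgroup.normalizer (X.1 : Set ↥(Cfsg.Sz F m))), ⟨?_, ?_⟩, ?_⟩
  · intro A hA
    obtain ⟨X, -, rfl⟩ := Finset.mem_image.1 hA
    exact comp_norm m X.2
  · intro g
    have hQ : g ∈ B F m → ∃ A ∈ (Finset.univ.erase T0).image (fun X : {X : Subgroup ↥(Cfsg.Sz F m) // Comp m X} => Subgroup.normalizer (X.1 : Set ↥(Cfsg.Sz F m))), g ∈ A := by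
      intro hg
      refine ⟨B F m, Finset.mem_image.2 ⟨⟨Q F m, comp_Q m⟩, Finset.mem_erase.2 ⟨?_, Finset.mem_univ _⟩, normalizer_Q m⟩, hg⟩
      intro h
      exact TT_ne_Q (F := F) m (congrArg Subtype.val h).symm
    by_cases hg1 : g = 1
    · exact hQ (by rw [hg1]; exact Subgroup.one_mem _)
    · obtain ⟨X, hX, hXc⟩ := comp_exists m hg1
      have hgX : g ∈ X := hXc (mem_cent_self g)
      by_cases hXT : X = TT F m
      · apply hQ
        rw [hXT] at hgX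
        obtain ⟨k, rfl⟩ := hgX
        exact T_mem_B m k
      · refine ⟨_, Finset.mem_image.2 ⟨⟨X, hX⟩, Finset.mem_erase.2 ⟨?_, Finset.mem_univ _⟩, rfl⟩, Subgroup.le_normalizer hgX⟩
        intro h
        exact hXT (congrArg Subtype.val h)
  · calc _ ≤ (Finset.univ.erase T0).card := Finset.card_image_le
      _ < Finset.univ.card := Finset.card_erase_lt_of_mem (Finset.mem_univ _)
      _ = _ := by rw [Finset.card_univ, Nat.card_eq_fintype_card]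

theorem map_cov {G G' : Type*} [Group G] [Group G'] [DecidableEq (Subgroup G')] (e : G ≃* G') {𝓐 : Finset (Subgroup G)} (h : IsCov 𝓐) : IsCov (𝓐.image (fun A => A.map e.toMonoidHom)) := by
  refine ⟨?_, ?_⟩
  · intro A hA
    obtain ⟨X, hX, rfl⟩ := Finset.mem_image.1 hA
    intro htop
    apply h.1 X hX
    have h1 := congrArg (Subgroup.comap e.toMonoidHom) htop
    rw [Subgroup.comap_map_eq_self_of_injective e.injective, Subgroup.comap_top] at h1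
    exact h1
  · intro g
    obtain ⟨A, hA, hg⟩ := h.2 (e.symm g)
    refine ⟨_, Finset.mem_image.2 ⟨A, hA, rfl⟩, e.symm g, hg, ?_⟩
    exact e.apply_symm_apply g

/-- A cover of a group is a finite set of proper subgroups whose union is the whole group; it is minimal when no cover has fewer members, and nilpotent when all its members are nilpotent. The Suzuki groups Sz(q), q = 2^(2m+1) with m ≥ 1, have no nilpotent minimal cover. -/
theorem result {F : Type*} [Field F] [Fintype F] (m : ℕ) (hm : 1 ≤ m) (hF : Fintype.card F = 2 ^ (2 * m + 1)) :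
    ¬ ∃ 𝓐 : Finset (Subgroup ↥(Cfsg.Lie.Sz F (2 ^ (m + 1)))), ((∀ A ∈ 𝓐, A ≠ ⊤) ∧ (∀ g : ↥(Cfsg.Lie.Sz F (2 ^ (m + 1))), ∃ A ∈ 𝓐, g ∈ A)) ∧ (∀ 𝓑 : Finset (Subgroup ↥(Cfsg.Lie.Sz F (2 ^ (m + 1)))), (∀ A ∈ 𝓑, A ≠ ⊤) ∧ (∀ g : ↥(Cfsg.Lie.Sz F (2 ^ (m + 1))), ∃ A ∈ 𝓑, g ∈ A) → 𝓐.card ≤ 𝓑.card) ∧ (∀ A ∈ 𝓐, Group.IsNilpotent ↥A) := by
  haveI : Cfsg.Agent.H8.Suz.Hyp F m := ⟨hm, hF⟩
  classical
  rintro ⟨𝓐, h1, h2, h3⟩
  let e : ↥(Cfsg.Sz F m) ≃* ↥(Cfsg.Lie.Sz F (2 ^ (m + 1))) := eLie m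
  obtain ⟨𝓑, hB, hBc⟩ := small_cov (F := F) m
  have h4 := h2 _ (map_cov e hB)
  have h5 : IsCov (𝓐.image (fun A => A.map e.symm.toMonoidHom)) := map_cov e.symm h1
  have h6 := card_ge_comp m _ h5 (by
    intro A hA
    obtain ⟨X, hX, rfl⟩ := Finset.mem_image.1 hA
    haveI := h3 X hX
    exact Group.nilpotent_of_mulEquiv (X.equivMapOfInjective _ e.symm.injective))
  have h7 : (𝓐.image (fun A => A.map e.symm.toMonoidHom)).card ≤ 𝓐.card := Finset.card_image_le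
  have h8 : (𝓑.image (fun A => A.map e.toMonoidHom)).card ≤ 𝓑.card := Finset.card_image_le
  omega

end Cfsg.Agent.S3893
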