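import Cfsg.Statements.S3908
import Mathlib
import Cfsg.Agent.H3.UniqP
import Cfsg.Agent.H1.Rank1

set_option autoImplicit false
open Cfsg

namespace Cfsg.Agent.S3908

open Subgroup

theorem main {G : Type*} [Group G] [Finite G] (hB : ∀ A B : Subgroup G, IsMulCommutative ↥A → IsMulCommutative ↥B → Nat.card ↥A = Nat.card ↥B → ∃ g : G, B = A.map (MulAut.conj g).toMonoidHom)
    (p : ℕ) [hp : Fact p.Prime] (P : Sylow p G) :
    (∀ x ∈ (P : Subgroup G), x ^ p = 1) ∨ (IsCyclic (P : Subgroup G) ∨ (p = 2 ∧ ∃ m : ℕ, 1 ≤ m ∧ Nonempty ((P : Subgroup G) ≃* QuaternionGroup (2 ^ m)))) := by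
  classical
  by_cases hV : ∃ V : Subgroup G, V ≤ (P : Subgroup G) ∧ Nat.card V = p ^ 2 ∧ ∀ v ∈ V, v ^ p = 1
  · left
    obtain ⟨V, hVP, hVc, hVp⟩ := hV
    intro x hx
    by_contra h
    obtain ⟨k, hk⟩ := (IsPGroup.iff_orderOf.mp P.2) ⟨x, hx⟩
    rw [Subgroup.orderOf_mk] at hk
    obtain ⟨j, rfl⟩ : ∃ j, k = j + 2 := by
      rcases k with _ | _ | j
      · exfalso; rw [pow_zero, orderOf_eq_one_iff] at hk; apply h; rw [hk, one_pow]
      · exfalso; apply h; rw [← orderOf_dvd_iff_pow_eq_one, hk, zero_add, pow_one]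
      · exact ⟨j, rfl⟩
    have hp0 := hp.out.pos
    have hy : orderOf (x ^ p ^ j) = p ^ 2 := by
      rw [orderOf_pow_of_dvd (by positivity) (by rw [hk]; exact pow_dvd_pow _ (by omega)), hk,
        Nat.pow_div (by omega) hp0]
      congr 1
      omega
    have hVab : IsMulCommutative V := by
      refine ⟨⟨fun a b => ?_⟩⟩
      exact IsPGroup.commutative_of_card_eq_prime_sq hVc a b
    obtain ⟨g, hg⟩ := hB V (zpowers (x ^ p ^ j)) hVab inferInstance (by rw [hVc, Nat.card_zpowers, hy])
    have h1 : x ^ p ^ j ∈ V.map (MulAut.conj g).toMonoidHom := by rw [← hg]; exact mem_zpowers _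
    obtain ⟨v, hv, hvx⟩ := h1
    have h2 : (x ^ p ^ j) ^ p = 1 := by
      rw [← hvx]
      show (MulAut.conj g v) ^ p = 1
      rw [← map_pow, hVp v hv, map_one]
    have h3 := orderOf_dvd_of_pow_eq_one h2
    rw [hy] at h3
    have := Nat.le_of_dvd hp0 h3
    have h2p := hp.out.two_le
    nlinarith
  · right
    apply H3.cyclic_or_quaternion P.2
    have hcyc : ∀ E : Subgroup (P : Subgroup G), IsMulCommutative E → IsCyclic E := by
      intro E hE
      by_contra hnc
      obtain ⟨q, hq, V, hVE, hVc, hVp⟩ := L0.exists_rank_two_le_of_not_isCyclic hE hnc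
      have hqp : q = p := by
        obtain ⟨k, hk⟩ := IsPGroup.iff_card.mp (P.2.to_subgroup V)
        have h1 : q ∣ p ^ k := by rw [← hk, hVc]; exact dvd_pow_self q (by norm_num)
        exact (Nat.prime_dvd_prime_iff_eq hq hp.out).mp (hq.dvd_of_dvd_pow h1)
      subst hqp
      apply hV
      refine ⟨V.map (P : Subgroup G).subtype, Subgroup.map_subtype_le V, ?_, ?_⟩
      · rw [L0.card_map_subtype]; exact hVc
      · rintro _ ⟨v, hv, rfl⟩
        have := hVp v hv
        simpa using congrArg Subtype.val this
    have hc : ∀ x z : (P : Subgroup G), orderOf x = p → orderOf z = p → z ∈ center (P : Subgroup G) → zpowers x = zpowers z := by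
      intro x z hx hz hzc
      have hE : IsMulCommutative (closure ({x, z} : Set (P : Subgroup G))) := by
        apply isMulCommutative_closure
        have e := (mem_center_iff.1 hzc) x
        rintro a (rfl | rfl) b (rfl | rfl)
        · rfl
        · exact e
        · exact e.symm
        · rfl
      have hE' := hcyc _ hE
      have hxE : x ∈ closure ({x, z} : Set (P : Subgroup G)) := subset_closure (by simp)
      have hzE : z ∈ closure ({x, z} : Set (P : Subgroup G)) := subset_closure (by simp)
      apply le_antisymm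
      · exact H1.sub_total_of_card hE' (by rw [zpowers_le]; exact hxE) (by rw [zpowers_le]; exact hzE) (by
          rw [Nat.card_zpowers, Nat.card_zpowers, hx, hz])
      · exact H1.sub_total_of_card hE' (by rw [zpowers_le]; exact hzE) (by rw [zpowers_le]; exact hxE) (by
          rw [Nat.card_zpowers, Nat.card_zpowers, hx, hz])
    intro x y hx hy
    haveI : Nontrivial (P : Subgroup G) := ⟨x, 1, by
      rintro rfl; rw [orderOf_one] at hx; exact hp.out.one_lt.ne hx⟩
    haveI hcn : Nontrivial (center (P : Subgroup G)) := P.2.center_nontrivial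
    have hcp : IsPGroup p (center (P : Subgroup G)) := P.2.to_subgroup _
    have hdvd : p ∣ Nat.card (center (P : Subgroup G)) := by
      obtain ⟨k, hk⟩ := IsPGroup.iff_card.mp hcp
      rw [hk]
      apply dvd_pow_self
      rintro rfl
      rw [pow_zero] at hk
      exact absurd hk (Finite.one_lt_card (α := center (P : Subgroup G))).ne'
    obtain ⟨z, hz⟩ := exists_prime_orderOf_dvd_card' (G := center (P : Subgroup G)) p hdvd
    have hz' : orderOf (z : (P : Subgroup G)) = p := by rw [Subgroup.orderOf_coe]; exact hz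
    rw [hc x z hx hz' z.2, ← hc y z hy hz' z.2]
    exact mem_zpowers y

/-- Let G be a finite group in which any two abelian subgroups of the same order are conjugate. Then a Sylow 2-subgroup of G is cyclic, elementary abelian or generalized quaternion, and for an odd prime p a Sylow p-subgroup of G is cyclic or has exponent dividing p. -/
theorem result {G : Type*} [Group G] [Finite G] (hB : ∀ A B : Subgroup G, IsMulCommutative ↥A → IsMulCommutative ↥B → Nat.card ↥A = Nat.card ↥B → ∃ g : G, B = A.map (MulAut.conj g).toMonoidHom) :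
    (∀ P : Sylow 2 G, IsCyclic ↥(P : Subgroup G) ∨ Cfsg.IsElementaryAbelian 2 (P : Subgroup G) ∨ ∃ k : ℕ, Nonempty (↥(P : Subgroup G) ≃* QuaternionGroup (2 ^ k))) ∧
    ∀ (p : ℕ) [Fact p.Prime], p ≠ 2 → ∀ P : Sylow p G, IsCyclic ↥(P : Subgroup G) ∨ ∀ x ∈ (P : Subgroup G), x ^ p = 1 := by
  classical
  refine ⟨fun P => ?_, fun p hp hp2 P => ?_⟩
  · haveI : Fact (Nat.Prime 2) := ⟨Nat.prime_two⟩
    rcases main hB 2 P with h | h | ⟨-, m, -, h⟩
    · right; left
      refine ⟨⟨⟨fun a b => ?_⟩⟩, h⟩
      apply Subtype.ext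
      show (a : G) * b = b * a
      have ha := h a a.2
      have hb := h b b.2
      have hab := h (a * b) (mul_mem a.2 b.2)
      rw [pow_two] at ha hb hab
      calc (a : G) * b = (b * b) * ((a : G) * b) * (a * a) := by rw [ha, hb]; group
        _ = b * ((b * a) * (b * a)) * a := by group
        _ = b * a := by
          have : ((b : G) * a) * (b * a) = 1 := by
            have := h (b * a) (mul_mem b.2 a.2)
            rwa [pow_two] at this
          rw [this]; group
    · left; exact h
    · right; right; exact ⟨m, h⟩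
  · rcases main hB p P with h | h | ⟨h, -⟩
    · right; exact h
    · left; exact h
    · exact absurd h hp2

end Cfsg.Agent.S3908
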