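import Cfsg.Statements.S3939
import Mathlib
import Cfsg.Agent.H2.BaerSuzuki
import Cfsg.Agent.H3.LStar
import Cfsg.Agent.H3.FH
import Cfsg.Agent.H1.Basic

set_option autoImplicit false
open Cfsg

namespace Cfsg.Agent.S3939

open Subgroup
open scoped commutatorElement

theorem lemA {G : Type*} [Group G] [Finite G] (p : ℕ) [hp : Fact p.Prime] (g : G) (k : ℕ) (hk : orderOf g = p ^ k)
    (h : ∀ x : G, Group.IsNilpotent ↥(Subgroup.closure ({x, g} : Set G))) : g ∈ ⨆ n : ℕ, Subgroup.upperCentralSeries G n := by
  classical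
  have hcomm : ∀ (q : ℕ) (_ : q.Prime), q ≠ p → ∀ x : G, (∃ j, orderOf x = q ^ j) → Commute g x := by
    intro q hq hqp x hx
    obtain ⟨j, hj⟩ := hx
    have hx' : x ∈ closure ({x, g} : Set G) := subset_closure (by simp)
    have hg' : g ∈ closure ({x, g} : Set G) := subset_closure (by simp)
    have := H3.commute_of_coprime_of_nilpotent (h x) (⟨g, hg'⟩ : closure ({x, g} : Set G)) ⟨x, hx'⟩ (by
      rw [Subgroup.orderOf_mk, Subgroup.orderOf_mk, hk, hj]
      exact Nat.Coprime.pow _ _ ((Nat.coprime_primes hp.out hq).2 (Ne.symm hqp)))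
    have h2 := congrArg Subtype.val this.eq
    exact h2
  have hcore : g ∈ pCore p G := by
    apply H2.baer_suzuki
    intro y
    have hle : closure ({g, y * g * y⁻¹} : Set G) ≤ closure ({y, g} : Set G) := by
      rw [closure_le]
      have hx' : y ∈ closure ({y, g} : Set G) := subset_closure (by simp)
      have hg' : g ∈ closure ({y, g} : Set G) := subset_closure (by simp)
      rintro z (rfl | rfl)
      · exact hg'
      · exact mul_mem (mul_mem hx' hg') (inv_mem hx')
    have hn := L0.isNilpotent_of_le (h y) hle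
    set H := closure ({g, y * g * y⁻¹} : Set G) with hH
    have hgm : g ∈ H := subset_closure (by simp)
    have hgm2 : y * g * y⁻¹ ∈ H := subset_closure (by simp)
    obtain ⟨P⟩ : Nonempty (Sylow p H) := inferInstance
    have h1 : (⟨g, hgm⟩ : H) ∈ (P : Subgroup H) := H3.mem_sylow_of_nilpotent hn P ⟨k, by rw [Subgroup.orderOf_mk, hk]⟩
    have h2 : (⟨y * g * y⁻¹, hgm2⟩ : H) ∈ (P : Subgroup H) := H3.mem_sylow_of_nilpotent hn P ⟨k, by
      rw [Subgroup.orderOf_mk]
      rw [← hk]
      have : y * g * y⁻¹ = MulAut.conj y g := rfl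
      rw [this, MulEquiv.orderOf_eq]⟩
    have h3 : H ≤ (P : Subgroup H).map H.subtype := by
      conv_lhs => rw [hH]
      rw [closure_le]
      rintro z (rfl | rfl)
      · exact ⟨_, h1, rfl⟩
      · exact ⟨_, h2, rfl⟩
    exact (P.2.map H.subtype).to_le h3
  obtain ⟨S⟩ : Nonempty (Sylow p G) := inferInstance
  set M := normalClosure ({g} : Set G) with hM
  have hMn : M.Normal := normalClosure_normal
  have hgM : g ∈ M := subset_normalClosure rfl
  have hMcore : M ≤ pCore p G := by
    haveI : (pCore p G).Normal := inferInstance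
    apply normalClosure_le_normal
    rintro _ rfl
    exact hcore
  have hMS : M ≤ (S : Subgroup G) := hMcore.trans (L0.pCore_le_sylow S)
  have hcent : ∀ (q : ℕ) (_ : q.Prime), q ≠ p → ∀ x : G, (∃ j, orderOf x = q ^ j) → x ∈ centralizer (M : Set G) := by
    intro q hq hqp x hx
    have h1 : M ≤ centralizer ({x} : Set G) := by
      rw [hM, normalClosure, closure_le]
      intro z hz
      rw [Group.mem_conjugatesOfSet_iff] at hz
      obtain ⟨a, ha, hz⟩ := hz
      rw [Set.mem_singleton_iff] at ha
      subst ha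
      rw [isConj_iff] at hz
      obtain ⟨c, rfl⟩ := hz
      have := hcomm q hq hqp (c⁻¹ * x * c) (by
        obtain ⟨j, hj⟩ := hx
        refine ⟨j, ?_⟩
        rw [← hj]
        have : c⁻¹ * x * c = MulAut.conj c⁻¹ x := by simp
        rw [this, MulEquiv.orderOf_eq])
      rw [SetLike.mem_coe, mem_centralizer_singleton_iff]
      have e := this.eq
      calc c * a * c⁻¹ * x = c * (a * (c⁻¹ * x * c)) * c⁻¹ := by group
        _ = c * ((c⁻¹ * x * c) * a) * c⁻¹ := by rw [e]
        _ = x * (c * a * c⁻¹) := by group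
    rw [mem_centralizer_iff]
    intro m hm
    have := h1 hm
    rw [mem_centralizer_singleton_iff] at this
    exact this
  have htop : (S : Subgroup G) ⊔ centralizer (M : Set G) = ⊤ := by
    apply H1.eq_top_of_forall_sylow_le
    intro q hq
    by_cases hqp : q = p
    · subst hqp
      exact ⟨S, le_sup_left⟩
    · obtain ⟨Q⟩ : Nonempty (Sylow q G) := inferInstance
      refine ⟨Q, le_trans ?_ le_sup_right⟩
      intro x hx
      refine hcent q hq.out hqp x ?_
      obtain ⟨j, hj⟩ := (IsPGroup.iff_orderOf.mp Q.2) ⟨x, hx⟩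
      exact ⟨j, by rw [Subgroup.orderOf_mk] at hj; exact hj⟩
  haveI : (centralizer (M : Set G)).Normal := inferInstance
  have key : ∀ n : ℕ, ∀ z : (S : Subgroup G), (z : G) ∈ M → z ∈ Subgroup.upperCentralSeries (S : Subgroup G) n →
      (z : G) ∈ Subgroup.upperCentralSeries G n := by
    intro n
    induction n with
    | zero =>
      intro z _ hz
      rw [Subgroup.upperCentralSeries_zero, mem_bot] at hz ⊢
      rw [hz]; rfl
    | succ n ih =>
      intro z hzM hz
      rw [Subgroup.mem_upperCentralSeries_succ_iff] at hz ⊢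
      intro y
      have hy : y ∈ (S : Subgroup G) ⊔ centralizer (M : Set G) := by rw [htop]; trivial
      rw [mem_sup_of_normal_right] at hy
      obtain ⟨s, hs, c, hc, rfl⟩ := hy
      have e1 : ⁅(z : G), s * c⁆ = ⁅(z : G), s⁆ := by
        rw [mem_centralizer_iff] at hc
        have := hc _ (inv_mem hzM)
        rw [commutatorElement_def, commutatorElement_def]
        calc (z : G) * (s * c) * (z : G)⁻¹ * (s * c)⁻¹ = z * s * (c * (z : G)⁻¹) * c⁻¹ * s⁻¹ := by group
          _ = z * s * ((z : G)⁻¹ * c) * c⁻¹ * s⁻¹ := by rw [this]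
          _ = z * s * (z : G)⁻¹ * s⁻¹ := by group
      rw [e1]
      have h1 := ih ⁅z, ⟨s, hs⟩⁆ (by
        have : ((⁅z, (⟨s, hs⟩ : (S : Subgroup G))⁆ : (S : Subgroup G)) : G) = (z : G) * (s * (z : G)⁻¹ * s⁻¹) := by
          rw [commutatorElement_def]; simp [mul_assoc]
        rw [this]
        exact mul_mem hzM (hMn.conj_mem _ (inv_mem hzM) s)) (hz ⟨s, hs⟩)
      exact h1
  haveI : Group.IsNilpotent (S : Subgroup G) := S.2.isNilpotent
  obtain ⟨n, hn⟩ := Group.IsNilpotent.nilpotent (S : Subgroup G)
  exact (le_iSup (fun n => Subgroup.upperCentralSeries G n) n) (key n ⟨g, hMS hgM⟩ hgM (by rw [hn]; trivial))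

/-- In a finite group G the set of elements g such that the subgroup generated by g and x is nilpotent for every x ∈ G is exactly the hypercenter of G (the last term of the upper central series). -/
theorem result {G : Type*} [Group G] [Finite G] (g : G) :
    (∀ x : G, Group.IsNilpotent ↥(Subgroup.closure ({x, g} : Set G))) ↔ g ∈ ⨆ n : ℕ, Subgroup.upperCentralSeries G n := by
  classical
  constructor
  · intro h
    have key : ((⨆ n : ℕ, Subgroup.upperCentralSeries G n).subgroupOf (zpowers g)) = ⊤ := by
      apply H1.eq_top_of_forall_sylow_le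
      intro q hq
      obtain ⟨Q⟩ : Nonempty (Sylow q (zpowers g)) := inferInstance
      refine ⟨Q, ?_⟩
      intro y hy
      rw [mem_subgroupOf]
      obtain ⟨j, hj⟩ := (IsPGroup.iff_orderOf.mp Q.2) ⟨y, hy⟩
      rw [Subgroup.orderOf_mk] at hj
      refine lemA q (y : G) j (by rw [Subgroup.orderOf_coe, hj]) ?_
      intro x
      refine L0.isNilpotent_of_le (h x) ?_
      rw [closure_le]
      have hx' : x ∈ closure ({x, g} : Set G) := subset_closure (by simp)
      have hg' : zpowers g ≤ closure ({x, g} : Set G) := by rw [zpowers_le]; exact subset_closure (by simp)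
      rintro z (rfl | rfl)
      · exact hx'
      · exact hg' y.2
    have h1 : (⟨g, mem_zpowers g⟩ : zpowers g) ∈ ((⨆ n : ℕ, Subgroup.upperCentralSeries G n).subgroupOf (zpowers g)) := by
      rw [key]; trivial
    rw [mem_subgroupOf] at h1
    exact h1
  · intro hg x
    rw [mem_iSup_of_directed (Subgroup.upperCentralSeries_mono (G := G)).directed_le] at hg
    obtain ⟨n, hn⟩ := hg
    set H := closure ({x, g} : Set G) with hH
    have h1 : ∀ k : ℕ, ∀ z : H, (z : G) ∈ Subgroup.upperCentralSeries G k → z ∈ Subgroup.upperCentralSeries H k := by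
      intro k
      induction k with
      | zero =>
        intro z hz
        rw [Subgroup.upperCentralSeries_zero, mem_bot] at hz ⊢
        exact Subtype.ext hz
      | succ k ih =>
        intro z hz
        rw [Subgroup.mem_upperCentralSeries_succ_iff] at hz ⊢
        intro y
        exact ih _ (hz y)
    refine ⟨n + 1, ?_⟩
    rw [eq_top_iff]
    intro z _
    rw [Subgroup.mem_upperCentralSeries_succ_iff]
    intro y
    apply h1
    have h2 : H ≤ (zpowers (QuotientGroup.mk' (Subgroup.upperCentralSeries G n) x)).comap (QuotientGroup.mk' (Subgroup.upperCentralSeries G n)) := by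
      rw [hH, closure_le]
      rintro w (rfl | rfl)
      · exact mem_zpowers _
      · show _ ∈ zpowers _
        have : QuotientGroup.mk' (Subgroup.upperCentralSeries G n) w = 1 := by
          rw [QuotientGroup.mk'_apply, QuotientGroup.eq_one_iff]; exact hn
        rw [this]; exact one_mem _
    obtain ⟨a, ha⟩ := mem_zpowers_iff.1 (h2 z.2)
    obtain ⟨b, hb⟩ := mem_zpowers_iff.1 (h2 y.2)
    rw [← QuotientGroup.eq_one_iff, ← QuotientGroup.mk'_apply]
    show (QuotientGroup.mk' (Subgroup.upperCentralSeries G n)) ⁅(z : G), (y : G)⁆ = 1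
    rw [map_commutatorElement, commutatorElement_eq_one_iff_commute, ← ha, ← hb]
    exact (Commute.refl _).zpow_zpow _ _

end Cfsg.Agent.S3939
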