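import Cfsg.Statements.S4001
import Mathlib
import Cfsg.Agent.H3.FrobAct
import Cfsg.Agent.H3.FH

set_option autoImplicit false
open Cfsg

namespace Cfsg.Agent.S4001

open Subgroup H3

/-- commuting elements of distinct prime orders -/
theorem order_mul {G : Type*} [Group G] {x y : G} {p q : ℕ} (hp : p.Prime) (hq : q.Prime) (hpq : p ≠ q)
    (hx : orderOf x = p) (hy : orderOf y = q) (h : x * y = y * x) : orderOf (x * y) = p * q := by
  rw [(show Commute x y from h).orderOf_mul_eq_mul_orderOf_of_coprime (by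
    rw [hx, hy]; exact (Nat.coprime_primes hp hq).mpr hpq), hx, hy]

/-- an element whose image has order `m` has a power of order `m` -/
theorem exists_pow_order {G G' : Type*} [Group G] [Finite G] [Group G'] (f : G →* G') (g : G) (m : ℕ) (hm : orderOf (f g) = m) (hm0 : m ≠ 0) :
    ∃ j : ℕ, orderOf (g ^ j) = m := by
  have h1 : m ∣ orderOf g := by rw [← hm]; exact orderOf_map_dvd f g
  obtain ⟨k, hk⟩ := h1
  have hk0 : k ≠ 0 := by
    rintro rfl
    rw [mul_zero] at hk
    exact (orderOf_pos g).ne' hk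
  refine ⟨k, ?_⟩
  rw [orderOf_pow, hk, Nat.gcd_eq_right (Dvd.intro_left m rfl), Nat.mul_div_cancel _ (Nat.pos_of_ne_zero hk0)]

/-- Let G be a 2-Frobenius group: it has normal subgroups H < K with K a Frobenius group with kernel H and G/H a Frobenius group with kernel K/H. Then G is solvable; K/H has odd order coprime to the order of H and to the order of G/K (it is the image of an odd-order Hall subgroup); G/K is cyclic; and the prime graph of G has exactly two connected components, both complete: for distinct primes p, q dividing the order of G, G has an element of order pq exactly when p and q either both divide the order of K/H or both do not. -/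
theorem result {G : Type*} [Group G] [Finite G] (H K : Subgroup G) [H.Normal] [K.Normal] (hlt : H < K)
    (hK : ∃ C : Subgroup ↥K, Cfsg.IsFrobeniusComplement C ∧ Cfsg.frobeniusKernel C = (H.subgroupOf K : Set ↥K))
    (hGH : ∃ C : Subgroup (G ⧸ H), Cfsg.IsFrobeniusComplement C ∧ Cfsg.frobeniusKernel C = (K.map (QuotientGroup.mk' H) : Set (G ⧸ H))) :
    Group.IsSolvable G ∧ Odd (Nat.card (↥K ⧸ H.subgroupOf K)) ∧
      Nat.Coprime (Nat.card (↥K ⧸ H.subgroupOf K)) (Nat.card ↥H * Nat.card (G ⧸ K)) ∧ IsCyclic (G ⧸ K) ∧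
      ∀ p q : ℕ, p.Prime → q.Prime → p ≠ q → p ∣ Nat.card G → q ∣ Nat.card G →
        ((∃ g : G, orderOf g = p * q) ↔ (p ∣ Nat.card (↥K ⧸ H.subgroupOf K) ↔ q ∣ Nat.card (↥K ⧸ H.subgroupOf K))) := by
  classical
  obtain ⟨C, hC, hCk⟩ := hK
  obtain ⟨C', hC', hCk'⟩ := hGH
  have hHK : H ≤ K := hlt.le
  set N1 := H.subgroupOf K with hN1
  set Kb := K.map (QuotientGroup.mk' H) with hKb
  haveI hKbn : Kb.Normal := (inferInstance : K.Normal).map _ (QuotientGroup.mk'_surjective H)
  have hk1 := kernel_compl C hC N1 hCk.symm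
  have hk2 := kernel_compl C' hC' Kb hCk'.symm
  have hn1 := kernel_nilpotent C hC N1 hCk.symm
  have hn2 := kernel_nilpotent C' hC' Kb hCk'.symm
  have hf1 := frobenius_coprime N1 C hC hCk
  have hf2 := frobenius_coprime Kb C' hC' hCk'
  -- fixed point freeness
  have hfK : ∀ x ∈ K, x ∉ H → ∀ y ∈ H, y * x = x * y → y = 1 := by
    intro x hx hxH y hy hc
    have := kernel_fpf C hC N1 hCk.symm (x := ⟨x, hx⟩) (k := ⟨y, hHK hy⟩) (fun h => hxH h) hy (Subtype.ext hc)
    exact congrArg Subtype.val this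
  have hfG : ∀ x : G ⧸ H, x ∉ Kb → ∀ y ∈ Kb, y * x = x * y → y = 1 := fun x hx y hy hc =>
    kernel_fpf C' hC' Kb hCk'.symm hx hy hc
  -- C ≃ Kb
  have hCH : ∀ x : C, ((x : K) : G) ∈ H → x = 1 := by
    intro x hx
    have h1 : (x : K) ∈ N1 ⊓ C := Subgroup.mem_inf.mpr ⟨hx, x.2⟩
    rw [hf1.2.2.2, Subgroup.mem_bot] at h1
    exact Subtype.ext h1
  let f : C →* G ⧸ H := (QuotientGroup.mk' H).comp (K.subtype.comp C.subtype)
  have hfinj : Function.Injective f := by
    rw [injective_iff_map_eq_one]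
    intro x hx
    exact hCH x ((QuotientGroup.eq_one_iff _).mp hx)
  have hfr : f.range = Kb := by
    apply le_antisymm
    · rintro _ ⟨x, rfl⟩
      exact ⟨((x : K) : G), (x : K).2, rfl⟩
    · rintro _ ⟨k, hk, rfl⟩
      obtain ⟨⟨n, c⟩, hnc⟩ := hk1.2 ⟨k, hk⟩
      refine ⟨c, ?_⟩
      have h1 : ((n : K) : G) * ((c : K) : G) = k := congrArg Subtype.val hnc
      show QuotientGroup.mk' H ((c : K) : G) = QuotientGroup.mk' H k
      rw [← h1, map_mul]
      have h2 : QuotientGroup.mk' H ((n : K) : G) = 1 := (QuotientGroup.eq_one_iff _).mpr n.2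
      rw [h2, one_mul]
  have e : C ≃* Kb := (MonoidHom.ofInjective hfinj).trans (MulEquiv.subgroupCongr hfr)
  have hcardC : Nat.card C = Nat.card Kb := Nat.card_congr e.toEquiv
  have hKbne : Kb ≠ ⊥ := kernel_ne_bot C' hC' Kb hCk'.symm
  -- C' nontrivial element outside Kb
  have hC'2 := (isFrobeniusComplement_iff C').mp hC'
  obtain ⟨c0, hc0, hc01⟩ : ∃ c ∈ C', c ≠ 1 := by
    by_contra hcon
    push Not at hcon
    exact hC'2.1 ((Subgroup.eq_bot_iff_forall _).mpr hcon)
  have hC'K : ∀ c ∈ C', c ∈ Kb → c = 1 := by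
    intro c hc hcK
    rw [← Subgroup.mem_bot, ← hf2.2.2.2]
    exact Subgroup.mem_inf.mpr ⟨hcK, hc⟩
  -- odd order
  have hodd : Odd (Nat.card C) := by
    by_contra hne
    rw [Nat.not_odd_iff_even, even_iff_two_dvd] at hne
    obtain ⟨t, ht⟩ := exists_prime_orderOf_dvd_card' (G := Kb) 2 (hcardC ▸ hne)
    have htu : ∀ s : Kb, orderOf s = 2 → s = t := by
      intro s hs
      have h1 : ∀ u : Kb, orderOf u = 2 → ((e.symm u : C) : K) ≠ 1 ∧ ((e.symm u : C) : K) * (e.symm u : C) = 1 := by
        intro u hu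
        have h2 : orderOf (e.symm u) = 2 := by rw [MulEquiv.orderOf_eq, hu]
        constructor
        · intro h3
          have : e.symm u = 1 := Subtype.ext h3
          rw [this, orderOf_one] at h2
          omega
        · have h4 : (e.symm u) * (e.symm u) = 1 := by rw [← sq, ← h2]; exact pow_orderOf_eq_one _
          exact congrArg Subtype.val h4
      have h2 := compl_unique_invol C hC (e.symm s).2 (h1 s hs).1 (h1 s hs).2 (e.symm t).2 (h1 t ht).1 (h1 t ht).2
      exact e.symm.injective (Subtype.ext h2)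
    have h3 : c0 * (t : G ⧸ H) * c0⁻¹ ∈ Kb := hKbn.conj_mem _ t.2 c0
    have h4 : (⟨_, h3⟩ : Kb) = t := by
      apply htu
      rw [Subgroup.orderOf_mk]
      have : orderOf (c0 * (t : G ⧸ H) * c0⁻¹) = orderOf (t : G ⧸ H) := by
        have := MulEquiv.orderOf_eq (MulAut.conj c0) (t : G ⧸ H)
        simpa using this
      rw [this, Subgroup.orderOf_coe, ht]
    have h5 : c0 * (t : G ⧸ H) = t * c0 := mul_inv_eq_iff_eq_mul.mp (congrArg Subtype.val h4)
    have h6 := hfG c0 (fun h => hc01 (hC'K c0 hc0 h)) t t.2 h5.symm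
    have : t = 1 := Subtype.ext h6
    rw [this, orderOf_one] at ht
    omega
  haveI hZC := compl_zgroup C hC hodd
  haveI hZK : IsZGroup Kb := IsZGroup.of_injective (f := e.symm.toMonoidHom) e.symm.injective
  haveI := hn2
  haveI hKcyc : IsCyclic Kb := inferInstance
  haveI hCcyc : IsCyclic C := isCyclic_of_surjective e.symm.toMonoidHom e.symm.surjective
  -- G/K cyclic
  have hC'ab : IsMulCommutative C' := by
    let g : C' →* MulAut Kb := (MulAut.conjNormal : G ⧸ H →* MulAut Kb).comp C'.subtype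
    have hg : Function.Injective g := by
      rw [injective_iff_map_eq_one]
      intro c hc
      by_contra hc1
      have hcK : (c : G ⧸ H) ∉ Kb := fun h => hc1 (Subtype.ext (hC'K c c.2 h))
      apply hKbne
      rw [Subgroup.eq_bot_iff_forall]
      intro k hk
      apply hfG c hcK k hk
      have h1 := congrArg Subtype.val (DFunLike.congr_fun hc ⟨k, hk⟩)
      have h2 : (c : G ⧸ H) * k * (c : G ⧸ H)⁻¹ = k := h1
      exact (mul_inv_eq_iff_eq_mul.mp h2).symm
    refine ⟨⟨fun a b => hg ?_⟩⟩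
    rw [map_mul, map_mul]
    apply (IsCyclic.mulAutMulEquiv Kb).injective
    rw [map_mul, map_mul, mul_comm]
  haveI hC'cyc := compl_cyclic C' hC' hC'ab
  have hmapK : H ≤ K.comap (MonoidHom.id G) := hHK
  let π : G ⧸ H →* G ⧸ K := QuotientGroup.map H K (MonoidHom.id G) hmapK
  have hπ : ∀ x : G, π (QuotientGroup.mk' H x) = QuotientGroup.mk' K x := fun x => rfl
  have hπK : ∀ x : G ⧸ H, π x = 1 ↔ x ∈ Kb := by
    intro x
    obtain ⟨x, rfl⟩ := QuotientGroup.mk'_surjective H x
    rw [hπ]
    constructor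
    · intro h
      exact ⟨x, (QuotientGroup.eq_one_iff x).mp h, rfl⟩
    · rintro ⟨k, hk, hkx⟩
      have h1 : k⁻¹ * x ∈ H := (QuotientGroup.eq).mp hkx
      apply (QuotientGroup.eq_one_iff x).mpr
      have : x = k * (k⁻¹ * x) := by group
      rw [this]; exact K.mul_mem hk (hHK h1)
  have hπC : Function.Surjective (π.comp C'.subtype) := by
    intro y
    obtain ⟨x, rfl⟩ := QuotientGroup.mk'_surjective K y
    obtain ⟨⟨k, c⟩, hkc⟩ := hk2.2 (QuotientGroup.mk' H x)
    refine ⟨c, ?_⟩
    show π (c : G ⧸ H) = _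
    rw [← hπ, ← hkc]
    show π (c : G ⧸ H) = π ((k : G ⧸ H) * c)
    rw [map_mul, (hπK k).mpr k.2, one_mul]
  haveI hGKcyc : IsCyclic (G ⧸ K) := isCyclic_of_surjective _ hπC
  have hcardGK : Nat.card (G ⧸ K) = Nat.card C' := by
    have hinj : Function.Injective (π.comp C'.subtype) := by
      rw [injective_iff_map_eq_one]
      intro c hc
      exact Subtype.ext (hC'K c c.2 ((hπK c).mp hc))
    exact (Nat.card_congr (Equiv.ofBijective _ ⟨hinj, hπC⟩)).symm
  have hcardm : Nat.card (K ⧸ N1) = Nat.card C := by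
    rw [hf1.2.1]; rfl
  have hcardH : Nat.card N1 = Nat.card H := Nat.card_congr (Subgroup.subgroupOfEquivOfLe hHK).toEquiv
  have hHnil : Group.IsNilpotent H := by
    exact (Group.isNilpotent_congr (Subgroup.subgroupOfEquivOfLe hHK)).mp hn1
  have hcop1 : (Nat.card C).Coprime (Nat.card H) := by rw [← hcardH]; exact hf1.2.2.1.symm
  have hcop2 : (Nat.card C).Coprime (Nat.card (G ⧸ K)) := by
    rw [hcardC, hcardGK]; exact hf2.2.2.1
  have hcop := hcop1.mul_right hcop2
  have hcardG : Nat.card G = Nat.card H * Nat.card C * Nat.card (G ⧸ K) := by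
    have h1 := K.card_mul_index
    have h2 := N1.card_mul_index
    rw [hcardH, ← hf1.2.1] at h2
    rw [h2, ← h1]; rfl
  have hsolv : Group.IsSolvable G := by
    haveI := hHnil
    haveI : Group.IsSolvable H := inferInstance
    haveI : Group.IsSolvable Kb := inferInstance
    haveI : Group.IsSolvable (G ⧸ K) := by
      letI := IsCyclic.commGroup (α := G ⧸ K)
      infer_instance
    haveI : Group.IsSolvable (G ⧸ H) := Group.isSolvable_of_ker_le_range Kb.subtype π (by
      intro x hx
      rw [MonoidHom.mem_ker] at hx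
      rw [Subgroup.range_subtype]
      exact (hπK x).mp hx)
    exact Group.isSolvable_of_ker_le_range H.subtype (QuotientGroup.mk' H) (by
      rw [QuotientGroup.ker_mk', Subgroup.range_subtype])
  rw [hcardm]
  refine ⟨hsolv, hodd, hcop, hGKcyc, ?_⟩
  intro p q hp hq hpq hpG hqG
  haveI : Fact p.Prime := ⟨hp⟩
  haveI : Fact q.Prime := ⟨hq⟩
  -- one divides m and other does not
  have hno : ∀ p q : ℕ, p.Prime → q.Prime → p ≠ q → p ∣ Nat.card C → ¬ q ∣ Nat.card C → ∀ g : G, orderOf g ≠ p * q := by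
    intro p q hp hq hpq hpC hqC g hg
    have hx : orderOf (g ^ q) = p := by
      rw [orderOf_pow, hg, Nat.gcd_eq_right (Dvd.intro_left p rfl), Nat.mul_div_cancel _ hq.pos]
    have hy : orderOf (g ^ p) = q := by
      rw [orderOf_pow, hg, Nat.gcd_eq_right (Dvd.intro q rfl), Nat.mul_div_cancel_left _ hp.pos]
    have hc : g ^ p * g ^ q = g ^ q * g ^ p := by rw [← pow_add, ← pow_add, add_comm]
    have hxK : g ^ q ∈ K := by
      rw [← QuotientGroup.eq_one_iff, ← orderOf_eq_one_iff]
      have h1 : orderOf ((g ^ q : G) : G ⧸ K) ∣ p := by rw [← hx]; exact orderOf_map_dvd (QuotientGroup.mk' K) _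
      have h2 : orderOf ((g ^ q : G) : G ⧸ K) ∣ Nat.card (G ⧸ K) := orderOf_dvd_natCard _
      exact Nat.eq_one_of_dvd_coprimes (hcop2.coprime_dvd_left hpC) h1 h2
    have hxH : g ^ q ∉ H := by
      intro h
      have h1 : orderOf (⟨g ^ q, h⟩ : H) ∣ Nat.card H := orderOf_dvd_natCard _
      rw [Subgroup.orderOf_mk, hx] at h1
      exact hp.one_lt.ne' (Nat.eq_one_of_dvd_coprimes hcop1 hpC h1)
    have hy1 : g ^ p ≠ 1 := by
      intro h
      rw [h, orderOf_one] at hy
      exact hq.one_lt.ne hy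
    have hx1 : ((g ^ q : G) : G ⧸ H) ≠ 1 := fun h => hxH ((QuotientGroup.eq_one_iff _).mp h)
    by_cases hyK : g ^ p ∈ K
    · have hyH : g ^ p ∈ H := by
        have h1 : (⟨g ^ p, hyK⟩ : K) ∈ N1 := by
          rw [← QuotientGroup.eq_one_iff, ← orderOf_eq_one_iff]
          have h1 : orderOf ((⟨g ^ p, hyK⟩ : K) : K ⧸ N1) ∣ q := by
            rw [← hy, ← Subgroup.orderOf_mk (g ^ p) hyK]; exact orderOf_map_dvd (QuotientGroup.mk' N1) _
          have h2 : orderOf ((⟨g ^ p, hyK⟩ : K) : K ⧸ N1) ∣ Nat.card C := by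
            rw [← hcardm]; exact orderOf_dvd_natCard _
          exact Nat.eq_one_of_dvd_coprimes ((Nat.Prime.coprime_iff_not_dvd hq).mpr hqC) h1 h2
        exact h1
      exact hy1 (hfK _ hxK hxH _ hyH hc)
    · have hyKb : ((g ^ p : G) : G ⧸ H) ∉ Kb := by
        intro h
        have h2 := (hπK _).mpr h
        exact hyK ((QuotientGroup.eq_one_iff _).mp h2)
      apply hx1
      exact hfG _ hyKb _ ⟨g ^ q, hxK, rfl⟩ (by
        have := congrArg (QuotientGroup.mk' H) hc.symm
        rw [map_mul, map_mul] at this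
        exact this)
  -- H and G/K
  have hmix : ∀ p q : ℕ, p.Prime → q.Prime → p ≠ q → p ∣ Nat.card H → q ∣ Nat.card (G ⧸ K) → ∃ g : G, orderOf g = p * q := by
    intro p q hp hq hpq hpH hqK
    haveI : Fact p.Prime := ⟨hp⟩
    haveI : Fact q.Prime := ⟨hq⟩
    -- V
    let V : Subgroup G :=
      { carrier := {v | v ∈ H ∧ (∀ h ∈ H, h * v = v * h) ∧ v ^ p = 1}
        one_mem' := ⟨H.one_mem, fun h _ => by group, one_pow p⟩
        mul_mem' := by
          rintro a b ⟨ha1, ha2, ha3⟩ ⟨hb1, hb2, hb3⟩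
          refine ⟨H.mul_mem ha1 hb1, fun h hh => ?_, ?_⟩
          · rw [← mul_assoc, ha2 h hh, mul_assoc, hb2 h hh, mul_assoc]
          · rw [(show Commute a b from hb2 a ha1).mul_pow, ha3, hb3, one_mul]
        inv_mem' := by
          rintro a ⟨ha1, ha2, ha3⟩
          refine ⟨H.inv_mem ha1, fun h hh => ?_, by rw [inv_pow, ha3, inv_one]⟩
          have := ha2 h hh
          calc h * a⁻¹ = a⁻¹ * (a * h) * a⁻¹ := by group
            _ = a⁻¹ * (h * a) * a⁻¹ := by rw [this]
            _ = _ := by group }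
    have hVmem : ∀ v, v ∈ V ↔ v ∈ H ∧ (∀ h ∈ H, h * v = v * h) ∧ v ^ p = 1 := fun v => Iff.rfl
    haveI hVn : V.Normal := by
      constructor
      intro v hv g
      rw [hVmem] at hv ⊢
      refine ⟨(inferInstance : H.Normal).conj_mem v hv.1 g, ?_, by rw [conj_pow, hv.2.2]; group⟩
      intro h hh
      have h1 := (inferInstance : H.Normal).conj_mem h hh g⁻¹
      rw [inv_inv] at h1
      have h2 := hv.2.1 _ h1
      calc h * (g * v * g⁻¹) = g * ((g⁻¹ * h * g) * v) * g⁻¹ := by group
        _ = g * (v * (g⁻¹ * h * g)) * g⁻¹ := by rw [h2]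
        _ = _ := by group
    have hVcomm : ∀ a ∈ V, ∀ b ∈ V, a * b = b * a := fun a ha b hb => (hb.2.1 a ha.1)
    letI : CommGroup V := commGroupOf V hVcomm
    -- V nontrivial
    obtain ⟨v1, hv1, hv11⟩ : ∃ v ∈ V, v ≠ 1 := by
      haveI := hHnil
      obtain ⟨S⟩ : Nonempty (Sylow p H) := inferInstance
      have hSn : (S : Subgroup H).Normal := L0.isNilpotent_iff_sylow_normal.mp hHnil p S
      have h1 := H1.inf_center_ne_bot (S : Subgroup H) (S.ne_bot_of_dvd_card hpH)
      obtain ⟨z, hz, hz1⟩ : ∃ z ∈ (S : Subgroup H) ⊓ Subgroup.center H, z ≠ 1 := by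
        by_contra hcon
        push Not at hcon
        exact h1 ((Subgroup.eq_bot_iff_forall _).mpr hcon)
      obtain ⟨hz2, hz3⟩ := Subgroup.mem_inf.mp hz
      obtain ⟨n, hn⟩ := S.isPGroup' ⟨z, hz2⟩
      obtain ⟨m, hm⟩ := exists_orderOf_of_pow_eq_one (p := p) (x := z) (congrArg Subtype.val hn)
      have hm0 : m ≠ 0 := by
        rintro rfl
        rw [pow_zero, orderOf_eq_one_iff] at hm
        exact hz1 hm
      obtain ⟨m, rfl⟩ := Nat.exists_eq_succ_of_ne_zero hm0
      have hord : orderOf (z ^ p ^ m) = p := by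
        rw [orderOf_pow, hm, Nat.gcd_eq_right (pow_dvd_pow _ (Nat.le_succ m)), Nat.pow_succ,
          Nat.mul_div_cancel_left _ (pow_pos hp.pos _)]
      refine ⟨((z ^ p ^ m : H) : G), ?_, ?_⟩
      · rw [hVmem]
        refine ⟨(z ^ p ^ m).2, ?_, ?_⟩
        · intro h hh
          have h2 := Subgroup.mem_center_iff.mp (Subgroup.pow_mem _ hz3 (p ^ m)) ⟨h, hh⟩
          exact congrArg Subtype.val h2
        · have := pow_orderOf_eq_one (z ^ p ^ m)
          rw [hord] at this
          exact congrArg Subtype.val this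
      · intro h
        have : z ^ p ^ m = 1 := Subtype.ext h
        rw [this, orderOf_one] at hord
        exact hp.one_lt.ne hord
    haveI : Nontrivial V := ⟨⟨⟨v1, hv1⟩, 1, fun h => hv11 (congrArg Subtype.val h)⟩⟩
    let c0 : G →* MulAut V := MulAut.conjNormal
    have hc0 : ∀ (g : G) (v : V), ((c0 g v : V) : G) = g * v * g⁻¹ := fun g v => MulAut.conjNormal_apply g v
    have hker : ∀ h ∈ H, c0 h = 1 := by
      intro h hh
      ext v
      rw [hc0]
      have h2 := v.2.2.1 h hh
      rw [h2]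
      simp
    let c : G ⧸ H →* MulAut V := QuotientGroup.lift H c0 hker
    have hc : ∀ g : G, c (QuotientGroup.mk' H g) = c0 g := fun g => rfl
    obtain ⟨v, hv1', hv⟩ := frob_fixed c C' hC' Kb hCk'.symm (by
      rw [← hcardC]
      exact (hcop1.symm.coprime_dvd_left (Subgroup.card_dvd_of_le (fun v hv => hv.1)))) (by
      intro v hv
      obtain ⟨k, hk, hkH⟩ := SetLike.exists_of_lt hlt
      have h1 := hv (QuotientGroup.mk' H k) ⟨k, hk, rfl⟩
      rw [hc] at h1
      have h2 := congrArg Subtype.val h1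
      rw [hc0] at h2
      exact Subtype.ext (hfK k hk hkH v v.2.1 (mul_inv_eq_iff_eq_mul.mp h2).symm))
    rw [hcardGK] at hqK
    obtain ⟨y, hy⟩ := exists_prime_orderOf_dvd_card' (G := C') q hqK
    obtain ⟨g, hg⟩ := QuotientGroup.mk'_surjective H (y : G ⧸ H)
    have hgo : orderOf (QuotientGroup.mk' H g) = q := by rw [hg, Subgroup.orderOf_coe, hy]
    obtain ⟨j, hj⟩ := exists_pow_order (QuotientGroup.mk' H) g q hgo hq.ne_zero
    have hvg : g * v = v * g := by
      have h1 := hv y y.2
      rw [← hg, hc] at h1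
      have h2 := congrArg Subtype.val h1
      rw [hc0] at h2
      exact mul_inv_eq_iff_eq_mul.mp h2
    have hvo : orderOf (v : G) = p := orderOf_eq_prime v.2.2.2 (fun h => hv1' (Subtype.ext h))
    refine ⟨(v : G) * g ^ j, order_mul hp hq hpq hvo hj ?_⟩
    exact ((show Commute (v : G) g from hvg.symm).pow_right j).eq
  by_cases hpC : p ∣ Nat.card C
  · by_cases hqC : q ∣ Nat.card C
    · simp only [hpC, hqC, iff_self, iff_true]
      obtain ⟨x, hx⟩ := exists_prime_orderOf_dvd_card' (G := C) p hpC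
      obtain ⟨y, hy⟩ := exists_prime_orderOf_dvd_card' (G := C) q hqC
      letI := IsCyclic.commGroup (α := C)
      have h1 := order_mul hp hq hpq hx hy (mul_comm x y)
      refine ⟨(((x * y : C) : K) : G), ?_⟩
      rw [Subgroup.orderOf_coe, Subgroup.orderOf_coe]; exact h1
    · simp only [hpC, hqC, iff_false, not_true]
      rintro ⟨g, hg⟩
      exact hno p q hp hq hpq hpC hqC g hg
  · by_cases hqC : q ∣ Nat.card C
    · simp only [hpC, hqC, iff_true]
      constructor
      · rintro ⟨g, hg⟩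
        exact hno q p hq hp hpq.symm hqC hpC g (by rw [hg, mul_comm])
      · intro h; exact h.elim
    · simp only [hpC, hqC, iff_self, iff_true]
      have hd : ∀ r : ℕ, r.Prime → r ∣ Nat.card G → ¬ r ∣ Nat.card C → r ∣ Nat.card H ∨ r ∣ Nat.card (G ⧸ K) := by
        intro r hr hrG hrC
        rw [hcardG] at hrG
        rcases (Nat.Prime.dvd_mul hr).mp hrG with h | h
        · rcases (Nat.Prime.dvd_mul hr).mp h with h | h
          · exact Or.inl h
          · exact absurd h hrC
        · exact Or.inr h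
      rcases hd p hp hpG hpC with h1 | h1 <;> rcases hd q hq hqG hqC with h2 | h2
      · obtain ⟨x, hx⟩ := exists_prime_orderOf_dvd_card' (G := H) p h1
        obtain ⟨y, hy⟩ := exists_prime_orderOf_dvd_card' (G := H) q h2
        have h3 := commute_of_coprime_of_nilpotent hHnil x y (by
          rw [hx, hy]; exact (Nat.coprime_primes hp hq).mpr hpq)
        refine ⟨((x * y : H) : G), ?_⟩
        rw [Subgroup.orderOf_coe]; exact order_mul hp hq hpq hx hy h3.eq
      · exact hmix p q hp hq hpq h1 h2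
      · obtain ⟨g, hg⟩ := hmix q p hq hp hpq.symm h2 h1
        exact ⟨g, by rw [hg, mul_comm]⟩
      · obtain ⟨x, hx⟩ := exists_prime_orderOf_dvd_card' (G := G ⧸ K) p h1
        obtain ⟨y, hy⟩ := exists_prime_orderOf_dvd_card' (G := G ⧸ K) q h2
        have hcomm : x * y = y * x := by
          letI := IsCyclic.commGroup (α := G ⧸ K)
          exact mul_comm x y
        have h3 := order_mul hp hq hpq hx hy hcomm
        obtain ⟨g, hg⟩ := QuotientGroup.mk'_surjective K (x * y)
        obtain ⟨j, hj⟩ := exists_pow_order (QuotientGroup.mk' K) g (p * q) (by rw [hg, h3]) (by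
          exact Nat.mul_ne_zero hp.ne_zero hq.ne_zero)
        exact ⟨g ^ j, hj⟩

end Cfsg.Agent.S4001
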