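import Cfsg.Statements.S4018
import Cfsg.Agent.H2.TwoQ
import Cfsg.Agent.H2.Trans
import Mathlib

set_option autoImplicit false
open Cfsg

namespace Cfsg.Agent.S4018

open scoped commutatorElement

theorem mem_normalizer_zpowers {G : Type*} [Group G] {u x : G} (h : u * x * u⁻¹ = x⁻¹) :
    u ∈ Subgroup.normalizer (Subgroup.zpowers x : Set G) := by
  have h2 : u⁻¹ * x * u = x⁻¹ := by
    have : x⁻¹ = (u⁻¹ * (u * x * u⁻¹)⁻¹ * u) := by group
    rw [h, inv_inv] at this
    exact this.symm
  rw [Subgroup.mem_normalizer_iff]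
  intro y
  constructor
  · intro hy
    obtain ⟨i, rfl⟩ := Subgroup.mem_zpowers_iff.1 hy
    rw [← conj_zpow, h]
    exact Subgroup.zpow_mem _ (Subgroup.inv_mem _ (Subgroup.mem_zpowers x)) i
  · intro hy
    obtain ⟨i, hi⟩ := Subgroup.mem_zpowers_iff.1 hy
    have : y = (u⁻¹ * x * u) ^ i := by
      have e : (u⁻¹ * x * u) ^ i = u⁻¹ * x ^ i * u := by
        have := conj_zpow (i := i) (a := u⁻¹) (b := x)
        rw [inv_inv] at this; exact this
      rw [e, hi]; group
    rw [this, h2]
    exact Subgroup.zpow_mem _ (Subgroup.inv_mem _ (Subgroup.mem_zpowers x)) i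

/-- Let G be a finite group with an abelian Sylow 3-subgroup P such that the normalizer of P has order 4·#P, the centralizer C of P has order 2·#P, C meets each of its conjugates by elements outside its normalizer trivially, and every proper subgroup of G of even order has order dividing 4·#P. Then G is not simple. -/
theorem result {G : Type*} [Group G] [Finite G]
    (P : Sylow 3 G) (hab : IsMulCommutative P)
    (hN : Nat.card (Subgroup.normalizer ((P : Subgroup G) : Set G)) = 4 * Nat.card P)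
    (hC : Nat.card (Subgroup.centralizer (P : Set G)) = 2 * Nat.card P)
    (hTI : Cfsg.IsTISubset (Subgroup.centralizer (P : Set G) : Set G))
    (heven : ∀ H : Subgroup G, H ≠ ⊤ → 2 ∣ Nat.card H → Nat.card H ∣ 4 * Nat.card P) :
    ¬ IsSimpleGroup G := by
  intro hsimple
  have h3 : Fact (Nat.Prime 3) := ⟨Nat.prime_three⟩
  have h2p : Fact (Nat.Prime 2) := ⟨Nat.prime_two⟩
  set C : Subgroup G := Subgroup.centralizer (P : Set G) with hCdef
  set N : Subgroup G := Subgroup.normalizer ((P : Subgroup G) : Set G) with hNdef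
  set n : ℕ := Nat.card P with hn
  have hnpos : 0 < n := Nat.card_pos
  obtain ⟨a, ha⟩ := IsPGroup.iff_card.1 P.isPGroup'
  have ha' : n = 3 ^ a := ha
  have hnodd : Nat.Coprime 2 n := by rw [ha']; exact Nat.Coprime.pow_right a (by norm_num)
  have hPcomm : ∀ x ∈ (P : Subgroup G), ∀ y ∈ (P : Subgroup G), x * y = y * x := by
    intro x hx y hy
    exact congrArg (Subtype.val) (isMulCommutative_iff.1 hab ⟨x, hx⟩ ⟨y, hy⟩)
  have hCmem : ∀ g, g ∈ C ↔ ∀ p ∈ (P : Subgroup G), p * g = g * p := by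
    intro g; exact Subgroup.mem_centralizer_iff
  have hNmem : ∀ g, g ∈ N ↔ ∀ h, h ∈ (P : Subgroup G) ↔ g * h * g⁻¹ ∈ (P : Subgroup G) := by
    intro g; exact Subgroup.mem_normalizer_iff
  have hPC : (P : Subgroup G) ≤ C := fun x hx => (hCmem x).2 (fun p hp => hPcomm p hp x hx)
  have hCN : C ≤ N := by
    intro g hg
    rw [hNmem]
    intro h
    have h1 := (hCmem g).1 hg
    constructor
    · intro hh
      rw [← h1 h hh, mul_inv_cancel_right]; exact hh
    · intro hh
      have h2 := h1 _ hh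
      have h4 : h = g * h * g⁻¹ := by
        have : g * h * g⁻¹ * g = g * (g * h * g⁻¹) := h2
        rw [inv_mul_cancel_right] at this
        exact mul_left_cancel this
      rw [h4]; exact hh
  -- not commutative
  have hnc : ¬ ∀ x y : G, x * y = y * x := by
    intro hcom
    have h1 : C = ⊤ := by
      rw [eq_top_iff]; intro x _; exact (hCmem x).2 (fun p _ => hcom p x)
    have h4 : N = ⊤ := top_le_iff.1 (h1 ▸ hCN)
    rw [h1] at hC
    rw [h4] at hN
    omega
  have hZ : ∀ z : G, (∀ x, z * x = x * z) → z = 1 := by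
    intro z hz
    by_contra hz1
    have h1 : z ∈ Subgroup.center G := Subgroup.mem_center_iff.2 (fun g => (hz g).symm)
    rcases hsimple.eq_bot_or_eq_top_of_normal (Subgroup.center G) inferInstance with h | h
    · rw [h] at h1; exact hz1 (Subgroup.mem_bot.1 h1)
    · apply hnc
      intro x y
      have : x ∈ Subgroup.center G := by rw [h]; trivial
      exact ((Subgroup.mem_center_iff.1 this y)).symm
  have hperf : commutator G = ⊤ := by
    rcases hsimple.eq_bot_or_eq_top_of_normal (commutator G) inferInstance with h | h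
    · exfalso; apply hnc
      intro x y
      have : ⁅x, y⁆ ∈ commutator G := Subgroup.commutator_mem_commutator (Subgroup.mem_top x) (Subgroup.mem_top y)
      rw [h, Subgroup.mem_bot, commutatorElement_eq_one_iff_mul_comm] at this
      exact this
    · exact h
  have ha1 : 1 ≤ a := by
    by_contra hcon
    have h0 : a = 0 := by omega
    rw [h0, pow_zero] at ha'
    have hPbot : (P : Subgroup G) = ⊥ := Subgroup.card_eq_one.1 (hn ▸ ha')
    have h1 : C = ⊤ := by
      rw [eq_top_iff]; intro x _; rw [hCmem, hPbot]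
      intro p hp; rw [Subgroup.mem_bot.1 hp]; simp
    have h4 : N = ⊤ := top_le_iff.1 (h1 ▸ hCN)
    rw [h1] at hC
    rw [h4] at hN
    omega
  -- index of P in C
  have hidx : ((P : Subgroup G).subgroupOf C).index = 2 := by
    have h1 : Nat.card ((P : Subgroup G).subgroupOf C) * ((P : Subgroup G).subgroupOf C).index = Nat.card C :=
      Subgroup.card_mul_index _
    have h4 : Nat.card ((P : Subgroup G).subgroupOf C) = n := Nat.card_congr (Subgroup.subgroupOfEquivOfLe hPC).toEquiv
    rw [h4, hC] at h1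
    have : n * ((P : Subgroup G).subgroupOf C).index = n * 2 := by rw [h1]; ring
    exact Nat.eq_of_mul_eq_mul_left hnpos this
  have hidx2 : (C.subgroupOf N).index = 2 := by
    have h1 : Nat.card (C.subgroupOf N) * (C.subgroupOf N).index = Nat.card N :=
      Subgroup.card_mul_index _
    have h4 : Nat.card (C.subgroupOf N) = 2 * n := by
      rw [Nat.card_congr (Subgroup.subgroupOfEquivOfLe hCN).toEquiv]; exact hC
    rw [h4, hN] at h1
    have : (2 * n) * (C.subgroupOf N).index = (2 * n) * 2 := by rw [h1]; ring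
    exact Nat.eq_of_mul_eq_mul_left (by positivity) this
  have hPmul : ∀ x ∈ C, ∀ y ∈ C, (x * y ∈ (P : Subgroup G) ↔ (x ∈ (P : Subgroup G) ↔ y ∈ (P : Subgroup G))) := by
    intro x hx y hy
    have := Subgroup.mul_mem_iff_of_index_two hidx (a := ⟨x, hx⟩) (b := ⟨y, hy⟩)
    simpa [Subgroup.mem_subgroupOf] using this
  have hCmul : ∀ x ∈ N, ∀ y ∈ N, (x * y ∈ C ↔ (x ∈ C ↔ y ∈ C)) := by
    intro x hx y hy
    have := Subgroup.mul_mem_iff_of_index_two hidx2 (a := ⟨x, hx⟩) (b := ⟨y, hy⟩)
    simpa [Subgroup.mem_subgroupOf] using this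
  have hPpow : ∀ x ∈ (P : Subgroup G), x ^ n = 1 := by
    intro x hx
    have h1 : (⟨x, hx⟩ : P) ^ Nat.card P = 1 := pow_card_eq_one'
    exact congrArg Subtype.val h1
  have hPsq : ∀ x ∈ (P : Subgroup G), x * x = 1 → x = 1 := by
    intro x hx hxx
    have h1 : orderOf x ∣ 2 := orderOf_dvd_of_pow_eq_one (by rw [pow_two]; exact hxx)
    have h4 : orderOf x ∣ n := orderOf_dvd_of_pow_eq_one (hPpow x hx)
    rw [← orderOf_eq_one_iff]
    exact Nat.eq_one_of_dvd_coprimes hnodd h1 h4
  -- the involution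
  obtain ⟨t', ht'⟩ := exists_prime_orderOf_dvd_card' (G := C) 2 (by rw [hC]; exact Dvd.intro _ rfl)
  obtain ⟨t, htC⟩ := t'
  have htt : t * t = 1 := by
    have h1 := pow_orderOf_eq_one (⟨t, htC⟩ : C)
    rw [ht', pow_two] at h1
    exact congrArg Subtype.val h1
  have ht1 : t ≠ 1 := by
    intro h
    have : (⟨t, htC⟩ : C) = 1 := Subtype.ext h
    rw [this, orderOf_one] at ht'
    norm_num at ht'
  have htinv : t⁻¹ = t := inv_eq_of_mul_eq_one_left htt
  have htP : t ∉ (P : Subgroup G) := fun h => ht1 (hPsq t h htt)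
  have hdecomp : ∀ c ∈ C, c ∉ (P : Subgroup G) → t * c ∈ (P : Subgroup G) := by
    intro c hc hcP
    rw [hPmul t htC c hc]
    exact ⟨fun h => absurd h htP, fun h => absurd h hcP⟩
  have htc : ∀ c ∈ C, t * c = c * t := by
    intro c hc
    by_cases hcP : c ∈ (P : Subgroup G)
    · exact ((hCmem t).1 htC c hcP).symm
    · have h1 := (hCmem t).1 htC _ (hdecomp c hc hcP)
      -- (t c) t = t (t c)
      have : t * (c * t) = t * (t * c) := by rw [← mul_assoc]; exact h1
      exact (mul_left_cancel this).symm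
  have hcomm : ∀ x ∈ C, ∀ y ∈ C, x * y = y * x := by
    intro x hx y hy
    by_cases hxP : x ∈ (P : Subgroup G)
    · exact (hCmem y).1 hy x hxP
    · have h1 := (hCmem y).1 hy _ (hdecomp x hx hxP)
      have h4 : t * (x * y) = t * (y * x) := by
        calc t * (x * y) = (t * x) * y := by rw [mul_assoc]
          _ = y * (t * x) := h1
          _ = (y * t) * x := by rw [mul_assoc]
          _ = (t * y) * x := by rw [htc y hy]
          _ = t * (y * x) := by rw [mul_assoc]
      exact mul_left_cancel h4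
  have huniq : ∀ c ∈ C, c * c = 1 → c = 1 ∨ c = t := by
    intro c hc hcc
    by_cases hcP : c ∈ (P : Subgroup G)
    · left; exact hPsq c hcP hcc
    · right
      have h1 : (t * c) * (t * c) = 1 := by
        have : (t * c) * (t * c) = (t * t) * (c * c) := by
          calc (t * c) * (t * c) = t * (c * t) * c := by group
            _ = t * (t * c) * c := by rw [htc c hc]
            _ = (t * t) * (c * c) := by group
        rw [this, htt, hcc, one_mul]
      have h4 := hPsq _ (hdecomp c hc hcP) h1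
      rw [← htinv]; exact (inv_eq_of_mul_eq_one_right h4).symm
  have hnorm : ∀ g ∈ N, ∀ x ∈ C, g * x * g⁻¹ ∈ C := by
    intro g hg x hx
    rw [hCmem]
    intro p hp
    have h1 : g⁻¹ * p * g ∈ (P : Subgroup G) := by
      rw [(hNmem g).1 hg]
      have : g * (g⁻¹ * p * g) * g⁻¹ = p := by group
      rw [this]; exact hp
    have h4 := (hCmem x).1 hx _ h1
    calc p * (g * x * g⁻¹) = g * ((g⁻¹ * p * g) * x) * g⁻¹ := by group
      _ = g * (x * (g⁻¹ * p * g)) * g⁻¹ := by rw [h4]
      _ = g * x * g⁻¹ * p := by group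
  have htn : t ^ n = t := by
    obtain ⟨k, hk⟩ : Odd n := Nat.coprime_two_left.1 hnodd
    rw [hk, pow_succ, pow_mul, pow_two, htt, one_pow, one_mul]
  have hPchar : ∀ c ∈ C, c ^ n = 1 → c ∈ (P : Subgroup G) := by
    intro c hc hcn
    by_contra hcP
    have h1 := hPpow _ (hdecomp c hc hcP)
    have h4 : (t * c) ^ n = t ^ n * c ^ n := by
      have : Commute t c := htc c hc
      exact this.mul_pow n
    rw [h4, htn, hcn, mul_one] at h1
    exact ht1 h1
  have hNC : ∀ g, g ∈ Subgroup.normalizer (C : Set G) → g ∈ N := by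
    intro g hg
    have h1 := Subgroup.mem_normalizer_iff.1 hg
    rw [hNmem]
    intro h
    constructor
    · intro hh
      apply hPchar _ ((h1 h).1 (hPC hh))
      rw [conj_pow, hPpow h hh]; group
    · intro hh
      apply hPchar _ ((h1 h).2 (hPC hh))
      have h4 := hPpow _ hh
      rw [conj_pow] at h4
      have : h ^ n = g⁻¹ * (g * h ^ n * g⁻¹) * g := by group
      rw [this, h4]; group
  have hTI' : ∀ g x, x ∈ C → g * x * g⁻¹ ∈ C → x ≠ 1 → g ∈ N := by
    intro g x hx hgx hx1
    apply hNC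
    by_contra hcon
    exact hx1 (hTI g hcon x hx hgx)
  -- N inverts C
  have hinvt : ∀ s ∈ N, s * t * s⁻¹ = t := by
    intro s hs
    rcases huniq _ (hnorm s hs t htC) (by
      have : s * t * s⁻¹ * (s * t * s⁻¹) = s * (t * t) * s⁻¹ := by group
      rw [this, htt]; group) with h | h
    · exfalso; apply ht1
      have : t = s⁻¹ * (s * t * s⁻¹) * s := by group
      rw [this, h]; group
    · exact h
  have hinvP : ∀ s ∈ N, s ∉ C → ∀ p ∈ (P : Subgroup G), s * p * s⁻¹ = p⁻¹ := by
    intro s hs hsC p hp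
    have hsp : s * p * s⁻¹ ∈ (P : Subgroup G) := ((hNmem s).1 hs p).1 hp
    have hy : p * (s * p * s⁻¹) ∈ (P : Subgroup G) := (P : Subgroup G).mul_mem hp hsp
    have hss : s * s ∈ C := by rw [hCmul s hs s hs]
    have hsy : s * (p * (s * p * s⁻¹)) * s⁻¹ = p * (s * p * s⁻¹) := by
      have h1 := (hCmem (s * s)).1 hss p hp
      calc s * (p * (s * p * s⁻¹)) * s⁻¹ = (s * p * s⁻¹) * ((s * s) * p * (s * s)⁻¹) := by group
        _ = (s * p * s⁻¹) * p := by rw [← h1, mul_inv_cancel_right]
        _ = p * (s * p * s⁻¹) := hPcomm _ hsp p hp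
    have h4 : p * (s * p * s⁻¹) = 1 := by
      apply H2.eq_one_of_central_normalizer P hab hy
      · intro m hm
        have hcy : ∀ c ∈ C, c * (p * (s * p * s⁻¹)) * c⁻¹ = p * (s * p * s⁻¹) := by
          intro c hc
          rw [← (hCmem c).1 hc _ hy, mul_inv_cancel_right]
        by_cases hmC : m ∈ C
        · exact hcy m hmC
        · have hmN : m ∈ N := hm
          have h5 : s⁻¹ * m ∈ C := by
            rw [hCmul _ (N.inv_mem hs) _ hmN]
            constructor
            · intro h; exact absurd ((C.inv_mem_iff).1 h) hsC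
            · intro h; exact absurd h hmC
          have h6 := hcy _ h5
          calc m * (p * (s * p * s⁻¹)) * m⁻¹ = s * ((s⁻¹ * m) * (p * (s * p * s⁻¹)) * (s⁻¹ * m)⁻¹) * s⁻¹ := by group
            _ = s * (p * (s * p * s⁻¹)) * s⁻¹ := by rw [h6]
            _ = _ := hsy
      · rw [hperf]; trivial
    exact eq_inv_of_mul_eq_one_right h4
  have hinv : ∀ s ∈ N, s ∉ C → ∀ c ∈ C, s * c * s⁻¹ = c⁻¹ := by
    intro s hs hsC c hc
    by_cases hcP : c ∈ (P : Subgroup G)
    · exact hinvP s hs hsC c hcP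
    · have h1 := hinvP s hs hsC _ (hdecomp c hc hcP)
      have h4 : s * (t * c) * s⁻¹ = t * (s * c * s⁻¹) := by
        calc s * (t * c) * s⁻¹ = (s * t * s⁻¹) * (s * c * s⁻¹) := by group
          _ = _ := by rw [hinvt s hs]
      rw [h4, mul_inv_rev, htinv] at h1
      have h5 : c⁻¹ * t = t * c⁻¹ := (htc c⁻¹ (C.inv_mem hc)).symm
      rw [h5] at h1
      exact mul_left_cancel h1
  -- Sylow 2-subgroups
  obtain ⟨S⟩ : Nonempty (Sylow 2 G) := inferInstance
  have h4G : 4 ∣ Nat.card G := dvd_trans (Dvd.intro _ rfl) (hN ▸ Subgroup.card_subgroup_dvd_card N)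
  have h4S : 2 ^ 2 ∣ Nat.card S := S.pow_dvd_card_of_pow_dvd_card (by norm_num; exact h4G)
  have hSne : (S : Subgroup G) ≠ ⊤ := by
    intro h
    obtain ⟨b, hb⟩ := IsPGroup.iff_card.1 S.isPGroup'
    have h1 : Nat.card (S : Subgroup G) = Nat.card G := by rw [h]; exact Subgroup.card_top
    have h5 : n ∣ Nat.card G := Subgroup.card_subgroup_dvd_card (P : Subgroup G)
    have h6 : Nat.card (S : Subgroup G) = 2 ^ b := hb
    rw [← h1, h6] at h5
    have h7 : n = 1 := Nat.eq_one_of_dvd_coprimes (Nat.Coprime.pow_left b hnodd) h5 dvd_rfl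
    rw [ha'] at h7
    have : 3 ^ 1 ≤ 3 ^ a := Nat.pow_le_pow_right (by norm_num) ha1
    omega
  have hS4 : Nat.card S = 4 := by
    have h1 := heven S hSne (dvd_trans (by norm_num) h4S)
    have h5 : Nat.Coprime (Nat.card (S : Subgroup G)) n := by
      obtain ⟨b, hb⟩ := IsPGroup.iff_card.1 S.isPGroup'
      have h6 : Nat.card (S : Subgroup G) = 2 ^ b := hb
      rw [h6]; exact Nat.Coprime.pow_left b hnodd
    have h6 : Nat.card (S : Subgroup G) ∣ 4 := h5.dvd_of_dvd_mul_right h1
    exact Nat.dvd_antisymm h6 (by norm_num at h4S; exact h4S)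
  obtain ⟨helem, hconjall⟩ := H2.sylow_two_order_four S hS4 hperf
  have hsq : ∀ s ∈ N, s ∉ C → s * s = 1 := by
    intro s hs hsC
    have hss : s * s ∈ C := by rw [hCmul s hs s hs]
    have h1 := hinv s hs hsC _ hss
    have h5 : s * (s * s) * s⁻¹ = s * s := by group
    rw [h5] at h1
    have h6 : (s * s) * (s * s) = 1 := by
      nth_rewrite 1 [h1]; exact inv_mul_cancel _
    -- s has order dividing 4
    have h7 : IsPGroup 2 (Subgroup.zpowers s) := by
      rw [IsPGroup.iff_card]
      have : orderOf s ∣ 2 ^ 2 := orderOf_dvd_of_pow_eq_one (by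
        have : s ^ 2 ^ 2 = (s * s) * (s * s) := by rw [show (2 ^ 2 : ℕ) = 2 * 2 by norm_num, pow_mul, pow_two, pow_two]
        rw [this, h6])
      obtain ⟨k, _, hk⟩ := (Nat.dvd_prime_pow Nat.prime_two).1 this
      exact ⟨k, by rw [Nat.card_zpowers]; exact hk⟩
    obtain ⟨Q, hQ⟩ := h7.exists_le_sylow
    obtain ⟨g, hg⟩ := MulAction.exists_smul_eq G Q S
    have hsQ : s ∈ Q := hQ (Subgroup.mem_zpowers s)
    have h8 : g * s * g⁻¹ ∈ (S : Subgroup G) := by
      rw [← hg, Sylow.coe_subgroup_smul]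
      exact ⟨s, hsQ, rfl⟩
    have h9 := helem _ h8
    have : s * s = g⁻¹ * (g * s * g⁻¹ * (g * s * g⁻¹)) * g := by group
    rw [this, h9]; group
  -- products of two involutions
  have hprod : ∀ u v : G, u * u = 1 → v * v = 1 → u ≠ v → u ≠ 1 → v ≠ 1 → ∃ g, g * (u * v) * g⁻¹ ∈ C := by
    intro u v hu hv huv hu1 hv1
    set x := u * v with hx
    have huinv : u⁻¹ = u := inv_eq_of_mul_eq_one_left hu
    have hvinv : v⁻¹ = v := inv_eq_of_mul_eq_one_left hv
    have hx1 : x ≠ 1 := by
      intro h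
      apply huv
      have := eq_inv_of_mul_eq_one_left h
      rw [this, hvinv]
    have hux : u * x * u⁻¹ = x⁻¹ := by
      rw [hx, mul_inv_rev, hvinv, huinv]
      calc u * (u * v) * u = (u * u) * v * u := by group
        _ = v * u := by rw [hu, one_mul]
    have hvx : v * x * v⁻¹ = x⁻¹ := by
      rw [hx, mul_inv_rev, hvinv, huinv]
      calc v * (u * v) * v = v * u * (v * v) := by group
        _ = v * u := by rw [hv, mul_one]
    let D : Subgroup G := Subgroup.closure {u, v}
    have huD : u ∈ D := Subgroup.subset_closure (by simp)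
    have hvD : v ∈ D := Subgroup.subset_closure (by simp)
    have hDne : D ≠ ⊤ := by
      intro h
      have hnormal : (Subgroup.zpowers x).Normal := by
        have h1 : D ≤ Subgroup.normalizer (Subgroup.zpowers x : Set G) := by
          rw [Subgroup.closure_le]
          rintro w (rfl | rfl)
          · exact mem_normalizer_zpowers hux
          · exact mem_normalizer_zpowers hvx
        rw [h] at h1
        exact Subgroup.normalizer_eq_top_iff.1 (top_le_iff.1 h1)
      rcases hsimple.eq_bot_or_eq_top_of_normal _ hnormal with h1 | h1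
      · exact hx1 (Subgroup.zpowers_eq_bot.1 h1)
      · apply hnc
        intro y z
        have hy : y ∈ Subgroup.zpowers x := by rw [h1]; trivial
        have hz : z ∈ Subgroup.zpowers x := by rw [h1]; trivial
        obtain ⟨i, rfl⟩ := Subgroup.mem_zpowers_iff.1 hy
        obtain ⟨j, rfl⟩ := Subgroup.mem_zpowers_iff.1 hz
        rw [← zpow_add, ← zpow_add, add_comm]
    have h2D : 2 ∣ Nat.card D := by
      have h1 : orderOf u = 2 := orderOf_eq_prime (by rw [pow_two]; exact hu) hu1
      have h5 : orderOf (⟨u, huD⟩ : D) = 2 := by rw [← h1]; exact Subgroup.orderOf_mk u huD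
      rw [← h5]; exact orderOf_dvd_natCard _
    have hDcard := heven D hDne h2D
    have hox : orderOf x ∣ 4 * n := by
      have h5 : orderOf (⟨x, D.mul_mem huD hvD⟩ : D) = orderOf x := Subgroup.orderOf_mk x _
      rw [← h5]
      exact dvd_trans (orderOf_dvd_natCard _) hDcard
    by_cases hev : 2 ∣ orderOf x
    · -- power of x is an involution
      obtain ⟨k, hk⟩ := hev
      have hkpos : 0 < k := by
        rcases Nat.eq_zero_or_pos k with h | h
        · rw [h, mul_zero] at hk; exact absurd hk (orderOf_pos x).ne'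
        · exact h
      have hw1 : x ^ k ≠ 1 := by
        intro h
        have := Nat.le_of_dvd hkpos (orderOf_dvd_of_pow_eq_one h)
        omega
      have hww : x ^ k * x ^ k = 1 := by
        rw [← pow_add, ← two_mul, ← hk]; exact pow_orderOf_eq_one x
      obtain ⟨g, hg⟩ := isConj_iff.1 (hconjall _ t hww hw1 htt ht1)
      have hxN : g * x * g⁻¹ ∈ N := by
        apply hTI' _ t htC _ ht1
        have h5 : (g * x * g⁻¹) * t * (g * x * g⁻¹)⁻¹ = t := by
          rw [← hg]
          have : g * x * g⁻¹ * (g * x ^ k * g⁻¹) * (g * x * g⁻¹)⁻¹ = g * (x * x ^ k * x⁻¹) * g⁻¹ := by group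
          rw [this, ← pow_succ', pow_succ, mul_inv_cancel_right]
        rw [h5]; exact htC
      by_cases hxC : g * x * g⁻¹ ∈ C
      · exact ⟨g, hxC⟩
      · have h6 := hsq _ hxN hxC
        have h7 : g * x * g⁻¹ ≠ 1 := by
          intro h; apply hxC; rw [h]; exact C.one_mem
        obtain ⟨g', hg'⟩ := isConj_iff.1 (hconjall _ t h6 h7 htt ht1)
        refine ⟨g' * g, ?_⟩
        have : g' * g * x * (g' * g)⁻¹ = g' * (g * x * g⁻¹) * g'⁻¹ := by group
        rw [this, hg']; exact htC
    · -- x is a 3-element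
      have h5 : Nat.Coprime (orderOf x) 4 := by
        have : Nat.Coprime (orderOf x) 2 := (Nat.Prime.coprime_iff_not_dvd Nat.prime_two).2 hev |>.symm
        rw [show (4 : ℕ) = 2 ^ 2 by norm_num]
        exact Nat.Coprime.pow_right 2 this
      have h6 : orderOf x ∣ n := h5.dvd_of_dvd_mul_left hox
      have h7 : IsPGroup 3 (Subgroup.zpowers x) := by
        rw [IsPGroup.iff_card]
        rw [ha'] at h6
        obtain ⟨k, _, hk⟩ := (Nat.dvd_prime_pow Nat.prime_three).1 h6
        exact ⟨k, by rw [Nat.card_zpowers]; exact hk⟩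
      obtain ⟨Q, hQ⟩ := h7.exists_le_sylow
      obtain ⟨g, hg⟩ := MulAction.exists_smul_eq G Q P
      have hxQ : x ∈ Q := hQ (Subgroup.mem_zpowers x)
      refine ⟨g, hPC ?_⟩
      rw [← hg, Sylow.coe_subgroup_smul]
      exact ⟨x, hxQ, rfl⟩
  -- the linear character
  obtain ⟨p, hpP, hp1⟩ : ∃ p ∈ (P : Subgroup G), p ≠ 1 := by
    by_contra hcon
    push Not at hcon
    have h1 : (P : Subgroup G) = ⊥ := by
      rw [eq_bot_iff]; intro x hx; exact Subgroup.mem_bot.2 (hcon x hx)
    have h5 : n = 1 := by rw [hn]; exact Subgroup.card_eq_one.2 h1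
    rw [ha'] at h5
    have : 3 ^ 1 ≤ 3 ^ a := Nat.pow_le_pow_right (by norm_num) ha1
    omega
  letI : CommGroup C := { (inferInstance : Group C) with mul_comm := fun x y => Subtype.ext (hcomm x x.2 y y.2) }
  have : NeZero (Monoid.exponent C : ℂ) := by
    refine ⟨?_⟩
    exact_mod_cast (Monoid.exponent_ne_zero_of_finite (G := C))
  have : NeZero (Monoid.exponent C) := ⟨Monoid.exponent_ne_zero_of_finite (G := C)⟩
  obtain ⟨μ, hμ⟩ := CommGroup.exists_apply_ne_one_of_hasEnoughRootsOfUnity C ℂ (a := ⟨p, hPC hpP⟩)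
    (fun h => hp1 (congrArg Subtype.val h))
  have hμn : μ ⟨p, hPC hpP⟩ ^ n = 1 := by
    rw [← map_pow]
    have : (⟨p, hPC hpP⟩ : C) ^ n = 1 := Subtype.ext (hPpow p hpP)
    rw [this, map_one]
  have hμ2 : μ ⟨p, hPC hpP⟩ ^ 2 ≠ 1 := by
    intro h
    apply hμ
    have h1 : orderOf (μ ⟨p, hPC hpP⟩) ∣ 2 := orderOf_dvd_of_pow_eq_one h
    have h5 : orderOf (μ ⟨p, hPC hpP⟩) ∣ n := orderOf_dvd_of_pow_eq_one hμn
    rw [← orderOf_eq_one_iff]
    exact Nat.eq_one_of_dvd_coprimes hnodd h1 h5
  have hμ4 : μ ⟨p, hPC hpP⟩ ^ 4 ≠ 1 := by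
    intro h
    apply hμ
    have h1 : orderOf (μ ⟨p, hPC hpP⟩) ∣ 4 := orderOf_dvd_of_pow_eq_one h
    have h5 : orderOf (μ ⟨p, hPC hpP⟩) ∣ n := orderOf_dvd_of_pow_eq_one hμn
    rw [← orderOf_eq_one_iff]
    exact Nat.eq_one_of_dvd_coprimes (show Nat.Coprime 4 n by
      rw [show (4 : ℕ) = 2 ^ 2 by norm_num]; exact Nat.Coprime.pow_left 2 hnodd) h1 h5
  let lam : C →* ℂˣ := (powMonoidHom 2).comp μ
  have hlam : ∀ c, lam c = μ c ^ 2 := fun c => rfl
  refine H2.stage2 C t htC ht1 htt hcomm N hCN (by rw [hN, hC]; ring) hTI' hnorm hinv hsq huniq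
    (fun u hu hu1 => hconjall t u htt ht1 hu hu1) hprod lam ?_ ?_ ?_ a ha1 (by rw [hC, ha'])
  · rw [hlam, ← map_pow]
    have : (⟨t, htC⟩ : C) ^ 2 = 1 := Subtype.ext (by rw [Subgroup.coe_pow, pow_two]; exact htt)
    rw [this, map_one]
  · intro h
    apply hμ2
    rw [← hlam, h]; rfl
  · intro h
    apply hμ4
    have h1 : lam ⟨p, hPC hpP⟩ = (lam ⟨p, hPC hpP⟩)⁻¹ := by
      have := congrArg (fun f : C →* ℂˣ => f ⟨p, hPC hpP⟩) h
      exact this
    rw [hlam] at h1
    have h5 : μ ⟨p, hPC hpP⟩ ^ 4 = μ ⟨p, hPC hpP⟩ ^ 2 * μ ⟨p, hPC hpP⟩ ^ 2 := by rw [← pow_add]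
    rw [h5]
    nth_rewrite 1 [h1]
    exact inv_mul_cancel _

end Cfsg.Agent.S4018
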