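import Cfsg.Statements.S4113
import Mathlib
import Cfsg.Agent.H3.Basic

set_option autoImplicit false
open Cfsg

namespace Cfsg.Agent.S4113

open Subgroup Cfsg.Agent.H3

theorem mem_map_conj {G : Type*} [Group G] (H : Subgroup G) (g x : G) :
    x ∈ H.map (MulAut.conj g).toMonoidHom ↔ g⁻¹ * x * g ∈ H := by
  constructor
  · rintro ⟨y, hy, rfl⟩
    have : g⁻¹ * (MulAut.conj g).toMonoidHom y * g = y := by
      show g⁻¹ * (g * y * g⁻¹) * g = y
      group
    rw [this]; exact hy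
  · intro h
    refine ⟨_, h, ?_⟩
    show g * (g⁻¹ * x * g) * g⁻¹ = x
    group

theorem exists_conj {G : Type*} [Group G] [Finite G] (N H : Subgroup G) [N.Normal] (hHN : H ⊔ N = ⊤)
    (h : ∀ g : G, g ∉ H → H ⊓ H.map (MulAut.conj g).toMonoidHom ≤ N) (y : G) (hy : y ∉ N) :
    ∃ g : G, ∃ h ∈ H, g * h * g⁻¹ = y := by
  classical
  set A : Set G := (H : Set G) \ ((H ⊓ N : Subgroup G) : Set G) with hA
  set B : Set G := ((N : Set G))ᶜ with hB
  have hAmem : ∀ a : A, (a : G) ∈ H ∧ (a : G) ∉ N := by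
    rintro ⟨a, ha, hb⟩
    exact ⟨ha, fun hN => hb (mem_inf.mpr ⟨ha, hN⟩)⟩
  let Φ : (G ⧸ H) × A → B := fun x => ⟨x.1.out * (x.2 : G) * x.1.out⁻¹, by
    intro hN
    have h1 := (‹N.Normal›).conj_mem _ hN (x.1.out⁻¹)
    have h2 : x.1.out⁻¹ * (x.1.out * (x.2 : G) * x.1.out⁻¹) * x.1.out⁻¹⁻¹ = x.2 := by group
    rw [h2] at h1
    exact (hAmem x.2).2 h1⟩
  have hinj : Function.Injective Φ := by
    rintro ⟨q, a⟩ ⟨q', a'⟩ hqq
    have h1 : q.out * (a : G) * q.out⁻¹ = q'.out * (a' : G) * q'.out⁻¹ := congrArg Subtype.val hqq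
    have h2 : q.out⁻¹ * q'.out ∈ H := by
      by_contra hcon
      apply (hAmem a).2
      apply h _ hcon
      refine mem_inf.mpr ⟨(hAmem a).1, ?_⟩
      rw [mem_map_conj]
      have h3 : (q.out⁻¹ * q'.out)⁻¹ * (a : G) * (q.out⁻¹ * q'.out) = a' := by
        have : (q.out⁻¹ * q'.out)⁻¹ * (a : G) * (q.out⁻¹ * q'.out) = q'.out⁻¹ * (q.out * (a : G) * q.out⁻¹) * q'.out := by group
        rw [this, h1]; group
      rw [h3]
      exact (hAmem a').1
    have h4 : q = q' := by
      rw [← QuotientGroup.eq, QuotientGroup.out_eq', QuotientGroup.out_eq'] at h2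
      exact h2
    subst h4
    have h5 : (a : G) = a' := by simpa using h1
    rw [Subtype.ext h5]
  have hcard : Nat.card B ≤ Nat.card ((G ⧸ H) × A) := by
    rw [Nat.card_prod]
    have e1 : N.index = N.relIndex H := by
      have := Subgroup.relIndex_sup_right H N
      rw [hHN, Subgroup.relIndex_top_right] at this
      exact this
    have e2 : N.relIndex H * Nat.card (N ⊓ H : Subgroup G) = Nat.card H := relIndex_mul_card_inf N H
    have e3 := N.card_mul_index
    have e4 := H.card_mul_index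
    have e5 : Nat.card A + Nat.card (H ⊓ N : Subgroup G) = Nat.card H := by
      have := Set.ncard_sdiff_add_ncard_of_subset (s := ((H ⊓ N : Subgroup G) : Set G)) (t := (H : Set G))
        (fun x hx => (mem_inf.mp hx).1) (Set.toFinite _)
      rw [← Nat.card_coe_set_eq, ← Nat.card_coe_set_eq, ← Nat.card_coe_set_eq] at this
      exact this
    have e6 : Nat.card B + Nat.card N = Nat.card G := by
      have := Set.ncard_add_ncard_compl (N : Set G) (Set.toFinite _) (Set.toFinite _)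
      rw [← Nat.card_coe_set_eq, ← Nat.card_coe_set_eq] at this
      rw [add_comm]; exact this
    have e7 : H.index = Nat.card (G ⧸ H) := rfl
    rw [inf_comm] at e5
    rw [← e7]
    -- |N| = index H * |N ⊓ H|
    have e8 : Nat.card N = H.index * Nat.card (N ⊓ H : Subgroup G) := by
      have hpos : 0 < N.index := Nat.pos_of_ne_zero index_ne_zero_of_finite
      apply Nat.eq_of_mul_eq_mul_right hpos
      rw [e3, ← e4, ← e2, e1]; ring
    have e9 : H.index * Nat.card A + Nat.card N = Nat.card B + Nat.card N := by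
      rw [e6, e8, ← mul_add, e5, ← e4]; ring
    omega
  have hbij := hinj.bijective_of_nat_card_le hcard
  obtain ⟨⟨q, a⟩, hx⟩ := hbij.2 ⟨y, hy⟩
  exact ⟨q.out, a, (hAmem a).1, congrArg Subtype.val hx⟩

/-- Let G be a finite group, M ≤ N non-trivial proper normal subgroups, and H a subgroup with HM = G and H ∩ M = 1. Then every element of G outside N acts fixed-point-freely on M (C_G(x) ≤ N for every x ∈ M, x ≠ 1) if and only if H ∩ gHg⁻¹ ≤ H ∩ N for every g outside H, with H proper and non-trivial and H ∩ N proper in H. -/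
theorem result {G : Type*} [Group G] [Finite G] (N M : Subgroup G) [N.Normal] [M.Normal] (hMN : M ≤ N) (hM1 : M ≠ ⊥) (hN2 : N ≠ ⊤)
    (H : Subgroup G) (hHM : H ⊔ M = ⊤) (hHM' : H ⊓ M = ⊥) :
    (∀ x ∈ M, x ≠ 1 → Subgroup.centralizer ({x} : Set G) ≤ N) ↔
      (H ≠ ⊥ ∧ H ≠ ⊤ ∧ H ⊓ N < H ∧ ∀ g : G, g ∉ H → H ⊓ H.map (MulAut.conj g).toMonoidHom ≤ N) := by
  constructor
  · intro hC
    refine ⟨?_, ?_, ?_, ?_⟩
    · rintro rfl
      rw [bot_sup_eq] at hHM
      exact hN2 (top_le_iff.mp (hHM ▸ hMN))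
    · rintro rfl
      rw [top_inf_eq] at hHM'
      exact hM1 hHM'
    · refine lt_of_le_of_ne inf_le_left ?_
      intro h
      have h1 : H ≤ N := by rw [← h]; exact inf_le_right
      exact hN2 (top_le_iff.mp (hHM ▸ sup_le h1 hMN))
    · intro g hg y hy
      obtain ⟨hyH, hy2⟩ := mem_inf.mp hy
      rw [mem_map_conj] at hy2
      have hgtop : g ∈ M ⊔ H := by rw [sup_comm, hHM]; trivial
      obtain ⟨m, hm, h, hh, rfl⟩ := Subgroup.mem_sup_of_normal_left.mp hgtop
      have hm1 : m ≠ 1 := by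
        rintro rfl
        rw [one_mul] at hg
        exact hg hh
      -- h' := m⁻¹ y m ∈ H
      have h1 : m⁻¹ * y * m ∈ H := by
        have h2 := H.mul_mem (H.mul_mem hh hy2) (H.inv_mem hh)
        have h3 : h * ((m * h)⁻¹ * y * (m * h)) * h⁻¹ = m⁻¹ * y * m := by group
        rw [h3] at h2
        exact h2
      have h2 : y⁻¹ * (m⁻¹ * y * m) ∈ H ⊓ M := by
        refine mem_inf.mpr ⟨H.mul_mem (H.inv_mem hyH) h1, ?_⟩
        have h3 : y⁻¹ * (m⁻¹ * y * m) = (y⁻¹ * m⁻¹ * y⁻¹⁻¹) * m := by group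
        rw [h3]
        exact M.mul_mem ((‹M.Normal›).conj_mem _ (M.inv_mem hm) _) hm
      rw [hHM', Subgroup.mem_bot] at h2
      apply hC m hm hm1
      refine Subgroup.mem_centralizer_singleton_iff.mpr ?_
      have h4 : m⁻¹ * y * m = y := (inv_mul_eq_one.mp h2).symm
      calc y * m = m * (m⁻¹ * y * m) := by group
        _ = m * y := by rw [h4]
  · rintro ⟨-, -, -, hF⟩ x hx hx1 y hy
    by_contra hyN
    have hHN : H ⊔ N = ⊤ := top_le_iff.mp (hHM ▸ sup_le_sup_left hMN H)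
    obtain ⟨g, h, hh, rfl⟩ := exists_conj N H hHN hF y hyN
    have hx' : g⁻¹ * x * g ∈ M := by
      have := (‹M.Normal›).conj_mem _ hx g⁻¹
      rwa [inv_inv] at this
    have hx'H : g⁻¹ * x * g ∉ H := by
      intro hcon
      have h1 : g⁻¹ * x * g ∈ H ⊓ M := mem_inf.mpr ⟨hcon, hx'⟩
      rw [hHM', Subgroup.mem_bot] at h1
      apply hx1
      have : x = g * (g⁻¹ * x * g) * g⁻¹ := by group
      rw [this, h1]; group
    have hcomm := Subgroup.mem_centralizer_singleton_iff.mp hy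
    have h2 : h ∈ H ⊓ H.map (MulAut.conj (g⁻¹ * x * g)).toMonoidHom := by
      refine mem_inf.mpr ⟨hh, ?_⟩
      rw [mem_map_conj]
      have h3 : (g⁻¹ * x * g)⁻¹ * h * (g⁻¹ * x * g) = g⁻¹ * (x⁻¹ * ((g * h * g⁻¹) * x)) * g := by group
      rw [h3, hcomm]
      have h4 : g⁻¹ * (x⁻¹ * (x * (g * h * g⁻¹))) * g = h := by group
      rw [h4]; exact hh
    have h3 := hF _ hx'H h2
    exact hyN ((‹N.Normal›).conj_mem _ h3 g)

end Cfsg.Agent.S4113
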