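import Cfsg.Statements.S4115
import Mathlib
import Cfsg.Agent.H3.TIHall
import Cfsg.Agent.H3.FrobStr
import Cfsg.Agent.S0038
import Cfsg.Agent.H1.Coprime3

set_option autoImplicit false
universe u
open Cfsg

namespace Cfsg.Agent.S4115

open Subgroup H3 Pointwise

/-- a complement all of whose elements lie in conjugates of `H` is a conjugate of `H` -/
theorem le_conj {G : Type u} [Group G] [Finite G] (H N : Subgroup G)
    (hTI : ∀ g : G, g ∉ N → ∀ x ∈ H, g * x * g⁻¹ ∈ H → x = 1)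
    (X : Subgroup G) (hXb : X ≠ ⊥) (hX : ∀ x ∈ X, ∃ g : G, g⁻¹ * x * g ∈ H)
    (hNX : ∀ x ∈ X, ∀ g : G, g⁻¹ * x * g ∈ N → g⁻¹ * x * g ∈ H) :
    ∃ g : G, ∀ x ∈ X, g⁻¹ * x * g ∈ H := by
  classical
  by_contra hcon
  push Not at hcon
  -- components
  let B : G → Subgroup X := fun g => ((H.map (MulAut.conj g).toMonoidHom).subgroupOf X)
  have hB : ∀ (g : G) (x : X), x ∈ B g ↔ g⁻¹ * x * g ∈ H := by
    intro g x
    rw [Subgroup.mem_subgroupOf]
    constructor
    · rintro ⟨h, hh, he⟩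
      have : g⁻¹ * (x : G) * g = h := by
        rw [← he]
        show g⁻¹ * (g * h * g⁻¹) * g = h
        group
      rw [this]; exact hh
    · intro h
      refine ⟨_, h, ?_⟩
      show g * (g⁻¹ * x * g) * g⁻¹ = x
      group
  have hfrob : ∀ g : G, B g ≠ ⊥ → IsFrobeniusComplement (B g) := by
    intro g hg
    rw [isFrobeniusComplement_iff]
    refine ⟨hg, ?_, ?_⟩
    · intro ht
      obtain ⟨x, hx, hxg⟩ := hcon g
      apply hxg
      have : (⟨x, hx⟩ : X) ∈ B g := by rw [ht]; trivial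
      exact (hB g _).mp this
    · intro x hx b hb hbx
      by_contra hb1
      apply hx
      rw [hB] at hb hbx ⊢
      apply hNX x x.2 g
      by_contra hxN
      have h1 := hTI (g⁻¹ * x * g) hxN (g⁻¹ * ((x⁻¹ * b * x : X) : G) * g) hbx (by
        have : g⁻¹ * (x : G) * g * (g⁻¹ * ((x⁻¹ * b * x : X) : G) * g) * (g⁻¹ * (x : G) * g)⁻¹ = g⁻¹ * b * g := by
          push_cast; group
        rw [this]; exact hb)
      apply hb1
      apply Subtype.ext
      have h2 : ((x⁻¹ * b * x : X) : G) = 1 := by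
        have : ((x⁻¹ * b * x : X) : G) = g * (g⁻¹ * ((x⁻¹ * b * x : X) : G) * g) * g⁻¹ := by group
        rw [this, h1]; group
      have h3 : x⁻¹ * b * x = 1 := Subtype.ext h2
      have h4 : b = x * (x⁻¹ * b * x) * x⁻¹ := by group
      rw [h4, h3]; simp
  obtain ⟨x0, hx0, hx01⟩ : ∃ x ∈ X, x ≠ 1 := by
    by_contra hc
    push Not at hc
    exact hXb ((Subgroup.eq_bot_iff_forall _).mpr hc)
  obtain ⟨g0, hg0⟩ := hX x0 hx0
  have hB0 : B g0 ≠ ⊥ := by
    intro h
    have : (⟨x0, hx0⟩ : X) ∈ B g0 := (hB g0 _).mpr hg0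
    rw [h, Subgroup.mem_bot] at this
    exact hx01 (congrArg Subtype.val this)
  have hF0 := hfrob g0 hB0
  obtain ⟨K, hK, hKn, hKc⟩ := frobenius_kernel (B g0) hF0
  obtain ⟨k, hk, hk1⟩ : ∃ k ∈ K, k ≠ 1 := by
    by_contra hc
    push Not at hc
    exact kernel_ne_bot (B g0) hF0 K hK ((Subgroup.eq_bot_iff_forall _).mpr hc)
  obtain ⟨g1, hg1⟩ := hX k k.2
  have hkB : k ∈ B g1 := (hB g1 k).mpr hg1
  have hB1 : B g1 ≠ ⊥ := by
    intro h
    rw [h, Subgroup.mem_bot] at hkB
    exact hk1 hkB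
  obtain ⟨y, hy⟩ := S0038.result (B g0) (B g1) hF0 (hfrob g1 hB1)
  have h1 : y * k * y⁻¹ ∈ B g0 := by
    rw [← hy]
    exact ⟨k, hkB, rfl⟩
  have h2 : y * k * y⁻¹ ∈ K := hKn.conj_mem k hk y
  have h3 := disjoint_iff.mp hKc.disjoint
  have h4 : y * k * y⁻¹ ∈ K ⊓ B g0 := Subgroup.mem_inf.mpr ⟨h2, h1⟩
  rw [h3, Subgroup.mem_bot] at h4
  apply hk1
  have : k = y⁻¹ * (y * k * y⁻¹) * y := by group
  rw [this, h4]; group

theorem ord_mk {G : Type*} [Group G] [Finite G] (M : Subgroup G) [M.Normal] (y : G) (hy : (orderOf y).Coprime (Nat.card M)) :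
    orderOf (QuotientGroup.mk' M y) = orderOf y := by
  apply Nat.dvd_antisymm (orderOf_map_dvd _ _)
  apply orderOf_dvd_of_pow_eq_one
  have h1 : y ^ orderOf (QuotientGroup.mk' M y) ∈ M := by
    rw [← QuotientGroup.eq_one_iff, QuotientGroup.mk_pow]
    exact pow_orderOf_eq_one _
  set z := y ^ orderOf (QuotientGroup.mk' M y) with hz
  have h2 : orderOf z ∣ orderOf y := orderOf_pow_dvd _
  have h3 : orderOf z ∣ Nat.card M := by
    rw [← Subgroup.orderOf_mk z h1]; exact orderOf_dvd_natCard _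
  exact orderOf_eq_one_iff.mp (Nat.eq_one_of_dvd_coprimes hy h2 h3)

/-- Let G be a finite group and H a subgroup that meets each of its conjugates by elements outside N_G(H) trivially and whose order is coprime to its index in N_G(H). Then H has a normal complement in N_G(H) if and only if H has a normal complement in G. Moreover, if H is not normal in G and has a normal complement in N_G(H), then H is isomorphic to a Frobenius complement of some finite Frobenius group. -/
theorem result {G : Type u} [Group G] [Finite G] (H : Subgroup G)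
    (hTI : Cfsg.IsTISubset (H : Set G)) (hHall : (Nat.card H).Coprime (H.subgroupOf (Subgroup.normalizer (H : Set G))).index) :
    ((∃ K : Subgroup (Subgroup.normalizer (H : Set G)), K.Normal ∧ K.IsComplement' (H.subgroupOf (Subgroup.normalizer (H : Set G)))) ↔
      (∃ N : Subgroup G, N.Normal ∧ N.IsComplement' H)) ∧
    (¬ H.Normal → (∃ K : Subgroup (Subgroup.normalizer (H : Set G)), K.Normal ∧ K.IsComplement' (H.subgroupOf (Subgroup.normalizer (H : Set G)))) →
      ∃ (F : Type u) (_ : Group F) (_ : Finite F) (C : Subgroup F), Cfsg.IsFrobeniusComplement C ∧ Nonempty (H ≃* C)) := by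
  classical
  set N := Subgroup.normalizer (H : Set G) with hN
  have hHN : H ≤ N := Subgroup.le_normalizer
  have hH'n : (H.subgroupOf N).Normal := Subgroup.normal_in_normalizer
  have hTI' : ∀ g : G, g ∉ N → ∀ x ∈ H, g * x * g⁻¹ ∈ H → x = 1 := hTI
  have hH'c : Nat.card (H.subgroupOf N) = Nat.card H := Nat.card_congr (Subgroup.subgroupOfEquivOfLe hHN).toEquiv
  have hfwd : (∃ K : Subgroup N, K.Normal ∧ K.IsComplement' (H.subgroupOf N)) → ∃ M : Subgroup G, M.Normal ∧ M.IsComplement' H := by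
    rintro ⟨K, hKn, hKc⟩
    exact exists_normal_compl_of_ti H N hHN hH'n hTI' hHall K hKc
  have hbwd : ∀ M : Subgroup G, M.Normal → M.IsComplement' H → (M.subgroupOf N).IsComplement' (H.subgroupOf N) := by
    intro M hMn hMc
    apply Subgroup.isComplement'_of_disjoint_and_mul_eq_univ
    · rw [disjoint_iff, Subgroup.eq_bot_iff_forall]
      intro x hx
      obtain ⟨h1, h2⟩ := Subgroup.mem_inf.mp hx
      have h3 : (x : G) ∈ M ⊓ H := Subgroup.mem_inf.mpr ⟨h1, h2⟩
      rw [disjoint_iff.mp hMc.disjoint, Subgroup.mem_bot] at h3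
      exact Subtype.ext h3
    · rw [Set.eq_univ_iff_forall]
      intro x
      obtain ⟨⟨m, h⟩, hmh⟩ := hMc.2 (x : G)
      have hmh' : (m : G) * h = x := hmh
      have hmN : (m : G) ∈ N := by
        have : (m : G) = x * (h : G)⁻¹ := by rw [← hmh']; group
        rw [this]; exact N.mul_mem x.2 (N.inv_mem (hHN h.2))
      exact Set.mem_mul.mpr ⟨⟨m, hmN⟩, m.2, ⟨h, hHN h.2⟩, h.2, Subtype.ext hmh'⟩
  refine ⟨⟨hfwd, ?_⟩, ?_⟩
  · rintro ⟨M, hMn, hMc⟩
    exact ⟨M.subgroupOf N, inferInstance, hbwd M hMn hMc⟩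
  intro hnn hK
  obtain ⟨M, hMn, hMc⟩ := hfwd hK
  have hKc := hbwd M hMn hMc
  set K := M ⊓ N with hKd
  have hKcard : Nat.card K = (H.subgroupOf N).index := by
    rw [hKc.index_eq_card]
    have h1 : M.subgroupOf N = K.subgroupOf N := by
      ext x
      rw [Subgroup.mem_subgroupOf, Subgroup.mem_subgroupOf, hKd, Subgroup.mem_inf]
      exact ⟨fun h => ⟨h, x.2⟩, fun h => h.1⟩
    rw [h1]
    exact (Nat.card_congr (Subgroup.subgroupOfEquivOfLe inf_le_right).toEquiv).symm
  have hMHd : ∀ x, x ∈ M → x ∈ H → x = 1 := by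
    intro x h1 h2
    have h3 : x ∈ M ⊓ H := Subgroup.mem_inf.mpr ⟨h1, h2⟩
    rw [disjoint_iff.mp hMc.disjoint, Subgroup.mem_bot] at h3
    exact h3
  have hcK : ∀ k ∈ K, ∀ h ∈ H, k * h = h * k := by
    intro k hk h hh
    obtain ⟨hk1, hk2⟩ := Subgroup.mem_inf.mp hk
    have h1 : k * h * k⁻¹ * h⁻¹ ∈ H := H.mul_mem ((Subgroup.mem_normalizer_iff.mp hk2 h).mp hh) (H.inv_mem hh)
    have h2 : k * h * k⁻¹ * h⁻¹ ∈ M := by
      have : k * h * k⁻¹ * h⁻¹ = k * (h * k⁻¹ * h⁻¹) := by group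
      rw [this]; exact M.mul_mem hk1 (hMn.conj_mem _ (M.inv_mem hk1) h)
    have h3 := hMHd _ h2 h1
    have h4 : k * h * k⁻¹ = h := mul_inv_eq_one.mp h3
    exact mul_inv_eq_iff_eq_mul.mp h4
  have hfix : ∀ h ∈ H, h ≠ 1 → ∀ x ∈ M, x * h = h * x → x ∈ K := by
    intro h hh hh1 x hx hc
    refine Subgroup.mem_inf.mpr ⟨hx, ?_⟩
    by_contra hxN
    apply hh1
    apply hTI' x hxN h hh
    rw [hc, mul_inv_cancel_right]; exact hh
  have hcop : (Nat.card M).Coprime (Nat.card H) := by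
    rw [Nat.coprime_iff_gcd_eq_one]
    by_contra hne
    obtain ⟨r, hr, hrd⟩ := Nat.exists_prime_and_dvd hne
    haveI : Fact r.Prime := ⟨hr⟩
    have hrM := hrd.trans (Nat.gcd_dvd_left _ _)
    have hrH := hrd.trans (Nat.gcd_dvd_right _ _)
    obtain ⟨h, hh⟩ := exists_prime_orderOf_dvd_card' (G := H) r hrH
    have hh1 : (h : G) ≠ 1 := by
      intro h0
      have : h = 1 := Subtype.ext h0
      rw [this, orderOf_one] at hh
      exact hr.one_lt.ne hh
    have hzp : IsPGroup r (Subgroup.zpowers (h : G)) := IsPGroup.of_card (n := 1) (by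
      rw [Nat.card_zpowers, Subgroup.orderOf_coe, hh, pow_one])
    letI : MulAction (Subgroup.zpowers (h : G)) M :=
      MulAction.compHom M ((MulAut.conjNormal : G →* MulAut M).comp (Subgroup.zpowers (h : G)).subtype)
    have h1 := hzp.card_modEq_card_fixedPoints M
    have hsm : ∀ (y : Subgroup.zpowers (h : G)) (m : M), ((y • m : M) : G) = y * m * (y : G)⁻¹ := fun y m =>
      MulAut.conjNormal_apply (y : G) m
    have h2 : Nat.card (MulAction.fixedPoints (Subgroup.zpowers (h : G)) M) = Nat.card K := by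
      apply Nat.card_congr
      refine ⟨fun x => ⟨((x : M) : G), ?_⟩, fun k => ⟨⟨k, (Subgroup.mem_inf.mp k.2).1⟩, ?_⟩, fun x => rfl, fun k => rfl⟩
      · apply hfix h h.2 hh1 _ (x : M).2
        have h3 := congrArg Subtype.val (x.2 ⟨h, Subgroup.mem_zpowers _⟩)
        rw [hsm] at h3
        exact (mul_inv_eq_iff_eq_mul.mp h3).symm
      · intro y
        apply Subtype.ext
        rw [hsm]
        have hy : (y : G) ∈ H := (Subgroup.zpowers_le.mpr h.2) y.2
        have h3 := hcK k k.2 y hy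
        show (y : G) * k * (y : G)⁻¹ = k
        rw [← h3, mul_inv_cancel_right]
    rw [h2] at h1
    have h4 : r ∣ Nat.card K := (Nat.ModEq.dvd_iff h1 dvd_rfl).mp hrM
    rw [hKcard] at h4
    exact hr.one_lt.ne' (Nat.eq_one_of_dvd_coprimes hHall hrH h4)
  have hKM : K ≤ M := inf_le_left
  have hKne : K.relIndex M ≠ 1 := by
    intro h1
    apply hnn
    have h2 : M ≤ K := Subgroup.relIndex_eq_one.mp h1
    rw [← Subgroup.normalizer_eq_top_iff, ← hN, eq_top_iff, ← hMc.sup_eq_top, sup_le_iff]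
    exact ⟨h2.trans inf_le_right, hHN⟩
  obtain ⟨p, hp, hpd⟩ := Nat.exists_prime_and_dvd hKne
  haveI : Fact p.Prime := ⟨hp⟩
  have hMi : M.index = Nat.card H := hMc.symm.index_eq_card
  obtain ⟨P0⟩ : Nonempty (Sylow p M) := inferInstance
  set P0' := (P0 : Subgroup M).map M.subtype with hP0'
  set L := Subgroup.normalizer (P0' : Set G) with hL
  have hFr : L ⊔ M = ⊤ := Sylow.normalizer_sup_eq_top P0
  let f : L →* G ⧸ M := (QuotientGroup.mk' M).comp L.subtype
  have hfs : Function.Surjective f := by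
    intro y
    obtain ⟨g, rfl⟩ := QuotientGroup.mk'_surjective M y
    have h1 : g ∈ L ⊔ M := by rw [hFr]; trivial
    rw [Subgroup.mem_sup_of_normal_right] at h1
    obtain ⟨l, hl, m, hm, hlm⟩ := h1
    refine ⟨⟨l, hl⟩, ?_⟩
    show QuotientGroup.mk' M l = QuotientGroup.mk' M g
    rw [← hlm, map_mul, show QuotientGroup.mk' M m = 1 from (QuotientGroup.eq_one_iff m).mpr hm, mul_one]
  have hfker : f.ker = M.subgroupOf L := by
    ext x
    rw [MonoidHom.mem_ker, Subgroup.mem_subgroupOf]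
    exact QuotientGroup.eq_one_iff (x : G)
  have hLi : (M.subgroupOf L).index = Nat.card H := by
    rw [← hfker, Subgroup.index_ker, MonoidHom.range_eq_top.mpr hfs, Subgroup.card_top]
    exact hMi
  have hcopL : (Nat.card (M.subgroupOf L)).Coprime (M.subgroupOf L).index := by
    rw [hLi]
    exact hcop.coprime_dvd_left (L0.card_subgroupOf_dvd M L)
  obtain ⟨X0, hX0⟩ := Subgroup.exists_right_complement'_of_coprime hcopL
  set X := X0.map L.subtype with hX
  have hXc : Nat.card X = Nat.card H := by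
    rw [hX, L0.card_map_subtype, ← hLi]; exact hX0.symm.index_eq_card.symm
  have hXL : X ≤ L := Subgroup.map_subtype_le _
  have hHb : H ≠ ⊥ := by
    rintro rfl
    exact hnn inferInstance
  have hXb : X ≠ ⊥ := by
    intro h
    rw [h, Subgroup.card_bot] at hXc
    exact hHb (Subgroup.card_eq_one.mp hXc.symm)
  have hXo : ∀ x ∈ X, orderOf x ∣ Nat.card H := by
    intro x hx
    rw [← hXc, ← Subgroup.orderOf_mk x hx]; exact orderOf_dvd_natCard _
  have hHo : ∀ x ∈ H, orderOf x ∣ Nat.card H := by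
    intro x hx
    rw [← Subgroup.orderOf_mk x hx]; exact orderOf_dvd_natCard _
  obtain ⟨g0, hg0⟩ := le_conj H N hTI' X hXb (by
    intro x hx
    obtain ⟨⟨m, h⟩, hmh⟩ := hMc.2 x
    have hmh' : (m : G) * h = x := hmh
    have hmk : QuotientGroup.mk' M x = QuotientGroup.mk' M (h : G) := by
      rw [← hmh', map_mul, show QuotientGroup.mk' M (m : G) = 1 from (QuotientGroup.eq_one_iff _).mpr m.2, one_mul]
    have hord : orderOf x = orderOf (h : G) := by
      rw [← ord_mk M x (hcop.symm.coprime_dvd_left (hXo x hx)), ← ord_mk M h (hcop.symm.coprime_dvd_left (hHo h h.2)), hmk]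
    obtain ⟨m', hm', he⟩ := L0.exists_conj_eq_of_le_sup (M := M) (A := zpowers (h : G)) (B := zpowers x)
      (by rw [Subgroup.normalizer_eq_top]; exact le_top)
      (by rw [Nat.card_zpowers]; exact hcop.symm.coprime_dvd_left (hHo h h.2))
      (Or.inl (Group.isSolvable_of_comm (fun a b => by
        letI := IsCyclic.commGroup (α := zpowers (h : G))
        exact mul_comm a b)))
      (by
        rw [Subgroup.zpowers_le, ← hmh']
        exact Subgroup.mul_mem _ (Subgroup.mem_sup_left m.2) (Subgroup.mem_sup_right (mem_zpowers _)))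
      (by rw [Nat.card_zpowers, Nat.card_zpowers, hord])
    refine ⟨m', ?_⟩
    have h1 : x ∈ MulAut.conj m' • zpowers (h : G) := by rw [he]; exact mem_zpowers x
    rw [mem_conj_smul_iff] at h1
    exact (Subgroup.zpowers_le.mpr h.2) h1) (by
    intro x hx g hg
    have h1 : ((⟨g⁻¹ * x * g, hg⟩ : N) : N ⧸ H.subgroupOf N) = 1 := by
      rw [← orderOf_eq_one_iff]
      have h2 : orderOf ((⟨g⁻¹ * x * g, hg⟩ : N) : N ⧸ H.subgroupOf N) ∣ (H.subgroupOf N).index := orderOf_dvd_natCard _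
      have h3 : orderOf ((⟨g⁻¹ * x * g, hg⟩ : N) : N ⧸ H.subgroupOf N) ∣ Nat.card H := by
        apply orderOf_dvd_of_pow_eq_one
        have h4 : (g⁻¹ * x * g) ^ Nat.card H = 1 := by
          have h5 : x ^ Nat.card H = 1 := orderOf_dvd_iff_pow_eq_one.mp (hXo x hx)
          have h6 : (g⁻¹ * x * g) = g⁻¹ * x * (g⁻¹)⁻¹ := by group
          rw [h6, conj_pow, h5]; group
        rw [← QuotientGroup.mk_pow]
        have h5 : (⟨g⁻¹ * x * g, hg⟩ : N) ^ Nat.card H = 1 := Subtype.ext h4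
        rw [h5]; rfl
      exact Nat.eq_one_of_dvd_coprimes hHall h3 h2
    have h6 : (⟨g⁻¹ * x * g, hg⟩ : N) ∈ H.subgroupOf N := (QuotientGroup.eq_one_iff _).mp h1
    exact h6)
  -- transport
  have hHX : ∀ h ∈ H, g0 * h * g0⁻¹ ∈ X := by
    have h1 : X.map (MulAut.conj g0⁻¹).toMonoidHom = H := by
      apply Subgroup.eq_of_le_of_card_ge
      · rintro _ ⟨x, hx, rfl⟩
        have := hg0 x hx
        show g0⁻¹ * x * (g0⁻¹)⁻¹ ∈ H
        rwa [inv_inv]
      · rw [L0.card_map_equiv, hXc]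
    intro h hh
    rw [← h1] at hh
    obtain ⟨x, hx, he⟩ := hh
    have he' : g0⁻¹ * x * (g0⁻¹)⁻¹ = h := he
    have : g0 * h * g0⁻¹ = x := by rw [← he']; group
    rw [this]; exact hx
  set P := P0'.map (MulAut.conj g0⁻¹).toMonoidHom with hP
  have hPm : ∀ y, y ∈ P ↔ g0 * y * g0⁻¹ ∈ P0' := by
    intro y
    constructor
    · rintro ⟨x, hx, rfl⟩
      have : g0 * (MulAut.conj g0⁻¹).toMonoidHom x * g0⁻¹ = x := by
        show g0 * (g0⁻¹ * x * (g0⁻¹)⁻¹) * g0⁻¹ = x
        group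
      rw [this]; exact hx
    · intro h
      refine ⟨_, h, ?_⟩
      show g0⁻¹ * (g0 * y * g0⁻¹) * (g0⁻¹)⁻¹ = y
      group
  have hP0M : P0' ≤ M := Subgroup.map_subtype_le _
  have hPM : P ≤ M := by
    intro y hy
    have h1 := hMn.conj_mem _ (hP0M ((hPm y).mp hy)) g0⁻¹
    have : g0⁻¹ * (g0 * y * g0⁻¹) * (g0⁻¹)⁻¹ = y := by group
    rwa [this] at h1
  have hPp : IsPGroup p P := (P0.isPGroup'.map _).map _
  have hPc : Nat.card P = Nat.card P0 := by
    rw [hP, L0.card_map_equiv, hP0', L0.card_map_subtype]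
  have hHP : ∀ h ∈ H, ∀ y ∈ P, h * y * h⁻¹ ∈ P := by
    intro h hh y hy
    rw [hPm] at hy ⊢
    have h1 := hXL (hHX h hh)
    have h2 := (Subgroup.mem_normalizer_iff.mp h1 _).mp hy
    have : g0 * (h * y * h⁻¹) * g0⁻¹ = g0 * h * g0⁻¹ * (g0 * y * g0⁻¹) * (g0 * h * g0⁻¹)⁻¹ := by group
    rw [this]; exact h2
  have hPK : ¬ P ≤ K := by
    intro hle
    have h1 := Subgroup.relIndex_mul_relIndex P K M hle hKM
    have h2 : P.relIndex M = (P0 : Subgroup M).index := by
      have h3 := relIndex_mul_card hPM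
      have h4 := (P0 : Subgroup M).card_mul_index
      rw [hPc, mul_comm, ← h4] at h3
      exact Nat.eq_of_mul_eq_mul_left Nat.card_pos h3
    apply P0.not_dvd_index
    rw [← h2, ← h1]
    exact hpd.trans (dvd_mul_left _ _)
  set P1 := P ⊓ K with hP1
  have hP1lt : P1 < P := lt_of_le_of_ne inf_le_left (fun h => hPK (h ▸ inf_le_right))
  have hR := H1.lt_normalizer_inf_of_lt hPp.isNilpotent hP1lt
  set R := Subgroup.normalizer (P1 : Set G) ⊓ P with hRd
  have hHP1 : H ≤ Subgroup.normalizer (P1 : Set G) := by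
    intro h hh
    apply Subgroup.mem_normalizer_fintype
    intro n hn
    have h1 := hcK n (Subgroup.mem_inf.mp hn).2 h hh
    rw [← h1, mul_inv_cancel_right]; exact hn
  have hHR : H ≤ Subgroup.normalizer (R : Set G) := by
    intro h hh
    apply Subgroup.mem_normalizer_fintype
    intro n hn
    obtain ⟨h1, h2⟩ := Subgroup.mem_inf.mp hn
    exact Subgroup.mem_inf.mpr ⟨Subgroup.mul_mem _ (Subgroup.mul_mem _ (hHP1 hh) h1) (Subgroup.inv_mem _ (hHP1 hh)), hHP h hh n h2⟩
  set L2 := R ⊔ H with hL2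
  have hL2n : L2 ≤ Subgroup.normalizer (P1 : Set G) := sup_le inf_le_left hHP1
  have hRL : R ≤ L2 := le_sup_left
  have hHL : H ≤ L2 := le_sup_right
  have hP1L : P1 ≤ L2 := hR.le.trans hRL
  haveI hP1n : (P1.subgroupOf L2).Normal := by
    constructor
    intro x hx g
    exact (Subgroup.mem_normalizer_iff.mp (hL2n g.2) _).mp hx
  haveI hRn : (R.subgroupOf L2).Normal := L0.subgroupOf_sup_normal hHR
  let q := QuotientGroup.mk' (P1.subgroupOf L2)
  have hqs : Function.Surjective q := QuotientGroup.mk'_surjective _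
  have hq1 : ∀ x : L2, q x = 1 ↔ (x : G) ∈ P1 := fun x => QuotientGroup.eq_one_iff x
  haveI hRb : ((R.subgroupOf L2).map q).Normal := hRn.map q hqs
  have hP1M : P1 ≤ M := inf_le_left.trans hPM
  have hFC := frobenius_of_fpf ((R.subgroupOf L2).map q) ((H.subgroupOf L2).map q) ?_ ?_ ?_ ?_ ?_
  · refine ⟨L2 ⧸ P1.subgroupOf L2, inferInstance, inferInstance, (H.subgroupOf L2).map q, hFC.1, ?_⟩
    let φ : H →* L2 ⧸ P1.subgroupOf L2 := q.comp (Subgroup.inclusion hHL)
    have hφ : Function.Injective φ := by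
      rw [injective_iff_map_eq_one]
      intro x hx
      exact Subtype.ext (hMHd x (hP1M ((hq1 _).mp hx)) x.2)
    have hφr : φ.range = (H.subgroupOf L2).map q := by
      ext y
      constructor
      · rintro ⟨x, rfl⟩
        exact ⟨Subgroup.inclusion hHL x, x.2, rfl⟩
      · rintro ⟨x, hx, rfl⟩
        exact ⟨⟨x, hx⟩, rfl⟩
    exact ⟨(MonoidHom.ofInjective hφ).trans (MulEquiv.subgroupCongr hφr)⟩
  · rw [← Subgroup.map_sup, ← Subgroup.subgroupOf_sup hRL hHL, ← hL2, Subgroup.subgroupOf_self,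
      Subgroup.map_top_of_surjective _ hqs]
  · intro h
    obtain ⟨r, hr, hr1⟩ := SetLike.exists_of_lt hR
    apply hr1
    have h1 : q ⟨r, hRL hr⟩ ∈ (R.subgroupOf L2).map q := ⟨⟨r, hRL hr⟩, hr, rfl⟩
    rw [h, Subgroup.mem_bot, hq1] at h1
    exact h1
  · intro h
    apply hHb
    rw [Subgroup.eq_bot_iff_forall]
    intro x hx
    have h1 : q ⟨x, hHL hx⟩ ∈ (H.subgroupOf L2).map q := ⟨⟨x, hHL hx⟩, hx, rfl⟩
    rw [h, Subgroup.mem_bot, hq1] at h1
    exact hMHd x (hP1M h1) hx
  · rintro _ ⟨h, hh, rfl⟩ hh1 _ ⟨n, hn, rfl⟩ hc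
    have hh1' : (h : G) ≠ 1 := by
      intro h0
      apply hh1
      have : h = 1 := Subtype.ext h0
      rw [this, map_one]
    have hhH : (h : G) ∈ H := hh
    have hnR : (n : G) ∈ R := hn
    have hzle : zpowers (h : G) ≤ H := Subgroup.zpowers_le.mpr hhH
    obtain ⟨d, hd, hd2⟩ := H1.exists_fixed_in_coset (A := zpowers (h : G)) (D := P1) (hzle.trans hHP1)
      (by
        rw [Nat.card_zpowers]
        exact (hcop.symm.coprime_dvd_left (hHo h hhH)).coprime_dvd_right (Subgroup.card_dvd_of_le hP1M))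
      (Or.inl (Group.isSolvable_of_comm (fun a b => by
        letI := IsCyclic.commGroup (α := zpowers (h : G))
        exact mul_comm a b))) (x := (n : G)) (by
      intro a ha
      obtain ⟨j, hj⟩ := Subgroup.mem_zpowers_iff.mp ha
      have h2 : q (n⁻¹ * (h ^ j * n * (h ^ j)⁻¹)) = 1 := by
        rw [map_mul, map_mul, map_mul, map_inv, map_inv, map_zpow]
        have h3 : Commute (q h) (q n) := hc
        rw [(h3.zpow_left j).eq]; group
      rw [hq1] at h2
      rw [← hj]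
      simpa using h2)
    have hdP : d ∈ P := (Subgroup.mem_inf.mp hd).1
    have hnP : (n : G) ∈ P := (Subgroup.mem_inf.mp hnR).2
    have h4 := Subgroup.mem_centralizer_iff.mp hd2 h (mem_zpowers _)
    have h5 : (n : G) * d ∈ K := hfix h hhH hh1' _ (hPM (P.mul_mem hnP hdP)) h4.symm
    have h6 : (n : G) * d ∈ P1 := Subgroup.mem_inf.mpr ⟨P.mul_mem hnP hdP, h5⟩
    rw [hq1]
    exact (P1.mul_mem_cancel_right hd).mp h6
  · rw [Subgroup.eq_bot_iff_forall]
    intro x hx
    obtain ⟨⟨r, hr, hrx⟩, ⟨h, hh, hhx⟩⟩ := Subgroup.mem_inf.mp hx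
    have h1 : q (r⁻¹ * h) = 1 := by rw [map_mul, map_inv, hrx, hhx]; group
    rw [hq1] at h1
    have hrP : (r : G) ∈ P := (Subgroup.mem_inf.mp hr).2
    have h2 : (h : G) ∈ M := by
      have : (h : G) = r * ((r : G)⁻¹ * h) := by group
      rw [this]
      exact M.mul_mem (hPM hrP) (hP1M (by simpa using h1))
    have h3 := hMHd h h2 hh
    have h4 : h = 1 := Subtype.ext h3
    rw [← hhx, h4, map_one]

end Cfsg.Agent.S4115
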