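import Cfsg.Statements.S4155
import Mathlib
import Cfsg.Agent.H3.UniqP
import Cfsg.Agent.L0.Core
import Cfsg.Agent.H3.LStar
import Cfsg.Agent.H3.FH

set_option autoImplicit false
open Cfsg

namespace Cfsg.Agent.S4155

open Subgroup H3

/-- in a nilpotent group, a `q`-element commutes with `r`-elements -/
theorem comm_of_nil {G : Type*} [Group G] [Finite G] (F : Subgroup G) (hF : Group.IsNilpotent F) (x y : G) (hx : x ∈ F) (hy : y ∈ F)
    (hc : (orderOf x).Coprime (orderOf y)) : x * y = y * x := by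
  have h1 := commute_of_coprime_of_nilpotent (N := F) hF ⟨x, hx⟩ ⟨y, hy⟩ (by
    rw [Subgroup.orderOf_mk, Subgroup.orderOf_mk]; exact hc)
  exact congrArg Subtype.val h1

/-- q-elements outside N commute with no nontrivial r-element of `N` -/
theorem nocomm {G : Type*} [Group G] [Finite G] (N : Subgroup G)
    (heq : ∀ x : G, x ∉ N → ∀ n ∈ N, orderOf (x * n) = orderOf x) (x n : G) (hx : x ∉ N) (hn : n ∈ N)
    (hc : (orderOf x).Coprime (orderOf n)) (h : x * n = n * x) : n = 1 := by
  have h1 := heq x hx n hn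
  rw [(show Commute x n from h).orderOf_mul_eq_mul_orderOf_of_coprime hc] at h1
  have h2 : 0 < orderOf x := orderOf_pos x
  have h3 : orderOf n = 1 := by
    have : orderOf x * orderOf n = orderOf x * 1 := by rw [h1, mul_one]
    exact Nat.eq_of_mul_eq_mul_left h2 this
  exact orderOf_eq_one_iff.mp h3

/-- an element outside N of prime power order -/
theorem exists_ppow {G : Type*} [Group G] [Finite G] (F N : Subgroup G) (h : ¬ F ≤ N) :
    ∃ x ∈ F, x ∉ N ∧ ∃ q k : ℕ, q.Prime ∧ orderOf x = q ^ k := by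
  by_contra hcon
  push Not at hcon
  apply h
  have h1 : N.subgroupOf F = ⊤ := by
    apply H1.eq_top_of_forall_sylow_le
    intro p hp
    obtain ⟨P⟩ : Nonempty (Sylow p F) := inferInstance
    refine ⟨P, fun x hx => ?_⟩
    rw [Subgroup.mem_subgroupOf]
    by_contra hxN
    obtain ⟨k, hk⟩ := P.isPGroup' ⟨x, hx⟩
    have hk' : x ^ p ^ k = 1 := congrArg Subtype.val hk
    obtain ⟨j, hj⟩ := exists_orderOf_of_pow_eq_one hk'
    exact hcon x x.2 hxN p j hp.out (by rw [Subgroup.orderOf_coe, hj])
  exact Subgroup.subgroupOf_eq_top.mp h1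

/-- Let G be a finite group and N a proper non-trivial normal nilpotent subgroup whose order is not a prime power, such that for every x outside N all elements of the coset xN have the same order as x. Then N is the Fitting subgroup of G, and for every prime q every Sylow q-subgroup of G/N is cyclic or generalized quaternion. -/
theorem result {G : Type*} [Group G] [Finite G] (N : Subgroup G) [N.Normal] (hN1 : N ≠ ⊥) (hN2 : N ≠ ⊤)
    (heq : ∀ x : G, x ∉ N → ∀ n ∈ N, orderOf (x * n) = orderOf x)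
    (hnil : Group.IsNilpotent N) (hnpp : ¬ IsPrimePow (Nat.card N)) :
    N = Cfsg.fittingSubgroup G ∧
    ∀ (q : ℕ) [Fact q.Prime] (Q : Sylow q (G ⧸ N)), IsCyclic (Q : Subgroup (G ⧸ N)) ∨ ∃ n : ℕ, Nonempty ((Q : Subgroup (G ⧸ N)) ≃* QuaternionGroup (2 ^ n)) := by
  classical
  have hr : ∀ q : ℕ, q.Prime → ∃ r : ℕ, r.Prime ∧ r ≠ q ∧ r ∣ Nat.card N := by
    intro q hq
    by_contra hcon
    push Not at hcon
    apply hnpp
    have h1 : Nat.card N = q ^ (Nat.card N).primeFactorsList.length :=
      Nat.eq_prime_pow_of_unique_prime_dvd (Nat.card_pos.ne') (fun {d} hd hdi => by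
        by_contra hne
        exact hcon d hd hne hdi)
    rw [isPrimePow_nat_iff]
    refine ⟨q, _, hq, ?_, h1.symm⟩
    apply Nat.pos_of_ne_zero
    intro h0
    rw [h0, pow_zero] at h1
    exact hN1 (Subgroup.card_eq_one.mp h1)
  refine ⟨?_, ?_⟩
  · apply le_antisymm (L0.le_fittingSubgroup hnil)
    by_contra hcon
    obtain ⟨x, hxF, hxN, q, k, hq, hxo⟩ := exists_ppow _ _ hcon
    obtain ⟨r, hr, hrq, hrd⟩ := hr q hq
    haveI : Fact r.Prime := ⟨hr⟩
    obtain ⟨n, hn⟩ := exists_prime_orderOf_dvd_card' (G := N) r hrd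
    have hno : orderOf (n : G) = r := by rw [Subgroup.orderOf_coe, hn]
    have hcop : (orderOf x).Coprime (orderOf (n : G)) := by
      rw [hxo, hno]
      exact Nat.Coprime.pow_left k ((Nat.coprime_primes hq hr).mpr hrq.symm)
    have h1 := comm_of_nil _ (L0.fittingSubgroup_isNilpotent G) x n hxF (L0.le_fittingSubgroup hnil n.2) hcop
    have h2 := nocomm N heq x n hxN n.2 hcop h1
    rw [h2, orderOf_one] at hno
    exact hr.one_lt.ne hno
  · intro q hq Q
    obtain ⟨r, hr, hrq, hrd⟩ := hr q hq.out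
    haveI : Fact r.Prime := ⟨hr⟩
    obtain ⟨R⟩ : Nonempty (Sylow r N) := inferInstance
    have hRn : (R : Subgroup N).Normal := L0.isNilpotent_iff_sylow_normal.mp hnil r R
    haveI hRc : (R : Subgroup N).Characteristic := R.characteristic_of_normal hRn
    set R' := (R : Subgroup N).map N.subtype with hR'
    haveI hR'n : R'.Normal := L0.normal_map_subtype_of_characteristic _
    have hR'p : IsPGroup r R' := R.isPGroup'.map _
    have hR'N : R' ≤ N := Subgroup.map_subtype_le _
    set Nq := (pCore q N).map N.subtype with hNq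
    haveI hNqn : Nq.Normal := L0.normal_map_subtype_of_characteristic _
    have hNqp : IsPGroup q Nq := (L0.pCore_isPGroup q N).map _
    have hNqN : Nq ≤ N := Subgroup.map_subtype_le _
    have hqN : ∀ x ∈ N, (∃ k, orderOf x = q ^ k) → x ∈ Nq := by
      intro x hx hxo
      refine ⟨⟨x, hx⟩, ?_, rfl⟩
      obtain ⟨S⟩ : Nonempty (Sylow q N) := inferInstance
      rw [L0.pCore_eq_sylow_of_nilpotent hnil S]
      exact mem_sylow_of_nilpotent hnil S (by rw [Subgroup.orderOf_mk]; exact hxo)
    obtain ⟨Q0, hQ0⟩ := Sylow.mapSurjective_surjective (QuotientGroup.mk'_surjective N) q Q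
    have hQmap : (Q0 : Subgroup G).map (QuotientGroup.mk' N) = Q := by rw [← hQ0]; rfl
    have hQ0o : ∀ x ∈ (Q0 : Subgroup G), ∃ k, orderOf x = q ^ k := by
      intro x hx
      obtain ⟨k, hk⟩ := Q0.isPGroup' ⟨x, hx⟩
      exact exists_orderOf_of_pow_eq_one (congrArg Subtype.val hk)
    have hR'o : ∀ x ∈ R', ∃ k, orderOf x = r ^ k := by
      intro x hx
      obtain ⟨k, hk⟩ := hR'p ⟨x, hx⟩
      exact exists_orderOf_of_pow_eq_one (congrArg Subtype.val hk)
    have hcop : ∀ x y : G, (∃ k, orderOf x = q ^ k) → (∃ k, orderOf y = r ^ k) → (orderOf x).Coprime (orderOf y) := by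
      rintro x y ⟨k, hk⟩ ⟨l, hl⟩
      rw [hk, hl]
      exact Nat.Coprime.pow _ _ ((Nat.coprime_primes hq.out hr).mpr hrq.symm)
    set Pb := (Q0 : Subgroup G).map (QuotientGroup.mk' Nq) with hPb
    set Kb := R'.map (QuotientGroup.mk' Nq) with hKb
    haveI hKbn : Kb.Normal := hR'n.map _ (QuotientGroup.mk'_surjective Nq)
    have hRNq : ∀ x ∈ R', x ∈ Nq → x = 1 := by
      intro x hx hx2
      have h1 := hcop x x (by
        obtain ⟨k, hk⟩ := hNqp ⟨x, hx2⟩
        exact exists_orderOf_of_pow_eq_one (congrArg Subtype.val hk)) (hR'o x hx)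
      rw [Nat.coprime_self] at h1
      exact orderOf_eq_one_iff.mp h1
    have hmain := sylow_of_fpf Pb Kb (Q0.isPGroup'.map _) (by rw [Subgroup.normalizer_eq_top]; exact le_top) (by
        intro h
        have hRb : R' = ⊥ := by
          rw [Subgroup.eq_bot_iff_forall]
          intro x hx
          apply hRNq x hx
          have : QuotientGroup.mk' Nq x ∈ Kb := ⟨x, hx, rfl⟩
          rw [h, Subgroup.mem_bot] at this
          exact (QuotientGroup.eq_one_iff x).mp this
        rw [hR', Subgroup.map_eq_bot_iff_of_injective _ N.subtype_injective] at hRb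
        exact R.ne_bot_of_dvd_card hrd hRb) (by
        rintro _ ⟨x, hx, rfl⟩ hx1 _ ⟨k, hk, rfl⟩ hc
        rw [← map_mul, ← map_mul] at hc
        have h1 : (k * x)⁻¹ * (x * k) ∈ Nq := (QuotientGroup.eq).mp hc.symm
        have h2 : (k * x)⁻¹ * (x * k) ∈ R' := by
          have : (k * x)⁻¹ * (x * k) = (x⁻¹ * k⁻¹ * x) * k := by group
          rw [this]
          apply R'.mul_mem _ hk
          have := hR'n.conj_mem _ (R'.inv_mem hk) x⁻¹
          rwa [inv_inv] at this
        have h3 := hRNq _ h2 h1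
        have h4 : x * k = k * x := (inv_mul_eq_one.mp h3).symm
        have hxN : x ∉ N := by
          intro hxN
          apply hx1
          exact (QuotientGroup.eq_one_iff x).mpr (hqN x hxN (hQ0o x hx))
        have h5 := nocomm N heq x k hxN (hR'N hk) (hcop x k (hQ0o x hx) (hR'o k hk)) h4
        rw [h5, map_one])
    -- isomorphism
    let f : G ⧸ Nq →* G ⧸ N := QuotientGroup.map Nq N (MonoidHom.id G) (by
      intro x hx; exact hNqN hx)
    have hf : ∀ x : G, f (QuotientGroup.mk' Nq x) = QuotientGroup.mk' N x := fun x => rfl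
    let g : Pb →* G ⧸ N := f.comp Pb.subtype
    have hginj : Function.Injective g := by
      rw [injective_iff_map_eq_one]
      rintro ⟨_, x, hx, rfl⟩ hgx
      have h1 : QuotientGroup.mk' N x = 1 := hgx
      have h2 : x ∈ N := (QuotientGroup.eq_one_iff x).mp h1
      apply Subtype.ext
      exact (QuotientGroup.eq_one_iff x).mpr (hqN x h2 (hQ0o x hx))
    have hgr : g.range = Q := by
      rw [← hQmap]
      ext y
      constructor
      · rintro ⟨⟨_, x, hx, rfl⟩, rfl⟩
        exact ⟨x, hx, rfl⟩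
      · rintro ⟨x, hx, rfl⟩
        exact ⟨⟨_, x, hx, rfl⟩, rfl⟩
    have e : Pb ≃* (Q : Subgroup (G ⧸ N)) := (MonoidHom.ofInjective hginj).trans (MulEquiv.subgroupCongr hgr)
    rcases hmain with h | ⟨_, m, _, ⟨φ⟩⟩
    · left
      exact isCyclic_of_surjective e.toMonoidHom e.surjective
    · right
      exact ⟨m, ⟨e.symm.trans φ⟩⟩

end Cfsg.Agent.S4155
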