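import Cfsg.Statements.S4249
import Mathlib
import Cfsg.Agent.H3.Kegel
import Cfsg.Agent.L0.Coprime2

set_option autoImplicit false
open Cfsg

namespace Cfsg.Agent.S4249

open Subgroup H3

theorem comm_closure {G : Type*} [Group G] (z y : G) (h : z * y = y * z) : IsMulCommutative (zpowers z ⊔ zpowers y : Subgroup G) := by
  have h1 : (zpowers z ⊔ zpowers y : Subgroup G) = closure {z, y} := by
    rw [zpowers_eq_closure, zpowers_eq_closure, ← Subgroup.closure_union]; rfl
  rw [h1]
  have h2 : ∀ a ∈ ({z, y} : Set G), ∀ b ∈ ({z, y} : Set G), a * b = b * a := by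
    rintro a (rfl | rfl) b (rfl | rfl)
    · rfl
    · exact h
    · exact h.symm
    · rfl
  exact ⟨⟨(Subgroup.closureCommGroupOfComm h2).mul_comm⟩⟩

theorem lemA {G : Type*} [Group G] [Finite G] (p : ℕ) [hp : Fact p.Prime] (K : Subgroup G) [hK : K.Normal]
    (hKc : (Nat.card K).Coprime p) (hKb : K ≠ ⊥) (hKt : K ≠ ⊤) (hx : ∀ x : G, x ∉ K → x ^ p = 1) : K.index = p := by
  classical
  obtain ⟨S⟩ : Nonempty (Sylow p G) := inferInstance
  have hSK : ∀ s ∈ (S : Subgroup G), s ∈ K → s = 1 := by
    intro s hs hsK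
    obtain ⟨m, hm⟩ := S.isPGroup' ⟨s, hs⟩
    have hm' : s ^ p ^ m = 1 := congrArg Subtype.val hm
    have := H3.eq_one_of_pow_coprime (V := K) (n := p ^ m) (hKc.pow_right m) ⟨s, hsK⟩ (Subtype.ext hm')
    exact congrArg Subtype.val this
  have hfix : ∀ x : G, x ∉ K → ∀ k ∈ K, k * x = x * k → k = 1 := by
    intro x hxK k hk hc
    have h1 : k * x ∉ K := fun h => hxK ((K.mul_mem_cancel_left hk).mp h)
    have h2 := hx _ h1
    rw [(show Commute k x from hc).mul_pow, hx x hxK, mul_one] at h2
    have := H3.eq_one_of_pow_coprime (V := K) (n := p) hKc ⟨k, hk⟩ (Subtype.ext h2)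
    exact congrArg Subtype.val this
  have hpg : IsPGroup p (G ⧸ K) := by
    intro g
    obtain ⟨g, rfl⟩ := QuotientGroup.mk_surjective g
    refine ⟨1, ?_⟩
    rw [pow_one]
    by_cases hg : g ∈ K
    · rw [(QuotientGroup.eq_one_iff g).mpr hg, one_pow]
    · have := hx g hg
      rw [← QuotientGroup.mk_pow, this]; rfl
  obtain ⟨m, hm⟩ := IsPGroup.iff_card.mp hpg
  have hidx : K.index = p ^ m := hm
  have hm0 : m ≠ 0 := by
    rintro rfl
    exact hKt (Subgroup.index_eq_one.mp (by simpa using hidx))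
  have hcS : Nat.card (S : Subgroup G) = p ^ m := by
    have h1 := K.card_mul_index
    rw [hidx] at h1
    have h2 := (S : Subgroup G).card_mul_index
    obtain ⟨k, hk⟩ := IsPGroup.iff_card.mp S.isPGroup'
    have h3 : (Nat.card (S : Subgroup G)).Coprime (Nat.card K) := by
      rw [hk]; exact (hKc.pow_right k).symm
    have h4 : Nat.card (S : Subgroup G) ∣ p ^ m := by
      apply h3.dvd_of_dvd_mul_left
      rw [h1]; exact Subgroup.card_subgroup_dvd_card _
    have h5 : (p ^ m).Coprime (S : Subgroup G).index := by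
      apply Nat.Coprime.pow_left
      exact (Nat.Prime.coprime_iff_not_dvd hp.out).mpr S.not_dvd_index
    have h6 : p ^ m ∣ Nat.card (S : Subgroup G) := by
      apply h5.dvd_of_dvd_mul_right
      rw [h2, ← h1]; exact dvd_mul_left _ _
    exact Nat.dvd_antisymm h4 h6
  by_contra hne
  have hm2 : 2 ≤ m := by
    by_contra hlt
    have : m = 1 := by omega
    rw [this, pow_one] at hidx
    exact hne hidx
  -- z in center of S
  haveI : Nontrivial (S : Subgroup G) := by
    rw [← Finite.one_lt_card_iff_nontrivial, hcS]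
    exact Nat.one_lt_pow hm0 hp.out.one_lt
  haveI := S.isPGroup'.center_nontrivial
  obtain ⟨z, hz1⟩ := exists_ne (1 : center (S : Subgroup G))
  have hzne : ((z : (S : Subgroup G)) : G) ≠ 1 := by
    intro h; exact hz1 (Subtype.ext (Subtype.ext h))
  set z' : G := ((z : (S : Subgroup G)) : G) with hz'
  have hzS : z' ∈ (S : Subgroup G) := (z : (S : Subgroup G)).2
  have hzK : z' ∉ K := fun h => hzne (hSK _ hzS h)
  have hzp := hx z' hzK
  have hzo : orderOf z' = p := orderOf_eq_prime hzp hzne
  obtain ⟨y, hyS, hyz⟩ : ∃ y ∈ (S : Subgroup G), y ∉ zpowers z' := by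
    by_contra hcon
    push Not at hcon
    have h1 : Nat.card (S : Subgroup G) ∣ Nat.card (zpowers z') := Subgroup.card_dvd_of_le hcon
    rw [hcS, Nat.card_zpowers, hzo] at h1
    have h2 := Nat.le_of_dvd hp.out.pos h1
    have h3 : p ^ 2 ≤ p ^ m := Nat.pow_le_pow_right hp.out.pos hm2
    nlinarith [hp.out.two_le]
  have hy1 : y ≠ 1 := fun h => hyz (h ▸ one_mem _)
  have hyK : y ∉ K := fun h => hy1 (hSK _ hyS h)
  have hyp := hx y hyK
  have hcomm : z' * y = y * z' := by
    have := Subgroup.mem_center_iff.mp z.2 ⟨y, hyS⟩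
    exact (congrArg Subtype.val this).symm
  set E : Subgroup G := zpowers z' ⊔ zpowers y with hE
  have hEc : IsMulCommutative E := comm_closure z' y hcomm
  have hES : E ≤ S := by
    rw [hE, sup_le_iff, zpowers_le, zpowers_le]; exact ⟨hzS, hyS⟩
  have hEp : ∀ e ∈ E, e ^ p = 1 := by
    intro e he
    by_cases h1 : e = 1
    · rw [h1, one_pow]
    · exact hx e (fun h => h1 (hSK _ (hES he) h))
  have hEnc : ¬ IsCyclic E := by
    intro hcyc
    obtain ⟨g, hg⟩ := hcyc
    have h1 : Nat.card E ∣ p := by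
      have h2 : orderOf g = Nat.card E := orderOf_eq_card_of_forall_mem_zpowers hg
      rw [← h2]
      apply orderOf_dvd_of_pow_eq_one
      exact Subtype.ext (hEp g g.2)
    have h2 : zpowers z' = E := by
      apply Subgroup.eq_of_le_of_card_ge le_sup_left
      rw [Nat.card_zpowers, hzo]
      exact Nat.le_of_dvd hp.out.pos h1
    apply hyz
    rw [h2]
    exact (le_sup_right : zpowers y ≤ E) (mem_zpowers y)
  have h1 := L0.closure_centralizers_eq (N := K) hEc hEnc (by rw [Subgroup.normalizer_eq_top]; exact le_top) (by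
    obtain ⟨k, hk⟩ := IsPGroup.iff_card.mp (S.isPGroup'.to_le hES)
    rw [hk]; exact (hKc.pow_right k).symm)
  apply hKb
  rw [← h1, Subgroup.closure_eq_bot_iff]
  rintro x ⟨hxK, v, hvE, hv1, hv⟩
  exact hfix v (fun h => hv1 (hSK v (hES hvE) h)) x hxK hv.symm

/-- Let G be a finite group and p a prime such that G is not a p-group, and suppose the Hughes subgroup H_p(G), generated by all elements g with g^p ≠ 1, is a proper subgroup. Then H_p(G) is nilpotent and has index p in G. -/
theorem result {G : Type*} [Group G] [Finite G] (p : ℕ) (hp : p.Prime) (hG : ¬ IsPGroup p G)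
    (hH : Subgroup.closure {g : G | g ^ p ≠ 1} ≠ ⊤) :
    Group.IsNilpotent (Subgroup.closure {g : G | g ^ p ≠ 1}) ∧ (Subgroup.closure {g : G | g ^ p ≠ 1}).index = p := by
  classical
  haveI : Fact p.Prime := ⟨hp⟩
  set H := Subgroup.closure {g : G | g ^ p ≠ 1} with hHd
  have hout : ∀ x : G, x ∉ H → x ^ p = 1 := by
    intro x hx
    by_contra h
    exact hx (Subgroup.subset_closure h)
  have hHn : H.Normal := by
    constructor
    intro h hh g
    rw [hHd] at hh ⊢
    induction hh using Subgroup.closure_induction with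
    | mem x hx =>
      apply Subgroup.subset_closure
      show (g * x * g⁻¹) ^ p ≠ 1
      rw [conj_pow]
      intro h
      apply hx
      have : x ^ p = g⁻¹ * (g * x ^ p * g⁻¹) * g := by group
      rw [this, h]; group
    | one => simpa using Subgroup.one_mem _
    | mul x y _ _ hx hy =>
      have : g * (x * y) * g⁻¹ = (g * x * g⁻¹) * (g * y * g⁻¹) := by group
      rw [this]; exact Subgroup.mul_mem _ hx hy
    | inv x _ hx =>
      have : g * x⁻¹ * g⁻¹ = (g * x * g⁻¹)⁻¹ := by group
      rw [this]; exact Subgroup.inv_mem _ hx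
  obtain ⟨x, hx⟩ : ∃ x : G, x ∉ H := by
    by_contra hcon
    push Not at hcon
    exact hH ((Subgroup.eq_top_iff' _).mpr hcon)
  have hnil : Group.IsNilpotent H := by
    apply H3.kegel p H x
    intro h hh
    apply hout
    intro h2
    exact hx ((H.mul_mem_cancel_left hh).mp h2)
  refine ⟨hnil, ?_⟩
  have hsup := H3.nilpotent_sup_pPrime hnil p
  set P0 := (pCore p H).map H.subtype with hP0
  haveI hP0n : P0.Normal := L0.normal_map_subtype_of_characteristic _
  have hP0H : P0 ≤ H := Subgroup.map_subtype_le _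
  set Hq := H.map (QuotientGroup.mk' P0) with hHq
  haveI hHqn : Hq.Normal := hHn.map _ (QuotientGroup.mk'_surjective P0)
  have hcomap : Hq.comap (QuotientGroup.mk' P0) = H := by
    rw [hHq, Subgroup.comap_map_eq, QuotientGroup.ker_mk', sup_eq_left.mpr hP0H]
  have hindex : Hq.index = H.index := by
    rw [← hcomap, Subgroup.index_comap_of_surjective _ (QuotientGroup.mk'_surjective P0)]
  have hcard : Nat.card Hq ∣ Nat.card (pPrimeCore p H) := by
    have h1 : Hq = ((pPrimeCore p H).map H.subtype).map (QuotientGroup.mk' P0) := by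
      apply le_antisymm
      · rintro _ ⟨h, hh, rfl⟩
        have h2 : (⟨h, hh⟩ : H) ∈ pPrimeCore p H ⊔ pCore p H := by rw [hsup]; trivial
        rw [Subgroup.mem_sup_of_normal_left] at h2
        obtain ⟨a, ha, b, hb, hab⟩ := h2
        refine ⟨a, ⟨a, ha, rfl⟩, ?_⟩
        have h3 : (a : G) * b = h := congrArg Subtype.val hab
        have h4 : QuotientGroup.mk' P0 (b : G) = 1 := (QuotientGroup.eq_one_iff _).mpr ⟨b, hb, rfl⟩
        rw [← h3, map_mul, h4, mul_one]
      · exact Subgroup.map_mono (Subgroup.map_subtype_le _)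
    rw [h1]
    exact (Subgroup.card_map_dvd _ _).trans (by rw [L0.card_map_subtype])
  have hcop : (Nat.card Hq).Coprime p := (L0.pPrimeCore_coprime p H).coprime_dvd_left hcard
  rw [← hindex]
  apply lemA p Hq hcop
  · intro hb
    apply hG
    have h1 : H ≤ P0 := by
      rw [← hcomap, hb]
      intro g hg
      rw [Subgroup.mem_comap, Subgroup.mem_bot] at hg
      exact (QuotientGroup.eq_one_iff g).mp hg
    intro g
    by_cases hg : g ∈ H
    · obtain ⟨a, ha, hag⟩ := h1 hg
      obtain ⟨k, hk⟩ := (L0.pCore_isPGroup p H) ⟨a, ha⟩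
      refine ⟨k, ?_⟩
      have h2 : (a : G) ^ p ^ k = 1 := by
        have := congrArg Subtype.val (congrArg Subtype.val hk)
        exact this
      rw [← hag]; exact h2
    · exact ⟨1, by rw [pow_one]; exact hout g hg⟩
  · intro ht
    apply hx
    rw [← hcomap, ht]; trivial
  · intro g hg
    obtain ⟨g, rfl⟩ := QuotientGroup.mk_surjective g
    have h1 : g ∉ H := by
      intro h
      exact hg ⟨g, h, rfl⟩
    rw [← QuotientGroup.mk_pow, hout g h1]; rfl

end Cfsg.Agent.S4249
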