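import Cfsg.Statements.S4347
import Mathlib
import Cfsg.Agent.H3.Basic

set_option autoImplicit false
open Cfsg

namespace Cfsg.Agent.S4347

/-- Let G be a finite group and p a prime. Say a Sylow p-subgroup Q is redundant when every element of p-power order lies in some Sylow p-subgroup other than Q. Then G has no redundant Sylow p-subgroup if and only if some element of p-power order lies in exactly one Sylow p-subgroup. -/
theorem result {G : Type*} [Group G] [Finite G]
    (p : ℕ) [Fact p.Prime] :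
    (¬ ∃ Q : Sylow p G, ∀ x : G, (∃ k : ℕ, orderOf x = p ^ k) → ∃ P : Sylow p G, P ≠ Q ∧ x ∈ P) ↔
      ∃ x : G, (∃ k : ℕ, orderOf x = p ^ k) ∧ ∃! P : Sylow p G, x ∈ P := by
  constructor
  · intro h
    push Not at h
    obtain ⟨Q⟩ : Nonempty (Sylow p G) := inferInstance
    obtain ⟨x, hx, hx2⟩ := h Q
    refine ⟨x, hx, Q, ?_, ?_⟩
    · obtain ⟨P, hP⟩ := Cfsg.Agent.H3.exists_sylow_mem hx
      by_cases hPQ : P = Q
      · rw [← hPQ]; exact hP
      · exact absurd hP (hx2 P hPQ)
    · intro P hP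
      by_contra hPQ
      exact hx2 P hPQ hP
  · rintro ⟨x, ⟨k, hk⟩, P0, hP0, huniq⟩ ⟨Q, hQ⟩
    obtain ⟨g, hg⟩ := MulAction.exists_smul_eq G P0 Q
    have hk' : orderOf (g * x * g⁻¹) = p ^ k := by
      rw [← hk]
      have := MulEquiv.orderOf_eq (MulAut.conj g) x
      simpa using this
    obtain ⟨P, hPQ, hP⟩ := hQ (g * x * g⁻¹) ⟨k, hk'⟩
    apply hPQ
    have h1 : x ∈ ((g⁻¹ • P : Sylow p G) : Subgroup G) := by
      rw [Cfsg.Agent.H3.mem_smul_sylow_iff]
      have e : g⁻¹⁻¹ * x * g⁻¹ = g * x * g⁻¹ := by group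
      rw [e]; exact hP
    have h2 := huniq _ h1
    rw [← hg, ← h2, smul_inv_smul]

end Cfsg.Agent.S4347
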