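import Cfsg.Statements.S4348
import Mathlib
import Cfsg.Agent.H3.Basic
import Cfsg.Agent.L0.Core

set_option autoImplicit false
open Cfsg

namespace Cfsg.Agent.S4348

/-- Let G be a finite group, p a prime and P a Sylow p-subgroup of G, and let O_p(G) be the largest normal p-subgroup of G. If P/O_p(G) is cyclic, then some element of p-power order of G lies in exactly one Sylow p-subgroup. -/
theorem result {G : Type*} [Group G] [Finite G]
    (p : ℕ) [Fact p.Prime] (P : Sylow p G)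
    [hn : ((Cfsg.pCore p G).subgroupOf (P : Subgroup G)).Normal]
    (hc : IsCyclic ((P : Subgroup G) ⧸ (Cfsg.pCore p G).subgroupOf (P : Subgroup G))) :
    ∃ x : G, (∃ k : ℕ, orderOf x = p ^ k) ∧ ∃! Q : Sylow p G, x ∈ Q := by
  obtain ⟨q, hq⟩ := hc.exists_generator
  obtain ⟨x, rfl⟩ := QuotientGroup.mk_surjective q
  refine ⟨x, Cfsg.Agent.H3.orderOf_pow_of_mem_sylow P x.2, P, x.2, ?_⟩
  intro Q hQ
  symm
  apply Cfsg.Agent.H3.sylow_eq_of_le
  intro y hy
  obtain ⟨n, hn⟩ := hq (QuotientGroup.mk (⟨y, hy⟩ : (P : Subgroup G)))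
  have h1 : ((x ^ n : (P : Subgroup G)) : (P : Subgroup G) ⧸ (pCore p G).subgroupOf (P : Subgroup G)) =
    (⟨y, hy⟩ : (P : Subgroup G)) := hn
  rw [QuotientGroup.eq] at h1
  have h2 : ((x : G) ^ n)⁻¹ * y ∈ pCore p G := h1
  have h3 := Cfsg.Agent.L0.pCore_le_sylow Q h2
  have h4 : y = (x : G) ^ n * (((x : G) ^ n)⁻¹ * y) := by group
  rw [h4]
  exact Subgroup.mul_mem _ (Subgroup.zpow_mem _ hQ n) h3

end Cfsg.Agent.S4348
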