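import Cfsg.Statements.S4419
import Cfsg.Agent.H2.MetaAut
import Cfsg.Agent.H2.QdLoc
import Mathlib

set_option autoImplicit false
open Cfsg

namespace Cfsg.Agent.S4419

open Cfsg.Agent.H2 Cfsg.Agent.L0

/-- Let p be a prime and G a finite group whose Sylow p-subgroups are metacyclic (a cyclic normal subgroup with cyclic quotient). Then G has a normal p-complement if and only if the order of G/O_{p′,p}(G) is coprime to p² − 1. -/
theorem result {G : Type*} [Group G] [Finite G] (p : ℕ) [Fact p.Prime] (S : Sylow p G) (hS : Cfsg.IsMetacyclic ↥(S : Subgroup G)) : Cfsg.HasNormalPComplement p G ↔ Nat.Coprime (Nat.card (G ⧸ Cfsg.pPrimePCore p G)) (p ^ 2 - 1) := by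
  classical
  have hpp : p.Prime := Fact.out
  constructor
  · rintro ⟨P, N, hN, hc⟩
    haveI := hN
    have hcard : Nat.card N * Nat.card P = Nat.card G := hc.card_mul
    have hidx : N.index = Nat.card P := by
      have h1 := N.card_mul_index
      rw [← hcard] at h1
      exact Nat.eq_of_mul_eq_mul_left Nat.card_pos h1
    have hidx' : Nat.card N = (P : Subgroup G).index := by
      have h1 := (P : Subgroup G).card_mul_index
      rw [← hcard, mul_comm (Nat.card N)] at h1
      exact (Nat.eq_of_mul_eq_mul_left Nat.card_pos h1).symm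
    have hNp : (Nat.card N).Coprime p := by
      rw [hidx']
      exact ((Nat.Prime.coprime_iff_not_dvd hpp).2 P.not_dvd_index).symm
    have hle : N ≤ pPrimeCore p G := le_pPrimeCore hNp
    obtain ⟨n, hn⟩ := IsPGroup.iff_card.1 P.2
    have hG : IsPGroup p (G ⧸ pPrimeCore p G) := by
      intro x
      obtain ⟨x, rfl⟩ := QuotientGroup.mk_surjective x
      refine ⟨n, ?_⟩
      rw [← QuotientGroup.mk_pow, QuotientGroup.eq_one_iff]
      apply hle
      have := Subgroup.pow_index_mem N x
      rwa [hidx, hn] at this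
    have htop : pPrimePCore p G = ⊤ := by
      unfold pPrimePCore
      have : pCore p (G ⧸ pPrimeCore p G) = ⊤ := by
        rw [eq_top_iff]
        exact le_pCore (hG.to_subgroup ⊤)
      rw [this, Subgroup.comap_top]
    have h1 : Nat.card (G ⧸ pPrimePCore p G) = 1 := by
      rw [← Subgroup.index_eq_card, htop, Subgroup.index_top]
    rw [h1]; exact Nat.coprime_one_left _
  · intro h
    apply H1.frobenius_criterion
    intro Q hQ g hg ho
    by_contra hgC
    obtain ⟨q, y, hy, α, k, hq, hqp, hα, hk, hact⟩ := exists_prime_aut hg ho hgC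
    haveI : Fact q.Prime := ⟨hq⟩
    have hQm : IsMetacyclic Q := by
      obtain ⟨x, -, hx⟩ := (H6.sylow_sylIn_top S).exists_conj_le hQ le_top
      have hm : ∀ z : Q, ((MulAut.conj x).toMonoidHom.comp Q.subtype) z ∈ (S : Subgroup G) := fun z => hx ⟨z, z.2, rfl⟩
      refine meta_sub hS (((MulAut.conj x).toMonoidHom.comp Q.subtype).codRestrict (S : Subgroup G) hm) ?_
      intro a b hab
      apply Subtype.ext
      exact (MulAut.conj x).injective (congrArg Subtype.val hab)
    have hdvd := dvd_of_aut_frat hQ (card_frat_meta hQ hQm) hq hqp α hα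
    have hnd : ¬ q ∣ Nat.card (G ⧸ pPrimePCore p G) := by
      intro h1
      exact hq.one_lt.ne' (Nat.eq_one_of_dvd_coprimes h h1 hdvd)
    have hyM : y ∈ pPrimePCore p G := by
      rw [← QuotientGroup.eq_one_iff]
      have h1 : orderOf (QuotientGroup.mk y : G ⧸ pPrimePCore p G) ∣ q ^ k := by
        apply orderOf_dvd_of_pow_eq_one
        rw [← QuotientGroup.mk_pow, hk]; rfl
      have h2 := orderOf_dvd_natCard (QuotientGroup.mk y : G ⧸ pPrimePCore p G)
      exact orderOf_eq_one_iff.1 (Nat.eq_one_of_dvd_coprimes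
        (Nat.Coprime.pow_left k ((Nat.Prime.coprime_iff_not_dvd hq).2 hnd)) h1 h2)
    obtain ⟨j, hj⟩ := H6.pPrimePCore_pow hyM
    have hyO : y ∈ pPrimeCore p G := by
      rw [← QuotientGroup.eq_one_iff]
      have h1 : (QuotientGroup.mk y : G ⧸ pPrimeCore p G) ^ q ^ k = 1 := by
        rw [← QuotientGroup.mk_pow, hk]; rfl
      have h2 : (QuotientGroup.mk y : G ⧸ pPrimeCore p G) ^ p ^ j = 1 := by
        rw [← QuotientGroup.mk_pow, QuotientGroup.eq_one_iff]; exact hj
      exact eq_one_of_pq hq hpp hqp.symm h1 h2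
    have hα1 : α = 1 := by
      apply MulEquiv.ext
      intro x
      apply Subtype.ext
      rw [hact, MulAut.one_apply]
      have h1 : y * x * y⁻¹ * (x : G)⁻¹ ∈ Q :=
        Q.mul_mem ((Subgroup.mem_normalizer_iff.1 hy x).1 x.2) (Q.inv_mem x.2)
      have h2 : y * x * y⁻¹ * (x : G)⁻¹ ∈ pPrimeCore p G := by
        have h3 := (pPrimeCore p G).mul_mem hyO
          ((inferInstance : (pPrimeCore p G).Normal).conj_mem _ ((pPrimeCore p G).inv_mem hyO) x)
        have e : y * ((x : G) * y⁻¹ * (x : G)⁻¹) = y * x * y⁻¹ * (x : G)⁻¹ := by group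
        rwa [e] at h3
      obtain ⟨a, ha⟩ := hQ ⟨_, h1⟩
      have ha' : (y * x * y⁻¹ * (x : G)⁻¹) ^ p ^ a = 1 := by simpa using congrArg Subtype.val ha
      have h4 := Subgroup.orderOf_dvd_natCard _ h2
      have h5 := orderOf_eq_one_iff.1 (Nat.eq_one_of_dvd_coprimes
        (Nat.Coprime.pow_right a (pPrimeCore_coprime p G)) h4 (orderOf_dvd_of_pow_eq_one ha'))
      exact mul_inv_eq_one.1 h5
    rw [hα1, orderOf_one] at hα
    exact hq.one_lt.ne hα

end Cfsg.Agent.S4419
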