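import Cfsg.Statements.S4584
import Mathlib
import Mathlib
import Cfsg.Agent.H1.Basic
import Cfsg.Agent.H4.MaxCl2

set_option autoImplicit false
open Cfsg

namespace Cfsg.Agent.S4584

open Subgroup
open scoped commutatorElement

universe u

variable {P : Type u} [Group P] [Finite P] {p : ℕ} [hpf : Fact p.Prime]

theorem cp (hP : Nat.card P = p ^ 4) (H : Subgroup P) : ∃ i ≤ 4, Nat.card H = p ^ i :=
  (Nat.dvd_prime_pow hpf.out).1 (hP ▸ Subgroup.card_subgroup_dvd_card H)

theorem cp_lt {H K : Subgroup P} {i j : ℕ} (h : H < K) (hi : Nat.card H = p ^ i) (hj : Nat.card K = p ^ j) : i < j := by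
  have h1 : Nat.card H < Nat.card K := by
    refine lt_of_le_of_ne (Subgroup.card_le_of_le h.le) fun he => h.ne (Subgroup.eq_of_le_of_card_ge h.le he.ge)
  rw [hi, hj] at h1
  exact (Nat.pow_lt_pow_iff_right hpf.out.one_lt).1 h1

theorem idx_le (x : P) : (centralizer ({x} : Set P)).index ≤ Nat.card (commutator P) := by
  let f : P ⧸ centralizer ({x} : Set P) → commutator P := fun q => ⟨⁅q.out, x⁆, commutator_mem_commutator (mem_top _) (mem_top _)⟩
  have hf : Function.Injective f := by
    intro a b h
    have h1 : ⁅a.out, x⁆ = ⁅b.out, x⁆ := congrArg Subtype.val h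
    rw [commutatorElement_def, commutatorElement_def] at h1
    have h2 : a.out * x * a.out⁻¹ = b.out * x * b.out⁻¹ := mul_right_cancel h1
    rw [← QuotientGroup.out_eq' a, ← QuotientGroup.out_eq' b]
    apply QuotientGroup.eq.2
    rw [mem_centralizer_singleton_iff]
    calc a.out⁻¹ * b.out * x = a.out⁻¹ * (b.out * x * b.out⁻¹) * b.out := by group
      _ = x * (a.out⁻¹ * b.out) := by rw [← h2]; group
  exact Nat.card_le_card_of_injective f hf

theorem main (hP : Nat.card P = p ^ 4) : Nat.card (commutator P) = p ↔ (Subgroup.center P).index = p ^ 2 := by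
  classical
  have hp := hpf.out
  have hp1 := hp.one_lt
  have hcZ := Subgroup.card_mul_index (center P)
  have hnab : ∀ {j : ℕ}, Nat.card (center P) = p ^ j → j < 4 → ∃ x : P, x ∉ center P := by
    intro j hj hj4
    by_contra hc
    push Not at hc
    have h1 : center P = ⊤ := eq_top_iff.2 fun x _ => hc x
    rw [h1, Subgroup.card_top, hP] at hj
    exact hj4.ne' (Nat.pow_right_injective hp1 hj)
  constructor
  · intro hc
    obtain ⟨j, hj4, hj⟩ := cp hP (center P)
    have hj4' : j < 4 := by
      refine lt_of_le_of_ne hj4 fun h => ?_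
      have h1 : center P = ⊤ := Subgroup.eq_top_of_card_eq _ (by rw [hj, h, hP])
      have h2 : commutator P = ⊥ := by
        rw [_root_.commutator_def, commutator_eq_bot_iff_le_centralizer]
        intro g _
        rw [mem_centralizer_iff]
        intro h _
        have : h ∈ center P := by rw [h1]; exact mem_top _
        exact ((mem_center_iff.1 this) g).symm
      rw [h2, Subgroup.card_bot] at hc
      exact hp1.ne hc
    obtain ⟨x, hx⟩ := hnab hj hj4'
    have hCidx : ∀ x : P, x ∉ center P → (centralizer ({x} : Set P)).index = p := by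
      intro x hx
      have h1 := idx_le x
      rw [hc] at h1
      have h2 : (centralizer ({x} : Set P)).index ∣ p ^ 4 := by rw [← hP]; exact Subgroup.index_dvd_card _
      obtain ⟨i, _, hi⟩ := (Nat.dvd_prime_pow hp).1 h2
      rw [hi] at h1 ⊢
      have h3 : i ≤ 1 := by
        by_contra hcon
        have : p ^ 2 ≤ p ^ i := Nat.pow_le_pow_right hp.pos (by omega)
        nlinarith
      have h4 : i ≠ 0 := by
        rintro rfl
        rw [pow_zero, Subgroup.index_eq_one] at hi
        apply hx
        rw [mem_center_iff]
        intro g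
        exact mem_centralizer_singleton_iff.1 (hi ▸ mem_top g : g ∈ centralizer ({x} : Set P))
      have : i = 1 := by omega
      rw [this, pow_one]
    have hCcard : ∀ x : P, x ∉ center P → Nat.card (centralizer ({x} : Set P)) = p ^ 3 := by
      intro x hx
      have h1 := Subgroup.card_mul_index (centralizer ({x} : Set P))
      rw [hCidx x hx, hP] at h1
      exact Nat.eq_of_mul_eq_mul_right hp.pos (by rw [h1]; ring)
    obtain ⟨z, hz⟩ : ∃ z, z ∉ centralizer ({x} : Set P) := by
      by_contra hcon
      push Not at hcon
      apply hx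
      rw [mem_center_iff]
      intro g
      exact mem_centralizer_singleton_iff.1 (hcon g)
    have hzc : z ∉ center P := fun h => hz (by rw [mem_centralizer_singleton_iff]; exact ((mem_center_iff.1 h) x).symm)
    set D := centralizer ({x} : Set P) ⊓ centralizer ({z} : Set P) with hD
    obtain ⟨d, _, hd⟩ := cp hP D
    have hDidx : D.index ≤ p * p := by
      have := Subgroup.index_inf_le (H := centralizer ({x} : Set P)) (K := centralizer ({z} : Set P))
      rwa [hCidx x hx, hCidx z hzc] at this
    have hd2 : 2 ≤ d := by
      by_contra hcon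
      have h1 := Subgroup.card_mul_index D
      rw [hd, hP] at h1
      have h2 : p ^ d ≤ p ^ 1 := Nat.pow_le_pow_right hp.pos (by omega)
      have h3 : p ^ d * D.index ≤ p ^ 1 * (p * p) := Nat.mul_le_mul h2 hDidx
      have h4 : p ^ 1 * (p * p) = p ^ 3 := by ring
      have h5 : p ^ 3 < p ^ 4 := Nat.pow_lt_pow_right hp1 (by norm_num)
      omega
    have hxC : x ∈ centralizer ({x} : Set P) := by rw [mem_centralizer_singleton_iff]
    have hxD : x ∉ D := fun h => hz (by
      have := mem_centralizer_singleton_iff.1 h.2
      rw [mem_centralizer_singleton_iff]; exact this.symm)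
    have hDlt : D < centralizer ({x} : Set P) := lt_of_le_of_ne inf_le_left fun h => hxD (h ▸ hxC)
    have hd3 := cp_lt hDlt hd (hCcard x hx)
    have hd' : d = 2 := by omega
    rw [hd'] at hd
    have hDab : ∀ a ∈ D, ∀ b ∈ D, a * b = b * a := by
      intro a ha b hb
      have h1 := IsPGroup.isMulCommutative_of_card_eq_prime_sq (G := D) hd
      exact congrArg Subtype.val (h1.1.1 (⟨a, ha⟩ : D) ⟨b, hb⟩)
    have hDD : D ≤ centralizer (D : Set P) := fun a ha => by
      rw [mem_centralizer_iff]; intro b hb; exact hDab b hb a ha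
    have hxDD : x ∈ centralizer (D : Set P) := by
      rw [mem_centralizer_iff]; intro b hb; exact mem_centralizer_singleton_iff.1 hb.1
    have hzDD : z ∈ centralizer (D : Set P) := by
      rw [mem_centralizer_iff]; intro b hb; exact mem_centralizer_singleton_iff.1 hb.2
    have h1 : D < centralizer (D : Set P) ⊓ centralizer ({x} : Set P) :=
      lt_of_le_of_ne (le_inf hDD inf_le_left) fun h => hxD (h ▸ ⟨hxDD, hxC⟩)
    obtain ⟨e, _, he⟩ := cp hP (centralizer (D : Set P) ⊓ centralizer ({x} : Set P))
    have he3 := cp_lt h1 hd he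
    have h2 : centralizer (D : Set P) ⊓ centralizer ({x} : Set P) = centralizer ({x} : Set P) := by
      apply Subgroup.eq_of_le_of_card_ge inf_le_right
      rw [hCcard x hx, he]
      exact Nat.pow_le_pow_right hp.pos he3
    have h3 : centralizer ({x} : Set P) < centralizer (D : Set P) := by
      refine lt_of_le_of_ne (by rw [← h2]; exact inf_le_left) fun h => hz (h ▸ hzDD)
    obtain ⟨w, hw4, hw⟩ := cp hP (centralizer (D : Set P))
    have hw3 := cp_lt h3 (hCcard x hx) hw
    have hw' : w = 4 := by omega
    have htop : centralizer (D : Set P) = ⊤ := Subgroup.eq_top_of_card_eq _ (by rw [hw, hw', hP])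
    have hDZ : D ≤ center P := by
      intro a ha
      rw [mem_center_iff]
      intro g
      have : g ∈ centralizer (D : Set P) := by rw [htop]; exact mem_top _
      exact ((mem_centralizer_iff.1 this) a ha).symm
    have hZD : center P ≤ D := by
      intro a ha
      refine ⟨?_, ?_⟩
      · show a ∈ centralizer ({x} : Set P)
        rw [mem_centralizer_singleton_iff]; exact ((mem_center_iff.1 ha) x).symm
      · show a ∈ centralizer ({z} : Set P)
        rw [mem_centralizer_singleton_iff]; exact ((mem_center_iff.1 ha) z).symm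
    rw [le_antisymm hZD hDZ, hd, hP] at hcZ
    rw [le_antisymm hZD hDZ]
    exact Nat.eq_of_mul_eq_mul_left (pow_pos hp.pos 2) (by rw [hcZ]; ring)
  · intro hi
    rw [hi, hP] at hcZ
    have hZ : Nat.card (center P) = p ^ 2 := Nat.eq_of_mul_eq_mul_right (pow_pos hp.pos 2) (by rw [hcZ]; ring)
    obtain ⟨x, hx⟩ := hnab hZ (by norm_num)
    set A := center P ⊔ zpowers x with hA
    have hxA : x ∈ A := mem_sup_right (mem_zpowers x)
    have hlt : center P < A := lt_of_le_of_ne le_sup_left fun h => hx (h ▸ hxA)
    have hAC : A ≤ centralizer (A : Set P) := by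
      have h1 : A ≤ centralizer ({x} : Set P) := by
        refine sup_le ?_ ?_
        · intro a ha
          rw [mem_centralizer_singleton_iff]; exact ((mem_center_iff.1 ha) x).symm
        · rw [zpowers_le, mem_centralizer_singleton_iff]
      refine sup_le ?_ ?_
      · intro a ha
        rw [mem_centralizer_iff]
        intro b _
        exact (mem_center_iff.1 ha) b
      · rw [zpowers_le, mem_centralizer_iff]
        intro b hb
        exact mem_centralizer_singleton_iff.1 (h1 hb)
    have hAab : ∀ a ∈ A, ∀ b ∈ A, a * b = b * a := fun a ha b hb => (mem_centralizer_iff.1 (hAC hb)) a ha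
    have hAtop : A ≠ ⊤ := by
      intro h
      apply hx
      rw [mem_center_iff]
      intro g
      exact hAab g (h ▸ mem_top g) x hxA
    obtain ⟨a, ha4, ha⟩ := cp hP A
    have ha2 := cp_lt hlt hZ ha
    have ha3 : a < 4 := by
      refine lt_of_le_of_ne ha4 fun h => hAtop (Subgroup.eq_top_of_card_eq _ (by rw [ha, h, hP]))
    have ha' : a = 3 := by omega
    rw [ha'] at ha
    haveI hAn : A.Normal := by
      refine ⟨fun b hb g => ?_⟩
      have h1 : commutator P ≤ center P := by
        rw [_root_.commutator_def, commutator_le]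
        intro u _ v _
        have h2 := IsPGroup.isMulCommutative_of_card_eq_prime_sq (G := P ⧸ center P) (p := p) hi
        rw [← QuotientGroup.eq_one_iff]
        have : ((⁅u, v⁆ : P) : P ⧸ center P) = ⁅(u : P ⧸ center P), (v : P ⧸ center P)⁆ := by
          exact map_commutatorElement (QuotientGroup.mk' (center P)) u v
        rw [this]
        exact commutatorElement_eq_one_iff_mul_comm.2 (h2.1.1 _ _)
      have h3 : g * b * g⁻¹ = ⁅g, b⁆ * b := by rw [commutatorElement_def]; group
      rw [h3]
      exact mul_mem (hlt.le (h1 (commutator_mem_commutator (mem_top _) (mem_top _)))) hb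
    obtain ⟨t, ht⟩ : ∃ t, t ∉ A := by
      by_contra hcon
      push Not at hcon
      exact hAtop (eq_top_iff.2 fun y _ => hcon y)
    have htt : A ⊔ zpowers t = ⊤ := by
      obtain ⟨b, hb4, hb⟩ := cp hP (A ⊔ zpowers t)
      have h1 : A < A ⊔ zpowers t := lt_of_le_of_ne le_sup_left fun h => ht (h ▸ mem_sup_right (mem_zpowers t))
      have h2 := cp_lt h1 ha hb
      have h3 : b = 4 := by omega
      exact Subgroup.eq_top_of_card_eq _ (by rw [hb, h3, hP])
    have key := (H4.comm_card A hAab t htt).2
    rw [inf_eq_left.2 hlt.le, hZ, ha] at key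
    exact Nat.eq_of_mul_eq_mul_right (pow_pos hp.pos 2) (by rw [key]; ring)

/-- Let p be a prime and P a group of order p^4. Then the derived subgroup P' has order p if and only if the centre Z(P) has index p^2 in P. -/
theorem result {P : Type*} [Group P] [Finite P] (p : ℕ) [Fact p.Prime] (hP : Nat.card P = p ^ 4) :
    Nat.card (commutator P) = p ↔ (Subgroup.center P).index = p ^ 2 := by
  exact main hP

end Cfsg.Agent.S4584
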