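import Cfsg.Statements.S5221
import Cfsg.Agent.H2.FusThom
import Cfsg.Agent.L0.Fus.Well4
import Mathlib

set_option autoImplicit false
open Cfsg

namespace Cfsg.Agent.S5221

open Cfsg.Agent.H2 Cfsg.Agent.L0 Cfsg.Agent.L0.Fus Cfsg.FusionSystem

theorem zc_norm {Ω : Type*} [Group Ω] {S : Subgroup Ω} [Finite S] : S ≤ Subgroup.normalizer (H2.zc S : Set Ω) := by
  intro x hx
  haveI : Finite ↥(H2.zc S) := finite_of_le (inf_le_left : H2.zc S ≤ S)
  apply mem_normalizer_of_finite
  intro z hz
  have h1 := Subgroup.mem_centralizer_iff.1 hz.2 x hx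
  have h2 : x * z * x⁻¹ = z := by rw [h1]; group
  rw [h2]; exact hz

theorem zc_ne_bot {p : ℕ} [Fact p.Prime] {Ω : Type*} [Group Ω] {S : Subgroup Ω} [Finite S] (hS : IsPGroup p S) (hne : S ≠ ⊥) :
    H2.zc S ≠ ⊥ := by
  haveI : Group.IsNilpotent S := hS.isNilpotent
  exact inf_cent_ne_bot hS (D := S) le_rfl (by
    intro x hx; exact Subgroup.le_normalizer hx) hne

/-- Let F be a sparse fusion system over a finite p-group S: a saturated fusion system, not the inner fusion system of S, whose only saturated fusion systems over S contained in it are F itself and the inner one. If p is odd, or F is S₄-free (the symmetric group of degree 4 is not involved in any model of the normalizer system of a fully normalized F-centric subgroup), then F is constrained. -/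
theorem result {Ω : Type*} [Group Ω] {S : Subgroup Ω} [Finite S] (p : ℕ) [Fact p.Prime] (hS : IsPGroup p S) (F : Cfsg.FusionSystem S) (hF : F.IsSaturated p) (hsp : ¬ (∀ P : Subgroup Ω, F.Hom P = (Cfsg.innerFusionSystem S).Hom P) ∧ ∀ E : Cfsg.FusionSystem S, E.IsSaturated p → E.IsSubsystemOf F → (∀ P : Subgroup Ω, E.Hom P = F.Hom P) ∨ (∀ P : Subgroup Ω, E.Hom P = (Cfsg.innerFusionSystem S).Hom P)) (hp : p ≠ 2 ∨ F.IsSectionFree p (Equiv.Perm (Fin 4))) : F.IsConstrained p := by
  classical
  refine ⟨hF, ?_⟩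
  by_contra hnc
  obtain ⟨hni, hsub⟩ := hsp
  have hni' : ¬ F ≤ innerFusionSystem S := fun h => hni (eq_inner_of_le h)
  -- subsystems over `S`
  have key : ∀ E : FusionSystem S, E.IsSaturated p → E.IsSubsystemOf F → ¬ F.IsSubsystemOf E → E ≤ innerFusionSystem S := by
    intro E h1 h2 h3
    rcases hsub E h1 h2 with h | h
    · exact absurd (fun P φ hφ => by rw [h P]; exact hφ) h3
    · intro P φ hφ
      rw [← h P]; exact hφ
  have hloc : ∀ R : Subgroup Ω, R ≤ S → S ≤ Subgroup.normalizer (R : Set Ω) → ¬ F.IsNormal R →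
      LocIn F (innerFusionSystem S) R := by
    intro R hR hRn hn
    obtain ⟨E, hE⟩ := exists_normalizerSystem F hR
    have hnS : normalizerIn S R = S := inf_eq_left.mpr hRn
    have hEs := normalizerSystem_saturated hS hF (fullyNormalized_of_le_normalizer hR hRn) hE
    have hT : ∀ T : Subgroup Ω, T = S → ∀ N : FusionSystem T, N.IsSaturated p → (∀ P, N.Hom P = F.normalizerHom R P) →
        LocIn F (innerFusionSystem S) R := by
      rintro T rfl N hN1 hN2
      have h1 := key N hN1 (fun P φ hφ => by rw [hN2 P] at hφ; exact hφ.1)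
        (fun h => hn (normal_of_normalizerHom hR fun P φ hφ => by rw [← hN2 P]; exact h P hφ))
      intro Y φ hφ
      rw [← hN2 Y] at hφ
      exact h1 Y hφ
    exact hT _ hnS E hEs hE
  have hS1 : S ≠ ⊥ := by
    intro hS1
    apply hni'
    intro P φ hφ
    refine ⟨hom_le F hφ, 1, S.one_mem, fun x => ?_⟩
    have h1 := hom_mem F hφ x
    have h2 := hom_le F hφ x.2
    rw [hS1, Subgroup.mem_bot] at h1 h2
    rw [h1, h2]; simp
  have hJn : S ≤ Subgroup.normalizer ((thompsonSubgroupAOf S : Subgroup Ω) : Set Ω) := Subgroup.le_normalizer.trans (norm_le_norm_jj S)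
  have hQ := core_normal F
  have hcore : F.core ≠ ⊥ := by
    intro hcore
    have hbot : ∀ R : Subgroup Ω, R ≠ ⊥ → ¬ F.IsNormal R := fun R hR hn => hR (le_bot_iff.1 (hcore ▸ le_core hn))
    apply hni'
    exact thompson_inner Ω S F hS hF hp (cenIn_of_locIn inf_le_left (hloc _ inf_le_left zc_norm (hbot _ (zc_ne_bot hS hS1))))
      (hloc _ (jj_le S) hJn (hbot _ (jj_ne_bot hS hS1)))
  have hQsc := stronglyClosed_of_normal hQ
  have hQn := StronglyClosed.le_normalizer hQsc
  have hQc : ¬ centralizerIn S F.core ≤ F.core := by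
    intro hQc
    apply hnc
    exact ⟨F.core, hQ, hQ.1, fun Q' h => by rw [isConj_of_normal hQ h]; exact hQc⟩
  have hRsc := stronglyClosed_mul_centralizer hS hF hQsc
  have hRn := StronglyClosed.le_normalizer hRsc
  have hRloc := hloc _ hRsc.1 hRn (fun h => hQc (le_sup_right.trans (le_core h)))
  obtain ⟨E₁, hE₁, hE₁s, hE₁F, hE₁f, hE₁aut⟩ := exists_centSystem.{_, 0} hS hF hQ
  by_cases hE1 : F.IsSubsystemOf E₁
  · have hAp : IsPGroup p (F.autGroup F.core) := (isPGroup_autInducedBy hS hQ.1).to_le (hE₁aut hE1)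
    obtain ⟨Ω', _, _, θ, E, hE, hEs, hp', hlt, hne⟩ := exists_factor hS hF hQsc
    have hcS : F.core ≠ S := fun h => hQc (by rw [h]; exact inf_le_left)
    have hne' := hne hcS
    have hrange := hE.2.2.1
    -- local innerness of the factor system
    have hloc' : ∀ W' : Subgroup Ω', W' ≠ ⊥ → (⊤ : Subgroup Ω') ≤ Subgroup.normalizer (W' : Set Ω') →
        LocIn E (innerFusionSystem (⊤ : Subgroup Ω')) W' := by
      intro W' hW' hW'n
      refine locIn_factor hF hQsc hS hE le_top hW'n ?_
      refine hloc _ preimageAlong_le (preimage_normalized (le_top.trans hW'n)) ?_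
      intro h
      have h2 := le_core h
      apply hW'
      rw [eq_bot_iff]
      intro y hy
      have hy' : y ∈ θ.range := by rw [hE.2.2.1]; exact Subgroup.mem_top _
      obtain ⟨s, rfl⟩ := hy'
      rw [Subgroup.mem_bot, hE.2.1]
      exact h2 (mem_preimageAlong.mpr ⟨s.2, hy⟩)
    have hin : E ≤ innerFusionSystem (⊤ : Subgroup Ω') := by
      refine thompson_inner Ω' ⊤ E hp' hEs (hp.imp_right (fun h => sectionFree_factor hS hF h hQ hE)) ?_ ?_
      · exact cenIn_of_locIn inf_le_left (hloc' _ (zc_ne_bot hp' hne') zc_norm)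
      · exact hloc' _ (jj_ne_bot hp' hne') (Subgroup.le_normalizer.trans (norm_le_norm_jj _))
    have h2 := inner_of_factor hS hF hQ hAp hp' hE hin
    exact hni' (fun P φ hφ => by rw [h2] at hφ; exact hφ)
  · apply hni'
    refine le_of_gen hS hF hQ _ ?_ hRloc
    intro Y φ hφ
    rw [← hE₁ Y] at hφ
    exact key E₁ hE₁s hE₁F hE1 Y hφ

end Cfsg.Agent.S5221
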