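import Cfsg.Statements.S5265
import Cfsg.Agent.L0.Fus.Ess14
-- import your own Cfsg.Agent.* helpers here

set_option autoImplicit false
open Cfsg

namespace Cfsg.Agent.S5265

/-- Let p be a prime, S a nontrivial finite p-group whose centre has index at most p², and F a saturated fusion system over S with no nontrivial normal subgroup and with hyperfocal subgroup equal to S. Then S is extraspecial of order p³; for odd p it has exponent p, and for p = 2 it is dihedral of order 8. -/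
theorem result {Ω : Type*} [Group Ω] {S : Subgroup Ω} [Finite S] (p : ℕ) [Fact p.Prime] (hS : IsPGroup p ↥S) (F : Cfsg.FusionSystem S) (hF : F.IsSaturated p) (hS1 : S ≠ ⊥) (hcore : F.core = ⊥) (hhyp : F.hyperfocalSubgroup p = S) (hZ : (Subgroup.center ↥S).index ≤ p ^ 2) : Cfsg.IsExtraspecial p ↥S ∧ Nat.card S = p ^ 3 ∧ (p ≠ 2 → Monoid.exponent ↥S = p) ∧ (p = 2 → Nonempty (↥S ≃* DihedralGroup 4)) := by
  have hcc : Subgroup.center S = (Cfsg.Agent.L0.Fus.Ess.Zc S).subgroupOf S := Cfsg.Agent.L0.Fus.Ess.center_eq_Zc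
  have hna : ¬ ∀ x ∈ S, ∀ y ∈ S, x * y = y * x := by
    intro hc
    have hsc : F.StronglyClosed S := ⟨le_rfl, fun R _ φ hφ x => Cfsg.Agent.L0.Fus.hom_mem F hφ x⟩
    have h1 := Cfsg.Agent.L0.Fus.normal_of_abelian hS hF hsc ⟨⟨fun a b => Subtype.ext (hc a a.2 b b.2)⟩⟩
    apply hS1
    rw [← le_bot_iff, ← hcore]
    exact Cfsg.Agent.L0.Fus.le_core h1
  have hidx : (Subgroup.center S).index = p ^ 2 := by
    obtain ⟨n, hn⟩ := IsPGroup.iff_card.mp hS
    have h1 := (Subgroup.center S).index_dvd_card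
    rw [hn] at h1
    obtain ⟨k, -, hk⟩ := (Nat.dvd_prime_pow Fact.out).mp h1
    rw [hk] at hZ ⊢
    have hk2 : k ≤ 2 := (Nat.pow_le_pow_iff_right (Fact.out : p.Prime).one_lt).mp hZ
    have hcyc : k = 0 ∨ k = 1 → False := by
      intro h
      apply hna
      have hq : Nat.card (S ⧸ Subgroup.center S) = p ^ k := hk
      haveI : IsCyclic (S ⧸ Subgroup.center S) := by
        rcases h with rfl | rfl
        · rw [pow_zero] at hq
          haveI := (Nat.card_eq_one_iff_unique.mp hq).1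
          exact isCyclic_of_subsingleton
        · rw [pow_one] at hq
          exact isCyclic_of_prime_card hq
      intro x hx y hy
      have := commutative_of_cyclic_center_quotient (QuotientGroup.mk' (Subgroup.center S)) (by simp) (⟨x, hx⟩ : S) ⟨y, hy⟩
      exact congrArg Subtype.val this
    have : k ≠ 0 := fun h => hcyc (Or.inl h)
    have : k ≠ 1 := fun h => hcyc (Or.inr h)
    congr 1; omega
  have hQ : Cfsg.Agent.L0.Fus.Ess.SQ S p := by
    refine ⟨fun s hs t ht => ?_, ?_, hna⟩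
    · have h1 := IsPGroup.commutative_of_card_eq_prime_sq (G := S ⧸ Subgroup.center S) hidx (QuotientGroup.mk ⟨s, hs⟩) (QuotientGroup.mk ⟨t, ht⟩)
      have h2 : (⟨s, hs⟩ * ⟨t, ht⟩ * ⟨s, hs⟩⁻¹ * ⟨t, ht⟩⁻¹ : S) ∈ Subgroup.center S := by
        rw [← QuotientGroup.eq_one_iff]
        change (QuotientGroup.mk ⟨s, hs⟩ * QuotientGroup.mk ⟨t, ht⟩ * (QuotientGroup.mk ⟨s, hs⟩)⁻¹ * (QuotientGroup.mk ⟨t, ht⟩)⁻¹ : S ⧸ Subgroup.center S) = 1
        rw [h1]
        group
      rw [hcc] at h2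
      exact h2
    · rw [hcc] at hidx
      exact hidx
  by_cases hp2 : p = 2
  · subst hp2
    obtain ⟨h1, h2⟩ := Cfsg.Agent.L0.Fus.Ess.s5265_two hS hF hQ hcore hS1 hhyp
    obtain ⟨h3, h4⟩ := Cfsg.Agent.L0.Fus.Ess.extraspecial_of_sq hS hQ h1
    exact ⟨h3, h4, fun h => absurd rfl h, fun _ => h2⟩
  · obtain ⟨h1, h2⟩ := Cfsg.Agent.L0.Fus.Ess.s5265_odd hp2 hS hF hQ hcore hS1
    obtain ⟨h3, h4⟩ := Cfsg.Agent.L0.Fus.Ess.extraspecial_of_sq hS hQ h1
    refine ⟨h3, h4, fun _ => ?_, fun h => absurd h hp2⟩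
    have h5 : Monoid.exponent S ∣ p := Monoid.exponent_dvd_of_forall_pow_eq_one fun x => Subtype.ext (h2 x x.2)
    rcases (Nat.dvd_prime Fact.out).mp h5 with h6 | h6
    · exfalso
      haveI := Monoid.exp_eq_one_iff.mp h6
      apply hna
      intro x hx y hy
      exact congrArg Subtype.val (Subsingleton.elim (⟨x, hx⟩ * ⟨y, hy⟩ : S) (⟨y, hy⟩ * ⟨x, hx⟩))
    · exact h6

end Cfsg.Agent.S5265
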