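import Cfsg.Statements.S5299
import Cfsg.Agent.H2.QdLoc
import Mathlib

set_option autoImplicit false
universe u
open Cfsg

namespace Cfsg.Agent.S5299

open Cfsg.Agent.H2 Cfsg.Agent.H6 Cfsg.FusionSystem

/-- Let F be a saturated fusion system over a finite p-group S, H a finite group and Q a p-subgroup of H. If Q is not involved in S (no section of S is isomorphic to Q), then F is H-free: H is involved in no model of the normalizer system of a fully normalized centric subgroup. -/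
theorem result {Ω : Type u} [Group Ω] {S : Subgroup Ω} [Finite S] (p : ℕ) [Fact p.Prime] (hS : IsPGroup p S)
    (F : Cfsg.FusionSystem S) (hF : F.IsSaturated p) (H : Type*) [Group H] [Finite H] (Q : Subgroup H) (hQ : IsPGroup p Q)
    (hfree : ¬ Cfsg.Involves (↥Q) (↥S)) : F.IsSectionFree p H := by
  classical
  intro R hRfn hRc N hN L _ ι hL hInv
  apply hfree
  obtain ⟨hfin, ⟨hinj, -⟩, ⟨T, hT⟩, -⟩ := hL
  haveI := hfin
  obtain ⟨A, f, hf⟩ := Sec.of_involves hInv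
  obtain ⟨Q₁, hQ₁p, hQ₁m, -⟩ := cov_lift f hf hQ
  have h1 : IsPGroup p ↥(Q₁.map A.subtype) := hQ₁p.map _
  obtain ⟨g, -, hg⟩ := (sylow_sylIn_top T).exists_conj_le h1 le_top
  rw [hT] at hg
  -- `Q` is a quotient of the conjugate
  have s1 : Sec ↥Q ↥(H6.cj g (Q₁.map A.subtype)) := by
    obtain ⟨e1⟩ : Nonempty (↥Q₁ ≃* ↥(Q₁.map A.subtype)) := ⟨Q₁.equivMapOfInjective _ (Subgroup.subtype_injective _)⟩
    obtain ⟨e2⟩ : Nonempty (↥(Q₁.map A.subtype) ≃* ↥(H6.cj g (Q₁.map A.subtype))) :=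
      ⟨(Q₁.map A.subtype).equivMapOfInjective _ (MulAut.conj g).injective⟩
    have hm : ∀ x : ↥Q₁, (f.comp Q₁.subtype) x ∈ Q := by
      intro x
      rw [← hQ₁m]
      exact ⟨x, x.2, rfl⟩
    have s0 : Sec ↥Q ↥Q₁ := by
      refine (Sec.refl ↥Q₁).comp_surj ((f.comp Q₁.subtype).codRestrict Q hm) ?_
      rintro ⟨q, hq⟩
      rw [← hQ₁m] at hq
      obtain ⟨x, hx, rfl⟩ := hq
      exact ⟨⟨x, hx⟩, rfl⟩
    exact s0.trans ((Sec.refl _).comp_surj (e1.trans e2).symm.toMonoidHom (e1.trans e2).symm.surjective)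
  have s2 : Sec ↥(H6.cj g (Q₁.map A.subtype)) ↥(normalizerIn S R) := by
    have hm : ∀ x : ↥((H6.cj g (Q₁.map A.subtype)).comap ι), (ι.comp (Subgroup.subtype _)) x ∈ H6.cj g (Q₁.map A.subtype) :=
      fun x => x.2
    refine ⟨(H6.cj g (Q₁.map A.subtype)).comap ι, (ι.comp (Subgroup.subtype _)).codRestrict _ hm, ?_⟩
    rintro ⟨y, hy⟩
    obtain ⟨x, rfl⟩ := hg hy
    exact ⟨⟨x, hy⟩, rfl⟩
  have s3 : Sec ↥(normalizerIn S R) ↥S := by
    obtain ⟨e⟩ : Nonempty (↥((normalizerIn S R).subgroupOf S) ≃* ↥(normalizerIn S R)) :=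
      ⟨Subgroup.subgroupOfEquivOfLe inf_le_left⟩
    exact ⟨_, e.toMonoidHom, e.surjective⟩
  exact (s1.trans (s2.trans s3)).involves

end Cfsg.Agent.S5299
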