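import Cfsg.Statements.S5332
import Cfsg.Agent.S5221
import Mathlib

set_option autoImplicit false
open Cfsg

namespace Cfsg.Agent.S5332

open Cfsg.Agent.H2 Cfsg.Agent.L0 Cfsg.Agent.L0.Fus Cfsg.FusionSystem

/-- Let p be odd and F a saturated fusion system over a finite p-group S that is not the inner system of S. Then F contains a saturated constrained subsystem over S that is itself not the inner system. -/
theorem result {Ω : Type*} [Group Ω] {S : Subgroup Ω} [Finite S] (p : ℕ) [Fact p.Prime] (hS : IsPGroup p S) (F : Cfsg.FusionSystem S) (hF : F.IsSaturated p) (hp : p ≠ 2) (hne : ∃ P : Subgroup Ω, F.Hom P ≠ (Cfsg.innerFusionSystem S).Hom P) : ∃ E : Cfsg.FusionSystem S, E ≤ F ∧ E.IsConstrained p ∧ ∃ P : Subgroup Ω, E.Hom P ≠ (Cfsg.innerFusionSystem S).Hom P := by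
  classical
  have h0 : ∃ n : ℕ, ∃ E : FusionSystem S, E.IsSaturated p ∧ E.IsSubsystemOf F ∧
      ¬ (∀ P : Subgroup Ω, E.Hom P = (innerFusionSystem S).Hom P) ∧ fsize E = n := by
    obtain ⟨P, hP⟩ := hne
    exact ⟨_, F, hF, fun P φ h => h, fun h => hP (h P), rfl⟩
  obtain ⟨E, hEs, hEF, hEn, hEc⟩ := Nat.find_spec h0
  refine ⟨E, fun P φ h => hEF P h, ?_, ?_⟩
  · refine Cfsg.Agent.S5221.result p hS E hEs ⟨hEn, ?_⟩ (Or.inl hp)
    intro E' h1 h2
    by_cases h3 : E.IsSubsystemOf E'
    · left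
      intro P
      exact Set.Subset.antisymm (fun φ h => h2 P h) (fun φ h => h3 P h)
    · right
      by_contra h4
      have h5 := fsize_lt h2 h3
      rw [hEc] at h5
      exact Nat.find_min h0 h5 ⟨E', h1, fun P φ h => hEF P (h2 P h), h4, rfl⟩
  · by_contra h
    push Not at h
    exact hEn h

end Cfsg.Agent.S5332
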